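import Cfsg.Agent.J4C.C.DceD0

set_option autoImplicit false
set_option Elab.async false
set_option maxRecDepth 100000
set_option linter.all false

namespace Cfsg.Agent.J4C.C
open Cfsg.Agent.CGT

theorem dd_c5 : dd.checks [⟨3, [761, 282], 2, 0, [[], []]⟩, ⟨2, [315, 282, 366, 282, 580], 1, 3, [[], [2, 0, 2, 0, 2, 0, 2, 1, 2, 0, 2, 0, 0, 2, 1, 2, 1, 2, 0, 0, 2, 0, 0], [1, 2, 0, 2, 0, 2, 0, 0, 2, 1, 2, 0, 0, 2, 1, 2, 0, 0, 2, 0, 0], [0, 2, 1, 2, 0, 2, 0, 2, 1, 2, 0, 2, 1, 2, 0, 2, 0, 2, 0]]⟩, ⟨2, [283, 368, 463], 0, 1, [[], [0, 2, 0, 2, 1, 2, 1, 2, 0, 2, 1, 2, 0, 0, 2, 0, 0, 2, 0], [1, 2, 0, 2, 0, 2, 1, 2, 1, 2, 1, 2, 1, 2, 1, 2, 1, 2, 0, 0, 2]]⟩, ⟨2,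 [586, 221, 195, 478, 283, 368], 1, 0, [[], [0, 2, 1, 2, 0, 0, 2, 1, 2, 0, 2, 0, 2, 0, 0, 2, 0, 2, 0, 2, 0], [2, 1, 2, 0, 0, 2, 1, 2, 0, 0, 2, 0, 2, 1, 2, 0, 2, 0, 2, 0, 0], [1, 2, 0, 0, 2, 0, 2, 1, 2, 0, 2, 0, 0, 2, 0, 0, 2, 1, 2]]⟩, ⟨3, [769, 282], 2, 0, [[], []]⟩, ⟨2, [364, 282, 583, 368], 1, 0, [[], [2, 1, 2, 0, 0, 2, 0, 0, 2, 0, 2, 0, 2, 0, 2, 0, 0, 2], [2, 0, 0, 2, 0, 2, 1, 2, 0, 2, 0, 0, 2], [2, 0, 2, 1, 2, 1, 2, 0, 2, 0, 2, 0, 0, 2, 0, 2, 0, 2, 0, 2]]⟩, ⟨2, [283, 370, 282, 413], 0, 1, [[], [2, 0, 2, 0, 2, 0, 2, 0, 2, 1], [2, 0, 0, 2, 0, 2, 1, 2, 0, 0, 2, 1, 2, 0, 2, 1, 2, 1, 2, 0, 2, 0, 0]]⟩, ⟨3, [775, 283], 2, 0, [[], []]⟩, ⟨2, [282, 514,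 283, 654, 370], 1, 3, [[], [2, 0, 0, 2, 1, 2, 0, 0, 2, 1, 2, 0, 0, 2, 0, 2, 1, 2, 0, 0], [1, 2, 0, 2, 0, 0, 2, 1, 2, 1, 2, 0, 0, 2, 1, 2, 1, 2, 1], [1, 2, 0, 0, 2, 0, 2, 0, 2, 0, 0, 2, 0, 2, 0, 2, 0, 2, 1, 2, 0, 0, 2, 0]]⟩, ⟨2, [370, 605, 81, 71, 99, 71, 441], 1, 2, [[], [1, 2, 1, 2, 0, 2, 0, 2, 1, 2, 0, 2, 1, 2, 0, 2, 0, 2, 1, 2, 0, 0], [2, 1, 2, 1, 2, 0, 0, 2, 1, 2, 1, 2, 0, 2, 0, 0, 2, 1], [0, 0, 2, 0, 2, 1, 2, 1, 2, 1, 2, 1, 2, 0, 0, 2, 1]]⟩, ⟨2, [370, 283, 442, 99, 81, 99, 391], 1, 2, [[], [1, 2, 1, 2, 1, 2, 0, 0, 2, 0, 2, 0, 0, 2, 0, 0, 2, 0, 0, 2, 0, 0], [0, 0, 2, 1, 2, 0, 0, 2, 0, 2, 0, 2, 1, 2, 1], [2, 0, 0, 2, 0, 0, 2, 0, 2, 0, 2, 1, 2,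 0, 0, 2, 0, 2, 0, 2, 1, 2, 0]]⟩, ⟨2, [282, 372, 282, 655], 0, 1, [[], [0, 2, 0, 2, 0, 2, 0, 0, 2, 0, 0, 2, 0, 0, 2, 1, 2, 1, 2, 1, 2], [2, 0, 2, 0, 2, 1, 2, 0, 2, 0, 0, 2, 0, 2, 0, 0, 2, 0, 2, 0]]⟩, ⟨2, [720, 283, 372], 0, 2, [[], [0, 0, 2, 1, 2, 0, 0, 2, 1, 2, 0, 0, 2, 0, 2, 0, 0, 2, 0, 2, 1], [1, 2, 0, 2, 1, 2, 0, 2, 0, 2, 0, 2]]⟩, ⟨2, [283, 603, 282, 372], 0, 2, [[], [2, 0, 2, 0, 2, 0, 2, 0, 0, 2, 0, 2, 0, 2, 1, 2, 1, 2, 1, 2], [0, 2, 1, 2, 1, 2, 0, 0, 2, 1, 2, 0, 0, 2, 0, 0, 2, 0, 0, 2, 1]]⟩, ⟨3, [789, 283], 2, 0, [[], []]⟩, ⟨2, [283, 454, 283, 372], 0, 2, [[], [1, 2, 0, 0, 2, 1, 2, 0, 0, 2, 0, 2, 1, 2, 0, 2, 0], [0, 2, 1, 2, 0, 0, 2, 1, 2, 1,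 2, 0, 2, 0, 2, 1, 2, 0]]⟩, ⟨2, [453, 283, 374], 0, 2, [[], [0, 0, 2, 0, 0, 2, 1, 2, 0, 0, 2, 0, 0, 2, 1, 2, 1], [0, 0, 2, 1, 2, 1, 2, 0, 0, 2, 0, 0, 2, 1, 2, 0, 0, 2, 0, 0]]⟩, ⟨3, [795, 282], 2, 0, [[], []]⟩, ⟨2, [404, 374], 0, 2, [[], [2, 0, 2, 1, 2, 0, 2, 0, 2, 0, 2, 0, 2, 0, 2, 0, 0, 2, 0], [0, 0, 2, 1, 2, 0, 0, 2, 0, 2, 1, 2, 1, 2, 0, 2, 0, 0, 2, 0]]⟩, ⟨2, [446, 282, 374], 0, 2, [[], [2, 1, 2, 1, 2, 1, 2, 0, 2, 0, 0, 2, 1, 2, 1, 2, 0, 2, 0], [0, 2, 0, 0, 2, 0, 2, 1, 2]]⟩, ⟨2, [499, 374], 0, 2, [[], [2, 1, 2, 0, 0, 2, 0, 2, 1, 2, 1, 2, 1, 2, 1, 2, 1, 2, 0, 2], [1, 2, 0, 0, 2, 0, 2, 0, 2, 0, 2, 0, 0, 2, 0, 0, 2, 0, 0]]⟩, ⟨3, [803, 283], 2, 0, [[],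 []]⟩, ⟨2, [282, 702, 282, 626, 283, 374], 1, 3, [[], [2, 1, 2, 0, 0, 2, 0, 0, 2, 0, 2, 0, 0, 2, 0, 2, 0, 0, 2, 0, 2, 0], [1, 2, 0, 0, 2, 0, 0, 2, 1, 2, 1, 2, 0, 0, 2, 0, 2, 0], [2, 0, 2, 0, 0, 2, 0, 0, 2, 0, 0, 2, 0, 0, 2, 0, 2, 0, 0]]⟩, ⟨2, [283, 466, 50, 61, 56, 281, 374], 1, 0, [[], [0, 2, 0, 2, 0, 2, 1, 2, 0, 2, 0, 0, 2, 0, 2, 1, 2, 1], [0, 0, 2, 0, 0, 2, 0, 2, 0, 2, 0, 0, 2, 1, 2, 0, 2, 0, 2], [2, 1, 2, 1, 2, 0, 2, 1, 2, 0, 2, 0, 2, 0, 2, 0, 2, 0, 2, 1, 2, 0]]⟩, ⟨3, [809, 283], 2, 0, [[], []]⟩, ⟨2, [394, 221, 194, 396, 374], 1, 0, [[], [2, 0, 0, 2, 0, 2, 0, 0, 2, 1, 2, 1, 2, 0, 2, 1, 2, 1], [2, 1, 2, 0, 0, 2, 0, 2, 1, 2, 1, 2, 1, 2, 1, 2, 0,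 0, 2, 0], [1, 2, 1, 2, 0, 0, 2, 0, 2, 0, 0, 2, 0, 2, 1, 2, 1, 2, 0]]⟩, ⟨2, [780, 376, 789], 1, 2, [[], [0, 0, 2, 0, 2, 1, 2, 0, 2, 0, 0, 2, 1, 2, 0, 2], [0, 2, 0, 0, 2, 1, 2, 0, 2, 0, 2, 0, 0, 2, 0, 0, 2, 1, 2], [2, 0, 0, 2, 1, 2, 0, 2, 1, 2, 0, 2, 1, 2, 1, 2, 0, 2, 0]]⟩, ⟨2, [650, 282, 376, 283, 295], 1, 3, [[], [2, 1, 2, 1, 2, 0, 2, 1, 2, 0, 2, 1, 2, 1, 2, 0, 0, 2, 1, 2, 1], [0, 0, 2, 0, 0, 2, 0, 2, 1, 2, 1, 2, 0, 0, 2, 0, 0, 2], [1, 2, 0, 0, 2, 0, 0, 2, 1, 2, 0, 0, 2, 0, 0, 2, 0, 0, 2, 1]]⟩, ⟨3, [817, 155, 156], 2, 0, [[], []]⟩, ⟨2, [779, 378], 0, 2, [[], [2, 1, 2, 1, 2, 0, 2, 0, 0, 2, 0, 0, 2, 0, 2, 0, 2, 1, 2, 0, 0, 2, 1], [1, 2, 0, 2, 0, 2,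 1, 2, 1, 2, 1, 2, 0, 0, 2, 0, 2, 0, 0]]⟩, ⟨3, [821, 79], 2, 0, [[], []]⟩, ⟨2, [283, 378, 81, 71, 99, 749], 0, 1, [[], [0, 2, 0, 2, 1, 2, 1, 2, 0, 0, 2, 1, 2, 0, 0, 2, 1], [0, 2, 0, 0, 2, 0, 2, 0, 2, 1, 2, 1, 2, 0, 0, 2, 1, 2]]⟩, ⟨3, [825, 283], 2, 0, [[], []]⟩, ⟨2, [283, 378, 79, 71, 99, 139, 71, 379], 1, 1, [[], [1, 2, 0, 2, 0, 2, 0, 0, 2, 0, 0, 2, 1, 2, 0, 2, 0, 2, 1, 2, 1], [2, 1, 2, 0, 0, 2, 1, 2, 0, 2, 1, 2, 0, 2, 1, 2, 0], [2, 0, 2, 0, 0, 2, 0, 0, 2, 0, 2, 1, 2, 0, 2, 0, 0, 2, 0, 0, 2, 0, 0]]⟩, ⟨2, [283, 774, 283, 378, 71, 79, 571], 1, 2, [[], [0, 2, 0, 2, 1, 2, 1, 2, 0, 0, 2, 0, 0, 2, 0, 0, 2, 0, 0, 2], [2, 0, 2, 0, 2, 1, 2, 1, 2, 0, 2, 1,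 2, 0, 0, 2, 1, 2, 0, 0], [0, 2, 0, 2, 0, 2, 0, 0, 2, 1, 2, 1, 2, 0, 2, 1, 2, 0, 0, 2, 0, 0]]⟩, ⟨3, [831, 283], 2, 0, [[], []]⟩, ⟨2, [668, 283, 378, 71, 571], 1, 2, [[], [2, 0, 0, 2, 0, 0, 2, 1, 2], [0, 2, 1, 2, 1, 2, 1, 2, 0, 2, 0, 0, 2, 1, 2, 0, 0, 2], [2, 0, 0, 2, 0, 2, 1, 2, 0, 2, 0, 0, 2, 0, 0, 2, 1, 2, 0, 0, 2, 0, 0]]⟩, ⟨2, [282, 754, 283, 378, 81, 71, 79, 457], 1, 2, [[], [2, 1, 2, 0, 0, 2, 0, 2, 1, 2, 0, 2, 0, 2, 1, 2, 1, 2, 1, 2, 0], [2, 0, 0, 2, 0, 0, 2, 1, 2, 1, 2, 0, 2, 0, 2, 1, 2, 0, 2, 0, 2, 1, 2], [0, 2, 1, 2, 0, 2, 0, 2, 0, 2, 0, 2, 0, 2, 1, 2, 1, 2, 1]]⟩, ⟨3, [837, 283], 2, 0, [[], []]⟩, ⟨2, [283, 378, 103, 79, 71, 379], 1, 1, [[],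 [0, 2, 1, 2, 1, 2, 0, 2, 0, 0, 2, 1, 2, 1, 2, 0], [2, 0, 2, 0, 2, 1, 2, 1, 2, 0, 0, 2, 1, 2, 0, 2, 1], [0, 0, 2, 1, 2, 0, 0, 2, 0, 0, 2, 1, 2, 0, 0, 2, 1, 2, 1]]⟩, ⟨3, [841, 282], 2, 0, [[], []]⟩, ⟨2, [378, 81, 99, 79, 317, 282, 769], 1, 1, [[], [0, 0, 2, 1, 2, 1, 2, 0, 0, 2, 0, 2, 0, 2, 1, 2], [2, 0, 0, 2, 0, 0, 2, 1, 2, 1, 2, 0, 2, 1, 2, 0, 0, 2, 0, 0, 2, 0, 0], [0, 0, 2, 0, 0, 2, 1, 2, 0, 0, 2, 0, 0, 2, 1, 2, 0, 0, 2, 1]]⟩, ⟨3, [845, 282], 2, 0, [[], []]⟩, ⟨2, [282, 570, 78, 70, 80, 118, 80, 380], 1, 3, [[], [0, 2, 0, 2, 1, 2, 0, 0, 2, 1, 2, 0, 0, 2, 0, 2, 1, 2, 0, 0], [1, 2, 0, 2, 1, 2, 0, 2, 0, 0, 2, 1, 2, 0, 2, 0, 2, 1], [2, 0, 2, 0, 2, 0,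 0, 2, 1, 2, 0, 0, 2, 1, 2, 1, 2, 0, 0, 2, 1]]⟩, ⟨2, [282, 570, 98, 70, 78, 146, 78, 70, 380], 1, 3, [[], [1, 2, 0, 0, 2, 0, 2, 0, 2, 0, 2, 0, 0, 2, 0, 2, 0, 2, 0, 2, 1, 2, 1], [0, 2, 1, 2, 0, 2, 0, 0, 2, 0, 2, 0, 2, 0, 0, 2, 0, 2, 1, 2, 1], [0, 2, 1, 2, 1, 2, 0, 0, 2, 1, 2, 1, 2, 0, 2, 0, 0, 2]]⟩, ⟨2, [282, 674, 283, 350, 78, 70, 80, 70, 380], 1, 3, [[], [0, 2, 0, 2, 0, 2, 1, 2, 0, 2, 1, 2, 0, 0, 2], [0, 2, 0, 2, 1, 2, 0, 0, 2, 1, 2, 0, 2, 0, 2, 0, 0, 2], [2, 1, 2, 0, 2, 1, 2, 0, 2, 0, 2, 0, 0, 2, 0, 2, 0, 2, 0, 2, 1]]⟩, ⟨2, [282, 696, 70, 78, 70, 80, 86, 78, 380], 1, 0, [[], [2, 1, 2, 0, 2, 0, 0, 2, 0, 2, 0, 0, 2, 0, 0, 2, 0, 0, 2], [0, 2, 0, 2,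 1, 2, 0, 2, 1, 2, 1, 2, 0, 0, 2, 1, 2, 0, 0], [2, 1, 2, 0, 0, 2, 0, 0, 2, 1, 2, 1, 2, 1, 2, 0, 2, 0, 2, 1]]⟩, ⟨3, [855, 282], 2, 0, [[], []]⟩, ⟨2, [70, 78, 98, 78, 380, 709, 282, 613], 1, 2, [[], [0, 0, 2, 1, 2, 0, 0, 2, 0, 2, 1, 2, 1, 2, 1, 2, 0, 0, 2], [2, 1, 2, 1, 2, 1, 2, 1, 2, 0, 0, 2, 0, 0, 2, 1, 2, 1, 2, 0, 2], [2, 1, 2, 0, 2, 1, 2, 0, 2, 1, 2, 1, 2, 1, 2, 0, 0, 2, 0, 2, 1, 2]]⟩, ⟨3, [859, 282], 2, 0, [[], []]⟩, ⟨2, [70, 80, 100, 80, 70, 380, 282, 453], 1, 3, [[], [1, 2, 0, 0, 2, 0, 0, 2, 0, 2, 1, 2, 0, 2, 0, 2, 0, 0, 2, 0], [0, 0, 2, 0, 2, 1, 2, 1, 2, 0, 2, 0, 0, 2, 0, 0, 2], [1, 2, 0, 2, 1, 2, 0, 0, 2, 0, 0, 2, 0, 2, 0, 2, 0, 2, 0, 2]]⟩,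 ⟨3, [863, 282], 2, 0, [[], []]⟩, ⟨2, [282, 382, 251, 244, 251, 235, 417], 0, 1, [[], [0, 2, 0, 2, 1, 2, 0, 2, 0, 0, 2, 0, 2, 0, 0, 2, 0, 0, 2, 0, 0], [2, 1, 2, 0, 2, 0, 0, 2, 0, 0, 2, 0, 2, 0, 2, 0, 0, 2]]⟩, ⟨2, [382, 251, 233, 245, 509], 0, 1, [[], [0, 2, 0, 2, 1, 2, 0, 2, 0, 0, 2, 0, 0, 2, 0, 2, 0, 2, 0, 2], [2, 1, 2, 1, 2, 0, 2, 1, 2, 0, 2, 0, 0, 2, 0, 0]]⟩, ⟨2, [382, 251, 245, 251, 233, 244, 233, 417, 282, 495], 1, 1, [[], [1, 2, 1, 2, 0, 0, 2, 1, 2, 0, 2, 0, 0], [2, 0, 2, 1, 2, 0, 2, 0, 2, 1, 2, 1, 2, 1, 2, 1, 2, 1, 2, 0], [2, 1, 2, 0, 0, 2, 1, 2, 0, 2, 0, 0, 2, 0, 2, 0, 2, 0, 0]]⟩, ⟨3, [871, 283], 2, 0, [[], []]⟩, ⟨2, [282, 382, 238, 245, 251,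 233, 417, 283, 307], 1, 1, [[], [2, 1, 2, 0, 2, 0, 2, 0, 2, 0, 2, 0, 2, 0, 2, 0, 2, 1, 2, 1, 2, 0], [2, 0, 2, 0, 2, 0, 0, 2, 0, 0, 2, 1, 2, 0, 0, 2, 0, 0], [0, 2, 0, 0, 2, 0, 0, 2, 1, 2, 1, 2, 1, 2, 0, 0, 2, 1, 2]]⟩, ⟨3, [875, 81, 79, 71, 81], 2, 0, [[], []]⟩, ⟨2, [283, 382, 238, 251, 245, 239, 230, 71, 79, 71, 379], 1, 2, [[], [1, 2, 0, 0, 2, 1, 2, 0, 2, 0, 0, 2, 0, 2, 0, 2, 1, 2, 0, 0], [2, 1, 2, 1, 2, 1, 2, 0, 0, 2, 1, 2, 1, 2, 0, 2, 0, 2, 1, 2, 0], [0, 2, 0, 0, 2, 1, 2, 1, 2, 0, 2, 0, 0, 2, 0, 2, 0, 0]]⟩, ⟨3, [879, 282], 2, 0, [[], []]⟩, ⟨2, [283, 416, 232, 244, 250, 232, 244, 250, 384, 283, 613], 1, 2, [[], [1, 2, 1, 2, 1, 2, 1, 2, 1, 2, 0,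 0, 2, 0, 2, 1, 2, 1, 2, 1, 2], [2, 1, 2, 1, 2, 0, 0, 2, 1, 2, 0, 0, 2, 0, 2, 0, 0, 2, 1, 2, 0, 2, 0], [2, 0, 2, 0, 0, 2, 1, 2, 1, 2, 0, 0, 2, 0, 2, 0, 2, 1, 2, 1]]⟩, ⟨3, [883, 283], 2, 0, [[], []]⟩, ⟨2, [282, 570, 70, 78, 70, 258, 239, 250, 245, 250, 384], 1, 3, [[], [1, 2, 0, 2, 1, 2, 0, 2, 1, 2, 1, 2, 1, 2, 1, 2, 0, 0, 2], [2, 1, 2, 0, 2, 1, 2, 0, 2, 1, 2, 1, 2, 1, 2, 0, 0, 2, 0, 2, 1], [1, 2, 1, 2, 0, 0, 2, 0, 0, 2, 1, 2, 0, 2, 0, 0, 2, 0, 2, 0, 2]]⟩, ⟨2, [788, 283, 386], 0, 2, [[], [1, 2, 0, 0, 2, 1, 2, 1, 2, 0, 2, 0, 2, 0, 2, 0, 0, 2, 0], [0, 2, 1, 2, 0, 0, 2, 0, 2, 0, 2, 0, 0, 2, 0, 2, 1, 2, 0, 2, 0]]⟩, ⟨3, [889, 282], 2, 0, [[], []]⟩, ⟨2,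 [283, 386, 283, 318], 0, 1, [[], [1, 2, 0, 2, 0, 2, 1, 2, 0, 2, 1, 2, 1, 2, 0, 0, 2, 1, 2], [2, 0, 2, 1, 2, 1, 2, 1, 2, 1, 2, 0, 2, 0, 0, 2, 0, 2, 0, 0, 2]]⟩, ⟨2, [768, 282, 386], 0, 2, [[], [1, 2, 1, 2, 0, 2, 1, 2, 0, 2, 1, 2, 0, 2, 1, 2, 0, 2, 0], [2, 0, 2, 1, 2, 1, 2, 1, 2, 1, 2, 0, 2, 1, 2, 0, 0, 2, 0]]⟩, ⟨3, [895, 282], 2, 0, [[], []]⟩, ⟨2, [388, 283, 879, 398], 1, 2, [[], [1, 2, 0, 2, 0, 2, 0, 0, 2, 0, 2, 0, 2, 0, 0, 2, 0, 0, 2], [2, 0, 2, 0, 2, 0, 0, 2, 1, 2, 1, 2, 1], [1, 2, 0, 2, 1, 2, 0, 2, 1, 2, 0, 2, 0, 2, 1, 2, 0, 0]]⟩] 381 450 = true := by decide +kernel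
theorem dd_c6 : dd.checks [⟨3, [899, 282], 2, 0, [[], []]⟩, ⟨2, [282, 496, 282, 390], 0, 2, [[], [1, 2, 1, 2, 1, 2, 1, 2, 0, 0, 2, 1, 2, 1, 2, 0, 0, 2, 1], [2, 1, 2, 0, 0, 2, 0, 0, 2, 0, 2, 1, 2, 0, 2, 0, 0, 2]]⟩, ⟨2, [390, 79, 71, 99, 71, 619], 0, 1, [[], [2, 1, 2, 1, 2, 1, 2, 0, 2, 0, 2, 0, 0, 2, 0, 0, 2, 0, 0, 2, 0], [0, 2, 0, 2, 0, 0, 2, 0, 2, 0, 2, 0, 2, 0, 0, 2, 0, 0, 2, 1]]⟩, ⟨3, [905, 282], 2, 0, [[], []]⟩, ⟨2, [283, 390, 81, 71, 619], 0, 1, [[], [0, 0, 2, 0, 2, 0, 0, 2, 1, 2, 0, 0, 2, 1, 2, 0, 0, 2, 0, 2], [0, 2, 0, 2, 1, 2, 1, 2, 0, 2, 0, 0, 2, 0, 2, 0, 0]]⟩, ⟨2, [706, 282, 390, 81, 79, 133], 1, 2, [[], [2, 1, 2, 1, 2, 0, 2, 0, 2, 1, 2,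 0, 2, 0, 0, 2, 1, 2, 0, 0], [2, 0, 0, 2, 0, 2, 0, 2, 0, 2, 1, 2, 1, 2, 0, 0, 2, 1, 2, 1], [0, 0, 2, 1, 2, 0, 0, 2, 1, 2, 1, 2, 1, 2, 0, 2, 0, 2]]⟩, ⟨3, [911, 45, 57, 49], 2, 0, [[], []]⟩, ⟨2, [283, 506, 282, 390, 79, 71, 99, 457], 1, 2, [[], [0, 2, 0, 2, 0, 0, 2, 1, 2, 0, 2, 0, 2, 1, 2, 1, 2, 0, 2], [2, 1, 2, 0, 2, 1, 2, 1, 2, 1, 2, 1, 2, 1, 2, 1, 2, 1, 2, 0, 2, 0], [2, 1, 2, 0, 2, 0, 2, 0, 2, 0, 2, 0, 2, 0, 0, 2, 0, 2, 0, 0]]⟩, ⟨2, [649, 390, 81, 71, 192], 1, 3, [[], [1, 2, 1, 2, 1, 2, 0, 0, 2, 1, 2, 1, 2, 1, 2, 0, 2, 0, 0], [0, 0, 2, 1, 2, 0, 2, 0, 0, 2, 0, 2, 0, 0, 2, 1], [1, 2, 0, 2, 1, 2, 0, 2, 0, 2, 0, 2, 0, 2, 1, 2, 1, 2, 0, 2, 0]]⟩, ⟨3, [917,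 208, 194], 2, 0, [[], []]⟩, ⟨2, [283, 844, 390, 99, 71, 287], 1, 3, [[], [2, 0, 2, 0, 2, 0, 0, 2, 1, 2, 0, 2, 0, 0, 2, 0, 2, 0], [2, 0, 2, 1, 2, 1, 2, 0, 2, 0, 0, 2, 0, 2, 1, 2, 0, 0, 2], [0, 0, 2, 0, 2, 1, 2, 0, 2, 1, 2, 1, 2, 1, 2, 0, 0, 2, 0, 2, 0]]⟩, ⟨3, [921, 283], 2, 0, [[], []]⟩, ⟨2, [282, 398, 282, 390, 99, 81, 99, 309], 1, 3, [[], [0, 2, 1, 2, 1, 2, 0, 0, 2, 0, 0, 2, 1, 2, 0, 2, 1, 2, 0, 0, 2, 0], [0, 0, 2, 1, 2, 1, 2, 0, 2, 1, 2, 0, 2, 0, 2, 0], [1, 2, 0, 2, 0, 2, 0, 2, 0, 0, 2, 0, 0, 2, 0, 0]]⟩, ⟨2, [390, 71, 81, 71, 379, 283, 567], 1, 2, [[], [0, 0, 2, 0, 2, 1, 2, 0, 0, 2, 0, 2, 0, 0, 2, 0], [0, 2, 1, 2, 0, 2, 1, 2, 0, 2, 0, 2, 0, 2,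 0, 0, 2, 1, 2, 1], [0, 0, 2, 0, 2, 0, 2, 0, 0, 2, 1, 2, 1, 2, 0, 2, 0, 0, 2, 0, 2, 0]]⟩, ⟨3, [927, 81, 71, 99, 71], 2, 0, [[], []]⟩, ⟨2, [283, 390, 99, 133, 51, 51, 467], 1, 2, [[], [1, 2, 0, 0, 2, 0, 0, 2, 1, 2, 1, 2, 0, 2, 0, 0, 2, 0, 2, 0, 0], [1, 2, 0, 2, 0, 2, 0, 2, 0, 2, 0, 0, 2, 0, 2, 1, 2, 0, 0, 2, 0, 2, 0], [0, 0, 2, 0, 2, 0, 2, 0, 0, 2, 0, 2, 0, 2, 0, 2, 1, 2, 0, 0, 2, 1]]⟩, ⟨2, [282, 564, 70, 80, 391], 0, 2, [[], [0, 2, 0, 2, 1, 2, 1, 2, 1, 2, 1, 2, 0, 0, 2, 0, 0, 2, 1], [0, 2, 0, 2, 0, 2, 1, 2, 1, 2, 0, 2, 0, 2, 0, 2, 1]]⟩, ⟨2, [70, 98, 70, 78, 391, 282, 895], 0, 1, [[], [1, 2, 0, 2, 1, 2, 0, 0, 2, 0, 0, 2, 0, 0, 2, 0, 0], [0, 0, 2, 1,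 2, 1, 2, 0, 0, 2, 1, 2, 0, 2, 0, 0, 2]]⟩, ⟨3, [935, 283], 2, 0, [[], []]⟩, ⟨2, [282, 618, 80, 98, 138, 80, 98, 80, 391], 1, 3, [[], [2, 0, 2, 0, 0, 2, 0, 2, 0, 0, 2, 0, 2, 0, 0], [0, 2, 1, 2, 1, 2, 0, 2, 0, 2, 0, 0, 2, 0, 0, 2, 1, 2, 0, 2], [2, 1, 2, 1, 2, 0, 0, 2, 0, 0, 2, 1, 2, 1, 2, 1]]⟩, ⟨2, [738, 80, 98, 80, 391, 282, 723], 1, 2, [[], [0, 2, 0, 0, 2, 0, 2, 0, 2, 0, 2, 1, 2, 0, 0], [0, 2, 1, 2, 1, 2, 0, 0, 2, 0, 2, 1, 2, 0, 0, 2, 0, 0, 2, 1], [2, 0, 0, 2, 0, 0, 2, 1, 2, 0, 0, 2, 0, 2, 1, 2, 0, 2]]⟩, ⟨3, [941, 283], 2, 0, [[], []]⟩, ⟨2, [283, 748, 70, 78, 70, 80, 391, 283, 827], 1, 2, [[], [2, 0, 0, 2, 0, 2, 0, 2], [1, 2, 0, 0, 2, 0, 0, 2, 1,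 2, 0, 0, 2, 0], [0, 0, 2, 1, 2, 0, 0, 2, 1, 2, 0, 0, 2, 1, 2, 0]]⟩, ⟨3, [945, 282], 2, 0, [[], []]⟩, ⟨2, [282, 570, 78, 70, 72, 80, 70, 78, 80, 391], 1, 3, [[], [0, 0, 2, 0, 0, 2, 0, 2, 1, 2, 1, 2, 1, 2, 1, 2, 1, 2, 0, 2, 0], [1, 2, 0, 2, 0, 2, 1, 2, 0, 0, 2, 0, 0, 2], [0, 2, 0, 0, 2, 1, 2, 1, 2, 0, 2, 1, 2, 0, 0, 2, 1, 2, 0, 2, 1]]⟩, ⟨2, [283, 696, 78, 70, 98, 391, 283, 305], 1, 2, [[], [2, 0, 2, 0, 2, 1, 2, 0, 2, 1, 2, 0, 2, 0, 2, 1, 2], [0, 2, 0, 2, 1, 2, 1, 2, 0, 2, 0, 2, 0, 0, 2, 0, 2, 0, 2, 0, 0], [0, 2, 0, 0, 2, 1, 2, 0, 2, 0, 2, 1, 2, 0, 2]]⟩, ⟨3, [951, 209, 195, 191], 2, 0, [[], []]⟩, ⟨2, [283, 903, 80, 70, 98, 106, 98, 78, 70, 391], 1,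 0, [[], [0, 0, 2, 1, 2, 0, 2, 1, 2, 0, 2, 1, 2, 1, 2, 1, 2, 0, 0, 2, 0, 2, 1], [1, 2, 1, 2, 0, 0, 2, 1, 2, 0, 0, 2, 0, 2, 0, 0, 2, 0], [2, 1, 2, 0, 0, 2, 0, 0, 2, 0, 0, 2, 0, 2, 0, 0, 2, 0, 0, 2, 1]]⟩, ⟨3, [955, 282], 2, 0, [[], []]⟩, ⟨2, [283, 392, 355, 283, 495], 1, 1, [[], [2, 0, 2, 0, 0, 2, 0, 2, 1, 2, 0, 2, 0, 2, 1, 2, 1], [2, 1, 2, 0, 2, 1, 2, 1, 2, 0, 2, 0, 2, 1, 2, 1, 2, 0, 2, 0, 2], [1, 2, 0, 2, 0, 2, 0, 2, 0, 2, 1, 2, 1, 2, 0, 2, 0, 2, 1]]⟩, ⟨3, [959, 283], 2, 0, [[], []]⟩, ⟨2, [283, 450, 394], 0, 2, [[], [1, 2, 1, 2, 1, 2, 1, 2, 1, 2, 0, 2, 0, 2, 0, 0, 2], [1, 2, 1, 2, 1, 2, 0, 2, 0, 2, 1, 2, 0, 2, 1, 2, 1, 2, 0, 0, 2, 0, 0]]⟩, ⟨3, [963,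 191, 209], 2, 0, [[], []]⟩, ⟨2, [283, 394, 209, 195, 191, 431], 0, 1, [[], [2, 0, 0, 2, 0, 0, 2, 0, 0, 2, 1, 2, 1, 2, 1, 2, 0, 0, 2, 1], [2, 0, 0, 2, 0, 2, 0, 2, 0, 2, 0, 2, 1, 2, 1, 2, 1, 2]]⟩, ⟨3, [967, 283], 2, 0, [[], []]⟩, ⟨2, [282, 394, 209, 209, 200, 191, 223, 220, 189, 325], 1, 1, [[], [2, 1, 2, 0, 0, 2, 0, 2, 0, 2, 0, 0, 2, 0, 0, 2, 0, 0, 2, 0], [1, 2, 1, 2, 0, 0, 2, 0, 0, 2, 1, 2, 0, 0, 2, 0, 2, 1, 2, 0, 2, 0], [2, 0, 2, 0, 2, 1, 2, 1, 2, 1, 2, 0, 0, 2, 1, 2]]⟩, ⟨2, [282, 394, 209, 221, 191, 965, 282, 363], 1, 1, [[], [1, 2, 0, 0, 2, 0, 2, 1, 2, 1, 2, 0, 0, 2, 0, 0, 2, 1, 2, 0, 2], [1, 2, 1, 2, 1, 2, 0, 2, 0, 2, 1, 2, 0, 2, 1, 2, 0, 2,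 1, 2], [0, 0, 2, 1, 2, 0, 2, 1, 2, 0, 2, 1, 2, 0, 2, 1, 2, 0, 2, 0, 0]]⟩, ⟨2, [283, 394, 200, 587, 282, 867], 1, 1, [[], [2, 1, 2, 0, 0, 2, 1, 2, 0, 2, 0, 2, 0, 0, 2, 0, 0], [2, 1, 2, 0, 2, 0, 0, 2, 1, 2, 1, 2, 0, 2, 0, 0, 2, 0, 2], [0, 2, 0, 2, 1, 2, 0, 2, 0, 2, 1, 2, 0, 2, 0, 2]]⟩, ⟨3, [975, 282], 2, 0, [[], []]⟩, ⟨2, [283, 394, 208, 200, 191, 587, 765], 1, 1, [[], [0, 2, 1, 2, 0, 0, 2, 0, 2, 0, 2, 1, 2, 1, 2, 1, 2, 1, 2, 0, 0], [1, 2, 0, 2, 0, 0, 2, 1, 2, 0, 2, 1, 2, 0, 0, 2, 0, 0, 2, 0, 0], [0, 2, 0, 2, 0, 2, 1, 2, 0, 0, 2, 0, 2, 0, 2, 1, 2, 0, 2, 0, 0]]⟩, ⟨2, [283, 394, 191, 209, 191, 223, 209, 209, 200, 395], 1, 1, [[], [0, 2, 0, 2, 1, 2, 0,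 2, 1, 2, 1, 2, 0, 0, 2, 0, 0, 2, 0], [0, 2, 0, 2, 0, 0, 2, 0, 2, 0, 2, 1, 2, 1, 2, 1, 2, 1], [1, 2, 0, 2, 0, 2, 0, 0, 2, 1, 2, 0, 2, 0, 2, 0, 2, 1]]⟩, ⟨3, [981, 282], 2, 0, [[], []]⟩, ⟨2, [282, 500, 492, 282, 394], 1, 0, [[], [2, 1, 2, 1, 2, 0, 2, 1, 2, 0, 2, 0, 2, 0, 2, 0, 0, 2, 1], [2, 0, 0, 2, 0, 0, 2, 0, 2, 1, 2, 0, 2, 0, 0, 2, 0, 2, 0, 2, 0], [2, 1, 2, 0, 2, 1, 2, 0, 2, 1, 2, 1, 2, 0, 0, 2, 0]]⟩, ⟨3, [985, 221, 208, 189], 2, 0, [[], []]⟩, ⟨2, [188, 396, 283, 364, 282, 394], 1, 0, [[], [2, 1, 2, 1, 2, 0, 0, 2, 1, 2, 0, 0, 2, 1, 2, 1], [0, 2, 0, 2, 0, 0, 2, 1, 2, 0, 2, 0, 2, 0, 2, 0], [2, 0, 0, 2, 0, 0, 2, 1, 2, 1, 2, 1, 2, 0, 0, 2, 0, 0, 2, 0,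 2, 1, 2, 0]]⟩, ⟨2, [283, 480, 188, 209, 221, 396], 0, 2, [[], [0, 0, 2, 0, 2, 0, 2, 0, 2, 0, 2, 1, 2, 0, 2], [2, 0, 2, 0, 2, 0, 2, 1, 2, 0, 2, 1, 2, 1, 2, 1, 2, 0]]⟩, ⟨2, [974, 282, 358, 188, 220, 209, 396], 1, 0, [[], [0, 0, 2, 1, 2, 0, 2, 1, 2, 0, 0, 2, 1, 2, 0, 2, 0, 2, 0, 0, 2, 0, 2, 0], [2, 0, 0, 2, 0, 2, 0, 2, 0, 2, 1, 2], [2, 0, 0, 2, 0, 2, 1, 2, 0, 0, 2, 0, 2, 0, 2, 1, 2, 0, 2, 0, 0]]⟩, ⟨3, [993, 282], 2, 0, [[], []]⟩, ⟨2, [283, 358, 190, 396, 282, 491], 1, 3, [[], [2, 0, 0, 2, 1, 2, 1, 2, 1, 2, 0, 2, 0, 2, 1, 2, 0, 2, 0, 0, 2, 0, 0], [1, 2, 1, 2, 0, 0, 2, 1, 2, 0, 2, 0, 2, 0, 2, 0, 2], [0, 0, 2, 1, 2, 0, 2, 0, 0, 2, 1, 2, 0, 0, 2, 0, 0,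 2, 0]]⟩, ⟨3, [997, 283], 2, 0, [[], []]⟩, ⟨2, [282, 430, 190, 208, 208, 396, 282, 661], 1, 3, [[], [0, 0, 2, 0, 0, 2, 1, 2, 1, 2, 0, 2, 1, 2, 0, 2, 0, 0, 2, 0, 0, 2, 0], [1, 2, 1, 2, 0, 2, 0, 0, 2, 0, 2, 0, 2, 1, 2, 1, 2, 1, 2, 0, 2], [0, 2, 1, 2, 0, 0, 2, 0, 0, 2, 1, 2, 0, 0, 2, 0, 2, 0, 0]]⟩, ⟨2, [964, 188, 209, 221, 396, 282, 895], 1, 3, [[], [2, 0, 2, 0, 2, 1, 2, 1, 2, 0, 2, 0, 2, 1, 2, 0, 0], [2, 1, 2, 1, 2, 0, 2, 0, 2, 1, 2, 0, 2, 1, 2, 0, 2, 0, 2, 0], [1, 2, 1, 2, 0, 2, 1, 2, 1, 2, 0, 2, 1, 2, 0, 2, 1, 2, 0, 0]]⟩, ⟨2, [394, 195, 396, 282, 997], 1, 3, [[], [0, 2, 1, 2, 0, 2, 1, 2, 1, 2, 0, 0, 2, 0, 0, 2, 0, 2, 0, 0, 2, 1], [1, 2, 1, 2, 0, 2,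 0, 0, 2, 0, 2, 1, 2, 0, 0, 2, 1, 2], [2, 1, 2, 0, 2, 0, 2, 0, 2, 1, 2, 1, 2, 0, 2, 0, 2, 1, 2]]⟩, ⟨3, [1005, 283], 2, 0, [[], []]⟩, ⟨2, [853, 283, 398], 0, 2, [[], [0, 2, 0, 2, 1, 2, 1, 2, 1, 2, 0, 2, 0, 2, 0, 2, 0, 0, 2, 1], [1, 2, 1, 2, 1, 2, 1, 2, 0, 2, 0, 0, 2, 1, 2, 0, 0, 2, 0, 0]]⟩, ⟨3, [1009, 283], 2, 0, [[], []]⟩, ⟨2, [282, 650, 398], 0, 2, [[], [1, 2, 0, 0, 2, 1, 2, 1, 2, 1, 2, 0, 0, 2, 1, 2, 0, 2, 0], [0, 2, 0, 0, 2, 1, 2, 1, 2, 0, 2, 0, 0, 2, 0, 2, 0, 0, 2, 0]]⟩, ⟨3, [1013, 283], 2, 0, [[], []]⟩, ⟨2, [398, 601], 0, 1, [[], [2, 0, 2, 0, 0, 2, 0, 2, 0, 2, 0, 2, 0, 2, 1, 2, 0, 0], [2, 0, 2, 1, 2, 1, 2, 1, 2, 0, 0, 2, 0, 2, 0, 2, 0, 2, 1]]⟩,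 ⟨3, [1017, 282], 2, 0, [[], []]⟩, ⟨2, [282, 878, 283, 398, 282, 661], 1, 3, [[], [0, 2, 0, 0, 2, 0, 2, 0, 0, 2, 0, 2, 0, 0, 2, 0, 2, 0, 2, 0, 2, 0], [0, 0, 2, 0, 2, 1, 2, 0, 2, 0, 0, 2, 1, 2, 1, 2, 0, 0, 2], [1, 2, 0, 0, 2, 1, 2, 1, 2, 0, 2, 1, 2, 0, 0, 2, 1, 2, 1, 2]]⟩, ⟨2, [398, 283, 455, 283, 399], 1, 2, [[], [2, 1, 2, 1, 2, 1, 2, 0, 2, 0, 0, 2, 1, 2, 1, 2, 0, 2], [2, 1, 2, 0, 2, 1, 2, 1, 2, 0, 2, 1, 2, 1, 2, 0, 2, 0], [0, 2, 1, 2, 0, 2, 1, 2, 0, 2, 0, 2, 0, 2, 0, 2, 0, 2, 0, 2, 1, 2]]⟩, ⟨2, [282, 398, 316, 859], 1, 2, [[], [2, 0, 2, 1, 2, 1, 2, 1, 2, 0, 0, 2, 1, 2, 1, 2, 1, 2, 0], [1, 2, 1, 2, 0, 0, 2, 1, 2, 0, 2, 0, 0], [0, 2, 1, 2, 1, 2, 0,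 0, 2, 0, 2, 1, 2, 1, 2, 0, 2, 0, 0]]⟩, ⟨2, [882, 399], 0, 2, [[], [2, 1, 2, 0, 2, 0, 0, 2, 0, 2, 0], [0, 2, 0, 2, 1, 2, 0, 0, 2, 0, 0, 2, 1, 2, 0, 2, 0, 2, 0, 0, 2]]⟩, ⟨2, [399, 507], 0, 1, [[], [0, 2, 1, 2, 1, 2, 0, 0, 2, 0, 2, 1, 2, 0, 0, 2, 1, 2, 1, 2, 0, 0], [0, 0, 2, 1, 2, 0, 2, 0, 2, 0, 0, 2, 0, 2, 0, 0, 2, 0, 0, 2, 1, 2, 0]]⟩, ⟨3, [1029, 282], 2, 0, [[], []]⟩, ⟨2, [399, 283, 787], 0, 1, [[], [1, 2, 0, 2, 1, 2, 0, 2, 0, 2, 0, 0, 2, 1, 2, 0, 0, 2, 1, 2], [0, 0, 2, 0, 0, 2, 1, 2, 1, 2, 0, 2, 0, 2, 1, 2, 1, 2, 1, 2]]⟩, ⟨3, [1033, 282], 2, 0, [[], []]⟩, ⟨2, [98, 70, 80, 443, 282, 399], 0, 2, [[], [0, 0, 2, 0, 0, 2, 0, 2, 0, 2, 1, 2, 1, 2, 1, 2],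 [0, 2, 1, 2, 0, 2, 0, 0, 2, 0, 2, 0, 2, 0, 0, 2, 1, 2, 1]]⟩, ⟨3, [1037, 282], 2, 0, [[], []]⟩, ⟨2, [282, 399, 282, 797], 0, 1, [[], [2, 1, 2, 0, 2, 0, 0, 2, 0, 2, 1, 2, 1, 2, 0, 2, 0, 0, 2, 0], [0, 2, 1, 2, 1, 2, 0, 2, 0, 0, 2, 1, 2, 1]]⟩] 450 521 = true := by decide +kernel
theorem dd_c7 : dd.checks [⟨3, [1041, 283], 2, 0, [[], []]⟩, ⟨2, [484, 282, 399], 0, 2, [[], [2, 0, 0, 2, 0, 2, 0, 2, 0, 2, 1, 2, 1, 2, 0, 2, 0, 2], [1, 2, 0, 2, 0, 2, 0, 0, 2, 0, 2, 0, 2, 1, 2, 1]]⟩, ⟨2, [562, 543, 283, 399], 1, 3, [[], [2, 0, 2, 0, 2, 0, 2, 0, 2, 0, 2, 0, 0, 2, 0, 2, 0, 0], [0, 0, 2, 1, 2, 0, 0, 2, 0, 2, 0, 2, 0, 2, 1, 2, 1, 2, 0, 0], [0, 0, 2, 0, 2, 0, 2,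 1, 2, 1, 2, 0, 2, 1, 2, 1, 2, 0, 0, 2, 1, 2, 0]]⟩, ⟨3, [1047, 283], 2, 0, [[], []]⟩, ⟨2, [282, 399, 282, 865, 81, 79, 71, 457], 1, 1, [[], [2, 1, 2, 1, 2, 1, 2, 0, 0, 2, 1, 2, 1, 2, 1, 2, 1, 2, 1], [2, 0, 2, 1, 2, 1, 2, 0, 2, 0, 0, 2, 0, 2, 0, 0, 2, 0, 2, 1], [0, 2, 0, 0, 2, 0, 0, 2, 1, 2, 0, 2, 1, 2, 1, 2, 0, 2, 1]]⟩, ⟨2, [283, 948, 846, 399], 1, 3, [[], [2, 0, 2, 0, 2, 0, 2, 0, 0, 2, 1, 2, 0, 2, 0, 0], [0, 2, 1, 2, 0, 0, 2, 1, 2, 0, 0, 2, 0, 2, 1, 2, 1, 2], [0, 2, 1, 2, 1, 2, 0, 2, 0, 2, 1, 2, 1, 2, 0, 2, 1, 2, 0]]⟩, ⟨3, [1053, 282], 2, 0, [[], []]⟩, ⟨2, [283, 399, 282, 737, 621], 1, 1, [[], [0, 0, 2, 1, 2, 0, 2, 0, 2, 0, 0, 2, 1, 2, 1, 2, 0, 0],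 [0, 2, 0, 2, 1, 2, 1, 2, 0, 2, 1, 2, 0, 2, 0, 0, 2, 0, 0], [2, 0, 0, 2, 0, 2, 0, 2, 1, 2, 0, 2, 0, 0, 2, 1, 2, 0, 0, 2, 0, 2, 0, 0]]⟩, ⟨2, [283, 392, 399, 282, 961], 1, 2, [[], [1, 2, 0, 2, 1, 2, 0, 0, 2, 0, 0, 2], [0, 2, 0, 2, 0, 0, 2, 1, 2, 0, 2, 0, 2, 0, 2, 1], [2, 0, 2, 0, 2, 1, 2, 0, 2, 1, 2, 1, 2, 0, 2]]⟩, ⟨3, [1059, 283], 2, 0, [[], []]⟩, ⟨2, [282, 399, 282, 787, 283, 1053], 1, 1, [[], [0, 0, 2, 1, 2, 0, 0, 2, 0, 0, 2, 1, 2, 0, 2, 0, 0, 2, 0, 2, 0, 2, 0], [0, 0, 2, 0, 0, 2, 1, 2, 0, 0, 2, 1, 2, 0, 0, 2], [2, 0, 2, 1, 2, 1, 2, 1, 2, 1, 2, 1, 2, 0, 0, 2, 0, 2, 0]]⟩, ⟨2, [672, 282, 400], 0, 2, [[], [0, 0, 2, 0, 2, 1, 2, 1, 2, 0, 0, 2, 0, 2, 0,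 2, 0], [2, 0, 2, 1, 2, 0, 2, 1, 2, 1, 2, 0, 2, 0, 2, 1, 2, 0, 0]]⟩, ⟨3, [1065, 283], 2, 0, [[], []]⟩, ⟨2, [602, 400], 0, 2, [[], [0, 2, 0, 0, 2, 0, 0, 2, 1, 2, 0, 0, 2, 1, 2, 1, 2, 0, 2, 0, 2], [1, 2, 0, 2, 0, 2, 1, 2, 0, 2, 0, 0, 2, 1, 2, 0, 0, 2, 0, 2, 0, 0, 2, 0]]⟩, ⟨2, [283, 914, 283, 336, 283, 400], 1, 3, [[], [2, 0, 2, 0, 2, 1, 2, 0, 0, 2, 0, 2, 0, 2, 1, 2, 1, 2, 0], [2, 1, 2, 0, 2, 1, 2, 0, 2, 0], [2, 0, 0, 2, 0, 2, 0, 0, 2, 1, 2, 0, 0, 2, 0, 2, 0, 2, 0, 0, 2, 0]]⟩, ⟨2, [282, 532, 282, 804, 283, 400], 1, 3, [[], [0, 0, 2, 0, 0, 2, 1, 2, 0, 0, 2, 0, 2, 0, 0, 2, 0, 2], [0, 0, 2, 0, 2, 0, 2, 0, 0, 2, 0, 0, 2, 0, 2, 1, 2, 1, 2, 0], [1, 2, 0, 2,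 0, 0, 2, 1, 2, 0, 2, 0, 2, 0, 2, 0, 2, 0, 0]]⟩, ⟨2, [283, 400, 283, 1029, 283, 597], 1, 1, [[], [0, 0, 2, 1, 2, 0, 2, 1, 2, 1, 2, 0, 0, 2, 1, 2, 1, 2, 0, 2, 0, 0], [2, 0, 2, 1, 2, 0, 0, 2, 1, 2, 1, 2, 0, 2, 1, 2, 0, 0, 2, 1, 2], [0, 0, 2, 0, 0, 2, 0, 2, 1, 2, 1, 2, 0, 2, 0, 2, 1, 2, 0, 0, 2, 0, 0]]⟩, ⟨3, [1075, 282], 2, 0, [[], []]⟩, ⟨2, [804, 282, 400, 283, 497], 1, 2, [[], [2, 0, 2, 0, 2, 1, 2, 1, 2, 1, 2, 1, 2, 0, 0, 2, 0, 2, 1, 2, 0, 2, 0], [0, 2, 0, 2, 1, 2, 0, 0, 2, 0, 2, 0, 0, 2, 1, 2, 0, 2, 0, 0], [1, 2, 0, 0, 2, 0, 2, 1, 2, 0, 2, 0, 2, 1]]⟩, ⟨3, [1079, 282], 2, 0, [[], []]⟩, ⟨2, [400, 439, 79, 71, 81, 71, 571], 1, 1, [[], [2, 0, 2, 0, 2,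 1, 2, 1, 2, 0, 2, 0], [1, 2, 0, 2, 0, 2, 0, 2, 0, 2, 0, 2, 1, 2, 0, 2, 0, 0], [0, 2, 0, 0, 2, 0, 2, 0, 0, 2, 0, 2, 0, 2, 0, 0, 2, 0, 2, 0, 2]]⟩, ⟨3, [1083, 282], 2, 0, [[], []]⟩, ⟨2, [400, 283, 951, 209, 200, 919], 1, 1, [[], [1, 2, 1, 2, 1, 2, 1, 2, 0, 2, 0, 0, 2, 0], [1, 2, 0, 2, 1, 2, 1, 2, 0, 2, 0, 2, 0, 2, 0, 2, 1, 2, 0, 2], [0, 2, 0, 0, 2, 0, 0, 2, 0, 0, 2, 0, 0, 2, 0, 2, 1, 2, 1, 2, 0]]⟩, ⟨3, [1087, 282], 2, 0, [[], []]⟩, ⟨2, [283, 702, 283, 400, 758], 1, 2, [[], [2, 0, 2, 1, 2, 1, 2, 1, 2, 1, 2, 0, 0, 2, 0, 0, 2, 0, 2, 0], [2, 0, 2, 1, 2, 1, 2, 0, 2, 0, 2, 1, 2, 0, 2, 0, 2, 1, 2, 0], [0, 2, 0, 0, 2, 1, 2, 0, 0, 2, 0, 2]]⟩, ⟨3, [1091, 282],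 2, 0, [[], []]⟩, ⟨2, [400, 282, 483, 282, 401], 1, 1, [[], [0, 0, 2, 0, 2, 0, 2, 0, 0, 2, 0, 2, 0, 2, 1, 2, 0, 2, 1, 2, 0], [2, 0, 2, 0, 2, 0, 2, 0, 2, 1, 2, 1, 2, 0, 2, 1, 2], [2, 0, 2, 0, 2, 1, 2, 1, 2, 1, 2, 0, 2, 0, 2, 0, 2, 0]]⟩, ⟨2, [283, 400, 282, 423, 283, 1068], 1, 2, [[], [0, 0, 2, 1, 2, 1, 2, 0, 2, 0, 2, 1, 2, 0, 0, 2, 0, 2, 0], [0, 2, 0, 0, 2, 0, 0, 2, 0, 2, 0, 2, 1, 2, 0, 0, 2, 1, 2, 1], [0, 0, 2, 0, 2, 1, 2, 1, 2, 0, 0, 2, 0, 0, 2, 1, 2, 0, 2, 1, 2, 0]]⟩, ⟨3, [1097, 282], 2, 0, [[], []]⟩, ⟨2, [282, 1092, 424, 282, 400], 1, 0, [[], [1, 2, 1, 2, 1, 2, 1, 2, 1, 2, 1, 2, 1, 2, 0, 2, 1, 2, 0, 0, 2], [2, 1, 2, 0, 2, 0, 0, 2, 0, 0, 2, 0, 2,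 0, 2, 1, 2, 0, 0, 2, 1, 2, 0, 0], [0, 2, 0, 2, 1, 2, 1, 2, 0, 2, 0, 2, 0, 2, 0, 2, 0, 0]]⟩, ⟨2, [282, 400, 282, 741, 81, 71, 863], 1, 2, [[], [2, 1, 2, 0, 2, 1, 2, 1, 2, 0, 0, 2, 1, 2, 0, 2, 0, 2], [2, 0, 0, 2, 0, 2, 1, 2, 0, 0, 2, 0, 0, 2, 1, 2, 1, 2, 0, 0, 2, 1], [2, 0, 0, 2, 0, 0, 2, 1, 2, 0, 2, 1, 2, 0, 0, 2, 0, 0, 2, 1, 2]]⟩, ⟨2, [628, 282, 402], 0, 2, [[], [2, 1, 2, 0, 0, 2, 1, 2, 0, 0, 2, 0, 0, 2, 0, 2, 0, 2, 0, 0], [2, 1, 2, 1, 2, 0, 0, 2, 0, 0, 2, 0, 2, 0, 2, 0]]⟩, ⟨3, [1105, 283], 2, 0, [[], []]⟩, ⟨2, [282, 402, 933], 0, 1, [[], [1, 2, 0, 2, 0, 0, 2, 0, 0, 2, 0, 2, 0, 2, 1, 2, 0, 2, 1], [1, 2, 1, 2, 0, 2, 1, 2, 1, 2, 0, 0, 2, 0, 0, 2, 1,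 2, 0]]⟩, ⟨2, [282, 834, 402], 0, 2, [[], [2, 1, 2, 1, 2, 1, 2, 0, 0, 2, 0, 0, 2, 0, 2, 1, 2, 0, 0], [1, 2, 0, 2, 0, 2, 0, 0, 2, 0, 2, 0, 0, 2, 0, 2, 1, 2]]⟩, ⟨3, [1111, 282], 2, 0, [[], []]⟩, ⟨2, [283, 402, 283, 489], 0, 1, [[], [0, 2, 1, 2, 0, 0, 2, 1, 2, 0], [1, 2, 1, 2, 0, 0, 2, 1, 2, 0, 0, 2, 0, 2, 0, 0, 2, 0, 2, 0, 2]]⟩, ⟨2, [282, 512, 402], 0, 2, [[], [1, 2, 1, 2, 1, 2, 0, 2, 1, 2, 0, 2, 0, 2, 0, 0, 2, 0, 2, 0, 0], [0, 2, 0, 2, 1, 2, 1, 2, 1, 2, 0, 2, 0, 0, 2, 1, 2, 0, 0]]⟩, ⟨2, [283, 674, 283, 402], 0, 2, [[], [2, 1, 2, 1, 2, 1, 2, 0, 2, 1, 2, 0, 2, 0, 2, 0, 0, 2, 0, 2, 0], [0, 0, 2, 1, 2, 1, 2, 1, 2, 0, 0, 2, 0, 2, 0, 0, 2, 1]]⟩, ⟨2, [1110,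 402], 0, 2, [[], [2, 1, 2, 1, 2, 0, 2, 0, 2, 1, 2, 1, 2, 0, 0, 2, 0], [2, 0, 0, 2, 1, 2, 0, 2, 0, 2, 0, 2, 0, 2, 1, 2]]⟩, ⟨2, [283, 402, 283, 641, 723], 1, 2, [[], [0, 2, 1, 2, 1, 2, 0, 0, 2, 1, 2, 1, 2, 0, 2, 0, 2, 0, 2, 0], [1, 2, 0, 0, 2, 1, 2, 1, 2, 0, 0, 2], [0, 0, 2, 0, 2, 1, 2, 1, 2, 0, 0, 2, 0, 2, 0, 2, 1, 2, 1, 2]]⟩, ⟨2, [282, 404, 691], 0, 1, [[], [2, 0, 2, 0, 0, 2, 1, 2, 1, 2, 0, 0, 2, 0, 2, 1, 2, 0, 0, 2], [2, 0, 0, 2, 0, 2, 0, 2, 1, 2, 0, 0, 2, 1, 2, 0, 2, 0, 0, 2, 0]]⟩, ⟨3, [1125, 282], 2, 0, [[], []]⟩, ⟨2, [283, 404, 282, 801], 0, 1, [[], [0, 0, 2, 0, 2, 0, 0, 2, 1, 2, 1, 2, 0, 2, 0, 0, 2, 0, 2, 0], [1, 2, 0, 2, 1, 2, 0, 2, 1, 2, 0,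 2, 0, 2, 1, 2, 1]]⟩, ⟨2, [282, 404, 425], 0, 1, [[], [1, 2, 0, 0, 2, 0, 2, 0, 2, 0, 2, 0, 2, 1, 2, 1, 2, 0], [2, 0, 2, 0, 2, 1, 2, 0, 0, 2, 1, 2, 1, 2, 0, 2, 1, 2]]⟩, ⟨3, [1131, 282], 2, 0, [[], []]⟩, ⟨2, [408, 283, 404], 0, 2, [[], [0, 2, 0, 2, 0, 2, 1, 2, 1, 2, 0, 2, 0, 2, 0, 0, 2, 0, 2, 0], [0, 0, 2, 1, 2, 0, 0, 2, 0, 0, 2, 1, 2, 0, 0, 2, 0, 2, 1]]⟩, ⟨3, [1135, 282], 2, 0, [[], []]⟩, ⟨2, [283, 446, 282, 404], 0, 2, [[], [2, 0, 2, 1, 2, 1, 2, 0, 2, 1, 2, 0, 2, 1, 2, 0, 2, 1, 2], [1, 2, 1, 2, 0, 0, 2, 0, 0, 2, 0, 2, 1, 2, 1, 2, 1, 2]]⟩, ⟨2, [283, 1020, 404], 0, 2, [[], [0, 2, 1, 2, 0, 2, 0, 2, 0, 2, 0, 2, 1, 2, 1, 2, 0, 2, 0, 2, 1], [0, 0, 2, 0,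 2, 1, 2, 1, 2, 1, 2, 0, 0, 2, 0, 0]]⟩, ⟨2, [282, 892, 283, 406], 0, 2, [[], [2, 0, 2, 0, 2, 0, 0, 2, 0, 2, 1, 2, 1, 2, 0, 0, 2, 0, 0, 2, 1, 2, 1], [0, 2, 1, 2, 0, 2, 0, 2, 0, 2, 0, 2, 1, 2, 1, 2, 0, 0]]⟩, ⟨2, [283, 448, 282, 406], 0, 2, [[], [0, 2, 1, 2, 0, 0, 2, 0, 2, 0, 0, 2, 0, 2, 0, 2, 1], [1, 2, 1, 2, 0, 0, 2, 1, 2, 0, 2, 1, 2, 0, 0, 2, 1, 2, 0, 0]]⟩, ⟨2, [1030, 282, 408], 0, 2, [[], [1, 2, 0, 0, 2, 1, 2, 1, 2, 0, 2, 0, 0, 2, 0, 0, 2, 0, 0, 2, 0, 0, 2], [0, 2, 0, 2, 0, 0, 2, 0, 2, 0, 2, 1, 2, 0, 2, 0, 0, 2, 1, 2, 0]]⟩, ⟨3, [1147, 282], 2, 0, [[], []]⟩, ⟨2, [283, 408, 797], 0, 1, [[], [1, 2, 1, 2, 0, 0, 2, 0, 2, 0, 2, 0, 0, 2, 0, 0, 2, 0, 2],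 [2, 0, 0, 2, 1, 2, 0, 2, 1, 2, 1, 2, 0, 0, 2, 0, 0, 2, 1, 2, 0]]⟩, ⟨2, [283, 408, 282, 852], 0, 1, [[], [1, 2, 1, 2, 0, 2, 0, 2, 0, 2, 0, 0, 2, 1, 2, 0], [2, 0, 0, 2, 1, 2, 1, 2, 1, 2, 1, 2, 1, 2, 1, 2, 1, 2, 0, 0, 2, 0]]⟩, ⟨2, [282, 408, 283, 757], 0, 1, [[], [2, 0, 2, 0, 2, 1, 2, 1, 2, 0, 0, 2, 0, 2, 1, 2, 0, 0, 2], [0, 0, 2, 1, 2, 0, 2, 0, 0, 2, 0, 0, 2, 0, 0, 2]]⟩, ⟨3, [1155, 282], 2, 0, [[], []]⟩, ⟨2, [410, 283, 972, 282, 408], 1, 0, [[], [0, 2, 0, 2, 0, 2, 0, 2, 0, 2, 1, 2, 0, 2, 1, 2, 0, 2, 1, 2, 0, 0], [1, 2, 1, 2, 1, 2, 1, 2, 1, 2, 0, 0, 2, 1, 2, 1, 2, 0, 0], [1, 2, 1, 2, 0, 2, 0, 0, 2, 0, 0, 2, 1, 2, 1, 2, 0, 2, 0, 2]]⟩, ⟨2, [283, 408,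 283, 908, 282, 360], 1, 2, [[], [2, 0, 0, 2, 0, 2, 0, 2, 0, 0, 2, 1, 2, 1, 2, 0, 2, 0, 0, 2, 1], [2, 0, 0, 2, 1, 2, 0, 2, 1, 2, 1, 2, 0, 2, 1], [0, 0, 2, 0, 2, 1, 2, 1, 2, 1, 2, 1, 2, 0, 0, 2, 0, 2, 1, 2, 0]]⟩, ⟨3, [1161, 283], 2, 0, [[], []]⟩, ⟨2, [283, 1152, 408, 282, 993], 1, 3, [[], [0, 2, 0, 0, 2, 1, 2, 0, 0, 2, 0, 2, 0, 2, 0, 0, 2, 1, 2, 0, 2, 0, 0], [0, 2, 1, 2, 0, 2, 0, 0, 2, 1, 2, 0, 2, 0, 2, 0, 0, 2], [2, 0, 0, 2, 0, 2, 1, 2, 0, 2, 1, 2, 1, 2]]⟩, ⟨2, [576, 282, 410, 282, 447], 1, 2, [[], [0, 2, 1, 2, 1, 2, 0, 2, 0, 2, 1, 2, 1, 2, 1, 2, 0, 0, 2, 1], [2, 0, 2, 0, 2, 0, 0, 2, 0, 0, 2, 0, 2, 0, 2, 1], [2, 1, 2, 1, 2, 0, 0, 2, 1, 2, 0, 2, 1,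 2, 1]]⟩, ⟨3, [1167, 282], 2, 0, [[], []]⟩, ⟨2, [282, 520, 190, 201, 208, 288, 282, 410], 1, 3, [[], [2, 1, 2, 1, 2, 0, 2, 1, 2, 0], [0, 0, 2, 0, 0, 2, 0, 2, 0, 2, 0, 0, 2, 0, 2, 0, 2, 0, 2, 1], [2, 0, 2, 1, 2, 0, 2, 0, 0, 2, 1, 2, 0, 0, 2, 0, 0, 2, 0]]⟩, ⟨3, [1171, 283], 2, 0, [[], []]⟩, ⟨2, [410, 282, 907, 881], 1, 1, [[], [0, 2, 0, 2, 0, 2, 0, 2, 0, 2, 1, 2, 1, 2, 0, 0, 2, 0], [2, 0, 2, 0, 2, 0, 0, 2, 0, 2, 0, 2, 1, 2, 1, 2, 1, 2, 0, 2, 0, 0], [2, 1, 2, 0, 2, 0, 2, 1, 2, 0, 0, 2, 1, 2, 0, 2, 1, 2, 0, 0, 2, 0]]⟩, ⟨2, [283, 494, 283, 410, 282, 401], 1, 2, [[], [2, 0, 0, 2, 0, 2, 1, 2, 0, 2, 0, 0, 2, 1, 2, 1, 2, 1, 2, 1], [1, 2, 1, 2, 0, 2, 0, 0,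 2, 1, 2, 1, 2, 1, 2, 0, 0], [2, 0, 2, 1, 2, 0, 0, 2, 1, 2, 0, 0, 2, 0, 2, 0, 2, 1]]⟩, ⟨2, [410, 625, 283, 1029], 1, 1, [[], [1, 2, 0, 2, 0, 2, 0, 0, 2, 0, 0, 2, 0, 0, 2, 0, 0, 2, 0], [0, 2, 0, 2, 0, 0, 2, 1, 2, 0, 2, 0, 2, 0, 0, 2, 0, 2, 0], [0, 2, 0, 2, 0, 2, 0, 2, 1, 2, 1, 2, 0, 0, 2, 1, 2]]⟩, ⟨3, [1179, 283], 2, 0, [[], []]⟩, ⟨2, [283, 454, 283, 410, 825], 1, 2, [[], [0, 2, 0, 0, 2, 0, 2, 0, 0, 2, 1, 2, 0, 2, 0, 2], [0, 2, 1, 2, 1, 2, 0, 0, 2, 0, 2, 1, 2, 0, 0, 2, 0, 0, 2, 0], [2, 0, 2, 1, 2, 0, 2, 0, 2, 1, 2, 0, 2, 0, 2, 0, 0, 2]]⟩, ⟨2, [1008, 410, 1089], 1, 2, [[], [1, 2, 0, 2, 0, 2, 0, 2, 0, 2, 0, 2, 0, 2, 0, 2, 1, 2, 0, 2], [0, 2, 0, 0, 2,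 1, 2, 1, 2, 0, 0, 2, 0, 2, 0, 0, 2, 0, 0, 2, 0], [0, 2, 0, 0, 2, 1, 2, 1, 2, 0, 2, 0, 2, 0, 0, 2, 0]]⟩] 521 593 = true := by decide +kernel
theorem dd_c8 : dd.checks [⟨3, [1185, 283], 2, 0, [[], []]⟩, ⟨2, [410, 283, 1103, 282, 580], 1, 1, [[], [0, 2, 0, 0, 2, 1, 2, 0, 0, 2, 0, 2, 1, 2, 1, 2], [2, 0, 2, 0, 2, 0, 2, 1, 2, 0, 2, 0, 0, 2, 1, 2, 1, 2, 1], [2, 0, 2, 1, 2, 0, 2, 1, 2, 1, 2, 0, 2, 0, 0, 2, 0, 2]]⟩, ⟨2, [282, 1172, 971, 410], 1, 3, [[], [1, 2, 1, 2, 0, 2, 0, 2, 0, 2, 1, 2, 1, 2, 0, 0, 2, 1, 2, 0], [2, 1, 2, 0, 0, 2, 1, 2, 1, 2, 1, 2, 0, 2, 0, 2, 1, 2, 0, 2, 1], [0, 2, 1, 2, 0, 2, 0, 2, 1, 2, 0, 2, 1, 2, 0, 2, 0, 2]]⟩, ⟨3, [1191, 282], 2,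 0, [[], []]⟩, ⟨2, [282, 410, 283, 923, 499], 1, 2, [[], [2, 0, 0, 2, 0, 0, 2, 1, 2, 1, 2, 0, 2, 1, 2, 0, 0, 2, 0, 0, 2, 1], [1, 2, 0, 2, 0, 0, 2, 0, 0, 2, 1, 2, 1, 2, 0, 2], [0, 2, 0, 2, 1, 2, 1, 2, 0, 2, 0, 2, 1, 2, 1, 2, 0, 2, 1, 2, 0, 0]]⟩, ⟨2, [750, 283, 1175, 412], 1, 0, [[], [2, 0, 0, 2, 1, 2, 0, 0, 2, 1, 2, 1, 2, 1, 2, 1, 2, 1, 2, 1, 2, 0], [2, 0, 2, 1, 2, 0, 2, 1, 2, 1, 2, 1, 2, 0, 0, 2, 0, 2, 1, 2, 0, 0], [0, 0, 2, 1, 2, 0, 2, 1, 2, 0, 2, 1, 2, 0, 0, 2, 0, 2, 0, 2, 0, 0]]⟩, ⟨2, [282, 412, 668, 283, 412], 1, 0, [[], [0, 0, 2, 1, 2, 0, 2, 1, 2, 0, 0, 2, 0, 2, 0, 2], [0, 2, 0, 2, 0, 2, 1, 2, 0, 2, 1, 2, 1, 2, 0, 2, 0, 2, 0, 2, 1, 2, 0], [1,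 2, 1, 2, 1, 2, 1, 2, 1, 2, 0, 0, 2, 0, 0, 2, 1, 2, 0, 0, 2]]⟩, ⟨3, [1199, 282], 2, 0, [[], []]⟩, ⟨2, [418, 283, 414], 0, 2, [[], [0, 2, 0, 0, 2, 0, 2, 0, 2, 0, 0, 2, 0, 0, 2, 1, 2, 1, 2, 0, 0, 2, 0], [2, 1, 2, 1, 2, 0, 0, 2, 1, 2, 0, 2, 1, 2, 1, 2, 0, 0, 2, 0]]⟩, ⟨2, [283, 850, 414], 0, 2, [[], [0, 0, 2, 1, 2, 0, 2, 1, 2, 1, 2, 0, 2, 1, 2, 0, 2, 1], [1, 2, 1, 2, 0, 2, 1, 2, 0, 2, 0, 2, 1, 2, 0, 0, 2, 0, 0, 2]]⟩, ⟨2, [414, 539], 0, 1, [[], [0, 2, 0, 2, 0, 0, 2, 0, 2, 0, 2, 0, 2, 1, 2, 1, 2, 0, 0, 2, 0], [1, 2, 1, 2, 0, 2, 0, 0, 2, 1, 2, 1, 2, 1, 2, 1, 2, 0, 2, 1, 2, 1]]⟩, ⟨3, [1207, 282], 2, 0, [[], []]⟩, ⟨2, [470, 282, 414, 895], 1, 2, [[], [2, 1,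 2, 1, 2, 0, 2, 1, 2, 0, 0, 2, 0, 0, 2, 0, 2, 0], [0, 2, 1, 2, 0, 2, 0, 2, 0, 2, 0, 0, 2, 0, 2, 0, 2, 0, 0], [0, 2, 0, 2, 1, 2, 1, 2, 0, 0, 2, 0, 2, 1, 2, 1, 2, 0, 0, 2, 1]]⟩, ⟨3, [1211, 283], 2, 0, [[], []]⟩, ⟨2, [282, 436, 282, 414, 282, 1097], 1, 3, [[], [1, 2, 0, 2, 0, 0, 2, 1, 2, 0, 0, 2, 0, 2, 0, 0, 2, 1, 2, 0], [2, 0, 0, 2, 0, 2, 0, 2, 1, 2, 1, 2, 1, 2, 0, 2, 0], [1, 2, 1, 2, 0, 2, 0, 0, 2, 0, 0, 2, 0, 2, 1, 2, 1, 2, 0, 0, 2, 0]]⟩, ⟨3, [1215, 282], 2, 0, [[], []]⟩, ⟨2, [1132, 1189, 283, 414], 1, 0, [[], [0, 2, 1, 2, 0, 2, 0, 0, 2, 0, 2, 1, 2, 0, 0, 2, 1, 2, 0, 0, 2, 0], [2, 1, 2, 1, 2, 1, 2, 0, 2, 1, 2, 0, 2, 0, 0], [0, 2, 0, 0, 2, 0, 2, 0,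 2, 1, 2, 0, 2, 0, 0, 2, 0, 2, 1, 2, 0, 0]]⟩, ⟨3, [1219, 283], 2, 0, [[], []]⟩, ⟨2, [282, 766, 414, 283, 593], 1, 3, [[], [1, 2, 1, 2, 0, 0, 2, 0, 2, 0, 0, 2, 0, 2, 0, 2, 1, 2, 0, 0], [0, 2, 0, 0, 2, 1, 2, 0, 0, 2, 1, 2, 0, 2, 0, 0, 2, 0, 2, 0, 2, 0], [0, 2, 0, 2, 1, 2, 0, 0, 2, 1, 2, 0, 2, 0, 2, 0, 0, 2, 0, 2]]⟩, ⟨2, [283, 414, 429, 201, 481], 1, 2, [[], [1, 2, 0, 2, 0, 2, 1, 2, 1, 2, 0, 0, 2, 0, 2, 1, 2, 0, 0, 2, 0, 0], [0, 0, 2, 0, 0, 2, 1, 2, 1, 2, 0, 0, 2, 0, 0, 2, 0, 0, 2, 0, 0], [2, 0, 0, 2, 0, 2, 1, 2, 1, 2, 1, 2, 1, 2, 1, 2]]⟩, ⟨3, [1225, 282], 2, 0, [[], []]⟩, ⟨2, [416, 238, 251, 239, 235, 417, 653], 1, 1, [[], [0, 2, 1, 2, 1, 2, 1, 2, 0,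 0, 2, 1, 2, 1, 2, 1, 2, 1, 2, 1], [0, 2, 0, 2, 1, 2, 1, 2, 1, 2, 1, 2, 1, 2, 0, 2, 1, 2, 0, 0], [1, 2, 1, 2, 1, 2, 1, 2, 1, 2, 0, 2, 1, 2, 0]]⟩, ⟨2, [416, 239, 251, 245, 233, 383, 283, 868], 1, 2, [[], [2, 0, 2, 0, 2, 0, 0, 2, 1, 2, 0, 0, 2, 0, 2], [1, 2, 0, 0, 2, 0, 2, 0, 2, 1, 2, 0, 2, 0, 0, 2, 0, 2, 0, 0, 2, 0], [2, 0, 0, 2, 0, 0, 2, 0, 0, 2, 0, 0, 2, 1, 2, 0, 2, 1]]⟩, ⟨3, [1231, 283], 2, 0, [[], []]⟩, ⟨2, [282, 382, 250, 239, 250, 244, 417], 0, 2, [[], [2, 0, 2, 0, 2, 0, 2, 0, 2, 0, 2, 0, 2, 1, 2, 1, 2, 0, 2], [0, 2, 0, 2, 0, 0, 2, 1, 2, 0, 0, 2, 0, 2, 1, 2, 1, 2, 0, 2, 0]]⟩, ⟨2, [283, 480, 190, 208, 220, 246, 238, 250, 417], 1, 3, [[], [2, 1,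 2, 1, 2, 0, 0, 2, 1, 2, 1, 2, 0, 2, 0, 2, 0, 0, 2], [2, 0, 2, 0, 0, 2, 0, 2, 1, 2, 1, 2, 0, 2, 0, 2, 1], [1, 2, 1, 2, 0, 2, 1, 2, 1, 2, 0, 2, 1, 2, 0, 0]]⟩, ⟨2, [480, 190, 200, 246, 244, 250, 244, 417], 1, 3, [[], [0, 0, 2, 1, 2, 1, 2, 0, 2, 0, 2, 1, 2, 1, 2, 1, 2, 0, 0], [2, 0, 0, 2, 0, 2, 0, 0, 2, 0, 0, 2, 0, 2, 0, 2, 0, 2, 0, 0, 2], [2, 0, 2, 0, 2, 1, 2, 1, 2, 0, 0, 2, 1, 2, 0, 2]]⟩, ⟨3, [1239, 282], 2, 0, [[], []]⟩, ⟨2, [416, 250, 234, 245, 250, 417, 283, 673], 1, 2, [[], [1, 2, 1, 2, 0, 2, 0, 0, 2, 0, 0, 2, 0, 0, 2, 0, 2, 1, 2, 1], [0, 0, 2, 1, 2, 0, 0, 2, 0, 2, 0, 2, 0, 2, 0, 2, 0, 2, 0, 2, 0], [0, 2, 0, 2, 0, 2, 0, 0, 2, 1, 2, 1, 2, 0, 2,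 1, 2, 0, 0, 2, 1]]⟩, ⟨3, [1243, 283], 2, 0, [[], []]⟩, ⟨2, [282, 686, 283, 382, 234, 238, 250, 417], 1, 0, [[], [0, 2, 1, 2, 0, 2, 0, 0, 2, 0, 2], [0, 2, 0, 2, 1, 2, 1, 2, 0, 0, 2, 1, 2, 0, 2, 1, 2, 0, 2, 0], [0, 0, 2, 0, 0, 2, 1, 2, 1, 2, 1, 2, 1, 2, 0, 2, 1, 2, 0, 0, 2]]⟩, ⟨2, [282, 506, 283, 418], 0, 2, [[], [2, 1, 2, 0, 0, 2, 0, 2, 0, 2, 1, 2, 1, 2, 0, 2, 0, 2], [1, 2, 1, 2, 0, 2, 0, 2, 0, 0, 2, 0, 0, 2, 1, 2, 0, 2, 1, 2, 0, 0]]⟩, ⟨2, [283, 418, 843], 0, 1, [[], [0, 2, 0, 0, 2, 1, 2, 0, 2, 0, 2, 0, 0, 2, 1, 2, 0, 0, 2, 1, 2], [0, 2, 1, 2, 1, 2, 0, 0, 2, 1, 2, 0, 2, 0, 2, 0, 2, 0, 2]]⟩, ⟨2, [282, 418, 283, 849], 0, 1, [[], [1, 2, 0, 0, 2, 1, 2,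 0, 0, 2, 0, 2, 1, 2, 1, 2, 1, 2, 0, 0], [0, 2, 0, 2, 0, 2, 1, 2, 1, 2, 1, 2, 0, 0, 2, 0, 2, 0]]⟩, ⟨2, [282, 418, 282, 506], 0, 1, [[], [2, 1, 2, 1, 2, 0, 0, 2, 0, 0, 2, 0, 2, 0, 2, 1, 2, 1, 2, 1, 2, 0], [1, 2, 0, 2, 0, 0, 2, 0, 0, 2, 0, 2, 1, 2, 0, 2, 0, 0, 2, 0, 0, 2]]⟩, ⟨2, [282, 418, 283, 851], 0, 1, [[], [0, 2, 0, 2, 0, 2, 1, 2, 0, 0, 2, 0, 2, 0, 2, 1, 2, 1, 2, 0, 0, 2, 1], [1, 2, 0, 2, 0, 2, 0, 0, 2, 1, 2, 0, 2, 1, 2, 1, 2, 0]]⟩, ⟨2, [283, 850, 282, 418], 0, 2, [[], [0, 2, 0, 0, 2, 0, 2, 0, 2, 0, 2, 0, 0, 2, 0, 2, 0, 2, 0], [2, 1, 2, 0, 0, 2, 1, 2, 0, 2, 0, 0, 2, 0, 2, 1, 2, 1, 2, 0, 0]]⟩, ⟨2, [700, 418], 0, 2, [[], [0, 2, 0, 0, 2, 0, 0, 2,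 0, 0, 2, 1, 2, 0, 0, 2, 0, 2, 0, 2, 0, 2], [1, 2, 0, 0, 2, 0, 0, 2, 1, 2, 0, 0, 2, 0, 2, 0, 2, 1, 2, 1]]⟩, ⟨2, [283, 872, 282, 418, 623], 1, 2, [[], [1, 2, 0, 0, 2, 1, 2, 1, 2, 0, 0, 2, 0, 0, 2, 0, 2, 0, 0, 2, 0], [0, 2, 0, 2, 1, 2, 1, 2, 0, 2, 0, 2, 1, 2, 1, 2, 0, 2, 0], [2, 0, 2, 1, 2, 1, 2, 0, 2, 0, 2, 1, 2, 0, 2, 1, 2, 0, 2, 1, 2, 0, 0]]⟩, ⟨3, [1263, 282], 2, 0, [[], []]⟩, ⟨2, [418, 282, 1118, 1213], 1, 2, [[], [2, 1, 2, 0, 0, 2, 1, 2, 0, 0, 2, 0, 2, 0, 0, 2, 0], [1, 2, 0, 0, 2, 0, 2, 0, 2, 0, 2, 0, 0, 2, 1, 2, 0, 0, 2, 0, 0], [2, 0, 2, 1, 2, 0, 0, 2, 0, 2, 0, 2, 0, 0]]⟩, ⟨3, [1267, 282], 2, 0, [[], []]⟩, ⟨2, [282, 1212, 1256, 283, 418], 1, 0,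 [[], [0, 2, 0, 2, 1, 2, 0, 2, 0, 0, 2, 0, 0, 2, 0, 0, 2, 0, 0], [2, 0, 2, 0, 2, 1, 2, 0, 0, 2, 1, 2, 1], [2, 0, 2, 0, 2, 1, 2, 0, 0, 2, 1, 2, 0, 2, 1, 2, 1, 2, 0, 2, 0, 0]]⟩, ⟨2, [282, 966, 283, 418, 283, 1255], 1, 3, [[], [0, 2, 0, 0, 2, 0, 2, 1, 2, 0, 0, 2, 0, 2, 0, 2, 0, 0], [0, 2, 1, 2, 0, 0, 2, 0, 0, 2, 0, 2, 0, 2, 0, 2, 1, 2, 0, 0], [0, 2, 0, 2, 1, 2, 0, 0, 2, 0, 2, 0, 2, 0, 2, 0, 2]]⟩, ⟨2, [282, 590, 282, 418, 282, 1020], 1, 3, [[], [2, 1, 2, 1, 2, 1, 2, 1, 2, 0, 2, 1, 2, 0, 0, 2, 1, 2, 0], [0, 2, 1, 2, 1, 2, 1, 2, 0, 0, 2, 0, 2, 1, 2, 0, 0], [0, 2, 0, 2, 0, 2, 1, 2, 0, 0, 2, 1, 2, 0, 2, 0, 0, 2, 0]]⟩, ⟨2, [282, 734, 282, 690, 420], 1, 3,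 [[], [1, 2, 0, 2, 1, 2, 0, 2, 0, 2, 0, 2, 0, 0, 2, 1, 2, 1, 2, 0], [2, 1, 2, 0, 0, 2, 0, 2, 0, 2, 1, 2, 1, 2, 0, 0, 2, 0, 2, 0, 0], [2, 1, 2, 0, 2, 0, 2, 1, 2, 0, 2, 0, 0, 2, 0, 2, 1, 2, 0]]⟩, ⟨3, [1277, 283], 2, 0, [[], []]⟩, ⟨2, [283, 1050, 283, 420, 282, 1260], 1, 2, [[], [2, 0, 0, 2, 0, 0, 2, 0, 2, 1, 2, 1, 2, 0, 2, 0, 2, 1, 2, 0], [0, 0, 2, 0, 0, 2, 0, 0, 2, 1, 2, 1, 2, 0, 2, 0, 2, 1, 2, 1, 2], [0, 2, 1, 2, 1, 2, 0, 2, 1, 2, 1, 2, 0, 2, 0, 0, 2]]⟩, ⟨2, [282, 328, 543, 420], 1, 3, [[], [2, 1, 2, 1, 2, 1, 2, 0, 0, 2, 0, 0, 2, 1, 2, 0, 2, 1, 2, 0, 0, 2, 1], [2, 0, 2, 1, 2, 0, 2, 1, 2, 1, 2, 1, 2, 1, 2, 0, 2, 0], [2, 0, 2, 0, 2, 0, 2, 1, 2, 0, 2,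 0, 0, 2, 1, 2, 1, 2, 1, 2, 0, 0]]⟩, ⟨2, [282, 452, 282, 878, 282, 420], 1, 0, [[], [0, 2, 0, 2, 0, 0, 2, 0, 2, 0, 2, 0, 0, 2, 0, 0, 2, 1, 2, 1, 2], [2, 0, 2, 1, 2, 0, 0, 2, 0, 2, 0, 0, 2, 0, 0, 2, 1], [0, 0, 2, 1, 2, 0, 0, 2, 1]]⟩, ⟨2, [283, 376, 422], 0, 2, [[], [0, 2, 0, 0, 2, 0, 2, 0, 2, 1, 2, 0, 0, 2, 1, 2, 0, 2, 1, 2, 0, 2, 0], [2, 1, 2, 0, 2, 0, 2, 0, 2, 0, 2, 1, 2, 0, 0, 2, 0, 0, 2, 0, 0]]⟩, ⟨2, [283, 792, 282, 422], 0, 2, [[], [1, 2, 1, 2, 0, 2, 0, 2, 1, 2, 0, 2, 0, 2, 0, 0], [1, 2, 0, 2, 0, 0, 2, 0, 0, 2, 0, 2, 1]]⟩, ⟨2, [282, 422, 282, 352, 283, 868], 1, 1, [[], [1, 2, 0, 2, 1, 2, 0, 2, 1, 2, 0, 2, 0, 2, 1, 2, 0, 2, 1], [2, 0, 0, 2, 0,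 2, 0, 0, 2, 0, 2, 1, 2, 1, 2, 0, 2, 0, 2, 0], [2, 0, 0, 2, 0, 2, 0, 2, 0, 0, 2, 1, 2, 0, 0, 2, 1, 2, 0]]⟩, ⟨3, [1291, 282], 2, 0, [[], []]⟩, ⟨2, [283, 880, 282, 649, 422], 1, 3, [[], [2, 1, 2, 1, 2, 1, 2, 0, 2, 0, 2, 0, 2, 0, 2, 0, 2], [1, 2, 0, 2, 0, 2, 0, 2, 0, 0, 2, 0, 0, 2, 0, 0], [0, 0, 2, 0, 0, 2, 0, 2, 1, 2, 1, 2, 1, 2, 1, 2, 0, 0, 2, 0, 2]]⟩, ⟨2, [576, 283, 422, 283, 1083], 1, 2, [[], [0, 2, 0, 2, 0, 2, 0, 2, 1, 2, 1, 2, 1, 2, 0, 2, 1], [0, 2, 1, 2, 0, 2, 1, 2, 0, 2, 1, 2, 0, 2, 1, 2, 0, 2, 0, 2], [2, 0, 2, 1, 2, 1, 2, 1, 2, 0, 2, 0, 2, 1, 2, 1, 2, 0, 2]]⟩, ⟨2, [422, 437, 283, 355], 1, 2, [[], [0, 0, 2, 1, 2, 1, 2, 0, 2, 0, 2, 1, 2, 0, 2,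 1, 2, 0, 0], [0, 0, 2, 0, 0, 2, 0, 0, 2, 0, 2, 1, 2, 1, 2, 1, 2, 1, 2, 1], [1, 2, 0, 0, 2, 0, 0, 2, 1, 2, 0, 0, 2, 0, 2, 0, 2, 1, 2, 0]]⟩, ⟨3, [1299, 282], 2, 0, [[], []]⟩, ⟨2, [282, 422, 283, 349, 79, 71, 81, 181], 1, 2, [[], [0, 2, 0, 2, 0, 2, 1, 2, 0, 0, 2, 1, 2, 1, 2, 1, 2], [0, 0, 2, 0, 2, 1, 2, 0, 2, 1, 2, 0], [1, 2, 0, 2, 0, 0, 2, 1, 2, 0, 2, 0, 2, 1, 2, 0, 0, 2, 1, 2, 0]]⟩, ⟨3, [1303, 165, 153, 153], 2, 0, [[], []]⟩, ⟨2, [914, 283, 424], 0, 2, [[], [2, 0, 2, 0, 2, 1, 2, 0, 2, 0, 2, 1, 2, 1, 2, 0, 2, 0, 2, 0, 2, 0], [2, 0, 2, 1, 2, 0, 0, 2, 0, 2, 0, 0, 2, 0]]⟩, ⟨2, [282, 948, 424], 0, 2, [[], [1, 2, 1, 2, 0, 2, 0, 2, 1, 2, 1, 2, 0, 2, 1, 2,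 1, 2, 0, 0, 2, 1], [0, 2, 0, 2, 0, 0, 2, 0, 2, 0, 0, 2, 0, 2, 0, 2, 0, 2, 0]]⟩, ⟨2, [283, 424, 516], 0, 1, [[], [1, 2, 1, 2, 0, 0, 2, 0, 2, 1, 2, 0, 2, 0, 2, 0, 0, 2, 1, 2, 0, 2], [1, 2, 0, 2, 1, 2, 0, 2, 0, 2, 1, 2, 0, 0, 2, 0, 0, 2, 0, 2, 0, 0]]⟩, ⟨2, [1141, 424], 0, 2, [[], [2, 0, 2, 1, 2, 0, 0, 2, 1, 2, 1, 2, 0, 0, 2, 1, 2, 0, 2, 0], [0, 0, 2, 1, 2, 0, 2, 1, 2, 1, 2, 0, 2, 0, 2, 0, 0, 2, 1]]⟩, ⟨2, [426, 1049, 283, 849], 1, 1, [[], [0, 2, 0, 0, 2, 1, 2, 0, 2, 0, 2, 0, 0, 2, 0, 2, 0, 2, 1, 2, 0], [1, 2, 0, 2, 0, 2, 0, 0, 2, 0, 2, 0, 2, 0, 2, 0, 0, 2, 0, 0], [0, 2, 1, 2, 0, 2, 0, 0, 2, 1, 2, 1, 2, 0, 2, 1]]⟩] 593 658 = true := by decide +kernel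
theorem dd_c9 : dd.checks [⟨2, [426, 282, 1259, 299], 1, 1, [[], [1, 2, 0, 0, 2, 1, 2, 0, 2, 0, 2, 0, 2, 0, 2, 1, 2, 0, 2, 1], [0, 2, 0, 2, 0, 0, 2, 0, 0, 2, 0, 2, 1, 2, 0, 2, 0, 0], [0, 0, 2, 0, 0, 2, 1, 2, 0, 2, 0, 2, 0, 0, 2, 1, 2]]⟩, ⟨2, [283, 486, 426, 283, 421], 1, 2, [[], [2, 1, 2, 0, 2, 0, 0, 2, 0, 2, 0, 2, 1], [2, 0, 2, 0, 2, 0, 0, 2, 0, 0, 2, 0, 2, 0, 2, 1, 2, 0, 2, 0], [1, 2, 0, 2, 1, 2, 0, 2, 0, 2, 1, 2, 0, 0, 2]]⟩, ⟨2, [283, 832, 426, 316], 1, 2, [[], [0, 2, 0, 2, 0, 2, 0, 2, 1, 2, 0, 2, 1, 2, 1, 2, 0, 0, 2, 1, 2, 0], [2, 0, 2, 0, 2, 1, 2, 0, 0, 2, 0, 0, 2, 0, 2, 0, 2, 0, 0], [1, 2, 1, 2, 0, 0, 2, 0, 2, 0, 2, 1, 2, 1, 2, 0, 0]]⟩, ⟨3,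 [1321, 71, 99], 2, 0, [[], []]⟩, ⟨2, [1276, 946, 426], 1, 3, [[], [1, 2, 1, 2, 1, 2, 1, 2, 1, 2, 0, 2, 0, 0, 2, 0, 2], [1, 2, 0, 2, 0, 2, 0, 0, 2, 0, 2, 0, 2, 0, 2, 0, 0, 2], [0, 0, 2, 0, 2, 0, 2, 1, 2, 1, 2, 0, 2, 0, 2, 1, 2, 1, 2]]⟩, ⟨2, [1068, 1182, 426], 1, 3, [[], [2, 0, 2, 0, 2, 0, 2, 1, 2, 0, 2, 1, 2, 1, 2, 0, 2, 0], [0, 2, 0, 2, 1, 2, 1, 2, 0, 2, 0, 2, 0, 0, 2, 0, 0, 2, 0, 0], [2, 0, 2, 1, 2, 0, 2, 0, 2, 0, 0, 2, 1, 2, 0, 2, 0, 2]]⟩, ⟨2, [283, 426, 282, 1279, 1007], 1, 1, [[], [1, 2, 1, 2, 0, 2, 0, 0, 2, 0, 0, 2, 0, 0, 2, 0, 0, 2], [0, 0, 2, 0, 2, 1, 2, 1, 2, 1, 2, 1, 2, 0, 0, 2, 1, 2, 1, 2, 1], [1, 2, 0, 0, 2, 1, 2, 0, 2, 1, 2, 0, 0, 2,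 0, 2, 0, 0, 2, 0]]⟩, ⟨2, [282, 426, 283, 780, 282, 711], 1, 1, [[], [2, 0, 2, 1, 2, 0, 2, 0, 2, 0, 2, 0, 2, 1], [2, 0, 0, 2, 0, 0, 2, 0, 2, 0, 0, 2, 0, 0, 2, 0, 2, 0, 2, 0, 0], [0, 2, 1, 2, 0, 2, 0, 2, 1, 2, 0, 0, 2, 1, 2, 1, 2, 1, 2]]⟩, ⟨3, [1331, 283], 2, 0, [[], []]⟩, ⟨2, [283, 426, 1310, 1269], 1, 1, [[], [2, 0, 2, 1, 2, 1, 2, 1, 2, 1, 2, 1, 2, 1, 2, 1, 2, 1, 2, 0, 0], [2, 0, 2, 0, 2, 0, 0, 2, 0, 0, 2, 1, 2, 0, 0, 2, 0, 2, 0, 2, 0], [2, 0, 2, 1, 2, 0, 2, 1, 2, 1, 2, 0, 2, 0, 0, 2, 0, 0, 2, 0, 2, 0]]⟩, ⟨3, [1335, 282], 2, 0, [[], []]⟩, ⟨2, [283, 1168, 282, 1298, 283, 426], 1, 3, [[], [1, 2, 0, 0, 2, 0, 2, 0, 2, 0, 2, 1, 2, 1, 2, 0, 2, 0, 2], [0,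 0, 2, 0, 2, 0, 0, 2, 0, 2, 1, 2, 1, 2, 0, 2, 0, 2], [0, 0, 2, 0, 0, 2, 0, 2, 0, 2, 0, 2, 1, 2, 1, 2, 0, 2]]⟩, ⟨2, [426, 957, 283, 1017], 1, 1, [[], [1, 2, 0, 0, 2, 0, 2, 0, 0, 2, 0, 2, 1, 2, 1, 2, 0, 0], [1, 2, 0, 2, 0, 0, 2, 1, 2, 0, 2, 0, 2, 0, 0, 2, 0, 2], [2, 1, 2, 0, 2, 0, 2, 1, 2, 0, 2, 0, 2, 0, 0, 2, 1, 2, 0, 2]]⟩, ⟨2, [283, 582, 283, 426, 282, 1314], 1, 2, [[], [1, 2, 0, 2, 1, 2, 1, 2, 1, 2, 0], [2, 0, 2, 0, 2, 0, 2, 1, 2, 1, 2, 1, 2, 0, 2, 0, 0, 2, 1, 2, 1, 2, 0], [1, 2, 0, 0, 2, 0, 0, 2, 0, 0, 2, 0, 2, 1, 2, 1, 2, 0, 2, 1, 2]]⟩, ⟨3, [1343, 283], 2, 0, [[], []]⟩, ⟨2, [283, 954, 426, 282, 483], 1, 2, [[], [1, 2, 0, 2, 1, 2, 1, 2, 0, 2, 0,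 0, 2, 0, 2, 0, 0, 2, 0, 2, 1, 2, 0, 0], [2, 1, 2, 0, 0, 2, 1, 2, 0, 0, 2, 0, 2, 0, 2, 0, 2, 0, 0], [0, 0, 2, 0, 2, 0, 0, 2, 0, 2, 0, 2, 1, 2, 1, 2, 1, 2, 0, 2, 0, 0]]⟩, ⟨2, [924, 426, 283, 1017], 1, 2, [[], [2, 1, 2, 0, 2, 0, 2, 0, 2, 0, 0, 2, 1, 2, 1, 2, 1, 2, 0, 2, 0, 2, 0], [0, 0, 2, 0, 0, 2, 0, 0, 2, 1, 2, 1, 2, 0, 2, 0, 0, 2, 1], [0, 2, 0, 2, 0, 2, 1, 2, 0, 0, 2, 0, 2, 0, 2, 1, 2, 0, 0, 2]]⟩, ⟨3, [1349, 283], 2, 0, [[], []]⟩, ⟨2, [282, 542, 426, 442], 1, 2, [[], [1, 2, 0, 2, 0, 0, 2, 0, 2, 1, 2, 1, 2, 1, 2, 0, 0, 2, 1, 2], [2, 1, 2, 0, 2, 0, 2, 0, 2, 0, 0, 2, 1, 2, 0, 0, 2, 0, 2, 1, 2], [0, 2, 0, 2, 0, 0, 2, 0, 2, 0, 0, 2, 0, 2, 1, 2, 1, 2,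 0, 0]]⟩, ⟨3, [1353, 79, 71, 81], 2, 0, [[], []]⟩, ⟨2, [282, 1082, 282, 426, 282, 1215], 1, 3, [[], [2, 1, 2, 0, 0, 2, 0, 2, 0, 0, 2, 1, 2, 0, 2, 1, 2, 0, 0, 2, 1, 2], [0, 0, 2, 0, 0, 2, 0, 0, 2, 0, 2, 1, 2, 1, 2, 0, 0, 2, 1], [2, 0, 2, 0, 0, 2, 0, 2, 1, 2, 0, 2, 0, 2, 0, 0, 2, 1, 2, 1, 2, 0, 0]]⟩, ⟨2, [758, 283, 426, 282, 723], 1, 3, [[], [1, 2, 0, 0, 2, 0, 2, 0, 0, 2, 1, 2, 1, 2, 0, 2, 0, 0], [2, 1, 2, 1, 2, 0, 2, 1, 2, 0, 0, 2, 0, 2, 1, 2, 0, 2, 1, 2], [0, 0, 2, 0, 2, 0, 0, 2, 0, 0, 2, 0, 2, 1, 2, 0, 2, 0]]⟩, ⟨3, [1359, 283], 2, 0, [[], []]⟩, ⟨2, [426, 715, 283, 517], 1, 2, [[], [2, 0, 0, 2, 0, 2, 1, 2, 1, 2, 0, 0, 2, 0, 0, 2, 1, 2, 0, 2, 0, 0],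 [1, 2, 0, 2, 1, 2, 0, 2, 0, 0, 2, 1, 2, 0, 2, 0], [0, 2, 1, 2, 0, 2, 0, 2, 0, 0, 2, 1, 2, 0, 2, 0, 2, 0, 0, 2, 0, 0]]⟩, ⟨3, [1363, 282], 2, 0, [[], []]⟩, ⟨2, [1062, 282, 766, 426], 1, 0, [[], [2, 0, 2, 0, 2, 1, 2, 0, 2, 0, 2, 1, 2, 1, 2, 0, 2, 0, 2, 0, 0], [2, 1, 2, 0, 0, 2, 0, 0, 2, 1, 2, 1, 2, 1, 2, 0, 0, 2, 1, 2], [0, 0, 2, 1, 2, 0, 0, 2, 0, 0, 2, 0, 2, 0, 0, 2, 1, 2, 0]]⟩, ⟨2, [768, 1358, 282, 426], 1, 0, [[], [2, 0, 2, 0, 2, 0, 2, 0, 2, 1, 2, 1, 2, 1, 2, 0, 2, 0], [1, 2, 1, 2, 0, 0, 2, 1, 2, 1, 2, 1, 2, 1, 2, 0], [2, 0, 2, 0, 2, 1, 2, 1, 2, 1, 2, 0, 0, 2, 0, 0, 2, 1, 2, 0, 2]]⟩, ⟨2, [852, 282, 426, 282, 319], 1, 3, [[], [2, 1, 2, 0, 2, 0, 2,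 0, 2, 0, 0, 2, 0, 2, 0, 2, 0, 0], [1, 2, 0, 0, 2, 0, 0, 2, 1, 2, 0, 2, 0, 2, 1], [1, 2, 0, 0, 2, 1, 2, 0, 2, 1, 2, 0, 2, 0, 2, 1, 2, 0, 2]]⟩, ⟨2, [520, 190, 201, 208, 428], 0, 2, [[], [1, 2, 1, 2, 0, 2, 1, 2, 0, 0, 2, 1, 2, 1, 2, 0, 0, 2, 0, 2, 1], [0, 0, 2, 0, 2, 0, 2, 1, 2, 1, 2, 0, 0, 2, 1, 2, 1, 2]]⟩, ⟨2, [282, 430, 191, 221, 209, 428], 0, 2, [[], [2, 1, 2, 0, 2, 0, 2, 0, 2, 0, 2, 1, 2, 0, 2, 1, 2, 1], [2, 1, 2, 0, 2, 0, 2, 1, 2, 0, 0, 2, 0, 0, 2, 0, 2, 0]]⟩, ⟨2, [324, 208, 220, 428], 0, 2, [[], [0, 0, 2, 0, 2, 0, 2, 0, 2, 0, 2, 1, 2, 0, 0, 2, 0, 2, 0, 2], [1, 2, 1, 2, 0, 2, 1, 2, 0, 0, 2, 0, 0, 2, 1, 2, 1, 2, 0, 0, 2]]⟩, ⟨3, [1377, 283], 2,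 0, [[], []]⟩, ⟨2, [430, 191, 222, 191, 208, 221, 428], 1, 3, [[], [2, 1, 2, 1, 2, 0, 2, 0, 2, 0, 0, 2, 1, 2, 0], [2, 0, 0, 2, 0, 0, 2, 0, 2, 0, 0, 2, 0, 2, 0, 2, 0], [2, 1, 2, 1, 2, 1, 2, 0, 0, 2, 1, 2, 1, 2, 0, 0, 2, 0, 2, 0]]⟩, ⟨2, [282, 586, 190, 220, 195, 428, 283, 313], 1, 2, [[], [1, 2, 0, 2, 0, 0, 2, 0, 0, 2, 1, 2, 1, 2, 0, 0, 2, 0, 2, 0, 0], [0, 2, 0, 2, 0, 2, 1, 2, 1, 2, 0, 2, 0, 2, 0, 0, 2, 0, 0, 2, 1], [0, 0, 2, 0, 0, 2, 0, 2, 1, 2, 0, 2, 1, 2, 0, 2, 1, 2, 0, 2, 0, 0]]⟩, ⟨2, [1126, 283, 430, 200, 553], 1, 2, [[], [0, 2, 0, 0, 2, 0, 2, 1, 2, 1, 2, 1, 2, 1, 2, 1], [1, 2, 0, 2, 0, 2, 0, 0, 2, 0, 2, 1, 2, 0, 2, 0, 0], [2, 1, 2, 0, 2, 0, 2,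 1, 2, 1, 2, 1, 2, 1]]⟩, ⟨2, [188, 220, 288, 282, 1106, 283, 430], 1, 3, [[], [0, 0, 2, 1, 2, 1, 2, 0, 2, 0, 2, 0, 2, 1, 2, 0, 0, 2, 0, 0], [2, 1, 2, 0, 2, 0, 2, 1, 2, 1, 2, 0, 0, 2, 1, 2, 0], [1, 2, 1, 2, 1, 2, 0, 0, 2, 1, 2, 0, 2, 1, 2, 1, 2, 0]]⟩, ⟨2, [283, 666, 430, 209, 209, 194, 191, 587], 1, 2, [[], [2, 1, 2, 0, 2, 0, 0, 2, 1, 2, 1, 2, 0, 2, 0, 0, 2, 0, 2, 1], [0, 2, 0, 2, 1, 2, 0, 0, 2, 0, 2, 0, 0, 2, 0, 2, 0, 2, 0], [2, 0, 2, 1, 2, 0, 2, 0, 0, 2, 1, 2, 1, 2, 1, 2, 1, 2, 0, 0]]⟩, ⟨3, [1389, 283], 2, 0, [[], []]⟩, ⟨2, [283, 1226, 283, 432], 0, 2, [[], [1, 2, 1, 2, 0, 2, 1, 2, 0, 2, 0, 2, 0, 0, 2, 0, 2, 1, 2, 0, 0], [2, 0, 2, 0, 2, 1, 2, 0,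 0, 2, 0, 0, 2, 0, 0, 2, 0, 2]]⟩, ⟨2, [282, 432, 1339], 0, 1, [[], [0, 2, 0, 0, 2, 0, 2, 0, 0, 2, 0, 2, 1, 2, 1, 2, 0, 2, 0, 2], [2, 1, 2, 0, 2, 1, 2, 0, 2, 0, 0, 2, 0, 0, 2, 1, 2, 0]]⟩, ⟨2, [434, 283, 1337], 0, 1, [[], [1, 2, 0, 2, 1, 2, 0, 0, 2, 0, 0, 2], [2, 0, 2, 0, 2, 0, 0, 2, 1, 2, 0, 2, 0, 0, 2, 0, 2, 0, 0]]⟩, ⟨3, [1397, 282], 2, 0, [[], []]⟩, ⟨2, [1044, 282, 362, 283, 434], 1, 0, [[], [1, 2, 0, 0, 2, 0, 2, 0, 0, 2, 1, 2, 1, 2], [0, 2, 0, 0, 2, 0, 0, 2, 1, 2, 0, 0, 2, 1, 2, 0, 2], [2, 1, 2, 0, 2, 0, 0, 2, 0, 0, 2, 0, 0, 2, 0, 2, 1, 2, 1, 2, 0]]⟩, ⟨2, [282, 1183, 283, 1026, 283, 434], 1, 0, [[], [2, 1, 2, 1, 2, 0, 2, 0, 2, 1, 2, 0, 2, 0, 0,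 2, 0, 2, 1, 2, 0], [0, 0, 2, 0, 2, 0, 2, 0, 0, 2, 0, 2, 1, 2, 0, 0], [0, 2, 0, 2, 0, 0, 2, 0, 2, 1, 2, 1, 2, 0, 0, 2, 0, 0, 2]]⟩, ⟨2, [360, 283, 434, 280], 1, 3, [[], [2, 0, 2, 0, 0, 2, 1, 2, 0, 2, 0, 2, 1, 2, 0, 0, 2, 1, 2, 1], [2, 0, 2, 0, 2, 1, 2, 1, 2, 1, 2, 1, 2, 0, 2, 0, 0, 2, 0], [1, 2, 1, 2, 0, 2, 1, 2, 0, 2, 1, 2, 0, 0, 2, 0, 2, 0, 2, 1]]⟩, ⟨3, [1405, 61, 56, 51], 2, 0, [[], []]⟩, ⟨2, [283, 1360, 282, 436, 283, 1287], 1, 3, [[], [2, 0, 0, 2, 1, 2, 1, 2, 0, 2, 0, 0, 2, 0, 0, 2, 0, 2, 1, 2, 0], [0, 0, 2, 1, 2, 1, 2, 0, 0, 2, 0, 2, 0, 0, 2, 0, 0, 2, 0, 0, 2, 0], [1, 2, 1, 2, 1, 2, 1, 2, 0, 0, 2, 0, 0, 2, 0, 0, 2, 0, 2, 0]]⟩, ⟨2, [283, 794,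 282, 436, 335], 1, 3, [[], [2, 1, 2, 1, 2, 1, 2, 0, 2, 0, 2, 1, 2, 0, 2, 0, 0, 2, 1], [0, 0, 2, 0, 2, 1, 2, 0, 0, 2, 1, 2, 0, 2, 0, 0], [2, 0, 0, 2, 1, 2, 0, 2, 0, 2, 0, 2, 0, 2, 1, 2]]⟩, ⟨3, [1411, 152, 157], 2, 0, [[], []]⟩, ⟨2, [442, 80, 70, 438, 1045], 1, 2, [[], [0, 2, 0, 0, 2, 0, 0, 2, 1, 2, 1, 2, 1, 2, 0, 0, 2, 0, 0, 2], [2, 1, 2, 0, 0, 2, 0, 2, 0, 2, 0, 0, 2, 0, 2, 0, 0, 2, 0, 2, 0], [2, 1, 2, 1, 2, 1, 2, 0, 2, 0, 2, 1, 2, 1, 2, 0]]⟩, ⟨3, [1415, 282], 2, 0, [[], []]⟩, ⟨2, [70, 78, 98, 438, 282, 1174, 1097], 1, 1, [[], [0, 2, 1, 2, 0, 2, 1, 2, 0, 0, 2, 0, 0, 2, 1, 2, 1, 2, 0, 0, 2, 1], [2, 1, 2, 0, 0, 2, 0, 2, 0, 2, 0, 0, 2, 0, 0, 2, 0, 2,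 1], [0, 2, 1, 2, 1, 2, 0, 2, 0, 2, 1, 2, 0, 0, 2, 0, 0, 2, 1, 2, 0, 0]]⟩, ⟨3, [1419, 282], 2, 0, [[], []]⟩, ⟨2, [283, 440, 137], 0, 1, [[], [2, 1, 2, 1, 2, 0, 2, 1, 2, 0, 2, 0, 2, 0, 2, 0, 2, 0, 2, 1], [1, 2, 0, 0, 2, 1, 2, 0, 2, 1, 2, 0, 0, 2, 0, 0, 2, 1, 2, 0]]⟩, ⟨3, [1423, 79, 71, 81, 79], 2, 0, [[], []]⟩, ⟨2, [1124, 440], 0, 2, [[], [1, 2, 1, 2, 1, 2, 0, 2, 1, 2, 1], [0, 0, 2, 1, 2, 0, 0, 2, 0, 0, 2, 0, 0, 2, 1, 2, 1, 2, 0, 0, 2, 0]]⟩, ⟨3, [1427, 99, 79], 2, 0, [[], []]⟩, ⟨2, [283, 440, 79, 99, 79, 1425], 0, 1, [[], [0, 2, 1, 2, 0, 2, 0, 0, 2, 0, 0, 2, 1, 2, 1, 2, 0, 2, 0, 0], [2, 0, 0, 2, 0, 0, 2, 0, 0, 2, 0, 2, 1, 2, 1, 2, 0, 2, 1, 2]]⟩, ⟨2,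 [1136, 442, 79, 71, 81, 71, 1037], 1, 3, [[], [2, 0, 0, 2, 1, 2, 0, 2, 1, 2, 1], [1, 2, 0, 2, 1, 2, 0, 2, 0, 2, 1, 2, 1, 2, 0, 2, 0, 2, 0, 0], [2, 0, 2, 0, 2, 0, 2, 0, 2, 1, 2, 0, 0, 2, 1, 2]]⟩, ⟨2, [282, 1354, 78, 70, 80, 443, 1319], 1, 3, [[], [0, 0, 2, 0, 2, 0, 2, 0, 2, 0, 2, 0, 2, 0, 2, 1, 2, 0, 2, 0], [1, 2, 0, 2, 0, 0, 2, 0, 2, 0, 2, 1, 2, 0, 2, 0, 0, 2, 0, 2, 1, 2, 0], [0, 0, 2, 0, 2, 0, 0, 2, 1, 2, 1, 2, 0]]⟩, ⟨2, [282, 444, 544, 283, 444], 1, 0, [[], [2, 1, 2, 1, 2, 0, 2, 0, 2, 1, 2, 0, 2, 1, 2, 1, 2, 1], [0, 0, 2, 1, 2, 0, 0, 2, 0, 0, 2, 0, 0, 2, 0, 0, 2, 1, 2, 0, 2, 1], [0, 2, 0, 0, 2, 0, 0, 2, 0, 2, 0, 0, 2, 0, 2, 0, 2, 0, 2, 1, 2, 1]]⟩,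 ⟨2, [800, 283, 1012, 283, 444], 1, 0, [[], [1, 2, 0, 2, 0, 0, 2, 0, 2, 1, 2, 0, 0, 2, 0, 0, 2, 0, 0, 2, 1, 2, 0, 0], [0, 2, 0, 2, 0, 0, 2, 0, 0, 2, 1, 2, 1, 2, 0, 2, 0, 2, 0, 2, 0], [2, 0, 2, 1, 2, 0, 2, 0, 0, 2, 1, 2, 0, 0, 2]]⟩, ⟨3, [1439, 282], 2, 0, [[], []]⟩, ⟨2, [444, 283, 385, 251, 244, 235, 251, 238, 417], 1, 2, [[], [1, 2, 0, 2, 1, 2, 0, 0, 2, 1, 2, 0, 2, 1, 2, 1, 2, 0, 2, 0, 0], [1, 2, 1, 2, 1, 2, 0, 2, 0, 0, 2, 0, 2, 0, 2, 1, 2, 0, 0], [2, 0, 0, 2, 1, 2, 1, 2, 1, 2, 0, 2, 0, 2, 0, 2, 1, 2, 0]]⟩] 658 722 = true := by decide +kernel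

end Cfsg.Agent.J4C.C
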