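import Cfsg.Agent.J4C.C.DceD0

set_option autoImplicit false
set_option Elab.async false
set_option maxRecDepth 100000
set_option linter.all false

namespace Cfsg.Agent.J4C.C
open Cfsg.Agent.CGT

theorem dd_c10 : dd.checks [⟨2, [283, 444, 283, 324, 201, 195, 191, 291], 1, 2, [[], [1, 2, 0, 2, 1, 2, 0, 0, 2, 0, 2, 0, 0], [2, 1, 2, 0, 2, 0, 2, 1, 2, 1, 2, 0, 2, 0, 2, 0, 2], [2, 1, 2, 1, 2, 0, 2, 0, 2, 1, 2, 1, 2, 0, 2, 1, 2, 1, 2, 1]]⟩, ⟨2, [282, 1362, 282, 1222, 283, 444], 1, 0, [[], [0, 2, 0, 2, 1, 2, 1, 2, 0, 0, 2, 1, 2, 0, 2, 0, 2, 0, 2, 0, 0], [0, 2, 0, 2, 1, 2, 0, 0, 2, 0, 0, 2, 1, 2, 0, 0, 2, 0, 2, 0], [0, 0, 2, 0, 2, 0, 2, 0, 2, 0, 0, 2, 0, 2, 0,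 2, 1, 2, 0, 2]]⟩, ⟨2, [1382, 282, 446, 282, 299], 1, 2, [[], [0, 0, 2, 1, 2, 1, 2, 0, 2, 0, 0, 2, 1, 2, 0, 0, 2, 0], [1, 2, 1, 2, 0, 2, 1, 2, 0, 0, 2, 1, 2, 0, 2, 1, 2], [0, 2, 0, 2, 1, 2, 0, 0, 2, 0, 0, 2, 1, 2, 0, 0, 2, 0, 2, 0, 0]]⟩, ⟨3, [1449, 282], 2, 0, [[], []]⟩, ⟨2, [282, 448, 282, 365, 563], 1, 1, [[], [0, 2, 1, 2, 0, 2, 1, 2, 0, 0, 2, 1, 2, 0, 2, 0, 2, 0, 2, 0], [2, 1, 2, 0, 0, 2, 0, 0, 2, 0, 0, 2, 0, 0, 2, 0, 2, 1, 2, 1], [2, 0, 2, 1, 2, 0, 0, 2, 0, 0, 2, 0, 0, 2, 1, 2, 1]]⟩, ⟨2, [283, 1210, 283, 448, 282, 851], 1, 2, [[], [0, 2, 1, 2, 0, 2, 0, 2, 0, 0, 2, 0, 2, 0, 0, 2, 0, 2, 0, 2], [2, 1, 2, 1, 2, 0, 2, 1, 2, 1, 2, 0, 2, 0, 2, 0, 0, 2, 0,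 0], [1, 2, 1, 2, 1, 2, 1, 2, 0, 2, 0, 2, 1, 2, 0, 2, 1, 2, 0, 2, 0, 0]]⟩, ⟨2, [450, 853, 283, 1109], 1, 1, [[], [0, 0, 2, 1, 2, 0, 2, 0, 2, 0, 0, 2, 0, 0, 2, 1, 2, 0, 2, 0], [2, 0, 0, 2, 0, 2, 0, 2, 0, 0, 2, 0, 2, 0, 2, 1, 2], [1, 2, 1, 2, 0, 2, 1, 2, 1, 2, 0, 2, 0, 2, 1, 2, 1, 2, 0, 0, 2]]⟩, ⟨3, [1457, 282], 2, 0, [[], []]⟩, ⟨2, [283, 1418, 70, 98, 70, 1426, 450], 1, 3, [[], [0, 0, 2, 0, 0, 2, 1, 2, 0, 0, 2, 0, 0, 2, 0, 2], [2, 1, 2, 1, 2, 0, 2, 0, 2, 1, 2, 1, 2, 0, 2, 0, 2, 1, 2], [0, 2, 0, 2, 0, 2, 0, 0, 2, 1, 2, 1, 2, 0, 2, 1, 2, 0, 0]]⟩, ⟨2, [283, 1222, 282, 450, 282, 1223], 1, 2, [[], [0, 2, 0, 2, 0, 2, 0, 0, 2, 0, 0, 2, 0, 2, 0, 2, 0, 2, 0, 0],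 [2, 0, 2, 1, 2, 1, 2, 0, 0, 2, 0, 2, 1, 2, 1, 2, 0, 0, 2, 0, 0, 2], [2, 1, 2, 1, 2, 0, 2, 0, 2, 1, 2, 1, 2, 0, 0, 2, 0, 0]]⟩, ⟨2, [282, 454, 1201, 282, 787], 1, 1, [[], [2, 0, 2, 0, 2, 1, 2, 0, 2, 1, 2, 0, 2, 0, 2, 0, 0, 2, 0], [1, 2, 1, 2, 0, 2, 1, 2, 0, 0, 2, 0, 0, 2, 1, 2, 1, 2, 0], [2, 0, 0, 2, 0, 2, 0, 2, 0, 2, 1, 2, 0, 0, 2, 0, 2, 0, 0, 2]]⟩, ⟨2, [282, 454, 283, 1326, 282, 454], 1, 3, [[], [1, 2, 0, 2, 0, 0, 2, 0, 2, 0, 2, 0, 2, 1, 2, 1, 2, 1], [1, 2, 1, 2, 1, 2, 0, 0, 2, 0, 2, 0, 2, 1, 2, 0, 0], [1, 2, 0, 0, 2, 1, 2, 0, 2, 0, 0, 2, 1, 2, 1, 2, 0, 2]]⟩, ⟨2, [456, 81, 79, 565, 282, 1117], 1, 1, [[], [0, 2, 0, 2, 1, 2, 0, 0, 2, 0, 2, 0, 2, 1, 2,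 1, 2, 0, 0, 2, 0, 0], [1, 2, 0, 0, 2, 0, 2, 0, 2, 1, 2, 0, 0, 2, 0, 0, 2], [0, 2, 1, 2, 0, 0, 2, 1, 2, 1, 2, 1, 2, 1]]⟩, ⟨3, [1469, 282], 2, 0, [[], []]⟩, ⟨2, [282, 444, 456, 81, 79, 71, 1425], 1, 2, [[], [2, 1, 2, 1, 2, 0, 2, 1, 2, 1, 2, 0, 2, 1, 2, 0, 2, 1, 2, 1, 2], [2, 1, 2, 1, 2, 0, 2, 0, 2, 0, 0, 2, 0, 2, 1, 2, 1], [2, 0, 2, 1, 2, 0, 0, 2, 0, 2, 0, 0, 2, 0, 2, 1, 2, 0]]⟩, ⟨2, [648, 283, 456, 99, 81, 99, 139], 1, 2, [[], [2, 0, 0, 2, 0, 0, 2, 0, 2, 1, 2, 0, 2, 0, 0, 2, 1, 2, 1, 2, 0, 0], [1, 2, 1, 2, 1, 2, 1, 2, 1, 2, 0, 0, 2, 0, 2, 0, 0, 2, 0, 0, 2, 0], [1, 2, 0, 2, 0, 0, 2, 0, 0, 2, 0, 0, 2, 0, 0, 2, 0, 2, 0, 0, 2, 0]]⟩, ⟨3, [1475, 99, 79], 2,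 0, [[], []]⟩, ⟨2, [283, 1286, 282, 456, 81, 71, 79, 71, 1355], 1, 3, [[], [2, 1, 2, 0, 2, 1, 2, 0, 0, 2, 1, 2, 0, 0, 2, 0, 2, 0, 2, 1], [2, 1, 2, 1, 2, 0, 2, 0, 2, 0, 0, 2, 0, 0, 2, 0, 0], [2, 0, 2, 1, 2, 0, 2, 1, 2, 1, 2, 1, 2, 0, 0, 2, 0, 2, 1, 2, 1, 2, 1]]⟩, ⟨2, [282, 534, 460, 282, 1467], 1, 2, [[], [1, 2, 0, 2, 1, 2, 0, 2, 1, 2, 0, 2, 1, 2, 0, 2, 0], [0, 2, 0, 0, 2, 1, 2, 0, 0, 2, 1, 2, 0, 2, 0], [2, 0, 2, 1, 2, 1, 2, 0, 2, 0, 2, 1, 2, 0, 0, 2, 1, 2, 1, 2]]⟩, ⟨3, [1481, 283], 2, 0, [[], []]⟩, ⟨2, [282, 954, 283, 462, 1225], 1, 2, [[], [2, 1, 2, 1, 2, 1, 2, 1, 2, 0, 0, 2, 0, 0, 2, 0], [1, 2, 0, 2, 0, 2, 0, 2, 0, 2, 0, 2, 1], [1, 2, 0, 2, 0, 2, 0,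 2, 0, 0, 2, 0, 2, 1, 2, 0, 0, 2, 0, 0]]⟩, ⟨2, [282, 462, 1441, 282, 1109], 1, 2, [[], [0, 2, 1, 2, 0, 2, 0, 0, 2, 1, 2, 0, 2, 0, 2, 0, 0, 2], [2, 1, 2, 0, 2, 0, 2, 1, 2, 1, 2, 0, 2, 0, 2, 1, 2, 1], [0, 2, 0, 0, 2, 0, 2, 1, 2, 0, 2, 0, 2, 0, 0, 2, 1, 2, 1, 2, 0]]⟩, ⟨2, [283, 1144, 282, 972, 464], 1, 3, [[], [2, 1, 2, 0, 2, 0, 0, 2, 0, 2, 0, 0, 2, 1, 2, 1, 2, 0, 2, 0], [1, 2, 0, 2, 1, 2, 1, 2, 0, 0, 2, 0, 2, 1, 2, 1, 2, 1, 2, 1], [2, 1, 2, 0, 0, 2, 1, 2, 0, 0, 2, 0, 2, 0, 0, 2, 1]]⟩, ⟨2, [1112, 282, 1324, 464], 1, 3, [[], [1, 2, 0, 2, 1, 2, 1, 2, 0, 0, 2, 0, 2, 1, 2, 0, 2, 0, 2], [2, 1, 2, 0, 2, 0, 2, 1, 2, 0, 2, 1, 2, 0, 2, 1, 2], [2, 1, 2, 0, 2, 0, 2,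 0, 2, 1, 2, 1, 2, 1, 2, 1]]⟩, ⟨2, [283, 466, 53, 44, 65, 66, 51, 57, 171], 1, 1, [[], [0, 2, 0, 0, 2, 0, 0, 2, 1, 2, 1, 2, 0, 0, 2, 1, 2, 1, 2], [2, 0, 2, 0, 2, 0, 2, 1, 2, 1, 2, 0, 2, 1, 2, 0], [1, 2, 1, 2, 1, 2, 0, 2, 0, 2, 1, 2, 1, 2]]⟩, ⟨3, [1493, 157, 152, 164], 2, 0, [[], []]⟩, ⟨2, [283, 1058, 466, 49, 57, 49, 171], 1, 3, [[], [2, 0, 2, 1, 2, 0, 2, 0, 2, 1, 2, 0, 0, 2, 0, 0, 2, 1], [2, 0, 2, 0, 2, 1, 2, 1, 2, 1, 2], [1, 2, 1, 2, 1, 2, 0, 2, 0, 2, 0, 0, 2, 0, 2, 0, 2, 1, 2]]⟩, ⟨3, [1497, 164], 2, 0, [[], []]⟩, ⟨2, [156, 165, 153, 170, 67, 468], 0, 2, [[], [1, 2, 1, 2, 0, 2, 0, 2, 0, 2, 0, 0, 2, 0, 2, 1, 2, 0, 0, 2, 1], [1, 2, 0, 2, 0, 2, 0, 2, 0,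 2, 0, 2, 0, 0, 2, 0, 2]]⟩, ⟨2, [583, 283, 1406, 45, 66, 51, 468], 1, 3, [[], [2, 0, 0, 2, 0, 2, 0, 0, 2, 0, 0, 2, 0, 2, 0, 2, 1, 2, 0], [0, 2, 0, 2, 0, 0, 2, 0, 2, 0, 0, 2, 0, 0, 2, 1, 2, 1, 2, 1], [2, 1, 2, 0, 0, 2, 1, 2, 1, 2, 1, 2, 0, 2, 0, 0, 2, 0]]⟩, ⟨2, [280, 44, 61, 67, 468, 282, 1171], 1, 3, [[], [1, 2, 1, 2, 1, 2, 1, 2, 0, 2, 0, 2, 1, 2, 0, 2, 0, 2, 0], [1, 2, 0, 2, 1, 2, 1, 2, 0, 0, 2, 0, 2, 0, 2, 1, 2, 0, 0], [0, 0, 2, 1, 2, 0, 2, 1, 2, 0, 2, 1, 2, 0, 2]]⟩, ⟨3, [1505, 282], 2, 0, [[], []]⟩, ⟨2, [283, 470, 282, 1005, 1047], 1, 2, [[], [0, 0, 2, 0, 0, 2, 1, 2, 0, 0, 2, 0, 2, 0, 2, 0, 0, 2, 0, 0], [1, 2, 1, 2, 0, 0, 2, 0, 2, 0, 2, 0, 2, 0, 2,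 0, 2, 1, 2, 0], [2, 1, 2, 1, 2, 1, 2, 0, 0, 2, 1, 2, 0, 2, 1, 2, 0, 2, 0, 2, 0, 0, 2]]⟩, ⟨2, [152, 157, 1492, 283, 472, 1189], 1, 2, [[], [0, 2, 0, 2, 0, 2, 1, 2, 0, 2, 1, 2, 1, 2, 0, 2, 1, 2, 0], [2, 0, 2, 0, 0, 2, 1, 2, 0, 0, 2], [0, 0, 2, 0, 2, 1, 2, 0, 2, 1, 2, 1, 2, 1, 2, 0, 0, 2, 0]]⟩, ⟨2, [283, 472, 283, 563, 1411], 1, 1, [[], [2, 0, 2, 0, 2, 0, 2, 0, 2, 1, 2, 1, 2, 0, 2, 0, 2, 1, 2, 0, 0, 2], [0, 0, 2, 0, 0, 2, 1, 2, 0, 0, 2, 0, 0, 2, 0, 2, 0, 2, 0], [0, 2, 1, 2, 0, 0, 2, 1, 2, 0, 2, 0, 0, 2, 0, 2]]⟩, ⟨3, [1513, 152, 164, 155, 152], 2, 0, [[], []]⟩, ⟨2, [282, 472, 283, 1083, 282, 831], 1, 2, [[], [2, 0, 0, 2, 0, 2, 1, 2, 0, 0, 2, 0, 0, 2, 1,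 2, 0, 0], [0, 2, 0, 0, 2, 0, 2, 0, 2, 0, 0, 2, 0, 2, 0, 0, 2, 1, 2, 0, 0], [1, 2, 0, 2, 0, 0, 2, 0, 2, 0, 2, 0, 2, 0, 2, 0]]⟩, ⟨3, [1517, 283], 2, 0, [[], []]⟩, ⟨2, [808, 282, 472, 616], 1, 3, [[], [0, 2, 0, 0, 2, 0, 0, 2, 0, 0, 2, 1, 2, 0, 2, 0, 2], [0, 0, 2, 0, 2, 0, 0, 2, 0, 2, 0, 2, 1, 2, 0, 2, 1, 2, 0, 2, 0], [2, 0, 2, 0, 2, 0, 2, 0, 0, 2, 0, 2]]⟩, ⟨2, [1242, 282, 474, 282, 1310], 1, 2, [[], [0, 2, 0, 2, 0, 2, 0, 0, 2, 0, 2, 1, 2, 0, 0, 2, 0, 0, 2, 0], [2, 0, 2, 1, 2, 0, 0, 2, 0, 2, 0, 2, 1, 2, 0, 0, 2, 0, 2], [0, 2, 1, 2, 0, 0, 2, 1, 2, 1, 2, 1, 2, 0, 0, 2, 1, 2, 0, 0, 2, 1]]⟩, ⟨2, [282, 1432, 742, 283, 474], 1, 0, [[], [1, 2, 1, 2, 0, 2, 1, 2,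 0, 0, 2, 0, 0, 2, 1, 2, 1, 2], [0, 2, 0, 2, 0, 0, 2, 1, 2, 1, 2, 1, 2, 0, 0, 2, 0, 2, 0], [2, 0, 0, 2, 0, 2, 1, 2, 0, 2, 0, 0, 2, 1, 2]]⟩, ⟨3, [1525, 282], 2, 0, [[], []]⟩, ⟨2, [282, 430, 190, 194, 208, 476, 191, 209, 359], 1, 3, [[], [1, 2, 0, 2, 0, 0, 2, 0, 2, 1, 2, 0, 0, 2, 1, 2, 0, 2, 0, 0], [2, 0, 2, 0, 2, 0, 0, 2, 0, 0, 2, 0, 2, 1, 2, 0, 0, 2, 0], [1, 2, 0, 2, 0, 2, 1, 2, 0, 0]]⟩, ⟨2, [191, 208, 478, 283, 1403, 282, 357], 1, 2, [[], [0, 2, 0, 2, 0, 2, 1, 2, 0, 2, 1, 2, 0, 2, 0, 2, 1, 2, 0, 2], [0, 2, 0, 0, 2, 1, 2, 0, 0, 2, 1, 2, 0, 0, 2, 1, 2], [0, 2, 1, 2, 1, 2, 1, 2, 1, 2, 1, 2, 1, 2, 0, 0, 2, 0]]⟩, ⟨2, [283, 488, 283, 1081], 0, 1, [[], [1,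 2, 0, 0, 2, 0, 2, 0, 0, 2, 1, 2, 1, 2, 1, 2, 1, 2, 0, 2], [0, 0, 2, 0, 2, 1, 2, 0, 0, 2, 0, 0, 2, 0, 0, 2, 0, 0, 2]]⟩, ⟨2, [283, 1002, 283, 488], 0, 2, [[], [2, 1, 2, 0, 2, 1, 2, 0, 2, 1, 2, 1, 2, 0, 0, 2, 1, 2, 0, 2, 0, 2, 1], [0, 2, 0, 2, 0, 0, 2, 0, 2, 0, 2, 1, 2, 1, 2, 1, 2, 0, 2, 0, 0]]⟩, ⟨2, [282, 1044, 282, 492, 283, 488], 1, 0, [[], [2, 0, 2, 0, 2, 0, 2, 1, 2, 1, 2, 0, 0, 2, 0, 0, 2], [2, 1, 2, 1, 2, 0, 2, 1, 2, 0, 2, 0, 2, 0, 0, 2, 0], [0, 2, 0, 0, 2, 0, 0, 2, 1, 2, 1, 2, 0, 0, 2, 1, 2, 0, 0]]⟩, ⟨2, [282, 1403, 282, 490], 0, 2, [[], [0, 0, 2, 1, 2, 1, 2, 0, 2, 0, 2, 1, 2, 0, 0, 2, 0, 2, 0, 0], [0, 0, 2, 1, 2, 0, 2, 0, 0, 2, 0, 0, 2, 0, 2, 1,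 2, 1, 2, 0]]⟩, ⟨3, [1539, 282], 2, 0, [[], []]⟩, ⟨2, [282, 490, 283, 1535, 491], 1, 2, [[], [2, 0, 0, 2, 1, 2, 1, 2, 0, 0, 2, 1, 2, 0, 2, 1, 2, 0, 2, 0], [2, 1, 2, 0, 0, 2, 1, 2, 1, 2, 0, 2, 0, 2, 1, 2, 0, 2, 1, 2, 1], [0, 0, 2, 1, 2, 0, 2, 1, 2, 0, 2, 0, 2, 1]]⟩, ⟨2, [283, 502, 283, 1537, 665], 1, 1, [[], [1, 2, 0, 2, 0, 2, 0, 0, 2, 0, 2, 0, 0], [1, 2, 0, 2, 1, 2, 0, 2, 0, 2, 0, 2, 0, 2, 1, 2, 0, 0], [1, 2, 0, 0, 2, 0, 2, 1, 2, 0, 2, 1, 2, 1, 2, 1, 2, 1]]⟩, ⟨3, [1545, 283], 2, 0, [[], []]⟩, ⟨2, [1403, 282, 504, 283, 957], 1, 2, [[], [0, 2, 1, 2, 1, 2, 0, 2, 1, 2, 0, 2], [2, 0, 0, 2, 1, 2, 1, 2, 0, 2, 1, 2, 0, 2, 0, 2, 0], [1, 2, 1, 2, 1, 2, 0, 2, 1,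 2, 0, 0, 2, 0, 0]]⟩, ⟨3, [1549, 282], 2, 0, [[], []]⟩, ⟨2, [283, 504, 283, 1219, 283, 663], 1, 1, [[], [2, 0, 2, 0, 2, 1, 2, 0, 2, 0, 2, 1, 2, 0], [2, 1, 2, 0, 2, 0, 0, 2, 1, 2, 0, 2, 0, 2, 1, 2, 0, 0, 2, 1, 2], [2, 1, 2, 1, 2, 1, 2, 1, 2, 1, 2, 0, 2, 1, 2, 0, 2, 1]]⟩, ⟨2, [153, 165, 153, 1492, 283, 512, 283, 791], 1, 3, [[], [0, 0, 2, 1, 2, 1, 2, 0, 0, 2, 0, 2, 0, 2, 0, 2, 0, 0, 2, 0, 0, 2, 1], [1, 2, 0, 2, 1, 2, 0, 2, 1, 2, 1, 2, 0, 0, 2, 1, 2, 1, 2, 0, 2, 1], [1, 2, 0, 0, 2, 1, 2, 0, 0, 2, 0, 2, 1, 2, 1, 2, 0, 2, 0, 0, 2]]⟩, ⟨2, [516, 461, 283, 387], 1, 2, [[], [1, 2, 1, 2, 0, 2, 0, 0, 2, 0, 2, 0, 2, 1, 2, 0, 2, 1, 2, 0, 2, 0, 0], [2, 1, 2, 0, 2,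 0, 2, 1, 2, 1, 2, 1, 2, 0, 2, 1], [0, 2, 1, 2, 0, 0, 2, 1, 2, 0, 2, 0, 0, 2, 0, 2, 1, 2, 0]]⟩, ⟨3, [1557, 282], 2, 0, [[], []]⟩, ⟨2, [283, 520, 190, 220, 518], 0, 2, [[], [1, 2, 1, 2, 1, 2, 0, 0, 2, 0, 2, 1, 2, 0, 2, 1, 2, 0, 2, 1, 2, 1], [1, 2, 0, 0, 2, 0, 2, 0, 0, 2, 0, 2, 0, 2, 0, 2, 0, 0, 2, 0]]⟩, ⟨2, [282, 1016, 530], 0, 2, [[], [0, 2, 0, 2, 0, 2, 1, 2, 0, 2, 1, 2, 0, 2, 1, 2, 0, 2, 1, 2], [1, 2, 0, 2, 1, 2, 0, 2, 0, 2, 0, 0, 2, 0, 0, 2, 0, 0, 2, 0]]⟩] 722 782 = true := by decide +kernel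
theorem dd_c11 : dd.checks [⟨2, [838, 283, 546], 0, 2, [[], [2, 0, 0, 2, 0, 2, 1, 2, 1, 2, 0, 2, 0, 2, 1, 2, 1, 2, 0, 2, 1], [0, 0, 2, 1, 2, 0, 0, 2, 0, 2, 1, 2, 0, 2, 0, 2, 0, 0, 2, 0, 0]]⟩, ⟨2, [283, 578, 283, 547], 0, 1, [[], [0, 2, 1, 2, 1, 2, 1, 2, 1, 2, 1, 2, 0, 2, 1, 2, 0, 2, 1, 2, 0], [0, 0, 2, 1, 2, 0, 2, 1, 2, 0, 0, 2, 0, 2, 0, 2, 1, 2, 0, 2]]⟩, ⟨2, [282, 580, 282, 995, 282, 1389], 1, 1, [[], [1, 2, 1, 2, 1, 2, 1, 2, 1, 2, 0, 2, 0, 2, 1, 2, 0], [2, 0, 2, 0, 2, 1, 2, 1, 2, 1, 2, 0, 2, 0, 2, 0, 2], [0, 2, 0, 2, 0, 2, 0, 2, 1, 2, 0, 0, 2, 1, 2, 0, 2, 1, 2]]⟩, ⟨2, [408, 282, 394, 190, 195, 208, 584], 1, 0, [[], [2, 0, 2, 0, 0, 2, 0, 2, 0, 2, 1,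 2, 0, 2, 1, 2], [2, 1, 2, 0, 0, 2, 1, 2, 1, 2, 0, 0, 2, 1, 2, 0, 2, 1, 2], [2, 1, 2, 0, 0, 2, 0, 0, 2, 0, 2, 0, 2, 0, 2, 0, 2, 1, 2, 1]]⟩, ⟨2, [282, 590, 1307, 283, 897], 1, 2, [[], [0, 2, 0, 2, 0, 0, 2, 1, 2, 1, 2, 1, 2, 0, 2, 0, 2, 0, 0], [1, 2, 0, 0, 2, 0, 2, 0, 2, 0, 2, 0, 2, 1, 2, 0, 2, 1, 2, 1], [2, 0, 0, 2, 0, 2, 1, 2, 0, 2, 0, 2, 0, 0, 2, 0, 0, 2, 0, 0, 2, 1]]⟩, ⟨2, [283, 858, 80, 70, 136, 70, 78, 604], 1, 0, [[], [2, 0, 2, 1, 2, 0, 0, 2, 0, 2, 0, 2, 0, 0, 2, 0, 2, 0], [0, 2, 0, 2, 0, 0, 2, 0, 0, 2, 0, 0, 2, 0, 2, 1, 2, 1], [1, 2, 0, 2, 0, 0, 2, 0, 2, 0, 2, 1, 2, 1, 2, 0, 0, 2, 1, 2, 1]]⟩, ⟨2, [282, 722, 283, 1072, 283, 722], 1, 0, [[], [2, 0,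 0, 2, 1, 2, 1, 2, 1, 2, 1, 2, 1, 2, 0, 2, 1, 2, 0, 2, 0], [1, 2, 0, 0, 2, 1, 2, 1, 2, 0, 2, 0, 2, 1, 2, 1, 2, 0, 0, 2, 0, 0], [1, 2, 1, 2, 0, 2, 0, 2, 1, 2, 0, 0, 2, 0, 2, 0, 0, 2, 0, 0, 2, 0]]⟩, ⟨2, [560, 283, 1380, 978], 1, 0, [[], [2, 0, 2, 1, 2, 0, 2, 0, 2, 0, 2, 0, 0, 2, 0, 0, 2, 0, 0, 2, 0, 0], [2, 0, 2, 1, 2, 1, 2, 1, 2, 0, 2, 0, 2, 1, 2, 0, 2, 1, 2, 0], [0, 2, 0, 2, 0, 2, 0, 0, 2, 0, 0, 2, 1, 2, 0, 0, 2, 0, 0, 2, 1]]⟩, ⟨2, [226, 190, 988], 0, 2, [[], [1, 2, 0, 2, 0, 0, 2, 0, 0, 2, 0, 2, 1, 2, 1, 2, 0, 0, 2, 0, 2], [1, 2, 1, 2, 0, 2, 0, 0, 2, 0, 0, 2, 0, 0, 2, 1, 2, 1, 2, 0, 2, 1]]⟩, ⟨0, [], 0, 0, []⟩, ⟨3, [1582, 52, 67, 67, 49, 1583], 2, 0, [[],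 [2, 1, 2, 1, 2, 0, 2, 1, 2, 0, 2, 1, 2, 0, 2, 1, 2, 0, 2, 0, 2]]⟩, ⟨2, [1584, 1582, 57, 50, 57, 281], 0, 1, [[], [0, 0, 2, 0, 2, 1, 2, 1, 2, 1, 2, 0, 0, 2, 1, 2, 1, 2, 0], [0, 2, 1, 2, 1, 2, 0, 2, 0, 2, 0, 2, 0, 0, 2, 0, 2, 1]]⟩, ⟨3, [1587, 282], 2, 0, [[], []]⟩, ⟨2, [1584, 1582, 50, 45, 67, 135], 0, 1, [[], [1, 2, 0, 2, 0, 2, 0, 0, 2, 0, 0, 2, 0, 0, 2, 0, 2, 1, 2, 0, 0, 2, 0, 0], [1, 2, 0, 0, 2, 0, 0, 2, 1, 2, 1, 2, 1, 2, 0, 2, 0, 2]]⟩, ⟨3, [1591, 79, 99], 2, 0, [[], []]⟩, ⟨3, [1592, 78, 99, 79, 71, 1593], 2, 0, [[], [2, 1, 2, 0, 2, 0, 0, 2, 1, 2, 0, 2, 1, 2, 0, 0, 2, 0, 0, 2, 1]]⟩, ⟨2, [1594, 1582, 51, 53, 45, 467], 0, 1, [[], [2, 1, 2, 0, 2, 0, 2,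 0, 0, 2, 1, 2, 0, 0, 2, 0], [0, 2, 0, 2, 0, 2, 0, 2, 1, 2, 1, 2, 1, 2, 0, 0, 2, 0, 2, 0, 2, 1]]⟩, ⟨3, [1597, 282], 2, 0, [[], []]⟩, ⟨2, [1582, 187], 0, 1, [[], [2, 1, 2, 1, 2, 0, 0, 2, 0, 0, 2, 0, 0, 2, 0, 2, 0, 0, 2, 0], [2, 0, 2, 1, 2, 1, 2, 0, 0, 2, 0, 2, 1, 2, 1, 2, 0, 0, 2]]⟩, ⟨3, [1601, 190], 2, 0, [[], []]⟩, ⟨2, [1582, 57, 50, 173], 0, 1, [[], [2, 0, 2, 0, 2, 0, 0, 2, 0, 0, 2, 0, 2, 1, 2, 1, 2, 1, 2, 1], [0, 2, 0, 2, 1, 2, 0, 0, 2, 1, 2, 0, 2, 0, 0, 2, 0, 2, 0, 0, 2]]⟩, ⟨3, [1605, 164, 153, 153], 2, 0, [[], []]⟩, ⟨2, [1584, 1582, 61, 49, 281], 0, 1, [[], [0, 0, 2, 1, 2, 0, 2, 0, 0, 2, 0, 2, 1, 2, 0, 2, 1], [2, 1, 2, 1, 2, 0, 2, 0, 0, 2, 1, 2,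 1, 2, 1, 2, 1, 2, 0, 2]]⟩, ⟨2, [1584, 1582, 60, 45, 1583], 0, 1, [[], [1, 2, 0, 0, 2, 1, 2, 1, 2, 0, 2, 0, 2, 1, 2, 1, 2, 1, 2, 0, 0], [0, 2, 1, 2, 0, 2, 0, 2, 0, 2, 0, 2, 0, 2, 0, 2, 0, 2, 1, 2]]⟩, ⟨2, [1584, 1582, 61, 51, 467], 0, 1, [[], [0, 0, 2, 0, 2, 1, 2, 1, 2, 0, 0, 2, 0, 2, 1], [0, 2, 0, 2, 1, 2, 1, 2, 0, 2, 1, 2, 0, 0, 2]]⟩, ⟨2, [1582, 50, 66, 44, 467], 0, 1, [[], [2, 1, 2, 0, 2, 0, 2, 0, 2, 1, 2, 1, 2, 0, 2, 0, 2, 1, 2, 0, 0, 2, 0, 2], [0, 0, 2, 0, 2, 0, 0, 2, 0, 0, 2, 1, 2, 0, 0]]⟩, ⟨3, [1615, 283], 2, 0, [[], []]⟩, ⟨2, [1582, 57, 51, 45, 135], 0, 1, [[], [2, 1, 2, 0, 2, 0, 2, 0, 2, 0, 0, 2, 1, 2, 0, 0, 2, 0, 2, 1], [0, 0, 2, 1, 2, 0, 0,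 2, 1, 2, 1, 2, 1, 2, 0, 2, 0, 2, 1]]⟩, ⟨3, [1619, 71, 81, 79], 2, 0, [[], []]⟩, ⟨2, [1582, 56, 50, 45, 77], 0, 1, [[], [0, 0, 2, 0, 0, 2, 1, 2, 1, 2, 1, 2, 1, 2, 1, 2, 0, 2, 0, 2], [2, 0, 0, 2, 0, 2, 1, 2, 0, 2, 0, 0, 2, 0, 0, 2, 0, 2, 0, 0]]⟩, ⟨3, [1623, 71, 81, 71, 79], 2, 0, [[], []]⟩, ⟨2, [1582, 45, 61, 53, 1407], 0, 1, [[], [0, 2, 1, 2, 0, 0, 2, 1, 2, 1, 2, 1, 2, 0, 2], [2, 0, 0, 2, 1, 2, 0, 0, 2, 0, 0, 2, 1, 2, 0, 2, 0, 2, 0, 0, 2]]⟩, ⟨2, [1584, 1594, 1582, 67, 60, 50, 1583], 0, 1, [[], [2, 0, 0, 2, 0, 0, 2, 0, 2, 0, 2, 0, 0, 2, 0, 0, 2, 1], [0, 2, 1, 2, 1, 2, 0, 0, 2, 0, 2, 0, 2, 0, 0, 2, 1]]⟩, ⟨2, [1584, 1582, 51, 67, 56, 51, 467], 0, 1, [[],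 [0, 2, 0, 2, 0, 2, 1, 2, 1, 2, 0, 0, 2, 1, 2, 1, 2, 1, 2, 1, 2], [0, 2, 1, 2, 0, 0, 2, 0, 0, 2, 0, 0, 2, 1, 2, 0, 0, 2, 0, 2, 0, 0]]⟩, ⟨3, [1631, 283], 2, 0, [[], []]⟩, ⟨2, [1594, 1582, 44, 66, 61, 171], 0, 1, [[], [2, 1, 2, 0, 0, 2, 0, 2, 0, 2, 1, 2, 0, 0, 2, 0, 2, 0, 2, 1], [2, 0, 2, 0, 0, 2, 1, 2, 0, 2, 1, 2, 0, 2, 0, 2, 1, 2, 1, 2, 0]]⟩, ⟨3, [1635, 165], 2, 0, [[], []]⟩, ⟨2, [1582, 53, 49, 1583], 0, 1, [[], [0, 2, 1, 2, 0, 2, 0, 2, 0, 0, 2, 0, 2, 1, 2, 0, 0, 2, 0, 2], [2, 1, 2, 0, 0, 2, 0, 2, 1, 2, 0, 2, 1, 2]]⟩, ⟨2, [1582, 60, 50, 1583], 0, 1, [[], [2, 1, 2, 1, 2, 0, 2, 0, 0, 2, 0, 2, 0, 0, 2, 0, 0, 2, 1], [2, 1, 2, 0, 2, 1, 2, 0, 0, 2, 0, 0, 2,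 0, 0, 2, 1, 2, 0]]⟩, ⟨2, [1582, 57, 60, 44, 467, 665], 1, 1, [[], [1, 2, 0, 0, 2, 0, 2, 1, 2, 1, 2, 0, 2, 0, 2, 1], [2, 0, 0, 2, 0, 2, 0, 2, 1, 2, 0, 0, 2, 1, 2, 0, 2, 0, 0, 2, 1], [1, 2, 0, 0, 2, 1, 2, 0, 2, 1, 2, 1, 2, 0, 2]]⟩, ⟨3, [1643, 282], 2, 0, [[], []]⟩, ⟨2, [1584, 1582, 67, 51, 57, 467, 283, 675], 1, 1, [[], [1, 2, 1, 2, 1, 2, 0, 0, 2, 0, 2, 1, 2, 1, 2, 0, 2, 1, 2, 0], [2, 0, 2, 0, 2, 1, 2, 0, 0, 2, 0, 0, 2, 0, 2, 0, 2, 0, 2], [2, 1, 2, 1, 2, 1, 2, 1, 2, 0, 0, 2, 0, 0, 2, 0, 2, 1, 2, 0, 0, 2, 0, 0]]⟩, ⟨3, [1647, 283], 2, 0, [[], []]⟩, ⟨2, [282, 482, 282, 280, 44, 50, 50, 1583], 1, 3, [[], [0, 2, 0, 2, 1, 2, 0, 2, 0, 2, 0, 0, 2, 0, 0, 2, 0,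 0, 2, 1, 2, 1], [0, 2, 1, 2, 1, 2, 0, 2, 0, 2, 0, 2, 0, 2, 1], [2, 0, 0, 2, 1, 2, 0, 0, 2, 0, 2, 0, 2, 0, 2, 0, 2, 0, 2]]⟩, ⟨3, [1651, 1585], 2, 0, [[], []]⟩, ⟨3, [1627, 282, 402, 282, 466, 50, 61, 57, 1583], 1, 0, [[2, 0, 0, 2, 1, 2, 1, 2, 1, 2, 0, 0, 2, 0, 0, 2, 1], [0, 0, 2, 1, 2, 0, 0, 2, 0, 0, 2, 0, 2, 0, 0, 2, 1, 2, 1, 2, 0, 0], [1, 2, 0, 0, 2, 1, 2, 0, 0, 2, 1, 2, 0, 2, 1, 2, 1], [1, 2, 0, 2, 1, 2, 1, 2, 0, 2, 0, 2, 0, 0, 2, 1, 2, 1]]⟩, ⟨2, [282, 854, 282, 466, 44, 1583], 1, 3, [[], [2, 0, 2, 0, 2, 0, 0, 2, 0, 2, 1, 2, 0, 2, 0, 0, 2, 1, 2, 0, 0], [1, 2, 0, 2, 0, 0, 2, 0, 2, 0, 2, 1, 2, 0, 2, 1, 2, 0, 2, 1], [0, 2, 0, 2, 0, 0, 2, 0, 2, 0, 2, 1,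 2, 0, 2, 0, 0, 2, 1, 2, 0, 2]]⟩, ⟨3, [1657, 1595, 1585], 2, 0, [[], []]⟩, ⟨3, [1656, 282, 1036, 78, 80, 70, 78, 76, 66, 44, 1583], 1, 0, [[2, 0, 2, 0, 0, 2, 0, 2, 1, 2, 0, 2, 0, 0, 2, 0, 2, 0, 0], [0, 0, 2, 0, 2, 0, 0, 2, 1, 2, 0, 2, 0, 2, 1], [1, 2, 0, 0, 2, 0, 2, 0, 2, 0, 0, 2, 0, 2, 0, 0, 2, 1, 2, 1], [0, 2, 0, 0, 2, 0, 2, 1, 2, 0, 2, 0, 2, 0, 0, 2, 0, 2, 0, 2, 1]]⟩, ⟨2, [1584, 1620, 78, 134, 66, 45, 50, 1583], 1, 3, [[], [2, 1, 2, 0, 2, 0, 2, 0, 0, 2, 0, 0, 2, 0, 2, 1, 2, 0, 2, 0, 0], [1, 2, 0, 2, 0, 0, 2, 0, 2, 0, 0, 2, 0, 2, 0, 2, 0, 2, 0, 0, 2, 0], [0, 2, 1, 2, 0, 2, 0, 2, 1, 2, 1, 2, 0, 0, 2, 0, 0, 2, 0, 0, 2]]⟩, ⟨2, [964, 186, 51, 66, 51, 1583],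 1, 3, [[], [1, 2, 1, 2, 0, 2, 0, 0, 2, 1, 2, 0, 0, 2, 1, 2], [2, 0, 0, 2, 0, 2, 1, 2, 1, 2, 0, 2], [0, 0, 2, 0, 2, 0, 2, 0, 2, 1, 2, 1, 2, 1]]⟩, ⟨3, [1665, 1654], 2, 0, [[], []]⟩, ⟨2, [1582, 67, 50, 44, 1583, 1595, 1667], 1, 2, [[], [0, 2, 0, 0, 2, 0, 2, 0, 2, 1, 2, 1, 2, 0, 0, 2, 1, 2, 0, 2], [0, 2, 1, 2, 1, 2, 1, 2, 1, 2, 1, 2, 1, 2, 1, 2, 1, 2, 0, 2, 0], [2, 1, 2, 0, 2, 1, 2, 0, 2, 0, 0, 2, 0, 2, 1, 2, 0, 0, 2, 0, 0]]⟩, ⟨3, [1669, 282], 2, 0, [[], []]⟩, ⟨2, [190, 201, 478, 466, 48, 60, 57, 1583], 1, 3, [[], [0, 0, 2, 0, 2, 0, 2, 0, 2, 1, 2, 1, 2, 0, 2, 0, 2, 1, 2, 0, 2, 0], [2, 0, 0, 2, 0, 2, 1, 2, 1, 2, 0, 2, 1, 2, 0, 2, 0, 0, 2, 0, 0], [0, 2, 1,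 2, 0, 0, 2, 1, 2, 0, 0]]⟩, ⟨3, [1673, 1654], 2, 0, [[], []]⟩, ⟨2, [283, 1478, 912, 44, 44, 1583], 1, 3, [[], [0, 0, 2, 0, 2, 0, 2, 0, 0, 2, 0, 0, 2, 0, 2, 0, 2, 0, 2, 0, 0], [1, 2, 0, 2, 0, 2, 1, 2, 1, 2, 0, 2, 0], [0, 2, 1, 2, 0, 2, 0, 2, 1, 2, 0, 2, 1, 2, 0]]⟩, ⟨3, [1677, 1661, 1655, 1585], 2, 0, [[], []]⟩, ⟨2, [1584, 1594, 1582, 66, 50, 48, 1583, 1661, 1585, 1629], 1, 2, [[], [0, 0, 2, 0, 2, 0, 0, 2, 1, 2, 0, 2, 1, 2, 0, 0, 2, 0, 2, 0, 0], [1, 2, 0, 0, 2, 1, 2, 0, 0, 2, 0, 2, 1, 2, 1, 2, 0, 2, 0, 0], [2, 0, 2, 0, 2, 0, 2, 0, 2, 0, 2, 1, 2, 0, 2, 0, 0, 2, 0, 2, 1]]⟩, ⟨2, [282, 978, 283, 912, 48, 51, 57, 1583], 1, 3, [[], [1, 2, 1, 2, 1, 2, 0, 2, 0,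 2, 1, 2, 0, 0, 2, 1, 2, 0], [2, 1, 2, 1, 2, 0, 2, 0, 2, 1, 2, 1, 2, 1, 2, 1, 2, 1, 2, 0], [0, 2, 0, 0, 2, 1, 2, 0, 2, 1, 2, 0, 2, 0, 2, 1, 2, 0]]⟩, ⟨3, [1683, 1595, 1585], 2, 0, [[], []]⟩, ⟨2, [1403, 912, 52, 61, 1583], 1, 3, [[], [1, 2, 0, 0, 2, 0, 2, 0, 2, 0, 2, 1, 2, 0, 0, 2, 0, 0, 2, 1], [0, 2, 0, 2, 1, 2, 1, 2, 1, 2, 0, 0, 2, 1, 2, 1, 2, 1, 2, 0], [0, 2, 0, 0, 2, 0, 0, 2, 0, 0, 2, 0, 2, 0, 2, 0, 0, 2, 0, 2, 0, 0]]⟩, ⟨3, [1687, 1660], 2, 0, [[], []]⟩, ⟨2, [283, 858, 78, 70, 80, 134, 44, 56, 48, 1583], 1, 3, [[], [0, 2, 1, 2, 1, 2, 0, 2, 1, 2, 0, 2, 1, 2, 1, 2, 0, 2, 0, 0], [0, 2, 0, 0, 2, 0, 2, 0, 2, 0, 2, 1, 2, 1, 2], [2, 0, 2, 0, 2, 0, 0, 2, 0,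 2, 1, 2, 0, 2, 0, 2, 1, 2]]⟩, ⟨3, [1691, 1654], 2, 0, [[], []]⟩, ⟨2, [282, 576, 282, 466, 60, 67, 57, 1583], 1, 3, [[], [2, 0, 2, 0, 2, 0, 0, 2, 0, 2, 1, 2, 1, 2, 0, 2, 0, 2, 1, 2, 1], [2, 0, 0, 2, 0, 2, 0, 2, 1, 2, 0, 0, 2, 1, 2, 0, 2, 1, 2, 1], [1, 2, 0, 2, 0, 2, 1, 2, 1, 2, 0, 2, 0, 2, 1, 2, 0, 0, 2, 1]]⟩, ⟨3, [1695, 1661, 1655, 1585], 2, 0, [[], []]⟩, ⟨2, [283, 543, 283, 1406, 44, 67, 45, 1583], 1, 3, [[], [0, 2, 1, 2, 0, 2, 1, 2, 0, 2, 1, 2, 0, 2, 0], [0, 2, 0, 2, 0, 0, 2, 1, 2, 0, 2, 1, 2, 1, 2, 0, 0, 2, 0, 0, 2, 0], [0, 0, 2, 1, 2, 0, 2, 1, 2, 0, 0, 2, 0, 2, 0, 2, 1, 2, 0]]⟩, ⟨2, [283, 358, 220, 201, 186, 67, 44, 1583], 1, 3, [[], [0, 2, 0, 2,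 1, 2, 0, 2, 1, 2, 0, 0, 2, 0, 2, 0, 2, 0, 0, 2, 1], [2, 0, 2, 1, 2, 1, 2, 0, 0, 2, 0, 2, 1, 2, 0, 0, 2, 0, 0, 2, 0, 2, 0, 0], [0, 0, 2, 0, 0, 2, 0, 2, 0, 2, 0, 0, 2, 0, 0, 2, 1, 2, 1, 2]]⟩, ⟨3, [1701, 1585], 2, 0, [[], []]⟩, ⟨2, [1582, 56, 50, 67, 58, 66, 44, 1583], 1, 3, [[], [2, 0, 0, 2, 0, 0, 2, 0, 2, 1, 2, 0, 2, 0, 2, 0, 0, 2, 0, 0, 2, 1], [1, 2, 0, 0, 2, 1, 2, 0, 2, 0, 2, 1, 2, 0, 2, 1, 2, 0, 2, 0], [0, 2, 0, 0, 2, 1, 2, 0, 2, 0, 2, 1, 2, 0, 0]]⟩, ⟨2, [810, 280, 67, 61, 1583], 1, 3, [[], [0, 0, 2, 0, 0, 2, 0, 2, 0, 0, 2, 0, 2, 1, 2, 1, 2, 0, 0, 2, 0], [1, 2, 0, 0, 2, 0, 0, 2, 0, 0, 2, 1, 2, 1, 2, 1, 2, 0, 2, 1], [0, 2, 1, 2, 1, 2, 0, 2, 0, 0, 2,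 0, 2, 0, 2, 1, 2]]⟩, ⟨3, [1707, 1661, 1655, 1585], 2, 0, [[], []]⟩, ⟨2, [282, 1462, 282, 1406, 52, 61, 45, 1583], 1, 3, [[], [2, 0, 0, 2, 0, 2, 0, 2, 0, 0, 2, 0, 0, 2, 1, 2, 1, 2, 0, 0, 2, 1], [2, 0, 0, 2, 0, 0, 2, 1, 2, 1, 2, 0, 0, 2, 0, 0, 2, 1, 2, 0], [1, 2, 0, 2, 0, 0, 2, 0, 0, 2, 0, 0, 2, 1, 2, 1, 2, 0, 2, 0, 2, 0, 0]]⟩] 782 856 = true := by decide +kernel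
theorem dd_c12 : dd.checks [⟨3, [1711, 1585], 2, 0, [[], []]⟩, ⟨2, [283, 298, 283, 912, 51, 57, 66, 1583], 1, 3, [[], [1, 2, 0, 2, 0, 0, 2, 0, 0, 2, 1, 2, 0, 0, 2, 0, 0, 2, 0, 2, 0, 0], [1, 2, 0, 0, 2, 0, 0, 2, 0, 2, 0, 2, 0, 0, 2, 0, 0, 2, 1, 2, 1, 2, 0, 0], [2, 0, 0, 2, 0, 0, 2, 1, 2, 1, 2, 0, 2, 0, 2, 1, 2, 0, 2, 0, 2, 1, 2]]⟩, ⟨3, [1715, 1660, 1655], 2, 0, [[], []]⟩, ⟨2, [283, 1309, 280, 56, 61, 1583], 1, 0, [[], [2, 1, 2, 0, 2, 0, 2, 0, 0, 2, 1, 2, 0, 0, 2, 1, 2, 0, 0, 2, 1, 2], [1, 2, 0, 2, 1, 2, 0, 2, 0, 0, 2, 0, 2, 0, 2, 1, 2], [0, 2, 0, 2, 0, 2, 1, 2, 0, 0, 2, 1, 2, 0, 0, 2, 1, 2, 1, 2, 1, 2, 0]]⟩, ⟨3, [1719, 1655], 2, 0, [[], []]⟩, ⟨2, [1146,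 282, 1406, 44, 57, 60, 1583], 1, 0, [[], [2, 1, 2, 1, 2, 0, 2, 0, 2, 1, 2, 0, 2, 1, 2, 0, 0], [2, 0, 2, 0, 2, 0, 0, 2, 0, 0, 2, 0, 0, 2, 0, 0, 2, 0, 2, 0, 2, 0], [1, 2, 0, 2, 1, 2, 0, 2, 0, 2, 0, 2, 0, 2, 0, 2, 0, 2, 0, 2, 1]]⟩, ⟨3, [1723, 1654, 1585], 2, 0, [[], []]⟩, ⟨2, [282, 813, 282, 912, 50, 56, 60, 1583], 1, 0, [[], [0, 2, 0, 2, 0, 0, 2, 1, 2, 0, 2, 0, 2, 0, 0, 2, 0, 2, 0, 0], [0, 0, 2, 1, 2, 1, 2, 1, 2, 0, 2, 0, 2, 0, 2], [2, 0, 0, 2, 1, 2, 0, 2, 0, 2, 1, 2, 0, 2, 0, 2, 1, 2, 0]]⟩, ⟨3, [1727, 1595], 2, 0, [[], []]⟩, ⟨2, [282, 526, 466, 66, 45, 51, 1583], 1, 0, [[], [0, 2, 0, 0, 2, 0, 2, 0, 2, 1, 2, 0, 2, 1, 2, 0, 2, 1, 2, 1, 2], [0, 2, 0, 0,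 2, 0, 2, 0, 2, 0, 2, 1, 2, 0, 0, 2, 1, 2, 1], [1, 2, 0, 2, 1, 2, 0, 2, 1, 2, 0, 0, 2, 1]]⟩, ⟨3, [1731, 1585], 2, 0, [[], []]⟩, ⟨2, [282, 826, 282, 466, 61, 66, 50, 1583], 1, 0, [[], [1, 2, 1, 2, 0, 0, 2, 0, 2, 1, 2, 0, 2, 1, 2, 1], [2, 1, 2, 0, 2, 0, 0, 2, 0, 2, 0, 0, 2, 0, 2, 0, 2, 0, 0, 2, 1], [1, 2, 1, 2, 0, 0, 2, 1, 2, 0, 2, 0, 0]]⟩, ⟨3, [1735, 1654, 1585], 2, 0, [[], []]⟩, ⟨2, [1272, 283, 1406, 48, 56, 44, 1583], 1, 0, [[], [2, 1, 2, 0, 0, 2, 1, 2, 0, 0, 2, 1, 2, 1, 2, 0, 2, 0, 0], [1, 2, 0, 0, 2, 1, 2, 0, 2, 0, 2, 0, 2, 0, 2, 1, 2, 1], [2, 0, 2, 0, 2, 0, 2, 0, 0, 2, 1, 2, 0, 2, 1, 2, 1, 2]]⟩, ⟨3, [1739, 1660, 1585], 2, 0, [[], []]⟩, ⟨2, [283, 934,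 78, 80, 70, 78, 134, 52, 66, 1583], 1, 0, [[], [0, 2, 0, 2, 0, 0, 2, 0, 2, 1, 2, 0, 2, 1, 2, 1], [1, 2, 0, 0, 2, 1, 2, 0, 0, 2, 0, 0, 2, 0, 0, 2, 0, 0, 2, 1], [2, 1, 2, 0, 0, 2, 0, 2, 0, 2, 0, 2, 0, 0, 2, 0, 0, 2, 1, 2, 1]]⟩, ⟨3, [1743, 1660], 2, 0, [[], []]⟩, ⟨2, [283, 1162, 1406, 45, 50, 56, 1583], 1, 0, [[], [2, 0, 0, 2, 1, 2, 0, 0, 2, 0, 2, 0, 0, 2, 1, 2, 0, 2, 1, 2, 1, 2, 1], [2, 0, 2, 0, 2, 0, 2, 0, 0, 2, 0, 2, 0, 2, 0, 2, 0, 2, 0, 0, 2], [2, 0, 2, 0, 0, 2, 0, 0, 2, 1, 2, 0, 0, 2, 0, 2, 0, 2, 0, 0]]⟩, ⟨2, [283, 1406, 1583, 1655, 1585, 1611], 1, 3, [[], [0, 2, 1, 2, 0, 0, 2, 0, 0, 2, 0, 2, 1, 2, 1, 2, 0, 0], [1, 2, 0, 0, 2, 1, 2, 0, 0, 2, 0, 2,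 0, 2, 0, 2, 1, 2, 0, 0], [0, 2, 1, 2, 1, 2, 0, 2, 0, 2, 1, 2, 0, 2, 1]]⟩, ⟨3, [1749, 1660, 1585], 2, 0, [[], []]⟩, ⟨2, [283, 630, 1406, 66, 61, 1583], 1, 0, [[], [0, 0, 2, 0, 2, 0, 2, 1, 2, 1, 2, 0, 0, 2, 0, 0], [1, 2, 0, 0, 2, 0, 0, 2, 1, 2, 0, 2, 1, 2, 0, 2, 0, 2, 0, 0], [2, 1, 2, 1, 2, 1, 2, 1, 2, 1, 2, 0, 2, 0, 2, 1, 2, 0, 2]]⟩, ⟨3, [1753, 1595], 2, 0, [[], []]⟩, ⟨2, [1660, 1636, 156, 164, 152, 170, 44, 52, 66, 1583], 1, 0, [[], [1, 2, 0, 0, 2, 1, 2, 0, 0, 2, 0, 0, 2, 0, 2, 1, 2, 0, 0, 2, 1], [0, 0, 2, 0, 2, 0, 0, 2, 0, 0, 2, 1, 2, 0, 0, 2, 0, 0], [1, 2, 0, 2, 0, 2, 0, 2, 0, 2, 1, 2, 1, 2, 0, 2, 1, 2, 1]]⟩, ⟨2, [283, 1322, 70, 78, 80, 70, 76, 52,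 56, 66, 1583], 1, 0, [[], [0, 2, 1, 2, 0, 0, 2, 0, 2, 0, 2, 1, 2, 0, 0, 2, 0, 0], [0, 2, 0, 2, 1, 2, 0, 0, 2, 0], [2, 0, 2, 0, 2, 0, 2, 1, 2, 0, 0, 2, 1, 2, 1, 2, 1, 2, 1, 2, 0]]⟩, ⟨3, [1759, 1655], 2, 0, [[], []]⟩, ⟨2, [283, 1494, 153, 154, 164, 170, 45, 57, 61, 1583], 1, 0, [[], [1, 2, 0, 2, 0, 2, 0, 2, 1, 2, 0, 0, 2], [0, 2, 0, 2, 1, 2, 1, 2, 0, 2, 1, 2, 0, 2, 0, 2, 0, 2], [2, 0, 2, 0, 2, 0, 0, 2, 0, 2, 1, 2, 0, 2, 0, 2, 0, 0, 2, 0, 2, 0]]⟩, ⟨3, [1763, 1661, 1655, 1585], 2, 0, [[], []]⟩, ⟨2, [282, 1118, 282, 466, 50, 1583], 1, 0, [[], [1, 2, 0, 0, 2, 0, 2, 0, 2, 0, 2, 0, 0, 2, 0, 0, 2, 1, 2, 0, 2, 0], [2, 0, 0, 2, 1, 2, 0, 0, 2, 1, 2, 1, 2, 1, 2,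 1, 2, 0, 2], [1, 2, 0, 2, 1, 2, 0, 0, 2, 1, 2, 0, 0, 2, 1, 2, 0, 2, 0, 2, 0]]⟩, ⟨3, [1767, 1595], 2, 0, [[], []]⟩, ⟨2, [1526, 466, 48, 57, 45, 1583], 1, 0, [[], [2, 0, 0, 2, 1, 2, 1, 2, 1, 2, 1, 2, 0, 0, 2, 1, 2, 1, 2, 1], [2, 1, 2, 1, 2, 0, 0, 2, 0, 2, 1, 2, 0, 0, 2, 0, 0, 2, 0, 0, 2, 0], [2, 1, 2, 1, 2, 0, 2, 0, 2, 0, 2, 1, 2, 0, 0, 2, 0, 2, 1, 2, 0]]⟩, ⟨3, [1771, 1654], 2, 0, [[], []]⟩, ⟨2, [282, 308, 98, 80, 98, 88, 44, 50, 1583], 1, 0, [[], [2, 1, 2, 1, 2, 0, 0, 2, 1, 2, 1, 2, 0, 2], [0, 0, 2, 0, 0, 2, 0, 2, 0, 2, 0, 0, 2, 0, 0, 2, 0, 0], [0, 2, 0, 2, 0, 2, 0, 2, 1, 2, 0, 0, 2, 0, 2, 0, 0, 2, 0, 2, 1, 2]]⟩, ⟨3, [1775, 1654, 1585], 2, 0, [[], []]⟩,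 ⟨2, [283, 386, 282, 466, 45, 57, 66, 1583], 1, 0, [[], [1, 2, 1, 2, 0, 2, 0, 2, 0, 0, 2, 0, 0, 2, 1, 2, 0, 0, 2, 0], [0, 2, 0, 2, 0, 2, 1, 2, 0, 2, 0, 0, 2, 0, 2, 1, 2, 1, 2, 0], [0, 2, 0, 0, 2, 0, 2, 0, 0, 2, 0, 0, 2, 1, 2, 0, 0, 2, 0, 0, 2, 0]]⟩, ⟨3, [1779, 1655, 1585], 2, 0, [[], []]⟩, ⟨2, [283, 362, 466, 45, 60, 1583], 1, 0, [[], [2, 1, 2, 0, 2, 0, 0, 2, 0, 2, 0, 2, 1, 2, 0, 2, 0, 0, 2, 1, 2, 0, 0], [0, 2, 0, 2, 1, 2, 0, 2, 0, 2, 0, 0, 2, 0, 0, 2, 0, 0, 2, 1], [0, 0, 2, 0, 2, 0, 0, 2, 0, 2, 0, 2, 0, 0, 2, 0, 2, 0, 0, 2, 0]]⟩, ⟨3, [1783, 1661, 1655], 2, 0, [[], []]⟩, ⟨2, [324, 220, 201, 186, 44, 61, 66, 1583], 1, 0, [[], [2, 0, 0, 2, 0, 0, 2, 1, 2,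 1, 2, 0, 2, 0, 2, 0, 0, 2], [0, 0, 2, 0, 2, 0, 2, 1, 2, 0, 0, 2, 0, 2, 0, 2, 1, 2, 1, 2, 1], [1, 2, 0, 2, 0, 2, 1, 2, 1, 2, 0, 0, 2, 1, 2, 0, 2, 1, 2, 0, 2, 0]]⟩, ⟨3, [1787, 1595, 1585], 2, 0, [[], []]⟩, ⟨2, [283, 1470, 1586], 0, 2, [[], [0, 2, 0, 2, 1, 2, 0, 2, 0, 0, 2, 0, 2, 0, 0, 2, 0, 0, 2], [1, 2, 1, 2, 0, 2, 1, 2, 0, 2, 1, 2, 0, 2, 1, 2, 0, 0, 2, 0]]⟩, ⟨3, [1791, 1654], 2, 0, [[], []]⟩, ⟨2, [1660, 1778, 1586], 0, 2, [[], [2, 1, 2, 0, 2, 0, 0, 2, 0, 2, 0, 0, 2, 1, 2], [2, 1, 2, 1, 2, 0, 2, 0, 0, 2, 0, 0, 2, 0, 0, 2, 0, 2, 0, 0, 2, 1, 2]]⟩, ⟨2, [638, 282, 326, 1586], 1, 3, [[], [1, 2, 0, 0, 2, 0, 2, 1, 2, 1, 2, 0, 0, 2, 0, 2, 1, 2, 1, 2, 1, 2, 1],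 [0, 0, 2, 1, 2, 0, 0, 2, 1, 2, 0, 0], [0, 2, 1, 2, 0, 2, 1, 2, 0, 2, 1, 2, 0, 0, 2, 0, 2, 0, 2]]⟩, ⟨3, [1797, 1655, 1585], 2, 0, [[], []]⟩, ⟨2, [282, 1106, 282, 1212, 283, 1586], 1, 0, [[], [2, 0, 0, 2, 0, 2, 0, 0, 2, 1, 2, 0, 0, 2, 1, 2, 0, 0, 2, 0], [0, 2, 0, 2, 0, 2, 0, 2, 0, 0, 2, 0, 2, 0, 0, 2, 1, 2, 0, 0, 2, 0, 0], [0, 2, 0, 2, 1, 2, 1, 2, 1, 2, 1, 2, 0, 0, 2, 0, 2, 0, 0, 2, 1, 2, 1]]⟩, ⟨3, [1801, 1654, 1585], 2, 0, [[], []]⟩, ⟨2, [1262, 1440, 1586], 1, 0, [[], [1, 2, 0, 2, 0, 2, 1, 2, 1, 2, 1, 2, 0, 2, 0, 0, 2, 1, 2], [2, 0, 2, 1, 2, 1, 2, 1, 2, 0, 0, 2, 1, 2, 0, 2, 1], [0, 2, 1, 2, 0, 0, 2, 0, 0, 2, 0, 0, 2, 0, 0, 2, 1, 2, 1, 2, 1]]⟩, ⟨3, [1805,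 1585], 2, 0, [[], []]⟩, ⟨2, [1347, 1536, 283, 1586], 1, 0, [[], [2, 1, 2, 0, 2, 1, 2, 0, 2, 0, 2, 1, 2, 0, 0, 2, 0, 0, 2, 1], [0, 2, 0, 2, 1, 2, 1, 2, 0, 0, 2, 0, 0, 2, 0, 0, 2, 1, 2, 0], [1, 2, 0, 2, 1, 2, 0, 2, 1, 2, 1, 2, 0, 2, 0, 2, 0, 2, 0, 0]]⟩, ⟨3, [1809, 1654], 2, 0, [[], []]⟩, ⟨2, [282, 867, 282, 920, 283, 1586], 1, 0, [[], [0, 2, 0, 0, 2, 0, 2, 0, 2, 1, 2, 1, 2, 0, 2, 0, 2, 0, 0, 2, 0], [0, 2, 0, 2, 0, 2, 0, 2, 0, 2, 1, 2, 0, 0, 2, 0, 2, 0, 0, 2, 0, 2, 1], [0, 0, 2, 0, 2, 0, 2, 1, 2, 1, 2, 0, 0, 2, 0, 0, 2, 1]]⟩, ⟨3, [1813, 1595, 1585], 2, 0, [[], []]⟩, ⟨2, [1654, 1661, 1690, 283, 1586, 1660, 1585, 1755], 1, 3, [[], [2, 0, 0, 2, 0, 2, 0, 2,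 1, 2, 0, 2, 0, 0, 2, 1, 2, 1, 2, 1], [1, 2, 0, 0, 2, 0, 2, 1, 2, 1, 2, 0, 0, 2, 0, 0, 2, 1], [1, 2, 0, 0, 2, 0, 2, 0, 0, 2, 1, 2, 0, 2, 1, 2, 0, 0, 2, 0, 0]]⟩, ⟨3, [1817, 283], 2, 0, [[], []]⟩, ⟨2, [1416, 283, 754, 1586], 1, 0, [[], [1, 2, 0, 0, 2, 0, 2, 1, 2, 0, 0, 2, 0, 0, 2, 0, 2, 0, 0, 2, 0], [0, 2, 1, 2, 0, 2, 1, 2, 1, 2, 0, 0, 2, 1, 2, 0, 0, 2], [0, 2, 0, 2, 0, 2, 0, 2, 0, 2, 1, 2, 1, 2, 0, 2, 0]]⟩, ⟨3, [1821, 1661, 1585], 2, 0, [[], []]⟩, ⟨2, [1584, 1594, 1588, 1343], 0, 1, [[], [1, 2, 0, 0, 2, 0, 0, 2, 0, 0, 2, 0, 0, 2, 0, 0, 2, 0, 2, 0, 0], [2, 1, 2, 1, 2, 0, 0, 2, 1, 2, 1, 2, 0, 2, 0, 2, 0, 2, 0, 0, 2, 0]]⟩, ⟨3, [1825, 282], 2, 0, [[], []]⟩,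 ⟨2, [1654, 1588, 775], 0, 1, [[], [1, 2, 0, 0, 2, 0, 2, 1, 2, 0, 0, 2, 1, 2, 1, 2, 0, 2], [0, 2, 0, 0, 2, 0, 2, 0, 2, 0, 2, 0, 2, 1, 2, 1, 2, 0, 2, 1]]⟩, ⟨3, [1829, 282], 2, 0, [[], []]⟩, ⟨2, [1660, 1588, 282, 1083], 0, 1, [[], [2, 1, 2, 0, 0, 2, 1, 2, 0, 0, 2, 0, 2, 0, 2, 1], [0, 0, 2, 1, 2, 1, 2, 0, 2, 0, 2, 0, 2, 0, 2, 0, 2, 1]]⟩, ⟨2, [1584, 1654, 1660, 1588, 981], 0, 1, [[], [0, 2, 0, 2, 1, 2, 1, 2, 1, 2, 0, 0, 2, 0, 2, 1], [0, 2, 0, 2, 1, 2, 0, 2, 0, 0, 2, 0, 0, 2, 1, 2, 1, 2, 0]]⟩, ⟨2, [1594, 1588, 1444, 1831], 1, 1, [[], [0, 0, 2, 1, 2, 0, 2, 1, 2, 0, 2, 1, 2, 1, 2, 0, 2, 0, 0], [0, 2, 1, 2, 0, 2, 1, 2, 0, 2, 1, 2, 0, 0, 2, 0, 0], [2, 0, 2, 1,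 2, 0, 0, 2, 0, 0, 2, 0, 2, 0, 2, 0, 2, 1, 2, 0]]⟩, ⟨2, [1584, 1654, 1661, 1588, 1041, 1139], 1, 1, [[], [0, 2, 1, 2, 0, 2, 1, 2, 0, 2, 0, 2, 1, 2, 0, 0, 2, 0, 0, 2, 1, 2, 0, 0], [2, 0, 2, 1, 2, 0, 0, 2, 1, 2, 1, 2, 0, 2, 0, 2, 0, 0], [2, 0, 2, 0, 2, 0, 2, 1, 2, 1, 2, 0, 2, 1, 2, 1, 2, 0, 2, 0]]⟩, ⟨2, [1584, 1655, 1588, 1507, 282, 1335], 1, 1, [[], [0, 2, 0, 0, 2, 0, 0, 2, 0, 2, 0, 2, 1, 2, 1, 2, 1], [0, 2, 0, 0, 2, 1, 2, 1, 2, 0, 2, 1, 2, 0, 0, 2, 1, 2, 0, 0], [0, 2, 1, 2, 0, 2, 1, 2, 1, 2, 0, 2, 0, 2, 0, 2, 1, 2]]⟩, ⟨3, [1841, 282], 2, 0, [[], []]⟩, ⟨2, [1654, 1588, 283, 723, 282, 648], 1, 1, [[], [1, 2, 1, 2, 0, 2, 1, 2, 0, 0, 2, 0, 2, 0, 2, 1, 2,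 1, 2, 0], [0, 2, 0, 0, 2, 0, 0, 2, 0, 0, 2, 0, 2, 1, 2, 1, 2, 1, 2, 0, 0], [1, 2, 1, 2, 1, 2, 1, 2, 0, 0, 2, 0, 0, 2, 1, 2, 0, 0, 2, 0]]⟩, ⟨3, [1845, 283], 2, 0, [[], []]⟩, ⟨2, [1584, 1654, 1660, 1588, 283, 1191, 283, 1461], 1, 1, [[], [0, 2, 0, 2, 0, 2, 0, 2, 1, 2, 0, 0, 2, 1, 2, 0, 2, 1, 2, 0], [2, 0, 0, 2, 0, 0, 2, 0, 0, 2, 0, 2, 0, 0, 2, 0, 0, 2, 1, 2], [1, 2, 0, 0, 2, 0, 0, 2, 0, 2, 0, 2, 0, 0, 2, 0, 2, 0, 0, 2]]⟩, ⟨3, [1849, 282], 2, 0, [[], []]⟩, ⟨2, [1594, 1588, 1369, 1159], 1, 1, [[], [0, 0, 2, 0, 2, 1, 2, 1, 2, 0, 2, 0, 2, 0, 2, 1, 2, 0], [2, 0, 0, 2, 0, 2, 1, 2, 0], [1, 2, 0, 2, 1, 2, 0, 2, 0, 2, 0, 0, 2, 0, 0, 2, 0, 0, 2, 0, 0, 2]]⟩, ⟨2,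 [1588, 282, 701, 282, 1608], 1, 1, [[], [2, 0, 2, 0, 0, 2, 1, 2, 1, 2, 0, 2, 1, 2, 0, 2, 0, 0, 2, 0, 2, 0, 2, 0], [2, 0, 2, 0, 2, 0, 0, 2, 0, 0, 2, 1, 2, 0, 2, 0], [0, 0, 2, 0, 0, 2, 0, 0, 2, 0, 0, 2, 0, 0, 2, 0, 0]]⟩, ⟨2, [1699, 1584, 1588, 283, 1727], 1, 2, [[], [2, 0, 2, 0, 2, 0, 2, 1, 2, 0, 0, 2, 1, 2, 1, 2, 1, 2, 1, 2, 0, 0], [2, 0, 2, 0, 0, 2, 0, 2, 0, 0, 2], [2, 0, 2, 0, 2, 1, 2, 1, 2, 0, 2, 0, 2, 0, 0, 2, 1, 2, 0, 0, 2, 0]]⟩] 856 929 = true := by decide +kernel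
theorem dd_c13 : dd.checks [⟨3, [1857, 1660, 1585], 2, 0, [[], []]⟩, ⟨2, [1660, 1588, 498, 1183], 1, 2, [[], [0, 2, 0, 0, 2, 0, 2, 1, 2, 0, 0, 2, 0, 2, 0, 0, 2, 1, 2, 0], [0, 0, 2, 1, 2, 1, 2, 0, 0, 2, 0, 2, 1, 2, 0, 2, 1, 2], [2, 0, 2, 1, 2, 0, 0, 2, 0, 2, 0, 2, 0, 0, 2, 0, 2, 0, 0, 2, 0, 0]]⟩, ⟨3, [1861, 283], 2, 0, [[], []]⟩, ⟨2, [1584, 1660, 1588, 283, 1459, 908], 1, 2, [[], [2, 0, 2, 0, 2, 0, 2, 1, 2, 1, 2, 0, 2, 0, 2, 0, 0, 2, 0], [0, 2, 1, 2, 1, 2, 0, 2, 1, 2, 0, 0, 2, 0, 2, 0, 0, 2, 1], [2, 0, 0, 2, 1, 2, 0, 2, 0, 2, 0, 0, 2, 0, 2, 0, 2, 1]]⟩, ⟨3, [1865, 283], 2, 0, [[], []]⟩, ⟨2, [1588, 943, 283, 508], 1, 2, [[], [2, 0, 2, 0, 2, 0, 2, 0, 2,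 1, 2, 1, 2, 0, 2, 1, 2, 0, 0, 2], [2, 1, 2, 0, 2, 0, 2, 0, 2, 1, 2, 0, 0, 2, 0, 2, 1, 2, 0], [1, 2, 0, 0, 2, 0, 2, 0, 0, 2, 1, 2, 1, 2, 0, 2, 1]]⟩, ⟨3, [1869, 239, 235, 251], 2, 0, [[], []]⟩, ⟨2, [1584, 1661, 1588, 1415, 283, 815], 1, 2, [[], [0, 2, 0, 0, 2, 1, 2, 0, 2, 0, 0, 2, 0, 2, 0, 2, 1], [0, 2, 1, 2, 1, 2, 0, 2, 0, 0, 2, 0, 2, 0, 0, 2, 0, 0], [2, 0, 0, 2, 0, 2, 0, 2, 0, 2, 1, 2, 1, 2, 1, 2, 0, 0, 2, 0, 2]]⟩, ⟨3, [1873, 282], 2, 0, [[], []]⟩, ⟨2, [1654, 1588, 283, 1229, 283, 791], 1, 2, [[], [0, 2, 0, 0, 2, 0, 2, 1, 2, 0, 0, 2, 0, 0, 2, 0, 2, 1], [2, 0, 0, 2, 0, 2, 0, 2, 0, 0, 2, 0, 2, 0, 0, 2, 0, 2, 0, 0], [1, 2, 1, 2, 1, 2, 1, 2, 1, 2, 0, 0,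 2, 0, 0, 2, 1, 2, 0, 0, 2, 0, 0]]⟩, ⟨3, [1877, 283], 2, 0, [[], []]⟩, ⟨2, [1584, 1654, 1660, 1588, 1133, 1103], 1, 2, [[], [2, 0, 0, 2, 0, 2, 0, 0, 2, 0, 0, 2, 0, 2, 1, 2, 1, 2, 0, 2, 0, 0], [0, 0, 2, 0, 2, 1, 2, 0, 0, 2, 0, 0, 2, 0, 0, 2, 1, 2, 0, 2], [1, 2, 0, 2, 1, 2, 0, 2, 0, 2, 0, 0, 2, 0, 2, 1, 2, 0, 0]]⟩, ⟨3, [1881, 283], 2, 0, [[], []]⟩, ⟨2, [1424, 98, 80, 98, 1590], 0, 2, [[], [0, 0, 2, 1, 2, 1, 2, 1, 2, 0, 0, 2, 0, 2, 0, 2, 0, 0, 2, 0, 2, 0, 0], [2, 0, 2, 0, 0, 2, 1, 2, 0, 2, 1, 2, 0, 0, 2, 0]]⟩, ⟨2, [283, 1306, 282, 346, 70, 98, 70, 1590], 1, 3, [[], [2, 1, 2, 0, 0, 2, 1, 2, 0, 0, 2, 0, 2, 0, 2, 0, 2, 0, 2, 0, 2, 1], [2, 1, 2, 1, 2, 0, 2,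 1, 2, 0, 2, 1, 2, 1, 2, 1, 2, 0, 0, 2, 1], [1, 2, 0, 2, 0, 0, 2, 1, 2, 1, 2, 1, 2, 0, 2, 0, 2, 0, 0, 2, 0]]⟩, ⟨3, [1887, 1655], 2, 0, [[], []]⟩, ⟨2, [70, 78, 98, 78, 142, 70, 80, 70, 1590, 1661, 1655, 1705], 1, 2, [[], [2, 0, 0, 2, 0, 0, 2, 0, 2, 1, 2, 0, 2, 0, 2, 0, 0, 2, 0], [1, 2, 0, 2, 1, 2, 0, 0, 2, 1, 2, 0, 0, 2, 0, 2, 1, 2], [0, 0, 2, 1, 2, 0, 0, 2, 0, 2, 0, 2, 0, 0, 2, 1, 2, 0, 2, 0, 2, 0]]⟩, ⟨3, [1891, 1660, 1585], 2, 0, [[], []]⟩, ⟨2, [98, 80, 98, 146, 70, 80, 98, 112, 70, 1590], 1, 3, [[], [0, 0, 2, 0, 2, 0, 2, 0, 2, 0, 2, 0, 2, 1, 2, 0, 0], [1, 2, 1, 2, 0, 2, 0, 2, 1, 2, 0, 2, 0, 0, 2, 0, 0, 2, 0, 0], [2, 1, 2, 0, 0, 2, 0, 0, 2, 1, 2, 0,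 2, 0, 0, 2, 0, 2, 0, 2, 0]]⟩, ⟨3, [1895, 1595], 2, 0, [[], []]⟩, ⟨2, [283, 968, 283, 748, 98, 80, 98, 1590], 1, 3, [[], [2, 0, 2, 0, 0, 2, 0, 2, 0, 2, 1, 2, 0, 0, 2, 0, 2, 0, 2, 1], [2, 0, 2, 0, 2, 1, 2, 0, 2, 0, 2, 0, 0, 2, 0, 2, 0, 2, 0, 0], [0, 2, 0, 2, 0, 2, 1, 2, 1, 2, 0, 2, 1, 2, 1, 2, 0, 0, 2, 1, 2]]⟩, ⟨3, [1899, 1654, 1585], 2, 0, [[], []]⟩, ⟨2, [283, 718, 282, 556, 80, 98, 80, 1590], 1, 3, [[], [1, 2, 1, 2, 1, 2, 1, 2, 0, 2, 1, 2, 0, 0, 2, 1, 2, 0, 0, 2], [1, 2, 0, 2, 1, 2, 1, 2, 1, 2, 0, 0, 2, 0, 2, 0, 0, 2, 0, 0], [2, 0, 0, 2, 0, 2, 0, 2, 0, 2, 0, 0, 2, 0, 0, 2, 1, 2, 1]]⟩, ⟨3, [1903, 1660, 1585], 2, 0, [[], []]⟩, ⟨2, [1592, 78, 80, 110, 98,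 1590], 1, 3, [[], [2, 0, 2, 1, 2, 0, 0, 2, 1, 2, 1, 2, 0, 2, 0, 0, 2, 0, 0, 2, 0, 0], [0, 2, 0, 2, 0, 2, 0, 2, 0, 2, 0, 2, 1, 2, 1], [2, 1, 2, 1, 2, 0, 2, 0, 0, 2, 0, 0, 2, 0, 2, 0, 0, 2, 1]]⟩, ⟨2, [1584, 1594, 1894, 78, 1590, 1655, 1585, 1789], 1, 2, [[], [0, 0, 2, 0, 0, 2, 0, 2, 0, 2, 0, 2, 0, 2, 1, 2, 1, 2, 0, 0, 2, 1], [2, 0, 2, 0, 2, 0, 2, 0, 0, 2, 0, 2, 1, 2, 0, 2, 0, 2, 1], [1, 2, 1, 2, 1, 2, 1, 2, 0, 2, 1, 2, 0, 2, 0, 0, 2]]⟩, ⟨2, [1584, 1660, 1884, 378, 70, 78, 70, 1590], 1, 3, [[], [1, 2, 1, 2, 0, 2, 1, 2, 0, 2, 1, 2, 1, 2, 0, 2, 0, 2, 0], [2, 0, 2, 0, 2, 1, 2, 0, 0, 2, 1, 2, 0, 0, 2, 0, 2, 1], [2, 1, 2, 1, 2, 1, 2, 0, 2, 1, 2, 0, 0, 2, 1,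 2, 0, 0]]⟩, ⟨2, [1661, 1690, 282, 556, 98, 70, 78, 1590], 1, 3, [[], [1, 2, 0, 0, 2, 0, 2, 1, 2, 1, 2, 0, 0, 2, 0, 2, 1, 2, 1, 2, 0], [2, 0, 0, 2, 0, 2, 0, 0, 2, 1, 2, 0, 0, 2, 0], [0, 2, 0, 2, 0, 2, 1, 2, 0, 2, 1, 2, 1, 2, 0, 0, 2]]⟩, ⟨2, [282, 564, 70, 78, 70, 98, 140, 70, 78, 98, 78, 1590], 1, 3, [[], [0, 0, 2, 0, 2, 0, 2, 1, 2, 0, 0, 2, 0, 2, 0, 0, 2, 0, 0, 2, 1], [1, 2, 1, 2, 0, 2, 1, 2, 1, 2, 0, 2, 1, 2, 0, 2, 1, 2, 1, 2, 1], [0, 2, 0, 2, 0, 0, 2, 0, 2, 1, 2, 1, 2, 1, 2]]⟩, ⟨3, [1915, 1660, 1655, 1585], 2, 0, [[], []]⟩, ⟨2, [1584, 1624, 70, 78, 1590, 1660, 1655, 1585, 1725], 1, 2, [[], [2, 0, 0, 2, 1, 2, 1, 2, 0, 2, 0, 2, 1, 2, 0, 0, 2, 1], [0,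 2, 1, 2, 0, 2, 0, 2, 0, 2, 0, 2, 0, 0, 2, 1, 2, 0, 2, 0, 2, 0, 0], [2, 1, 2, 0, 0, 2, 1, 2, 0, 0, 2, 1, 2, 1, 2, 0, 0]]⟩, ⟨3, [1919, 282], 2, 0, [[], []]⟩, ⟨2, [282, 552, 190, 201, 208, 214, 78, 80, 1590], 1, 3, [[], [2, 0, 2, 0, 2, 1, 2, 1, 2, 1, 2, 1, 2, 1, 2, 0, 2, 0, 0], [1, 2, 0, 0, 2, 0, 0, 2, 1, 2, 0, 2, 0, 0, 2, 0, 2, 0, 2, 0, 2], [0, 2, 1, 2, 1, 2, 0, 2, 0, 0, 2, 0, 2, 0, 2, 1, 2, 0]]⟩, ⟨3, [1923, 1660, 1655, 1585], 2, 0, [[], []]⟩, ⟨2, [1310, 574, 70, 98, 70, 1590], 1, 0, [[], [0, 2, 0, 0, 2, 0, 0, 2, 0, 2, 1, 2, 0, 0, 2, 0, 0], [2, 1, 2, 0, 2, 0, 2, 1, 2, 0, 2, 0, 2, 0, 0, 2, 1, 2, 0, 2, 1], [0, 2, 1, 2, 1, 2, 1, 2, 1, 2, 1, 2, 0, 2, 1, 2,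 0, 0, 2, 0, 0, 2, 0]]⟩, ⟨3, [1927, 1595, 1585], 2, 0, [[], []]⟩, ⟨2, [283, 1516, 283, 738, 70, 1590], 1, 0, [[], [0, 2, 0, 2, 1, 2, 0, 2, 1, 2, 0, 2, 0, 2, 0, 0, 2, 1, 2, 0, 0], [0, 2, 1, 2, 0, 0, 2, 1, 2, 0, 2, 0, 2, 0, 0, 2, 1, 2, 0], [0, 0, 2, 1, 2, 0, 2, 0, 2, 1, 2, 0, 2]]⟩, ⟨3, [1931, 1660, 1585], 2, 0, [[], []]⟩, ⟨2, [70, 98, 72, 98, 70, 122, 78, 98, 1590], 1, 0, [[], [2, 0, 2, 0, 2, 0, 2, 0, 2, 1, 2, 0, 0, 2, 0, 2, 0, 0, 2, 1], [0, 0, 2, 1, 2, 0, 2, 1, 2, 0, 2, 1, 2, 1, 2, 0, 2, 0, 2, 1, 2], [2, 0, 0, 2, 0, 0, 2, 0, 2, 1, 2, 0, 0, 2, 1, 2, 1, 2, 0, 2, 0, 0]]⟩, ⟨3, [1935, 1660, 1585], 2, 0, [[], []]⟩, ⟨2, [1660, 1592, 81, 71, 99, 1891], 0, 1, [[],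 [2, 1, 2, 0, 0, 2, 0, 2, 0, 2, 0, 0, 2, 1, 2, 1, 2, 0], [2, 1, 2, 0, 0, 2, 0, 2, 0, 2, 0, 0, 2, 0, 0, 2, 0, 2, 1]]⟩, ⟨3, [1939, 1654, 1585], 2, 0, [[], []]⟩, ⟨2, [1654, 1592, 79, 71, 557, 283, 1325], 1, 1, [[], [1, 2, 1, 2, 1, 2, 0, 2, 0, 2, 0, 2, 0, 0, 2, 0, 0, 2, 0, 0], [1, 2, 1, 2, 0, 0, 2, 0, 2, 1, 2, 0, 2, 0, 2, 0, 0, 2, 0, 0, 2, 1], [1, 2, 1, 2, 0, 2, 0, 2, 1, 2, 0, 0, 2, 0, 0, 2, 1, 2, 1, 2, 1]]⟩, ⟨3, [1943, 282], 2, 0, [[], []]⟩, ⟨2, [1592, 81, 145, 215], 1, 1, [[], [0, 2, 1, 2, 0, 2, 0, 2, 0, 2, 0, 0, 2, 0, 2, 1], [0, 2, 1, 2, 1, 2, 0, 0, 2, 1, 2, 0, 2, 0, 0, 2, 0, 2, 0], [1, 2, 0, 2, 1, 2, 1, 2, 0, 0, 2, 0, 0, 2, 0, 0, 2, 0, 2, 0, 0]]⟩, ⟨3,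 [1947, 208, 195], 2, 0, [[], []]⟩, ⟨2, [1594, 1592, 79, 71, 81, 441, 282, 1339], 1, 1, [[], [1, 2, 0, 2, 0, 0, 2, 1, 2, 0, 2, 1, 2, 0, 0], [1, 2, 0, 0, 2, 1, 2, 0, 2, 1, 2, 1, 2, 0, 2, 0, 0], [0, 2, 1, 2, 0, 0, 2, 1, 2, 0, 0, 2, 1, 2, 1, 2, 0]]⟩, ⟨3, [1951, 282], 2, 0, [[], []]⟩, ⟨2, [1584, 1594, 1592, 99, 81, 99, 1355, 1139], 1, 1, [[], [2, 0, 2, 0, 0, 2, 0, 0, 2, 0, 2, 0, 2, 1, 2, 0, 0, 2, 0, 0, 2, 1], [0, 2, 0, 0, 2, 0, 0, 2, 0, 0, 2, 0, 0, 2, 0, 2, 0, 0, 2, 0], [2, 1, 2, 0, 0, 2, 0, 0, 2, 1, 2, 0, 0, 2, 0, 2, 1]]⟩, ⟨3, [1955, 283], 2, 0, [[], []]⟩, ⟨2, [70, 78, 70, 80, 1622, 1654, 1661, 1592, 81, 71, 81, 1891], 1, 2, [[], [2, 0, 0, 2, 1, 2, 1, 2,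 1, 2, 0, 0, 2, 1, 2, 0, 2, 0, 0, 2, 0], [2, 0, 2, 0, 2, 0, 0, 2, 0, 2, 0, 0, 2, 1, 2, 0, 2, 0], [0, 2, 0, 2, 0, 2, 1, 2, 1, 2, 1, 2, 1, 2, 0, 0, 2, 0, 2, 1, 2, 0]]⟩, ⟨3, [1959, 1595], 2, 0, [[], []]⟩, ⟨2, [1584, 1654, 1592, 99, 71, 81, 79, 1419, 282, 1237], 1, 1, [[], [2, 0, 2, 0, 2, 0, 0, 2, 0, 0, 2, 0, 0, 2, 0, 2, 0, 2, 1], [1, 2, 0, 0, 2, 0, 2, 1, 2, 0, 0, 2, 0, 0, 2, 1, 2, 0, 2, 0, 0], [1, 2, 0, 2, 1, 2, 0, 2, 1, 2, 0, 2, 1, 2, 0, 2]]⟩, ⟨3, [1963, 282], 2, 0, [[], []]⟩, ⟨2, [1584, 1592, 79, 99, 79, 679, 283, 1367], 1, 2, [[], [1, 2, 1, 2, 1, 2, 1, 2, 0, 0, 2, 0, 0, 2, 0, 2, 1, 2, 0, 0, 2, 0], [0, 2, 1, 2, 0, 0, 2, 1, 2, 0, 0, 2, 1, 2, 1, 2, 0, 0,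 2, 0, 2, 0], [1, 2, 0, 0, 2, 0, 2, 0, 2, 1, 2, 1, 2, 0, 0]]⟩, ⟨3, [1967, 282], 2, 0, [[], []]⟩, ⟨2, [1660, 1778, 1596], 0, 2, [[], [0, 2, 0, 2, 0, 2, 1, 2, 1, 2, 0, 2, 1, 2, 1, 2, 1], [0, 2, 0, 2, 0, 0, 2, 0, 2, 1, 2, 1, 2, 1, 2, 1]]⟩, ⟨2, [283, 1596, 1661, 1655, 1907], 0, 1, [[], [0, 0, 2, 0, 2, 1, 2, 1, 2, 0, 2, 0, 2, 1, 2, 0, 0, 2, 0, 0, 2], [1, 2, 0, 2, 0, 0, 2, 1, 2, 1, 2, 0, 2, 0, 2, 1, 2, 1, 2, 0, 2, 0, 0]]⟩, ⟨3, [1973, 1585], 2, 0, [[], []]⟩, ⟨2, [1584, 1655, 1804, 1596, 1660, 1585, 1669], 1, 2, [[], [2, 0, 2, 0, 0, 2, 0, 2, 0, 2, 0, 2, 1, 2, 0, 0, 2, 0, 0, 2, 1], [2, 0, 2, 0, 2, 0, 2, 1, 2, 1, 2, 0, 2, 1, 2, 0, 0], [2, 1, 2, 0, 0, 2, 1, 2, 1,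 2, 0, 0, 2, 0, 0, 2]]⟩, ⟨3, [1977, 283], 2, 0, [[], []]⟩, ⟨2, [726, 282, 838, 1596], 1, 3, [[], [1, 2, 1, 2, 0, 0, 2, 0, 2, 0, 2, 0], [1, 2, 0, 0, 2, 1, 2, 1, 2, 1, 2, 1, 2, 0, 2, 0, 2, 1], [2, 0, 2, 1, 2, 0, 2, 0, 0, 2, 0, 0, 2, 0, 0, 2, 0, 2, 0, 0, 2]]⟩, ⟨3, [1981, 1660, 1585], 2, 0, [[], []]⟩, ⟨2, [319, 282, 655, 282, 1596], 1, 3, [[], [2, 0, 0, 2, 0, 2, 0, 0, 2, 1, 2, 1, 2, 0, 2, 1, 2, 0, 2, 0, 0], [2, 1, 2, 0, 0, 2, 1, 2, 1, 2, 1, 2, 0, 2, 0, 2, 1], [2, 1, 2, 1, 2, 1, 2, 0, 0, 2, 0, 2, 0, 2, 0, 0, 2, 0, 2]]⟩, ⟨3, [1985, 1655, 1585], 2, 0, [[], []]⟩, ⟨2, [1164, 283, 1596, 1855], 1, 3, [[], [0, 0, 2, 1, 2, 0, 0, 2, 0, 2, 0, 2, 1, 2, 0, 2], [1, 2,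 0, 2, 1, 2, 1, 2, 0, 0, 2, 0, 0, 2, 1, 2, 0, 2, 0, 2, 0, 0], [0, 2, 1, 2, 0, 2, 0, 2, 0, 2, 0, 0, 2, 0, 2, 0, 2, 0, 2, 1]]⟩, ⟨3, [1989, 1661, 1585], 2, 0, [[], []]⟩, ⟨2, [1978, 1296, 282, 1596], 1, 0, [[], [2, 0, 2, 0, 0, 2, 1, 2, 0, 0, 2, 0, 2, 1, 2, 1, 2, 1, 2], [0, 2, 0, 0, 2, 1, 2, 0, 0, 2, 0, 0, 2, 0, 2, 0, 0, 2, 0, 2], [2, 0, 0, 2, 0, 0, 2, 0, 2, 0, 2, 0, 0, 2, 0, 2, 0, 2, 0, 2, 0, 0]]⟩, ⟨2, [1661, 1664, 283, 1596, 1660, 1655, 1703], 1, 3, [[], [0, 2, 0, 0, 2, 1, 2, 1, 2, 1, 2, 0, 0, 2, 1, 2, 0, 0, 2, 1], [0, 0, 2, 0, 2, 0, 0, 2, 1, 2, 1, 2, 0, 2, 0, 0, 2, 0, 2, 1, 2, 0], [0, 2, 0, 0, 2, 1, 2, 0, 0, 2, 1, 2, 0, 2, 0]]⟩, ⟨2, [1654, 1661, 1598, 1251,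 1125], 1, 1, [[], [2, 0, 0, 2, 0, 2, 0, 2, 0, 0, 2, 0, 0, 2, 0, 2, 0, 2, 0], [1, 2, 0, 0, 2, 0, 0, 2, 1, 2, 1, 2, 0, 0, 2, 0, 2, 0, 0, 2, 1, 2, 0, 0], [2, 0, 2, 0, 2, 0, 0, 2, 0, 0, 2, 1, 2, 1, 2, 0, 0, 2, 0, 2, 0]]⟩] 929 999 = true := by decide +kernel
theorem dd_c14 : dd.checks [⟨2, [964, 191, 208, 208, 1600], 0, 2, [[], [0, 0, 2, 1, 2, 1, 2, 0, 0, 2, 1, 2, 0, 2, 0, 2, 0, 2, 1], [2, 1, 2, 0, 2, 1, 2, 0, 2, 0, 2, 1, 2, 0, 2]]⟩, ⟨3, [1999, 1585], 2, 0, [[], []]⟩, ⟨2, [283, 394, 191, 221, 1600], 0, 2, [[], [2, 0, 2, 1, 2, 1, 2, 0, 2, 1, 2, 0, 2], [0, 0, 2, 1, 2, 0, 2, 0, 2, 0, 0, 2, 1, 2, 0, 0, 2, 0, 0, 2]]⟩, ⟨3, [2003, 1661, 1585], 2, 0, [[], []]⟩, ⟨2,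 [1654, 1602, 209, 220, 1600], 0, 2, [[], [2, 0, 2, 0, 2, 1, 2, 0, 2, 1, 2, 1, 2, 0, 2, 0, 2, 0, 2, 0], [0, 2, 0, 2, 0, 2, 1, 2, 0, 0, 2, 0, 0, 2, 1, 2, 1, 2, 0, 0, 2, 0, 0]]⟩, ⟨2, [1655, 1602, 194, 220, 1600], 0, 2, [[], [2, 0, 0, 2, 0, 2, 0, 0, 2, 0, 2, 0, 2, 1, 2, 0, 2, 0, 0, 2, 1, 2, 0, 0], [0, 0, 2, 0, 0, 2, 1, 2, 0, 2, 0, 2, 0, 0, 2, 1, 2, 1, 2]]⟩, ⟨2, [208, 222, 188, 208, 220, 1600], 0, 2, [[], [0, 2, 0, 2, 1, 2, 1, 2, 1, 2, 1, 2, 0, 2, 1, 2], [2, 1, 2, 0, 0, 2, 0, 0, 2, 0, 2, 0, 0, 2, 0, 2]]⟩, ⟨3, [2011, 1654, 1585], 2, 0, [[], []]⟩, ⟨2, [283, 324, 190, 201, 476, 188, 208, 208, 1600], 1, 0, [[], [0, 2, 1, 2, 0, 2, 1, 2, 0, 2, 1, 2, 1, 2, 0, 2,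 0], [2, 0, 0, 2, 1, 2, 1, 2, 0, 2, 1, 2, 0, 0, 2, 0], [2, 0, 2, 0, 2, 1, 2, 1, 2, 0, 0, 2, 1, 2, 0, 0, 2, 0, 2]]⟩, ⟨3, [2015, 1654], 2, 0, [[], []]⟩, ⟨2, [1655, 1602, 220, 209, 190, 587], 0, 1, [[], [2, 0, 2, 1, 2, 1, 2, 1, 2, 0, 2, 0, 2, 1, 2, 0, 2, 0, 2, 0], [2, 0, 0, 2, 0, 2, 1, 2, 0, 0, 2, 0, 0, 2, 0, 0, 2, 0, 0, 2, 1, 2, 0]]⟩, ⟨2, [1584, 1654, 1660, 1602, 220, 194, 965, 283, 807], 1, 1, [[], [1, 2, 0, 2, 1, 2, 0, 0, 2, 1, 2, 1, 2, 1, 2, 0, 0, 2, 0], [0, 0, 2, 0, 2, 0, 2, 0, 2, 0, 2, 1, 2, 1, 2, 0, 2, 0, 2, 0], [2, 0, 2, 1, 2, 0, 2, 0, 2, 0, 0, 2, 0, 2, 0, 2, 0, 2, 1]]⟩, ⟨2, [1594, 1602, 220, 194, 325, 283, 1255], 1, 1, [[], [1, 2, 0, 0, 2, 1, 2,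 1, 2, 0, 0, 2, 0, 2, 0, 2, 0, 0, 2, 1], [1, 2, 1, 2, 1, 2, 0, 2, 0, 2, 1, 2, 0, 2, 1, 2, 0, 2], [1, 2, 0, 0, 2, 1, 2, 1, 2, 1, 2, 1, 2, 1, 2, 1, 2, 1, 2, 0, 0, 2, 0]]⟩, ⟨3, [2023, 283], 2, 0, [[], []]⟩, ⟨2, [1584, 1654, 1602, 201, 191, 919, 283, 1467], 1, 1, [[], [1, 2, 0, 2, 0, 2, 1, 2, 1, 2, 1, 2, 0, 2, 0, 0, 2, 1], [2, 0, 0, 2, 0, 0, 2, 0, 0, 2, 0, 0, 2, 1, 2, 0], [2, 1, 2, 0, 2, 0, 2, 0, 0, 2, 0, 2, 0, 0, 2, 1, 2, 0, 0]]⟩, ⟨3, [2027, 283], 2, 0, [[], []]⟩, ⟨2, [1584, 1594, 1794, 1584, 1654, 1661, 1602, 209, 209, 194, 191, 953], 1, 3, [[], [0, 2, 0, 2, 1, 2, 0, 2, 0, 0, 2, 0, 2, 0, 0, 2, 0, 2, 1, 2, 1], [1, 2, 0, 0, 2, 1, 2, 0, 2, 0, 2, 1, 2, 0, 2,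 0, 2, 1, 2, 0], [2, 0, 2, 0, 0, 2, 0, 2, 0, 0, 2, 1, 2, 0, 0, 2, 1, 2, 1, 2]]⟩, ⟨3, [2031, 283], 2, 0, [[], []]⟩, ⟨2, [1584, 1655, 1602, 359, 282, 1001], 1, 2, [[], [0, 0, 2, 0, 2, 0, 2, 0, 2, 0, 2, 0, 0], [2, 0, 2, 0, 2, 0, 2, 0, 2, 0, 0, 2, 1, 2, 0, 0, 2, 0, 2, 0, 0], [0, 2, 0, 2, 1, 2, 0, 2, 1, 2, 1, 2, 0, 2, 0]]⟩, ⟨3, [2035, 282], 2, 0, [[], []]⟩, ⟨2, [1494, 152, 152, 165, 152, 1604], 0, 2, [[], [0, 0, 2, 1, 2, 0, 0, 2, 0, 2, 0, 2, 0, 2, 0, 2, 0, 2, 0, 2, 1], [0, 2, 1, 2, 0, 0, 2, 0, 0, 2, 1, 2, 0, 0, 2, 0]]⟩, ⟨3, [2039, 1595], 2, 0, [[], []]⟩, ⟨2, [282, 1064, 818, 152, 152, 165, 152, 157, 1604], 1, 3, [[], [2, 1, 2, 0, 2, 0, 0, 2, 1, 2, 1, 2, 0,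 0, 2], [2, 0, 0, 2, 0, 0, 2, 0, 2, 1, 2, 0, 0, 2, 1, 2, 1, 2], [1, 2, 1, 2, 0, 0, 2, 1, 2, 1, 2, 0, 2, 1, 2, 0, 0, 2, 1, 2, 0]]⟩, ⟨3, [2043, 1660, 1655], 2, 0, [[], []]⟩, ⟨2, [596, 1494, 152, 152, 156, 1604], 1, 0, [[], [0, 2, 0, 2, 0, 0, 2, 0, 2, 0, 2, 0, 2, 0, 2, 1, 2, 1, 2], [2, 0, 0, 2, 0, 2, 1, 2, 1, 2, 1, 2, 0, 0, 2, 1, 2], [2, 1, 2, 0, 2, 0, 0, 2, 1, 2, 1, 2, 0, 2, 1, 2, 0, 0, 2, 0]]⟩, ⟨3, [2047, 1655], 2, 0, [[], []]⟩, ⟨2, [1606, 153, 153, 153, 1607], 0, 1, [[], [1, 2, 0, 2, 1, 2, 1, 2, 1, 2, 0, 0, 2, 0, 2, 1], [1, 2, 0, 2, 1, 2, 0, 2, 0, 2, 0, 0, 2, 1, 2, 0, 2, 0, 2]]⟩, ⟨2, [1584, 1594, 1988, 283, 1608], 0, 2, [[], [0, 2, 0, 2, 0, 2, 1, 2, 0,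 2, 0, 0, 2, 0, 2, 0, 2, 0, 0], [0, 2, 0, 2, 0, 2, 0, 2, 0, 2, 1, 2, 0, 2, 1, 2, 0, 2, 0]]⟩, ⟨2, [1594, 1774, 1608, 1661, 1585, 1793], 1, 2, [[], [0, 2, 1, 2, 0, 0, 2, 0, 0, 2, 0, 2, 0, 2, 0, 2, 0, 2, 1, 2, 0, 2, 1], [2, 1, 2, 0, 2, 1, 2, 1, 2, 1, 2, 0, 0, 2, 0], [0, 2, 0, 2, 0, 2, 1, 2, 0, 2, 1, 2, 0, 2, 1, 2, 1, 2, 0, 0, 2, 0]]⟩, ⟨3, [2055, 282], 2, 0, [[], []]⟩, ⟨2, [283, 1732, 1660, 1609, 283, 1887], 1, 2, [[], [2, 1, 2, 0, 2, 0, 2, 0, 0, 2, 1, 2, 0, 2, 0, 2, 0, 0, 2, 0, 2, 1], [2, 0, 0, 2, 1, 2, 1, 2, 1, 2, 0, 2], [1, 2, 1, 2, 1, 2, 1, 2, 0, 0, 2, 1, 2, 1, 2, 1, 2, 1]]⟩, ⟨3, [2059, 1661, 1655, 1585], 2, 0, [[], []]⟩, ⟨2, [1794, 1584, 1654, 1610],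 0, 2, [[], [0, 2, 1, 2, 0, 2, 0, 2, 0, 0, 2, 0, 2, 0, 2, 1, 2, 0, 0], [1, 2, 1, 2, 0, 2, 0, 0, 2, 0, 2, 0, 2, 0, 2, 0, 0, 2, 0, 0, 2, 1]]⟩, ⟨2, [1654, 1610, 1654, 1585, 1925, 283, 459], 1, 1, [[], [1, 2, 0, 2, 1, 2, 0, 2, 0, 0, 2, 1, 2, 0, 0], [0, 2, 1, 2, 1, 2, 1, 2, 0, 2, 0, 2, 0, 0, 2, 0, 2, 0, 2, 0, 2, 0, 0], [1, 2, 0, 0, 2, 0, 0, 2, 0, 2, 1, 2, 0, 0, 2, 0, 0, 2, 0, 2, 0]]⟩, ⟨3, [2065, 81, 71, 79, 71], 2, 0, [[], []]⟩, ⟨2, [1610, 1595, 1585, 1855, 1595, 1611], 1, 1, [[], [2, 0, 2, 0, 0, 2, 1, 2, 0, 0, 2, 0, 2, 0, 2, 0, 2, 1], [1, 2, 1, 2, 1, 2, 1, 2, 0, 0, 2, 0, 0, 2], [2, 0, 2, 1, 2, 0, 2, 0, 2, 0, 0, 2, 0, 0, 2]]⟩, ⟨2, [1661, 1610, 1595, 1585,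 1817, 282, 1819], 1, 1, [[], [0, 0, 2, 1, 2, 1, 2, 1, 2, 1, 2, 0, 0, 2, 1, 2, 1, 2, 0, 2, 1], [2, 1, 2, 0, 2, 1, 2, 0, 0, 2, 1, 2, 0, 2], [1, 2, 0, 2, 0, 2, 0, 0, 2, 0, 0, 2, 0, 2, 1, 2, 1, 2, 0, 0, 2, 1]]⟩, ⟨2, [290, 221, 195, 1600, 1584, 1655, 1610], 1, 3, [[], [1, 2, 0, 2, 1, 2, 1, 2, 0, 2, 0, 0, 2, 1, 2, 1, 2, 0], [2, 1, 2, 1, 2, 0, 2, 1, 2, 1, 2], [0, 2, 0, 2, 1, 2, 0, 2, 0, 2, 1, 2, 0, 0, 2, 0, 0, 2, 0, 2]]⟩, ⟨2, [78, 1622, 1584, 1654, 1661, 2050, 1654, 1660, 1610], 1, 0, [[], [0, 2, 0, 0, 2, 1, 2, 0, 0, 2, 1, 2, 0, 0, 2, 0, 0, 2, 0, 0], [1, 2, 0, 2, 0, 2, 0, 0, 2, 0, 2, 0, 2, 1, 2, 1, 2], [0, 2, 1, 2, 1, 2, 0, 0, 2, 1, 2, 1, 2, 0, 2, 0, 2, 0]]⟩,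 ⟨2, [1594, 1756, 1584, 1660, 1836, 1584, 1594, 1610], 1, 0, [[], [2, 0, 0, 2, 1, 2, 0, 0, 2, 0, 2, 0, 2, 0, 0, 2, 0, 0, 2, 0, 2, 1], [2, 0, 2, 1, 2, 0, 0, 2, 1, 2, 1, 2, 1, 2, 1, 2, 0, 2, 1, 2, 0, 2, 1], [1, 2, 0, 0, 2, 0, 2, 1, 2, 0, 2, 0, 0, 2, 0, 2, 1, 2, 1, 2, 0]]⟩, ⟨2, [282, 586, 195, 209, 1600, 1584, 1610], 1, 0, [[], [1, 2, 1, 2, 1, 2, 0, 2, 0, 0, 2, 0, 0, 2, 0, 2, 1, 2, 0], [0, 0, 2, 0, 2, 0, 0, 2, 1, 2, 1, 2, 0, 0, 2, 1, 2, 1, 2, 1], [0, 0, 2, 0, 0, 2, 1, 2, 0, 0, 2, 1, 2, 0, 0, 2, 0, 0, 2, 1]]⟩, ⟨3, [2079, 1661, 1655], 2, 0, [[], []]⟩, ⟨2, [1584, 1654, 2070, 1584, 1654, 1661, 1610, 1655, 1585, 1587], 1, 3, [[], [0, 2, 0, 2, 1, 2, 1, 2, 1, 2,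 1, 2, 1, 2, 1, 2, 1, 2, 1, 2], [0, 2, 1, 2, 1, 2, 0, 2, 0, 2, 0, 0, 2, 0, 0, 2, 0, 2], [0, 2, 0, 0, 2, 1, 2, 1, 2, 0, 2, 0, 2, 1, 2, 1, 2, 0, 2, 0]]⟩, ⟨2, [1660, 1610, 1595, 2053, 1655, 1837], 1, 2, [[], [0, 2, 1, 2, 1, 2, 0], [2, 0, 2, 0, 2, 0, 0, 2, 1, 2, 1, 2, 1, 2, 0, 2, 0, 2, 0, 0, 2, 0], [0, 2, 0, 0, 2, 0, 0, 2, 0, 0, 2, 1, 2, 1, 2, 0, 0, 2, 0]]⟩, ⟨2, [1655, 1610, 1661, 2009, 1661, 1655, 1585, 1613], 1, 2, [[], [2, 0, 0, 2, 0, 2, 1, 2, 1, 2, 1, 2, 0, 0, 2, 1, 2, 1, 2, 0, 0, 2], [0, 2, 1, 2, 1, 2, 0, 0, 2, 0, 0, 2, 1, 2, 0, 0, 2, 0, 2, 0], [0, 0, 2, 0, 2, 1, 2, 1, 2, 0, 0, 2, 0, 0, 2, 1, 2, 1, 2, 0, 2, 0]]⟩, ⟨3, [2087, 282], 2, 0, [[], []]⟩, ⟨2,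 [1584, 1655, 1866, 283, 1666, 1654, 1610], 1, 0, [[], [1, 2, 0, 2, 0, 2, 0, 2, 0, 2, 1, 2, 1, 2, 1, 2, 0, 2, 0, 0, 2], [0, 2, 1, 2, 0, 2, 1, 2, 0, 2, 1, 2, 0, 0, 2, 1, 2, 0], [1, 2, 0, 2, 1, 2, 1, 2, 1, 2, 0, 0, 2, 1, 2, 1, 2, 0, 2, 0, 2]]⟩, ⟨2, [1584, 1654, 1660, 1610, 1660, 1655, 1585, 2081, 713], 1, 2, [[], [2, 1, 2, 1, 2, 1, 2, 0, 0, 2, 0, 2, 0, 0, 2, 0, 2, 1, 2, 0], [0, 2, 0, 2, 0, 0, 2, 0, 2, 0, 0, 2, 1, 2, 0, 0, 2, 1, 2, 1], [0, 0, 2, 0, 2, 1, 2, 0, 0, 2]]⟩, ⟨3, [2093, 283], 2, 0, [[], []]⟩, ⟨2, [1660, 2072, 1612, 1654, 1585, 1647], 1, 3, [[], [0, 2, 0, 2, 1, 2, 0, 2, 0, 0, 2, 1, 2, 0, 2, 0], [2, 1, 2, 0, 2, 1, 2, 0, 0, 2, 0, 2, 1, 2, 0, 2, 0,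 2, 0, 0], [0, 2, 1, 2, 0, 0, 2, 1, 2, 0, 2, 1, 2, 1, 2, 0, 0, 2, 0, 0]]⟩, ⟨2, [1584, 1616, 283, 1270], 0, 1, [[], [0, 2, 1, 2, 0, 2, 1, 2, 0, 2, 0, 0, 2, 0, 2, 0, 2, 1, 2], [0, 0, 2, 0, 0, 2, 1, 2, 0, 0, 2, 0, 2, 1]]⟩, ⟨3, [2099, 283], 2, 0, [[], []]⟩, ⟨2, [98, 78, 146, 98, 118, 80, 1618], 1, 3, [[], [1, 2, 0, 2, 0, 2, 0, 0, 2, 1, 2, 0, 0, 2, 0, 0, 2, 0], [0, 0, 2, 0, 0, 2, 0, 0, 2, 0, 2, 1, 2, 0, 2, 0, 2, 0, 0, 2, 0], [0, 0, 2, 0, 2, 0, 2, 1, 2, 0, 2, 0, 0, 2, 0]]⟩, ⟨3, [2103, 1660], 2, 0, [[], []]⟩, ⟨2, [1654, 2083, 283, 1424, 78, 80, 70, 80, 1618], 1, 3, [[], [2, 1, 2, 1, 2, 0, 0, 2, 1, 2, 1, 2, 0, 0, 2, 0, 2, 0, 2, 0, 0], [1, 2, 0, 0, 2, 0, 2, 1,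 2, 0, 2, 0, 2, 1, 2, 0, 2, 0], [2, 0, 2, 0, 2, 1, 2, 1, 2, 0, 2, 0, 2, 1, 2, 0, 0, 2, 0, 2, 0, 0, 2, 1]]⟩, ⟨2, [1584, 1620, 81, 79, 71, 637], 0, 1, [[], [2, 0, 2, 0, 0, 2, 1, 2, 0, 2, 0, 2, 1, 2, 0, 0], [1, 2, 1, 2, 1, 2, 0, 2, 0, 2, 0, 0, 2, 0, 2, 0, 2]]⟩, ⟨3, [2109, 282], 2, 0, [[], []]⟩, ⟨2, [1660, 1620, 71, 81, 71, 147, 99, 71, 257], 1, 1, [[], [2, 0, 2, 1, 2, 0, 0, 2, 1, 2, 0, 2, 1, 2, 1, 2, 0, 2, 0, 2, 0, 2, 0], [2, 0, 2, 1, 2, 0, 2, 1, 2, 0, 2, 1, 2, 1, 2, 1, 2, 1, 2, 0, 0, 2, 0], [0, 0, 2, 1, 2, 1, 2, 0, 0, 2, 0, 0, 2, 0, 0, 2, 1, 2, 0]]⟩, ⟨3, [2113, 251, 238, 244], 2, 0, [[], []]⟩, ⟨2, [1584, 1661, 1978, 1626, 1595, 1585, 1995], 1, 3, [[], [2,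 0, 2, 1, 2, 1, 2, 1, 2, 1, 2, 1, 2, 0, 0, 2, 0, 2, 1, 2, 1, 2, 1], [2, 0, 2, 1, 2, 0, 2, 1, 2, 0, 2, 0, 2, 0, 0, 2, 0, 2, 0, 0, 2, 0], [0, 2, 0, 0, 2, 0, 0, 2, 1, 2, 1, 2, 0, 0, 2, 0, 0]]⟩, ⟨3, [2117, 283], 2, 0, [[], []]⟩, ⟨2, [1584, 1660, 1790, 283, 1630, 1595, 1865], 1, 2, [[], [0, 2, 0, 2, 0, 0, 2, 0, 0, 2, 1, 2, 1, 2, 0, 0, 2, 0, 2], [2, 1, 2, 1, 2, 1, 2, 1, 2, 1, 2], [0, 2, 0, 2, 0, 0, 2, 0, 0, 2, 0, 0, 2, 0, 2, 1, 2, 0, 0, 2, 1]]⟩, ⟨3, [2121, 282], 2, 0, [[], []]⟩, ⟨2, [1638, 1654, 1638], 0, 2, [[], [0, 2, 0, 2, 1, 2, 0, 2, 0, 2, 1, 2, 1, 2, 1, 2, 1, 2, 0], [0, 2, 0, 2, 0, 0, 2, 0, 2, 1, 2, 0, 0, 2, 0, 2, 0, 0]]⟩, ⟨2, [1638, 1661, 1655, 2051],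 0, 1, [[], [0, 2, 0, 0, 2, 0, 0, 2, 0, 2, 0, 2, 1], [2, 0, 2, 0, 2, 1, 2, 0, 0, 2, 1, 2, 0, 2, 1, 2, 1, 2, 0, 2, 1]]⟩, ⟨2, [1686, 282, 1080, 282, 1646], 1, 0, [[], [0, 2, 1, 2, 0, 2, 1, 2, 0, 2, 0, 2, 0], [2, 1, 2, 0, 2, 0, 0, 2, 0, 0, 2, 0, 2, 1, 2, 1, 2, 0, 2], [2, 1, 2, 0, 2, 0, 2, 1, 2, 0, 0, 2, 1, 2, 1, 2, 0, 2, 0, 0, 2, 0]]⟩, ⟨2, [1584, 1594, 2078, 1430, 283, 1646], 1, 0, [[], [1, 2, 1, 2, 0, 2, 0, 0, 2, 1, 2, 1, 2, 1, 2, 1], [0, 2, 0, 2, 0, 2, 0, 2, 1, 2, 1, 2, 0, 0, 2, 1, 2, 1], [2, 1, 2, 0, 2, 0, 2, 0, 0, 2, 0, 2, 0, 2, 1]]⟩] 999 1066 = true := by decide +kernel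

end Cfsg.Agent.J4C.C
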