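import Cfsg.Agent.J4C.C.DceD0

set_option autoImplicit false
set_option Elab.async false
set_option maxRecDepth 100000
set_option linter.all false

namespace Cfsg.Agent.J4C.C
open Cfsg.Agent.CGT

theorem dd_c15 : dd.checks [⟨2, [1584, 1594, 2014, 283, 404, 283, 1646], 1, 0, [[], [1, 2, 0, 0, 2, 0, 2, 0, 0, 2, 0, 0, 2, 0, 0, 2, 0, 2, 0, 0, 2, 0, 0], [0, 2, 1, 2, 1, 2, 0, 2, 1, 2, 0, 0, 2, 1], [0, 2, 0, 0, 2, 0, 0, 2, 1, 2, 1, 2, 0, 2, 1, 2]]⟩, ⟨2, [1342, 283, 576, 1652], 1, 3, [[], [1, 2, 1, 2, 0, 2, 0, 0, 2, 0, 2, 0, 2, 1, 2, 1, 2, 0, 0, 2, 0, 0], [2, 0, 2, 0, 0, 2, 1, 2, 0, 2, 1, 2, 0, 2, 1, 2, 1, 2, 1, 2, 1], [1, 2, 0, 2, 1, 2, 0, 2, 1, 2, 0, 2, 0, 2,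 1, 2, 0]]⟩, ⟨3, [2135, 1661, 1585], 2, 0, [[], []]⟩, ⟨2, [244, 250, 232, 1868, 1628, 1584, 1654, 1662], 1, 0, [[], [0, 2, 0, 2, 0, 2, 1, 2, 0, 0, 2, 1, 2], [1, 2, 0, 0, 2, 0, 0, 2, 1, 2, 0, 0, 2, 0, 0, 2, 0, 0, 2, 0], [0, 0, 2, 0, 2, 0, 2, 0, 2, 0, 2, 0, 0, 2, 0, 2, 0]]⟩, ⟨3, [2139, 1661], 2, 0, [[], []]⟩, ⟨2, [646, 1020, 1666], 1, 3, [[], [1, 2, 1, 2, 0, 0, 2, 0, 2, 1, 2, 0, 2, 0, 2, 1, 2, 1, 2, 1], [2, 1, 2, 0, 0, 2, 0, 0, 2, 0, 2, 1, 2, 1, 2, 1, 2, 1, 2, 1, 2, 0], [2, 0, 0, 2, 1, 2, 1, 2, 1, 2, 0, 2, 0, 2, 1, 2, 1, 2, 1]]⟩, ⟨2, [1584, 1655, 2019, 283, 1678, 1907], 1, 2, [[], [0, 2, 0, 0, 2, 0, 0, 2, 0, 0, 2, 0, 2, 0, 0, 2, 1, 2], [2, 0, 0, 2, 1, 2,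 1, 2, 0, 2, 0, 0, 2, 0, 0, 2, 0, 2, 0, 2], [2, 1, 2, 1, 2, 1, 2, 0, 0, 2, 1, 2, 1, 2, 1, 2, 0, 0, 2]]⟩, ⟨3, [2145, 1595, 1585], 2, 0, [[], []]⟩, ⟨2, [1680, 1595, 1585, 1681], 0, 1, [[], [2, 1, 2, 0, 0, 2, 1, 2, 0, 0, 2, 0, 2, 0, 0, 2], [0, 0, 2, 0, 2, 0, 2, 0, 0, 2, 0, 2, 1, 2, 0, 2, 1, 2, 1]]⟩, ⟨2, [70, 80, 1622, 1654, 1661, 1700, 283, 1945], 1, 3, [[], [2, 0, 0, 2, 0, 2, 0, 0, 2, 0, 2, 0, 2, 1, 2, 0, 2, 1, 2, 1, 2, 0], [1, 2, 1, 2, 0, 0, 2, 1, 2, 1, 2, 1], [0, 2, 0, 2, 0, 0, 2, 1, 2, 0, 0, 2, 0, 0, 2, 0, 2, 1, 2, 0]]⟩, ⟨3, [2151, 1655, 1585], 2, 0, [[], []]⟩, ⟨2, [232, 250, 245, 509, 282, 406, 283, 1708], 1, 3, [[], [1, 2, 0, 2, 0, 2, 0, 2, 0, 0, 2,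 1, 2, 1, 2, 1, 2, 0, 2], [0, 2, 1, 2, 1, 2, 1, 2, 1, 2, 1, 2, 1, 2, 0, 2, 1, 2, 0, 0, 2], [2, 1, 2, 1, 2, 0, 2, 1, 2, 0, 2, 0, 2, 1, 2, 0]]⟩, ⟨3, [2155, 1655], 2, 0, [[], []]⟩, ⟨2, [1584, 1654, 1862, 283, 422, 1712], 1, 0, [[], [2, 0, 2, 0, 2, 1, 2, 0, 2, 1, 2, 0, 2, 0, 2, 0, 0, 2, 1], [2, 1, 2, 0, 0, 2, 0, 2, 1, 2, 0, 0, 2, 1], [1, 2, 0, 0, 2, 0, 0, 2, 1, 2, 0, 0, 2, 0, 2, 0, 0, 2]]⟩, ⟨2, [188, 1674, 1584, 1654, 1661, 1718, 1764], 1, 3, [[], [0, 2, 0, 0, 2, 0, 2, 0, 2, 1, 2, 1, 2, 1, 2, 0, 2, 0, 0], [0, 2, 1, 2, 0, 0, 2, 1, 2, 0, 0, 2, 0, 0, 2, 0, 2, 0, 0, 2, 0, 2], [0, 2, 0, 2, 1, 2, 0, 0, 2, 0, 2, 0, 0, 2, 0, 2, 1, 2, 1, 2, 1]]⟩, ⟨3, [2161, 1661],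 2, 0, [[], []]⟩, ⟨2, [1584, 1654, 1938, 1584, 1654, 1660, 1804, 282, 1768], 1, 0, [[], [2, 0, 2, 0, 2, 0, 2, 0, 0, 2, 1, 2, 0, 2, 1, 2, 1, 2, 0, 0, 2], [2, 1, 2, 1, 2, 1, 2, 1, 2, 0, 2, 0, 2, 0, 2, 0, 2, 0, 0], [2, 1, 2, 0, 2, 0, 0, 2, 0, 2, 0, 2, 0, 0, 2, 0, 0, 2, 0]]⟩, ⟨2, [1690, 1504, 1788], 1, 3, [[], [0, 0, 2, 0, 2, 0, 0, 2, 0, 2, 0, 2, 1, 2, 0, 2, 1, 2, 1, 2], [0, 0, 2, 0, 0, 2, 0, 0, 2, 1, 2, 0, 0, 2, 0, 0, 2, 0, 2, 1], [0, 2, 1, 2, 1, 2, 0, 2, 0, 2, 1, 2, 1, 2, 1, 2, 1, 2, 1, 2, 0]]⟩, ⟨2, [1812, 709, 282, 1985], 1, 2, [[], [0, 2, 0, 2, 0, 2, 0, 0, 2, 1, 2, 1, 2, 1, 2, 0, 2, 0], [0, 2, 0, 0, 2, 0, 2, 1, 2, 0, 2, 0, 0, 2, 1, 2, 1], [2, 1, 2, 0,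 0, 2, 1, 2, 1, 2, 1, 2, 1, 2, 1, 2, 0, 2]]⟩, ⟨2, [220, 1946, 1584, 1948], 0, 2, [[], [0, 2, 0, 2, 0, 2, 0, 0, 2, 1, 2, 1, 2, 0, 2, 1, 2, 1], [2, 0, 2, 0, 2, 0, 2, 0, 2, 0, 0, 2, 1, 2, 0, 2, 1, 2, 0, 2, 0]]⟩, ⟨2, [1584, 2068, 2063], 0, 1, [[], [2, 0, 2, 1, 2, 1, 2, 0, 2, 1, 2, 0, 0, 2, 1, 2], [2, 0, 0, 2, 0, 2, 0, 2, 1, 2, 0, 0, 2, 1, 2, 0, 0, 2, 0, 2, 0]]⟩, ⟨2, [2164, 1584, 1654, 2124, 1655, 2165], 1, 3, [[], [2, 1, 2, 0, 2, 1, 2, 1, 2, 0, 0, 2, 0, 0, 2, 0, 0, 2], [2, 0, 2, 1, 2, 0, 2, 0, 2, 0, 2, 0, 0, 2, 0, 0, 2, 0, 2], [2, 0, 2, 1, 2, 0, 0, 2, 0, 0, 2, 0, 0, 2, 0, 2, 0, 0, 2]]⟩, ⟨2, [2128, 1654, 2128], 0, 2, [[], [0, 0, 2, 0, 2, 0, 0, 2, 0], [0, 2,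 1, 2, 1, 2, 1, 2, 1, 2, 1, 2, 1, 2, 1, 2, 0]]⟩, ⟨0, [], 0, 0, []⟩, ⟨3, [2178, 78, 98, 80, 98, 98, 81, 79, 2179], 2, 0, [[], [1, 2, 1, 2, 0, 2, 1, 2, 0, 0, 2, 0, 2, 1, 2, 0, 2, 0]]⟩, ⟨2, [2180, 2178, 99, 71, 81, 79, 441], 0, 1, [[], [2, 0, 0, 2, 0, 2, 0, 2, 0, 2, 1, 2, 1, 2, 0], [1, 2, 0, 2, 0, 2, 0, 2, 0, 2, 0, 2, 0, 2, 0, 0, 2, 0, 2, 0, 0, 2, 0]]⟩, ⟨2, [2178, 99, 81, 99, 1425], 0, 1, [[], [2, 0, 0, 2, 0, 0, 2, 1, 2, 0, 2, 0, 2, 1, 2, 0, 0, 2, 0, 2, 0, 0], [1, 2, 0, 2, 0, 0, 2, 1, 2, 0, 2, 0, 2, 0, 0, 2, 0, 2, 1]]⟩, ⟨3, [2185, 283, 2182], 2, 0, [[], [0, 2, 1, 2, 0, 2, 0, 0, 2, 1, 2, 1, 2, 0]]⟩, ⟨2, [2186, 2178, 71, 99, 1429], 0, 1, [[], [2, 1, 2, 1, 2,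 0, 0, 2, 0, 0, 2, 1, 2, 0, 2, 0, 0], [2, 1, 2, 1, 2, 0, 2, 1, 2, 0, 2, 0, 2, 0, 2, 0]]⟩, ⟨2, [2180, 2178, 81, 79, 71, 81, 1959], 0, 1, [[], [0, 0, 2, 1, 2, 0, 2, 1, 2, 1, 2, 0, 2, 0, 0, 2, 0], [0, 2, 0, 2, 1, 2, 0, 0, 2, 0, 2, 0, 0, 2, 0, 0, 2, 0, 0]]⟩, ⟨3, [2191, 1661, 1585], 2, 0, [[], []]⟩, ⟨2, [2180, 2186, 2178, 79, 71, 87, 79, 71, 99, 71, 877], 1, 1, [[], [2, 0, 2, 0, 2, 0, 0, 2, 0, 0, 2, 1, 2, 0, 0, 2, 0, 0], [2, 0, 2, 1, 2, 0, 2, 1, 2, 1, 2, 0, 0, 2, 1, 2, 0, 2, 0, 2, 0, 0], [1, 2, 1, 2, 1, 2, 1, 2, 1, 2, 1, 2, 1, 2, 0, 0, 2]]⟩, ⟨3, [2195, 282], 2, 0, [[], []]⟩, ⟨2, [2180, 2186, 2178, 71, 81, 79, 71, 645, 283, 419], 1, 1, [[], [2, 1, 2, 0, 2, 1,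 2, 1, 2, 0, 0, 2, 1, 2, 1, 2, 0, 2, 1, 2, 0, 0], [0, 0, 2, 0, 2, 0, 0, 2, 0, 2, 0, 2, 0, 2, 0, 0, 2, 0, 2, 1, 2, 0], [0, 2, 0, 0, 2, 0, 2, 1, 2, 0, 2, 0, 2, 0, 0, 2, 1, 2]]⟩, ⟨2, [2180, 2178, 99, 71, 79, 71, 637, 282, 914], 1, 1, [[], [2, 1, 2, 0, 2, 0, 0, 2, 1, 2, 0, 2, 1, 2, 0, 0, 2, 0, 0, 2], [1, 2, 1, 2, 0, 2, 1, 2, 0, 2, 0, 0, 2, 0, 0, 2, 0, 2, 0, 2, 1], [0, 2, 1, 2, 0, 2, 0, 2, 0, 0, 2, 1, 2, 1, 2, 0, 2]]⟩, ⟨3, [2201, 282], 2, 0, [[], []]⟩, ⟨2, [2180, 2186, 2178, 71, 457, 283, 1159], 1, 1, [[], [0, 0, 2, 0, 2, 0, 2, 0, 2, 0, 0, 2, 1, 2, 0, 0, 2, 0, 2, 0, 0], [1, 2, 0, 2, 1, 2, 0, 0, 2, 0, 0, 2, 0, 0, 2, 0, 0, 2, 0, 2, 1], [0, 0, 2, 0, 0, 2, 0, 0,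 2, 1, 2, 0, 0, 2, 1, 2, 1, 2, 0, 2, 0, 0]]⟩, ⟨3, [2205, 283], 2, 0, [[], []]⟩, ⟨2, [2180, 2178, 71, 79, 71, 929, 283, 659], 1, 1, [[], [2, 1, 2, 0, 2, 0, 2, 0, 2, 0, 2, 0, 0, 2, 0, 2, 1, 2, 0, 0, 2], [0, 0, 2, 1, 2, 0, 0, 2, 1, 2, 0, 0, 2, 0, 0, 2, 0, 0, 2, 0, 0], [2, 0, 0, 2, 0, 0, 2, 0, 2, 1, 2, 1, 2, 0, 0, 2, 0, 2]]⟩, ⟨3, [2209, 282, 2182], 2, 0, [[], [0, 2, 0, 2, 0, 0, 2, 0, 2, 0, 0, 2, 0, 2, 0, 2, 0, 2, 0, 0, 2]]⟩, ⟨2, [2180, 2211, 2186, 2210, 2178, 81, 79, 679, 315], 1, 1, [[], [2, 0, 2, 0, 0, 2, 0, 2, 0, 0, 2, 0, 2, 0, 2, 0, 2, 0, 0, 2], [2, 1, 2, 0, 2, 0, 2, 1, 2, 0, 0, 2, 1, 2, 0, 2, 1, 2, 1], [1, 2, 1, 2, 1, 2, 0, 2, 0, 0, 2, 0, 0]]⟩, ⟨3, [2213,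 283], 2, 0, [[], []]⟩, ⟨2, [2180, 2210, 2210, 2178, 71, 81, 749, 282, 629], 1, 1, [[], [2, 0, 2, 1, 2, 1, 2, 0, 2, 0, 2, 0, 2, 0, 2, 0, 0], [0, 0, 2, 0, 0, 2, 1, 2, 1, 2, 0, 2, 1, 2, 0, 0, 2, 0, 0, 2, 1], [1, 2, 1, 2, 0, 2, 0, 0, 2, 1, 2, 1, 2, 1, 2, 1, 2, 0, 2, 0, 0, 2, 0, 0]]⟩, ⟨3, [2217, 283, 2197], 2, 0, [[], [2, 1, 2, 0, 0, 2, 1, 2, 0, 0, 2, 1, 2, 1, 2, 1]]⟩, ⟨2, [2180, 2218, 2180, 2178, 99, 71, 347, 283, 1562], 1, 2, [[], [2, 0, 2, 1, 2, 0, 0, 2, 0, 0, 2, 0, 2, 0, 2, 1, 2, 1, 2, 1], [1, 2, 0, 2, 0, 0, 2, 0, 2, 1, 2, 1, 2, 0, 2, 0, 0, 2, 0, 0], [0, 0, 2, 0, 0, 2, 1, 2, 1, 2, 1, 2, 1, 2, 1, 2, 0, 2, 0]]⟩, ⟨3, [2221, 282], 2, 0, [[], []]⟩, ⟨2, [2218,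 2211, 2178, 79, 71, 99, 71, 457, 283, 773], 1, 2, [[], [1, 2, 0, 2, 0, 2, 0, 0, 2, 0, 0, 2, 0, 2, 0, 2, 0, 2, 0, 2, 0], [1, 2, 0, 0, 2, 0, 2, 0, 2, 0, 2, 1, 2, 0, 0, 2, 0, 2, 0, 2, 0], [2, 1, 2, 0, 2, 1, 2, 0, 2, 1, 2, 0, 0, 2, 0, 2, 1, 2, 0, 2, 0]]⟩, ⟨3, [2225, 282], 2, 0, [[], []]⟩, ⟨2, [2210, 2178, 71, 81, 71, 1037, 283, 1711], 1, 2, [[], [0, 2, 0, 2, 0, 2, 0, 0, 2, 1, 2, 1, 2, 0, 2, 1, 2, 0, 2, 0], [1, 2, 0, 2, 1, 2, 0, 0, 2, 0, 0, 2, 1, 2, 1, 2, 0], [0, 0, 2, 0, 0, 2, 0, 2, 1, 2, 1, 2, 0, 0, 2, 0, 2, 0]]⟩, ⟨3, [2229, 1661, 1585], 2, 0, [[], []]⟩, ⟨2, [2180, 2210, 2186, 2178, 81, 71, 99, 139, 81, 99, 2179], 1, 2, [[], [0, 2, 0, 0, 2, 0, 2, 1, 2, 1,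 2, 0, 0, 2, 0, 0, 2, 0, 0, 2, 0], [0, 2, 1, 2, 0, 2, 1, 2, 1, 2, 1, 2, 1, 2, 0, 2, 0, 2], [0, 2, 1, 2, 0, 0, 2, 1, 2, 1, 2, 0, 2, 1, 2, 0, 0, 2, 0, 0]]⟩, ⟨2, [390, 70, 2179], 0, 2, [[], [2, 0, 0, 2, 0, 2, 0, 0, 2, 0, 2, 0, 0, 2, 0, 2, 0, 2], [1, 2, 0, 2, 1, 2, 1, 2, 1, 2, 0, 0, 2, 0, 0, 2, 1, 2, 0]]⟩, ⟨3, [2235, 2218, 2210, 2187], 2, 0, [[], []]⟩, ⟨2, [1584, 2142, 2179], 0, 2, [[], [2, 0, 2, 0, 2, 1, 2, 1, 2, 0, 2, 1, 2, 0, 0, 2, 1, 2], [0, 2, 0, 2, 0, 0, 2, 0, 2, 0, 2, 0, 0, 2, 1, 2, 0, 2, 0, 2, 1, 2, 1]]⟩, ⟨2, [1584, 1594, 1812, 316, 70, 78, 98, 2179], 1, 3, [[], [2, 0, 2, 0, 0, 2, 1, 2, 0, 0, 2, 1, 2, 1, 2, 1, 2, 1], [0, 2, 1, 2, 0, 0, 2, 1, 2, 0,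 0, 2, 0, 2, 1, 2, 1, 2, 1], [0, 0, 2, 1, 2, 0, 2, 0, 0, 2, 0, 2, 1, 2, 0, 2, 0, 2, 0, 0]]⟩, ⟨3, [2241, 2181, 2219, 2181], 2, 0, [[], []]⟩, ⟨2, [1584, 1958, 70, 98, 70, 80, 100, 2179], 1, 3, [[], [2, 0, 2, 1, 2, 0, 2, 1, 2, 0, 2, 0, 2, 1, 2, 0, 2, 0, 0, 2], [2, 0, 2, 0, 2, 1, 2, 0, 2, 1, 2, 0, 2, 0, 2, 0, 2, 0, 2, 1], [0, 0, 2, 1, 2, 1, 2, 1, 2, 0, 0, 2, 1, 2, 0, 0, 2, 1, 2]]⟩, ⟨3, [2245, 2181, 2210], 2, 0, [[], []]⟩, ⟨2, [282, 466, 51, 60, 66, 45, 90, 2179], 1, 3, [[], [1, 2, 0, 2, 0, 0, 2, 1, 2, 1, 2, 0, 2, 0, 2, 1, 2, 1, 2, 0, 2, 0, 0], [2, 0, 2, 1, 2, 0, 2, 1, 2, 1, 2, 0, 0, 2, 1, 2, 0, 0, 2, 0, 2, 1], [1, 2, 1, 2, 1, 2, 1, 2, 0, 2, 0, 2, 1, 2, 0,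 2, 0, 0, 2]]⟩, ⟨3, [2249, 2210, 2219, 2187], 2, 0, [[], []]⟩, ⟨2, [958, 283, 1424, 70, 98, 2179], 1, 3, [[], [0, 0, 2, 0, 2, 0, 2, 0, 2, 0, 2, 1, 2, 1, 2, 0, 2, 1, 2, 0, 2], [1, 2, 0, 2, 0, 2, 0, 0, 2, 0, 2, 1, 2, 0, 0, 2, 0, 2, 0], [2, 1, 2, 0, 2, 0, 0, 2, 0, 0, 2, 0, 0, 2, 1, 2, 1, 2, 0, 2, 1, 2, 1]]⟩, ⟨3, [2253, 2211, 2211, 2211, 2187], 2, 0, [[], []]⟩, ⟨2, [283, 1172, 283, 570, 78, 70, 80, 70, 2179], 1, 0, [[], [2, 1, 2, 1, 2, 0, 0, 2, 0, 0, 2, 0, 2, 0, 2, 1, 2, 1, 2], [1, 2, 1, 2, 1, 2, 1, 2, 0, 2, 1, 2, 0, 0, 2, 1, 2, 0, 0, 2], [1, 2, 0, 0, 2, 0, 2, 0, 2, 1, 2, 0, 2, 1, 2, 0, 2, 0, 0, 2, 1]]⟩, ⟨3, [2257, 2211, 2211, 2187], 2, 0, [[], []]⟩, ⟨2, [283,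 1314, 353, 2182], 1, 0, [[], [2, 0, 2, 0, 2, 1, 2, 1, 2, 0, 2, 0, 2, 0, 2, 0, 0, 2], [2, 0, 2, 1, 2, 1, 2, 1, 2, 0, 2, 0, 2, 1, 2, 0, 2, 0, 0, 2], [0, 2, 0, 0, 2, 0, 2, 1, 2, 0, 2, 0, 0, 2, 0, 0, 2, 1, 2, 1]]⟩, ⟨3, [2261, 2181, 2210, 2181], 2, 0, [[], []]⟩, ⟨2, [2186, 2211, 2219, 2183, 282, 2003, 1654, 1841], 1, 2, [[], [2, 0, 0, 2, 1, 2, 0, 2, 0, 2, 0, 2, 0, 2, 1, 2, 1, 2, 0], [0, 0, 2, 0, 2, 1, 2, 1, 2, 0, 2, 1, 2, 0, 2, 0, 2, 0, 2], [2, 0, 2, 0, 0, 2, 1, 2, 0, 2, 0, 0, 2, 0, 2, 1, 2, 0, 0]]⟩, ⟨3, [2265, 283], 2, 0, [[], []]⟩, ⟨2, [2210, 2189, 283, 951], 0, 1, [[], [2, 0, 0, 2, 1, 2, 1, 2, 0, 2, 0, 2, 1, 2, 0, 2, 1, 2, 0, 2, 0], [2, 0, 2, 0, 2, 1, 2,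 1, 2, 1, 2, 0, 2, 0, 0, 2, 1]]⟩, ⟨3, [2269, 220], 2, 0, [[], []]⟩] 1066 1136 = true := by decide +kernel
theorem dd_c16 : dd.checks [⟨2, [2180, 2210, 2180, 2189, 282, 2235, 2211, 2181, 2229], 1, 1, [[], [0, 2, 1, 2, 0, 2, 1, 2, 0, 2, 0, 2, 1, 2, 0, 2, 0, 2, 0, 0], [0, 2, 0, 0, 2, 1, 2, 1, 2, 0, 0, 2, 1, 2, 0, 2, 1, 2], [1, 2, 0, 2, 0, 2, 0, 0, 2, 1, 2, 1, 2, 1, 2, 1]]⟩, ⟨3, [2273, 1595, 1585], 2, 0, [[], []]⟩, ⟨2, [2210, 2219, 2189, 283, 1071, 283, 1931], 1, 1, [[], [0, 0, 2, 1, 2, 0, 2, 0, 2, 1, 2, 0, 2, 0, 2, 0, 0, 2, 0, 0], [2, 1, 2, 1, 2, 0, 0, 2, 1, 2, 0, 0, 2, 0, 2, 1, 2, 0, 2, 1], [0, 0, 2, 0, 2, 1, 2, 0, 2, 0, 2, 1, 2, 1, 2, 0, 2, 1]]⟩, ⟨2, [1236,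 283, 1974, 1584, 1661, 2190], 1, 3, [[], [0, 2, 0, 2, 0, 0, 2, 0, 2, 0, 2, 1, 2, 1, 2, 1, 2, 0, 2], [2, 0, 0, 2, 0, 2, 0, 2, 0, 2, 0, 2, 1, 2, 0, 2, 1, 2, 0, 0], [1, 2, 0, 0, 2, 0, 2, 0, 2, 0, 0, 2, 0, 2, 1, 2, 0, 2, 0, 2, 0]]⟩, ⟨3, [2279, 2187], 2, 0, [[], []]⟩, ⟨2, [220, 288, 282, 2224], 0, 2, [[], [0, 2, 1, 2, 0, 2, 1, 2, 0, 0, 2, 1, 2, 1, 2, 0, 2, 0, 0, 2, 1], [2, 1, 2, 0, 2, 0, 0, 2, 0, 0, 2, 0, 2, 0, 2, 0, 0, 2, 0]]⟩, ⟨3, [2283, 2187, 2211, 2181], 2, 0, [[], []]⟩, ⟨2, [2180, 2226, 283, 423, 282, 2227], 1, 1, [[], [0, 0, 2, 0, 2, 0, 2, 1, 2, 0, 2, 1, 2, 0, 2, 1, 2, 1, 2, 0, 2], [0, 0, 2, 0, 2, 0, 2, 0, 0, 2, 1, 2, 0], [1, 2, 1, 2, 0, 2, 1, 2, 0,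 2, 0, 2, 0, 0, 2, 1, 2, 1]]⟩, ⟨2, [2180, 2226, 282, 729, 282, 2249], 1, 1, [[], [2, 0, 2, 1, 2, 1, 2, 1, 2, 0, 2, 0, 0, 2, 0, 2], [2, 0, 2, 1, 2, 0, 0, 2, 1, 2, 0, 2, 1, 2, 0, 0, 2], [1, 2, 0, 0, 2, 0, 2, 1, 2, 0, 2, 1, 2, 1, 2, 1]]⟩, ⟨2, [2186, 2219, 2232, 2211, 2240, 1594, 2228], 1, 0, [[], [2, 0, 2, 0, 2, 0, 2, 0, 2, 1, 2, 0, 0, 2, 1, 2, 0], [2, 0, 2, 0, 2, 1, 2, 1, 2, 1, 2, 0, 0, 2, 0, 2, 0, 2, 0], [2, 0, 2, 1, 2, 1, 2, 1, 2, 1, 2, 1, 2, 0, 0, 2, 0, 2, 1, 2, 1, 2]]⟩, ⟨2, [2211, 2290, 2218, 2238, 2228], 1, 0, [[], [2, 0, 0, 2, 0, 2, 0, 0, 2, 1, 2, 0, 2, 0, 2, 0, 2], [2, 1, 2, 1, 2, 1, 2, 1, 2, 0, 2, 0, 0, 2, 0, 2, 0, 2, 0], [2, 0, 0, 2, 1, 2, 1, 2,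 0, 2, 0, 2, 0, 0, 2, 0, 0, 2, 1]]⟩, ⟨2, [2186, 2218, 2192, 1594, 1588, 2236], 1, 3, [[], [2, 0, 2, 0, 0, 2, 0, 2, 0, 2, 0, 2, 0, 2, 0, 0, 2, 0], [2, 0, 2, 1, 2, 1, 2, 0, 2, 0, 0, 2, 0, 0, 2, 1, 2, 0, 0, 2], [1, 2, 0, 0, 2, 1, 2, 0, 0, 2, 0, 2, 0, 0, 2, 1, 2, 0, 2, 1]]⟩, ⟨2, [2180, 2210, 2238, 1660, 2239], 0, 2, [[], [2, 0, 0, 2, 0, 0, 2, 1, 2, 1, 2, 0, 2, 1, 2, 0, 0, 2, 0], [0, 0, 2, 1, 2, 0, 2, 1, 2, 0, 2, 1, 2, 0, 0, 2, 0, 2, 1]]⟩, ⟨2, [208, 2162, 1660, 2239], 0, 2, [[], [0, 0, 2, 0, 2, 0, 0, 2, 0, 0, 2, 0, 2, 1, 2, 1, 2, 0], [1, 2, 1, 2, 0, 2, 0, 0, 2, 0, 2, 0, 2, 0, 2, 1, 2, 1]]⟩, ⟨3, [2299, 2218, 2211], 2, 0, [[], []]⟩, ⟨2, [2186, 2219, 2244, 1584,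 1654, 1660, 1992, 1584, 1654, 1661, 2246], 1, 3, [[], [0, 0, 2, 1, 2, 0, 0, 2, 0, 2, 0, 2, 0, 0, 2, 0, 0, 2, 1], [1, 2, 1, 2, 1, 2, 0, 2, 0, 0, 2, 0, 2, 0, 2], [1, 2, 0, 2, 1, 2, 0, 2, 0, 0, 2, 0, 2, 1, 2, 1, 2, 0, 0, 2, 1, 2]]⟩, ⟨2, [244, 238, 2140, 2276, 2187, 2295], 1, 2, [[], [2, 1, 2, 0, 0, 2, 0, 2, 1, 2, 0, 2, 1, 2, 0, 0], [0, 0, 2, 0, 0, 2, 1, 2, 1, 2, 0, 2, 0, 0, 2, 1, 2, 0, 2, 0, 2, 0], [2, 0, 2, 1, 2, 0, 0, 2, 0, 0, 2, 0, 0, 2, 0, 2, 0, 2, 0]]⟩, ⟨3, [2305, 2187, 2181], 2, 0, [[], []]⟩, ⟨2, [2210, 2288, 2297], 0, 1, [[], [0, 2, 0, 2, 0, 2, 1, 2, 0, 2, 1, 2, 0, 2, 1, 2], [2, 0, 2, 0, 0, 2, 1, 2, 0, 0, 2, 1, 2, 1, 2, 0, 2]]⟩, ⟨2, [2180, 2288, 2186,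 2292, 2211, 2296], 1, 3, [[], [2, 0, 2, 0, 2, 0, 2, 0, 2, 1, 2, 1, 2, 1, 2, 0, 2, 0], [2, 1, 2, 0, 2, 0, 2, 0, 0, 2, 0, 0, 2, 0, 2, 0, 0], [0, 0, 2, 1, 2, 0, 0, 2, 1, 2, 0, 0, 2, 0, 0, 2, 0]]⟩, ⟨0, [], 0, 0, []⟩, ⟨3, [2312, 80, 70, 78, 99, 81, 79, 71, 2313], 2, 0, [[], [1, 2, 1, 2, 1, 2, 1, 2, 0, 2, 0, 0, 2, 1, 2, 0, 2, 0, 2, 0, 2, 0]]⟩, ⟨2, [2312, 71, 81, 79, 71, 1323], 0, 1, [[], [0, 2, 1, 2, 0, 0, 2, 1, 2, 0, 2, 1, 2, 1, 2, 0, 0, 2, 0, 0], [2, 0, 2, 1, 2, 0, 2, 1, 2, 1, 2, 0, 2, 1, 2, 1]]⟩, ⟨3, [2317, 282], 2, 0, [[], []]⟩, ⟨2, [2314, 2312, 81, 99, 1891], 0, 1, [[], [0, 2, 1, 2, 1, 2, 0, 2, 1, 2, 0, 2, 0, 2, 0, 2, 0, 2], [0, 2, 1, 2, 1, 2, 1, 2, 0,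 0, 2, 0, 2]]⟩, ⟨3, [2321, 1660], 2, 0, [[], []]⟩, ⟨2, [2312, 79, 71, 81, 79, 859], 0, 1, [[], [1, 2, 1, 2, 0, 2, 0, 2, 0, 0, 2, 0, 2, 1, 2, 0, 2, 0, 2, 1], [0, 2, 0, 2, 0, 2, 0, 0, 2, 0, 0, 2, 1, 2, 1, 2, 0, 0, 2, 1]]⟩, ⟨3, [2325, 282], 2, 0, [[], []]⟩, ⟨2, [2312, 71, 81, 71, 575], 0, 1, [[], [0, 2, 0, 0, 2, 1, 2, 1, 2, 0, 0, 2, 0, 2, 1, 2, 0, 2, 0, 2, 0], [0, 2, 1, 2, 1, 2, 0, 2, 0, 2, 1, 2, 0, 2, 0, 0, 2, 1]]⟩, ⟨3, [2329, 283], 2, 0, [[], []]⟩, ⟨2, [2312, 99, 71, 79, 697], 0, 1, [[], [2, 0, 2, 1, 2, 0, 2, 1, 2, 0, 2, 0, 2, 1, 2, 0, 0, 2, 0, 2, 0], [2, 0, 2, 1, 2, 0, 2, 0, 0, 2, 0, 0, 2, 0, 2, 0, 0]]⟩, ⟨2, [2312, 99, 81, 935], 0, 1, [[], [2, 1, 2, 0,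 0, 2, 0, 0, 2, 1, 2, 1, 2, 0, 0, 2, 0], [1, 2, 0, 2, 0, 2, 0, 0, 2, 0, 0, 2, 0, 0, 2, 0, 0, 2, 0, 2, 0]]⟩, ⟨3, [2335, 282], 2, 0, [[], []]⟩, ⟨2, [2314, 2312, 71, 79, 71, 749], 0, 1, [[], [2, 0, 2, 1, 2, 0, 2, 1, 2, 1, 2, 0, 2, 0, 2, 0, 2, 0, 2, 1], [0, 2, 0, 2, 1, 2, 0, 0, 2, 0, 2, 0, 2, 1, 2, 0, 2, 0]]⟩, ⟨3, [2339, 282], 2, 0, [[], []]⟩, ⟨2, [2314, 2312, 81, 99, 457], 0, 1, [[], [0, 2, 1, 2, 0, 2, 1, 2, 0, 0, 2, 0, 2, 1, 2, 0], [1, 2, 1, 2, 1, 2, 1, 2, 0, 2, 1, 2, 0, 0, 2, 0, 2, 0, 0, 2, 0]]⟩, ⟨2, [2312, 79, 99, 79, 1959], 0, 1, [[], [2, 0, 0, 2, 0, 0, 2, 1, 2, 0, 2, 0, 2, 1, 2, 0, 2, 0, 2], [2, 0, 0, 2, 1, 2, 0, 2, 0, 0, 2, 0, 2, 0, 0, 2, 0, 2, 0, 0,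 2, 0]]⟩, ⟨3, [2345, 1661], 2, 0, [[], []]⟩, ⟨2, [2312, 99, 81, 929], 0, 1, [[], [2, 0, 2, 0, 0, 2, 0, 0, 2, 1, 2, 1, 2, 0, 2, 0, 2, 1, 2, 1], [2, 0, 0, 2, 0, 0, 2, 0, 2, 1, 2, 1, 2, 1, 2, 0, 0, 2, 1]]⟩, ⟨3, [2349, 282], 2, 0, [[], []]⟩, ⟨2, [2312, 99, 71, 81, 149], 0, 1, [[], [2, 0, 0, 2, 1, 2, 1, 2, 0, 2, 0, 0, 2, 1, 2, 0], [0, 2, 1, 2, 0, 2, 1, 2, 1, 2, 0, 2, 0, 2, 1, 2, 0]]⟩, ⟨3, [2353, 99, 71, 79, 71], 2, 0, [[], []]⟩, ⟨2, [2312, 131], 0, 1, [[], [0, 0, 2, 1, 2, 0, 2, 0, 0, 2, 1, 2, 0, 0, 2, 0, 2, 1, 2, 0], [0, 2, 0, 0, 2, 0, 2, 0, 2, 0, 2, 0, 2, 0, 0, 2, 0, 2, 0]]⟩, ⟨3, [2357, 79, 99, 2355], 2, 0, [[], [2, 0, 2, 0, 2, 1, 2, 0, 2, 1, 2, 1, 2, 1, 2,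 0, 0, 2, 0, 0, 2, 0]]⟩, ⟨2, [2314, 2312, 71, 81, 79, 71, 1355], 0, 1, [[], [2, 0, 2, 0, 2, 0, 2, 0, 0, 2, 0, 2, 0, 0, 2, 0, 2, 1, 2, 0], [2, 0, 0, 2, 0, 0, 2, 0, 2, 1, 2, 1, 2, 0, 2, 1, 2, 0, 0, 2, 0, 0]]⟩, ⟨2, [2314, 2312, 99, 81, 71, 351], 0, 1, [[], [2, 0, 2, 0, 2, 0, 0, 2, 0, 2, 0, 2, 1, 2, 1, 2, 0, 2, 1, 2], [2, 0, 2, 0, 0, 2, 0, 0, 2, 1, 2, 0, 2, 1]]⟩, ⟨3, [2363, 283], 2, 0, [[], []]⟩, ⟨2, [2312, 99, 81, 1477], 0, 1, [[], [0, 0, 2, 0, 2, 0, 0, 2, 0, 2, 0, 2, 0, 0, 2, 0, 2, 0], [2, 1, 2, 0, 0, 2, 0, 2, 0, 2, 0, 2, 0, 2, 0, 2, 0]]⟩, ⟨3, [2367, 282], 2, 0, [[], []]⟩, ⟨2, [2312, 81, 205, 201, 208, 191, 359], 1, 1, [[], [0, 2, 1, 2, 0, 0, 2, 0, 2, 0,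 2, 0, 2, 0, 2, 0, 2, 0, 2, 0], [2, 1, 2, 0, 0, 2, 1, 2, 0, 0, 2, 0, 2, 1, 2, 1, 2, 1, 2, 0, 0], [0, 2, 0, 0, 2, 0, 0, 2, 0, 2, 0, 2, 0, 2, 1, 2, 0, 0, 2, 1, 2]]⟩, ⟨3, [2371, 282], 2, 0, [[], []]⟩, ⟨2, [2314, 2312, 71, 79, 71, 1037, 282, 1417], 1, 1, [[], [1, 2, 0, 2, 1, 2, 0, 0, 2, 0, 2, 0, 2, 1, 2, 0, 2, 0, 0], [0, 0, 2, 0, 0, 2, 0, 2, 0, 2, 0, 2, 1, 2], [0, 0, 2, 1, 2, 0, 0, 2, 1, 2, 0, 2, 0, 2, 1, 2, 0, 0, 2, 0, 0]]⟩, ⟨3, [2375, 283], 2, 0, [[], []]⟩, ⟨2, [2314, 2358, 2312, 81, 99, 79, 1355, 283, 345], 1, 1, [[], [0, 0, 2, 0, 0, 2, 1, 2, 0, 2, 0, 2, 0, 2, 0, 2, 0, 0, 2, 0], [0, 0, 2, 0, 2, 0, 2, 0, 0, 2, 1, 2, 1, 2, 0, 2, 0, 0], [0, 0, 2, 0, 2, 0,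 0, 2, 0, 2, 0, 2, 0, 2, 0, 0, 2, 0, 2, 1, 2, 0]]⟩, ⟨3, [2379, 71, 81, 71, 79], 2, 0, [[], []]⟩, ⟨2, [2358, 2312, 99, 71, 1037, 1029], 1, 1, [[], [1, 2, 1, 2, 0, 2, 0, 2, 0, 0, 2, 1, 2, 1, 2, 0, 2, 0, 0, 2], [1, 2, 1, 2, 0, 2, 1, 2, 0, 2, 0, 2, 0, 0, 2, 0, 2], [0, 2, 1, 2, 0, 0, 2, 0, 2, 0, 2, 1]]⟩, ⟨2, [2314, 2358, 2312, 99, 81, 99, 607, 1241], 1, 1, [[], [1, 2, 1, 2, 1, 2, 0, 2, 0, 2, 1, 2, 1, 2, 1, 2, 0, 0, 2, 1, 2, 1], [1, 2, 0, 2, 0, 0, 2, 0, 0, 2, 0, 2, 1, 2, 0], [0, 2, 1, 2, 0, 0, 2, 1, 2, 0, 0, 2, 0, 0, 2, 0, 0, 2, 1]]⟩, ⟨3, [2385, 283], 2, 0, [[], []]⟩, ⟨2, [2314, 2358, 2312, 99, 71, 79, 749, 283, 2203], 1, 1, [[], [1, 2, 0, 0, 2, 0, 2, 0, 2,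 0, 2, 0, 2, 1, 2, 1, 2, 0, 2], [2, 1, 2, 0, 2, 0, 2, 0, 2, 0, 2, 1, 2, 1, 2, 1, 2, 0, 2, 0], [0, 2, 0, 0, 2, 1, 2, 0, 0, 2, 0, 2, 0, 0, 2, 0, 0, 2, 0, 0]]⟩, ⟨3, [2389, 2218, 2211, 2181], 2, 0, [[], []]⟩, ⟨2, [2358, 2312, 99, 71, 79, 1935, 1660, 1817], 1, 2, [[], [1, 2, 0, 2, 0, 2, 0, 2, 1, 2, 1, 2, 0, 2, 0, 2, 1], [0, 2, 0, 0, 2, 0, 2, 1, 2, 0, 2, 0, 0, 2, 1, 2, 1, 2, 1, 2, 1], [1, 2, 0, 2, 1, 2, 0, 2, 0, 2, 1, 2, 0, 0, 2, 0, 0, 2, 1]]⟩, ⟨2, [2358, 2312, 2075, 1661, 2031], 1, 2, [[], [2, 1, 2, 0, 2, 0, 2, 1, 2, 0, 0, 2, 0, 0, 2, 1, 2, 0, 2, 0], [1, 2, 0, 2, 0, 2, 0, 2, 1, 2, 1, 2, 0, 0, 2, 1, 2, 0, 0, 2, 0, 2, 0], [0, 0, 2, 0, 0, 2, 0, 2, 0, 0, 2, 1,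 2, 0, 2, 0, 0]]⟩, ⟨3, [2395, 2377], 2, 0, [[], [2, 1, 2, 0, 0, 2, 0, 2, 0, 2, 0, 0, 2, 0, 2, 0, 2, 0, 2]]⟩, ⟨2, [2358, 2396, 2312, 71, 99, 607, 283, 731], 1, 2, [[], [0, 2, 0, 0, 2, 0, 0, 2, 1, 2, 1, 2, 1, 2, 1, 2, 0, 2], [2, 1, 2, 0, 2, 0, 2, 0, 2, 0, 2, 1, 2, 0, 2, 1, 2, 0, 2, 1], [2, 1, 2, 0, 2, 0, 2, 0, 2, 0, 2, 0, 0, 2, 1, 2, 0, 0, 2, 1]]⟩, ⟨3, [2399, 282], 2, 0, [[], []]⟩, ⟨2, [2312, 81, 71, 99, 215, 208, 221, 190, 553], 1, 2, [[], [0, 2, 0, 2, 0, 0, 2, 1, 2, 1, 2, 0, 2, 1, 2, 0, 0, 2, 0, 2, 0], [2, 1, 2, 0, 2, 1, 2, 1, 2, 0, 2, 1, 2, 0, 0, 2, 0, 2, 0], [2, 0, 0, 2, 0, 2, 0, 2, 1, 2, 0]]⟩, ⟨3, [2403, 282], 2, 0, [[], []]⟩, ⟨2, [2314, 2358, 2312,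 81, 71, 99, 287, 1173], 1, 2, [[], [2, 0, 2, 0, 0, 2, 0, 0, 2, 1, 2, 0, 0, 2, 0, 0, 2, 0, 2, 0, 2, 0, 0], [0, 2, 1, 2, 1, 2, 1, 2, 1, 2, 0, 2, 0, 2, 1, 2, 0, 2, 0, 0, 2, 0, 0], [2, 0, 0, 2, 0, 2, 0, 2, 0, 0, 2, 0, 0, 2, 0, 2]]⟩, ⟨3, [2407, 283], 2, 0, [[], []]⟩, ⟨2, [2314, 2358, 2396, 2312, 99, 81, 71, 139, 81, 379], 1, 2, [[], [2, 1, 2, 0, 0, 2, 1, 2, 1, 2, 0, 2, 0, 2, 1, 2, 0, 0, 2, 1, 2], [0, 2, 1, 2, 1, 2, 1, 2, 0, 0, 2, 0, 2, 0, 0, 2, 0, 2, 0, 0], [2, 0, 0, 2, 0, 2, 1, 2, 1, 2, 0, 0, 2, 0, 0, 2, 1, 2, 1, 2, 0, 2]]⟩, ⟨3, [2411, 283], 2, 0, [[], []]⟩, ⟨2, [2312, 99, 71, 81, 79, 73, 99, 71, 81, 79, 71, 457], 1, 2, [[], [0, 2, 1, 2, 1, 2, 0, 0, 2, 1,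 2, 1, 2, 0, 2, 0, 2, 0, 2, 0], [0, 2, 0, 2, 0, 2, 0, 2, 1, 2, 0, 0, 2, 0, 2, 0, 2, 1, 2, 0, 0, 2, 0, 0], [2, 1, 2, 0, 0, 2, 0, 2, 0, 2, 0, 0, 2, 1, 2, 0, 2, 0, 2]]⟩, ⟨3, [2415, 282, 2360], 2, 0, [[], [0, 0, 2, 1, 2, 0, 0, 2, 0, 0, 2, 1, 2, 0, 2, 1, 2]]⟩, ⟨2, [2396, 2312, 79, 71, 81, 565, 283, 1945], 1, 2, [[], [0, 0, 2, 1, 2, 1, 2, 0, 2, 1, 2, 0, 0, 2, 1, 2, 1, 2, 0, 0, 2, 0], [2, 0, 2, 0, 2, 1, 2, 0, 2, 1, 2, 0, 2, 1, 2], [1, 2, 0, 0, 2, 0, 0, 2, 1, 2, 0, 2, 0, 2, 1, 2, 1, 2]]⟩, ⟨3, [2419, 1661], 2, 0, [[], []]⟩, ⟨2, [2416, 2416, 2312, 79, 71, 99, 139, 79, 571], 1, 2, [[], [1, 2, 1, 2, 1, 2, 1, 2, 0, 0, 2, 0, 0, 2, 1, 2, 0, 2, 0, 0], [2, 0, 2, 1, 2,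 0, 2, 0, 0, 2, 0, 2, 0, 0, 2, 0, 2, 1, 2, 1], [2, 0, 2, 1, 2, 1, 2, 0, 0, 2, 0, 2, 0, 0, 2, 0, 0, 2, 1, 2]]⟩] 1136 1212 = true := by decide +kernel
theorem dd_c17 : dd.checks [⟨3, [2423, 282, 2327], 2, 0, [[], [2, 0, 0, 2, 1, 2, 0, 0, 2, 0, 2, 0, 2, 0, 2, 0, 2, 0, 2, 0, 2]]⟩, ⟨2, [2314, 2416, 2424, 2312, 99, 81, 71, 2103, 1661, 1655, 1698], 1, 2, [[], [1, 2, 1, 2, 0, 2, 1, 2, 1, 2, 0, 0, 2, 0, 2, 0], [1, 2, 1, 2, 0, 0, 2, 1, 2, 0, 2, 1, 2, 0, 0, 2, 0], [0, 2, 0, 2, 1, 2, 1, 2, 0, 0, 2, 1, 2, 0, 2, 0, 2]]⟩, ⟨3, [2427, 283], 2, 0, [[], []]⟩, ⟨2, [2416, 2416, 2312, 81, 99, 79, 902, 1099], 1, 2, [[], [2, 0, 0, 2, 1, 2, 0, 2, 0, 2, 0, 0, 2, 0, 2, 1, 2, 0],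 [2, 0, 0, 2, 1, 2, 1, 2, 1, 2, 1, 2, 1, 2, 1, 2, 1, 2, 0], [1, 2, 1, 2, 1, 2, 0, 0, 2, 0, 2, 1, 2, 0, 0, 2, 0, 0, 2, 0, 2, 0, 0]]⟩, ⟨3, [2431, 282], 2, 0, [[], []]⟩, ⟨2, [2417, 2312, 81, 71, 81, 749, 283, 1735], 1, 2, [[], [2, 1, 2, 0, 2, 0, 2, 1, 2, 1, 2, 1, 2, 1, 2, 0, 0, 2, 1, 2, 1], [2, 1, 2, 0, 2, 0, 2, 0, 2, 1, 2, 1, 2, 0, 0, 2, 1, 2, 0, 2], [1, 2, 0, 0, 2, 0, 0, 2, 0, 2, 0, 2, 0, 0, 2]]⟩, ⟨3, [2435, 1585], 2, 0, [[], []]⟩, ⟨2, [2358, 2416, 2312, 79, 71, 81, 181, 155, 153, 153, 1495], 1, 2, [[], [0, 0, 2, 0, 2, 0, 0, 2, 0, 2, 0, 0, 2, 1, 2, 1, 2, 0, 2, 0], [0, 2, 1, 2, 0, 2, 0, 0, 2, 0, 0, 2, 0, 2, 0, 2, 0, 0, 2], [0, 0, 2, 0, 0, 2, 1, 2, 0, 2,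 1, 2, 1, 2, 0, 2, 0, 2, 0, 2, 0, 2, 1]]⟩, ⟨3, [2439, 283], 2, 0, [[], []]⟩, ⟨2, [283, 678, 98, 78, 2313], 0, 2, [[], [0, 2, 0, 2, 0, 2, 1, 2, 0, 2, 1], [1, 2, 1, 2, 1, 2, 0, 2, 0, 2, 1, 2, 0, 2, 1, 2, 0, 0]]⟩, ⟨3, [2443, 2424, 2417, 2315], 2, 0, [[], []]⟩, ⟨2, [283, 1724, 1584, 1594, 1894, 70, 78, 2313], 1, 3, [[], [2, 1, 2, 1, 2, 0, 2, 0, 2, 0, 2, 1, 2, 1, 2, 0, 0, 2, 1], [2, 0, 2, 0, 2, 0, 2, 0, 2, 0, 0, 2, 0, 2, 1], [0, 0, 2, 0, 2, 0, 0, 2, 0, 2, 0, 2]]⟩, ⟨3, [2447, 2425, 2417], 2, 0, [[], []]⟩, ⟨2, [1402, 556, 78, 80, 70, 2313], 1, 3, [[], [0, 0, 2, 0, 0, 2, 0, 2, 0, 2, 1, 2, 0, 0, 2, 0, 0, 2, 1], [2, 0, 0, 2, 0, 2, 1, 2, 1, 2, 0, 2, 1, 2, 1, 2, 0,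 0], [0, 0, 2, 1, 2, 0, 2, 0, 0, 2, 1, 2, 1, 2, 0, 2, 0, 2, 0, 0]]⟩, ⟨3, [2451, 2424, 2416, 2315], 2, 0, [[], []]⟩, ⟨2, [2314, 2364, 283, 606, 70, 98, 70, 78, 2313], 1, 3, [[], [0, 2, 1, 2, 0, 2, 1, 2, 0, 0, 2, 1, 2, 1, 2, 0, 2, 1, 2, 0], [0, 2, 0, 2, 1, 2, 1, 2, 0, 0, 2, 0, 0, 2, 1, 2, 1, 2, 0, 2, 0], [2, 1, 2, 1, 2, 0, 2, 0, 0, 2, 0, 0, 2, 0, 0, 2, 1, 2, 1, 2]]⟩, ⟨2, [282, 908, 282, 346, 70, 78, 98, 78, 2313], 1, 3, [[], [0, 0, 2, 1, 2, 1, 2, 1, 2, 0, 0, 2, 1, 2, 0, 0, 2, 1, 2, 1], [0, 2, 0, 2, 0, 0, 2, 1, 2, 1, 2, 0, 2, 1, 2, 1], [0, 2, 1, 2, 1, 2, 0, 2, 1, 2, 0, 2, 0, 2, 0, 2]]⟩, ⟨2, [283, 686, 283, 738, 70, 78, 80, 2313], 1, 3, [[], [1, 2, 1, 2, 1,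 2, 0, 0, 2, 1, 2, 0, 2, 1, 2, 1, 2, 1], [2, 1, 2, 0, 2, 0, 0, 2, 0, 2, 1, 2, 1, 2, 0, 0, 2, 0, 2, 1, 2, 0], [1, 2, 1, 2, 1, 2, 1, 2, 0, 2, 0, 2, 1, 2, 0, 2, 1, 2, 1, 2, 0, 0]]⟩, ⟨3, [2459, 2417, 2315], 2, 0, [[], []]⟩, ⟨2, [232, 238, 250, 245, 384, 308, 70, 78, 70, 98, 2313], 1, 3, [[], [2, 0, 0, 2, 1, 2, 0, 0, 2, 1, 2, 0, 2, 0, 0, 2, 0, 2, 1, 2, 0], [0, 2, 1, 2, 0, 2, 0, 2, 0, 0, 2, 0, 2, 0, 2, 1, 2, 0, 0], [2, 1, 2, 1, 2, 0, 0, 2, 0, 2, 0, 2, 0, 0, 2, 0, 2, 0, 0, 2, 1, 2]]⟩, ⟨3, [2463, 2315], 2, 0, [[], []]⟩, ⟨2, [2396, 2417, 2380, 70, 80, 2313, 2425, 2315, 2375], 1, 2, [[], [2, 1, 2, 1, 2, 1, 2, 1, 2, 0, 2, 1, 2, 0, 0, 2, 0], [2, 1, 2, 0, 2, 0, 0,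 2, 0, 2, 0, 2, 1, 2, 0, 2, 0, 0, 2, 0], [0, 2, 0, 0, 2, 0, 2, 1, 2, 1, 2, 1, 2, 0, 0, 2, 0, 2, 0, 2, 0, 2]]⟩, ⟨2, [283, 2392, 2314, 2354, 70, 78, 98, 2313], 1, 3, [[], [2, 0, 2, 1, 2, 1, 2, 0, 0, 2, 0, 0, 2, 0, 0, 2, 0, 2, 0, 0], [0, 0, 2, 0, 2, 1, 2, 0, 2, 0, 2, 0, 0, 2, 0, 2, 0, 2], [1, 2, 0, 2, 0, 2, 0, 0, 2, 0, 0, 2, 0, 0, 2, 0, 2, 1, 2, 0]]⟩, ⟨3, [2469, 2397], 2, 0, [[], []]⟩, ⟨2, [282, 744, 636, 78, 70, 80, 70, 2313], 1, 3, [[], [0, 2, 1, 2, 0, 2, 0, 2, 1, 2, 0, 2, 1, 2, 0, 2, 0, 0, 2, 0, 2, 0], [2, 0, 2, 0, 2, 0, 0, 2, 1, 2, 0, 0, 2, 1, 2, 0, 2], [2, 1, 2, 0, 2, 1, 2, 0, 2, 0, 0, 2, 0, 0, 2, 0, 2, 0, 2, 0, 0]]⟩, ⟨3, [2473, 2416, 2315], 2, 0, [[],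 []]⟩, ⟨2, [2416, 2322, 1624, 70, 98, 2313], 1, 3, [[], [0, 2, 0, 2, 0, 0, 2, 0, 0, 2, 1, 2, 1, 2, 0, 2, 0, 2, 0, 2, 0], [1, 2, 0, 2, 1, 2, 1, 2, 1, 2, 0, 0, 2, 1, 2, 1, 2, 0, 2, 0, 0], [1, 2, 0, 2, 0, 2, 0, 0, 2, 1, 2, 0, 0, 2, 0, 0, 2, 0, 0]]⟩, ⟨2, [283, 1740, 1654, 1660, 1624, 98, 78, 2313], 1, 0, [[], [0, 0, 2, 1, 2, 0, 0, 2, 0, 0, 2, 0, 2, 1, 2, 0, 0, 2, 0, 0, 2, 0], [1, 2, 0, 2, 0, 0, 2, 0, 2, 1, 2, 1, 2, 0, 0], [0, 2, 1, 2, 0, 2, 0, 2, 1, 2, 0, 2, 1, 2, 0, 2, 0, 2, 1, 2, 0, 2, 0, 0]]⟩, ⟨3, [2479, 2424, 2359, 2315], 2, 0, [[], []]⟩, ⟨2, [283, 768, 606, 70, 78, 98, 2313], 1, 0, [[], [2, 1, 2, 0, 2, 0, 2, 1, 2, 0, 2, 0, 0, 2, 0, 2, 0, 0, 2, 0, 2, 0],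 [0, 2, 1, 2, 0, 2, 0, 2, 0, 2, 0, 0, 2, 0, 0, 2, 1, 2], [2, 0, 2, 0, 2, 0, 0, 2, 0, 2, 1, 2, 0, 2, 0, 0, 2, 0, 0]]⟩, ⟨3, [2483, 2417], 2, 0, [[], []]⟩, ⟨2, [1180, 283, 618, 70, 98, 70, 2313], 1, 0, [[], [0, 0, 2, 0, 2, 0, 2, 1, 2, 0, 2, 1, 2, 1, 2, 1, 2, 0], [2, 0, 2, 1, 2, 0, 2, 0, 2, 0, 0, 2, 0, 0, 2, 0, 0, 2, 0, 0, 2, 1], [0, 0, 2, 0, 2, 1, 2, 0, 0, 2, 1, 2, 1, 2, 0, 2, 1, 2, 0, 0, 2, 0, 0]]⟩, ⟨3, [2487, 2416], 2, 0, [[], []]⟩, ⟨2, [283, 1268, 282, 822, 78, 2313], 1, 0, [[], [0, 2, 0, 2, 0, 0, 2, 1, 2, 1, 2, 1, 2, 0, 0], [0, 2, 0, 2, 0, 0, 2, 1, 2, 1, 2, 0, 2, 1, 2, 0, 2, 0, 0, 2, 0], [1, 2, 1, 2, 0, 0, 2, 1, 2, 0, 0, 2, 0, 0, 2, 0, 0, 2, 1, 2, 1]]⟩,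 ⟨3, [2491, 2424, 2416], 2, 0, [[], []]⟩, ⟨2, [1584, 1654, 1660, 1914, 822, 70, 80, 70, 2313], 1, 0, [[], [2, 1, 2, 1, 2, 0, 2, 0, 0, 2, 1, 2, 0, 0, 2], [1, 2, 0, 2, 0, 2, 0, 2, 0, 2, 0, 2, 0, 2, 1, 2, 1, 2, 0], [0, 0, 2, 0, 0, 2, 0, 2, 1, 2, 0, 0, 2, 0, 0, 2, 0, 0, 2, 0]]⟩, ⟨3, [2495, 2397, 2315], 2, 0, [[], []]⟩, ⟨2, [1584, 1654, 1660, 2134, 283, 822, 70, 2313], 1, 0, [[], [0, 0, 2, 1, 2, 0, 2, 0, 2, 1, 2, 0, 2, 0, 0, 2, 0, 2, 1, 2], [0, 2, 1, 2, 0, 0, 2, 0, 2, 0, 0, 2, 0, 2, 1, 2, 1, 2, 0, 0], [2, 0, 2, 0, 2, 0, 2, 0, 2, 0, 0, 2, 0]]⟩, ⟨3, [2499, 2424, 2417], 2, 0, [[], []]⟩, ⟨2, [283, 928, 78, 80, 70, 98, 100, 80, 98, 2313], 1, 0, [[], [2, 1, 2, 0,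 2, 0, 2, 0, 2, 1, 2, 0, 0, 2, 1, 2, 0, 0, 2, 1], [0, 2, 1, 2, 0, 0, 2, 1, 2, 0, 2, 1, 2, 0, 0, 2, 0, 2, 0, 0, 2], [2, 1, 2, 0, 2, 1, 2, 1, 2, 1, 2, 1, 2, 0, 0, 2, 0, 0, 2, 0, 2]]⟩, ⟨3, [2503, 2424, 2416, 2315], 2, 0, [[], []]⟩, ⟨2, [2416, 2458, 282, 618, 78, 70, 98, 2313], 1, 0, [[], [2, 1, 2, 1, 2, 1, 2, 1, 2, 1, 2, 0, 0, 2, 0, 0, 2], [0, 2, 0, 2, 0, 2, 0, 0, 2, 1, 2, 0, 0, 2, 0, 2, 1, 2, 1, 2, 0], [2, 0, 2, 0, 0, 2, 0, 0, 2, 0, 0, 2, 0, 2, 0, 0, 2, 0, 0]]⟩, ⟨2, [2416, 2424, 2318, 282, 862, 70, 80, 70, 2313], 1, 0, [[], [0, 0, 2, 0, 2, 1, 2, 0, 2, 0, 0, 2, 0, 0, 2, 0, 0], [0, 0, 2, 0, 2, 1, 2, 0, 0, 2, 0, 0, 2, 0, 2, 1, 2, 0, 0], [1, 2, 0, 2, 1, 2, 1,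 2, 0, 0, 2, 0, 2, 1]]⟩, ⟨2, [282, 492, 574, 80, 98, 2313], 1, 0, [[], [2, 1, 2, 0, 2, 0, 0, 2, 0, 2, 1, 2, 0, 0, 2, 1, 2, 0, 2, 1, 2, 0], [2, 1, 2, 0, 0, 2, 1, 2, 0, 2, 1, 2, 1, 2, 0, 2, 0, 2, 0, 0], [2, 1, 2, 0, 0, 2, 1, 2, 1, 2, 0, 0, 2, 1, 2, 1, 2, 0, 0]]⟩, ⟨3, [2511, 2397, 2359], 2, 0, [[], []]⟩, ⟨2, [2314, 2358, 2333, 282, 636, 70, 78, 80, 70, 2313], 1, 0, [[], [0, 2, 1, 2, 0, 2, 1, 2, 0, 2, 0, 2, 0, 0, 2, 0, 2, 1, 2, 0], [0, 2, 0, 0, 2, 1, 2, 0, 0, 2, 0, 0, 2, 0, 2, 0, 0, 2, 0, 2], [1, 2, 1, 2, 0, 2, 0, 2, 0, 0, 2, 0, 0, 2, 0, 2, 1, 2]]⟩, ⟨2, [282, 546, 282, 862, 80, 70, 78, 80, 2313], 1, 0, [[], [2, 0, 2, 1, 2, 0, 0, 2, 0, 2, 0, 0, 2, 0, 2, 1,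 2, 1, 2], [0, 0, 2, 0, 2, 1, 2, 0, 2, 0, 2, 0, 0, 2, 0, 0, 2, 1], [2, 1, 2, 0, 0, 2, 1, 2, 1, 2, 1, 2, 0, 2, 0, 0, 2, 0]]⟩, ⟨3, [2517, 2416, 2315], 2, 0, [[], []]⟩, ⟨2, [606, 70, 80, 70, 2313, 2425, 2417, 2455], 1, 3, [[], [1, 2, 1, 2, 1, 2, 1, 2, 0, 2, 0, 2], [0, 0, 2, 0, 2, 1, 2, 1, 2, 0, 2, 0, 2, 0, 2, 1], [0, 0, 2, 0, 2, 0, 2, 1, 2, 1, 2, 0, 2, 0, 2, 1]]⟩, ⟨3, [2521, 2425, 2417], 2, 0, [[], []]⟩, ⟨2, [1238, 283, 556, 70, 78, 70, 98, 2313], 1, 0, [[], [0, 0, 2, 0, 0, 2, 0, 2, 1, 2, 1, 2, 0, 2, 0, 0], [2, 0, 2, 0, 2, 0, 2, 0, 2, 0, 2, 0, 2, 0, 2, 1, 2, 0, 0, 2, 0, 2], [0, 2, 1, 2, 0, 2, 0, 2, 0, 0, 2, 0, 2, 0, 2, 0, 2, 0, 2]]⟩, ⟨3, [2525, 2416, 2397],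 2, 0, [[], []]⟩, ⟨2, [636, 70, 98, 118, 70, 78, 2313], 1, 0, [[], [2, 1, 2, 0, 0, 2, 0, 0, 2, 0, 2, 0, 0, 2, 1], [1, 2, 0, 2, 0, 2, 0, 2, 0, 0, 2, 0, 0, 2, 0, 2, 0, 2], [2, 1, 2, 0, 0, 2, 0, 0, 2, 1, 2, 0, 2, 0, 2, 1, 2, 0, 2, 1]]⟩, ⟨3, [2529, 2359], 2, 0, [[], []]⟩, ⟨2, [2396, 2467, 282, 564, 70, 80, 70, 2313], 1, 0, [[], [2, 0, 2, 1, 2, 0, 0, 2, 0, 2, 1, 2, 1, 2, 0, 2, 0, 2, 1], [0, 2, 1, 2, 1, 2, 0, 2, 1, 2, 1, 2, 0, 0, 2, 1, 2, 1, 2, 1], [2, 1, 2, 0, 2, 0, 2, 0, 2, 0, 0, 2, 0, 2, 0, 0, 2, 0, 0]]⟩, ⟨2, [2314, 2417, 2456, 282, 876, 78, 70, 2313], 1, 0, [[], [0, 2, 0, 2, 0, 2, 1, 2, 1, 2, 0, 0, 2, 0, 0, 2, 1, 2], [0, 2, 0, 2, 0, 2, 0, 0, 2, 1, 2, 1,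 2, 1, 2, 0, 2, 1], [1, 2, 0, 2, 1, 2, 1, 2, 0, 2, 0, 2, 1, 2, 0, 2, 0, 2, 0, 0]]⟩, ⟨2, [1273, 286, 98, 78, 70, 2313], 1, 0, [[], [0, 2, 0, 2, 0, 2, 0, 2, 0, 0, 2, 1, 2, 1, 2, 0], [1, 2, 1, 2, 0, 0, 2, 1, 2, 1, 2, 0, 0, 2, 1, 2, 0, 0, 2, 1], [0, 0, 2, 1, 2, 0, 0, 2, 1, 2, 0, 0, 2, 0, 0, 2, 0, 0, 2, 0, 0]]⟩, ⟨3, [2537, 2425, 2417, 2315], 2, 0, [[], []]⟩, ⟨2, [1654, 1660, 1958, 70, 80, 98, 138, 98, 2313], 1, 0, [[], [2, 0, 0, 2, 0, 2, 0, 0, 2, 1, 2, 1, 2, 0, 0, 2, 0, 2, 0, 2, 0, 2, 0], [0, 0, 2, 1, 2, 1, 2, 0, 0, 2, 0, 0, 2, 1, 2, 0, 2, 0, 0, 2, 0], [2, 0, 2, 1, 2, 1, 2, 0, 0, 2, 0, 0, 2, 0, 2, 0, 0, 2, 0, 0, 2, 1]]⟩, ⟨3, [2541, 2424, 2359], 2, 0, [[], []]⟩,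 ⟨2, [1792, 1584, 2074, 98, 78, 2313], 1, 0, [[], [0, 2, 0, 0, 2, 0, 2, 1, 2, 1, 2, 1, 2, 1, 2], [0, 2, 0, 0, 2, 0, 2, 1, 2, 1, 2, 0, 0, 2, 0, 0, 2, 0], [0, 2, 0, 0, 2, 0, 2, 1, 2, 1, 2, 0, 2, 1, 2, 1]]⟩, ⟨3, [2545, 2425, 2359], 2, 0, [[], []]⟩, ⟨2, [1654, 1738, 1322, 98, 78, 2313], 1, 0, [[], [2, 0, 2, 0, 2, 1, 2, 0, 2, 1, 2, 0, 0, 2, 0, 2, 0, 2], [0, 0, 2, 1, 2, 1, 2, 1, 2, 0, 0, 2, 0, 2, 1, 2, 1, 2, 1], [2, 1, 2, 0, 2, 1, 2, 1, 2, 1, 2, 1, 2, 0, 0, 2, 1]]⟩, ⟨3, [2549, 2359], 2, 0, [[], []]⟩, ⟨2, [282, 1078, 308, 98, 78, 70, 2313], 1, 0, [[], [1, 2, 0, 0, 2, 1, 2, 1, 2, 0, 2, 1, 2, 0, 2, 0, 0, 2, 0, 2, 0], [2, 0, 0, 2, 1, 2, 0, 0, 2, 0, 0, 2, 0, 0],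 [2, 0, 2, 1, 2, 1, 2, 0, 0, 2, 0, 0, 2, 0, 2, 1, 2, 1, 2, 1]]⟩, ⟨3, [2553, 2425], 2, 0, [[], []]⟩, ⟨2, [283, 1574, 2316], 0, 2, [[], [1, 2, 0, 0, 2, 0, 0, 2, 1, 2, 0, 2, 0, 0, 2, 0, 2, 0, 2, 0, 2], [0, 2, 0, 2, 0, 2, 1, 2, 1, 2, 1, 2, 0, 2, 0, 0]]⟩, ⟨3, [2557, 2424, 2315], 2, 0, [[], []]⟩, ⟨2, [282, 1340, 283, 2316], 0, 2, [[], [1, 2, 1, 2, 0, 2, 0, 2, 1, 2, 1, 2, 0, 2, 1, 2, 0], [1, 2, 0, 2, 1, 2, 1, 2, 1, 2, 0, 0, 2, 1, 2, 1, 2, 0, 2, 0, 2, 0]]⟩] 1212 1281 = true := by decide +kernel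
theorem dd_c18 : dd.checks [⟨3, [2561, 2416], 2, 0, [[], []]⟩, ⟨2, [283, 1358, 283, 2316], 0, 2, [[], [0, 0, 2, 0, 2, 1, 2, 0, 2, 1, 2, 1, 2, 0, 2, 1], [1, 2, 0, 2, 1, 2, 1, 2, 0, 2, 1, 2, 1]]⟩, ⟨3, [2565, 2416], 2, 0, [[], []]⟩, ⟨2, [626, 283, 2316], 0, 2, [[], [1, 2, 0, 2, 0, 0, 2, 0, 0, 2, 0, 0, 2, 0, 2, 1, 2, 0, 0, 2, 1, 2], [0, 2, 0, 2, 1, 2, 1, 2, 1, 2, 1, 2, 1, 2, 1, 2, 0, 2, 0, 0, 2, 0]]⟩, ⟨3, [2569, 2417, 2359], 2, 0, [[], []]⟩, ⟨2, [2416, 2383, 282, 2316], 0, 2, [[], [0, 0, 2, 0, 2, 1, 2, 1, 2, 0, 2, 1, 2, 1, 2, 0, 2, 0, 2], [0, 2, 0, 2, 0, 2, 0, 0, 2, 0, 0, 2, 1, 2, 1, 2, 0, 0, 2, 0, 0, 2, 0, 0]]⟩, ⟨2, [283, 2316, 2425, 2573], 0, 1, [[], [2,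 1, 2, 0, 0, 2, 0, 0, 2, 1, 2, 1, 2, 1, 2, 0, 0, 2, 1, 2, 1], [0, 2, 0, 0, 2, 0, 0, 2, 0, 2, 0, 2, 1, 2, 1, 2, 0, 0, 2, 0]]⟩, ⟨3, [2575, 2425, 2416], 2, 0, [[], []]⟩, ⟨2, [2556, 283, 2316], 0, 2, [[], [0, 2, 0, 2, 0, 0, 2, 0, 2, 0, 2, 0, 2, 0, 0, 2, 1], [2, 0, 2, 0, 2, 0, 2, 0, 2, 0, 2, 0, 2, 1, 2, 0, 2, 0]]⟩, ⟨2, [2186, 2210, 2218, 2222, 282, 2316], 0, 2, [[], [0, 2, 0, 0, 2, 0, 0, 2, 0, 0, 2, 0, 2, 1, 2, 1, 2, 0, 0, 2, 0, 0], [0, 2, 1, 2, 1, 2, 0, 2, 0, 2, 0, 0, 2, 0, 0, 2, 0, 0, 2, 1]]⟩, ⟨3, [2581, 2416], 2, 0, [[], []]⟩, ⟨2, [2416, 2506, 2417, 2424, 2468, 282, 2316], 1, 3, [[], [1, 2, 0, 2, 0, 0, 2, 0, 2, 0, 2, 0, 2, 0, 0, 2, 0, 0, 2, 0, 0], [2, 0,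 2, 0, 0, 2, 0, 0, 2, 0, 0, 2, 0, 0, 2, 0, 2, 0, 0, 2], [1, 2, 1, 2, 0, 0, 2, 1, 2, 0, 0, 2, 0, 2, 0, 2, 0]]⟩, ⟨2, [282, 1572, 680, 2316], 1, 0, [[], [2, 0, 0, 2, 0, 0, 2, 0, 0, 2, 1, 2, 0, 0, 2, 0, 2, 0, 2, 0, 2, 0, 0], [2, 0, 0, 2, 0, 2, 1, 2, 0, 0, 2, 0, 0, 2, 1, 2, 0, 0, 2], [2, 1, 2, 0, 0, 2, 0, 2, 0, 0, 2]]⟩, ⟨3, [2587, 2315], 2, 0, [[], []]⟩, ⟨2, [2396, 2440, 1175, 283, 2316], 1, 0, [[], [0, 2, 1, 2, 1, 2, 0, 2, 0, 0, 2, 0, 2, 0, 0, 2, 0, 2, 0, 0], [0, 0, 2, 0, 2, 1, 2, 0, 2, 1, 2, 0, 2, 1, 2, 0, 2, 1, 2, 1], [0, 2, 1, 2, 0, 2, 0, 2, 0, 0, 2, 0, 2, 1, 2, 1, 2, 1]]⟩, ⟨2, [1788, 1584, 1660, 1694, 2316], 1, 0, [[], [2, 0, 2, 0, 2, 0, 2, 1, 2, 0, 0,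 2, 0, 2, 0, 2, 1, 2], [1, 2, 1, 2, 0, 0, 2, 1, 2, 0, 2, 1, 2, 0, 0, 2, 1], [2, 0, 2, 0, 2, 1, 2, 1, 2, 0, 0, 2, 0, 2, 1, 2, 0, 0]]⟩, ⟨3, [2593, 2359, 2315], 2, 0, [[], []]⟩, ⟨2, [2417, 2424, 2318, 1296, 282, 569], 1, 1, [[], [2, 0, 0, 2, 1, 2, 0, 0, 2, 0, 2, 0, 0, 2, 0, 2, 1, 2], [2, 1, 2, 0, 2, 0, 0, 2, 1, 2, 1, 2, 0, 0, 2, 0, 2, 0, 0], [1, 2, 0, 2, 0, 0, 2, 1, 2, 0, 0]]⟩, ⟨3, [2597, 79, 99], 2, 0, [[], []]⟩, ⟨2, [2416, 2318, 283, 452, 283, 947], 1, 2, [[], [2, 1, 2, 1, 2, 1, 2, 0, 2, 0, 2, 0, 2, 0, 0, 2, 0, 0, 2, 0], [2, 0, 0, 2, 0, 2, 0, 2, 0, 0, 2, 0, 2, 1, 2, 0, 2, 1], [2, 1, 2, 1, 2, 0, 0, 2, 0, 0, 2, 0, 2, 1, 2, 1, 2, 0, 0]]⟩, ⟨2, [2314, 2416,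 2425, 2318, 283, 845, 283, 973], 1, 2, [[], [1, 2, 0, 2, 1, 2, 0, 2, 0, 0, 2, 0, 0, 2, 0, 2, 0, 2, 0, 0], [0, 2, 0, 2, 0, 2, 0, 0, 2, 0, 0, 2, 1, 2, 0, 0, 2, 1, 2, 0, 2, 0], [0, 2, 1, 2, 0, 2, 1, 2, 0, 0, 2, 0, 2, 0, 2, 0, 2, 1, 2]]⟩, ⟨3, [2603, 283], 2, 0, [[], []]⟩, ⟨2, [2314, 2318, 283, 1259, 283, 951], 1, 2, [[], [2, 1, 2, 0, 0, 2, 1, 2, 1, 2, 0, 0, 2, 1, 2, 0, 0, 2, 1, 2], [2, 0, 0, 2, 0, 0, 2, 0, 2, 1, 2, 1, 2, 0, 0, 2, 0, 0, 2, 1, 2, 1], [0, 2, 1, 2, 0, 0, 2, 1, 2, 1, 2, 1, 2, 1, 2, 1, 2, 1, 2, 1]]⟩, ⟨3, [2607, 200], 2, 0, [[], []]⟩, ⟨2, [2416, 2390, 2211, 2186, 2219, 2192, 1584, 1594, 2320], 1, 0, [[], [2, 1, 2, 1, 2, 0, 0, 2, 0, 2, 1, 2, 1, 2,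 0, 2, 0, 0, 2, 0, 2], [1, 2, 0, 0, 2, 0, 2, 0, 0, 2, 1, 2, 1, 2, 0, 2, 1], [0, 2, 0, 0, 2, 1, 2, 0, 2, 1, 2, 0, 2, 0, 2, 1, 2, 0]]⟩, ⟨2, [2396, 2322, 1655, 1861, 283, 2600], 1, 1, [[], [0, 0, 2, 0, 2, 1, 2, 0, 2, 0, 2, 0, 0, 2], [0, 0, 2, 0, 2, 0, 2, 0, 2, 0, 2, 0, 2, 0, 2, 1, 2, 1, 2, 0, 2], [0, 0, 2, 0, 0, 2, 0, 2, 1, 2, 1, 2, 0, 0, 2, 0, 0, 2, 0, 2, 0, 0]]⟩, ⟨3, [2613, 2416], 2, 0, [[], []]⟩, ⟨2, [2416, 2322, 1654, 1781, 2360], 1, 1, [[], [0, 2, 0, 0, 2, 0, 2, 0, 0, 2, 0, 0, 2, 1, 2, 0, 0, 2, 0, 2, 0, 0], [1, 2, 1, 2, 0, 0, 2, 1, 2, 1, 2, 1, 2, 0, 0, 2, 1, 2, 0, 0, 2, 0, 0], [2, 1, 2, 0, 2, 0, 0, 2, 0, 0, 2, 0, 2, 0, 0, 2, 0]]⟩, ⟨2, [2180, 2186, 2206,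 282, 2324, 2424, 2315, 2455], 1, 2, [[], [2, 1, 2, 0, 2, 1, 2, 1, 2, 0, 2, 0, 2, 1, 2], [0, 2, 1, 2, 0, 2, 0, 2, 0, 0, 2, 0, 0, 2, 0, 2, 0], [2, 0, 2, 0, 0, 2, 0, 0, 2, 0, 2, 1, 2, 1, 2, 0, 2, 1, 2, 0, 2, 1]]⟩, ⟨3, [2619, 2397], 2, 0, [[], []]⟩, ⟨2, [282, 664, 282, 496, 2328], 1, 3, [[], [0, 0, 2, 1, 2, 1, 2, 1, 2, 0, 0, 2, 0, 2, 0, 2, 0, 0, 2, 0, 2, 0, 0], [0, 2, 0, 2, 0, 0, 2, 0, 2, 0, 0, 2, 0, 2, 1, 2, 1, 2, 0, 0, 2, 1], [2, 1, 2, 1, 2, 0, 0, 2, 0, 2, 1, 2, 1, 2, 0, 0, 2, 1, 2, 0, 0]]⟩, ⟨3, [2623, 2417, 2359], 2, 0, [[], []]⟩, ⟨2, [2604, 282, 1346, 2328], 1, 0, [[], [1, 2, 1, 2, 1, 2, 0, 2, 1, 2, 0, 0, 2, 0, 2, 0, 2, 0, 0], [1, 2, 0, 0, 2, 1, 2, 0,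 0, 2, 0, 0, 2, 0, 0, 2, 1, 2, 0, 0, 2], [2, 1, 2, 0, 2, 0, 0, 2, 0, 2, 0, 2, 0, 0, 2, 0, 2, 0, 0, 2, 0]]⟩, ⟨2, [2330, 283, 498], 0, 1, [[], [2, 0, 2, 0, 0, 2, 0, 2, 0, 0, 2, 1, 2, 1, 2, 0, 2, 0, 0, 2, 1], [2, 1, 2, 0, 0, 2, 0, 0, 2, 0, 2, 0, 0, 2, 0, 0, 2, 1, 2]]⟩, ⟨2, [2396, 2330, 282, 2095, 2275], 1, 2, [[], [1, 2, 1, 2, 0, 0, 2, 0, 2, 0, 2, 0, 2, 0, 0, 2, 1], [0, 2, 1, 2, 0, 2, 1, 2, 1, 2, 0, 0, 2, 0, 0, 2, 1], [2, 1, 2, 1, 2, 1, 2, 1, 2, 0, 2, 0, 0, 2, 1, 2, 0]]⟩, ⟨3, [2631, 2187, 2211], 2, 0, [[], []]⟩, ⟨2, [2417, 2330, 282, 405, 283, 2331], 1, 2, [[], [1, 2, 1, 2, 0, 0, 2, 0, 0, 2, 0, 0, 2, 0, 0, 2, 0, 0], [0, 2, 0, 2, 0, 2, 1, 2, 0, 2, 1, 2, 0,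 0, 2, 0, 2, 0, 2, 1], [0, 2, 0, 0, 2, 0, 2, 0, 2, 1, 2, 1, 2, 0, 0, 2, 0, 2, 1, 2, 1, 2, 0]]⟩, ⟨2, [2396, 2330, 282, 938, 2198], 1, 2, [[], [0, 0, 2, 0, 0, 2, 1, 2, 1, 2, 0, 0, 2, 0, 2, 0], [2, 0, 0, 2, 0, 2, 1, 2, 0, 2, 0, 0, 2, 0, 2, 1], [2, 1, 2, 1, 2, 0, 0, 2, 1, 2, 0, 2, 0, 2, 0, 0, 2, 1]]⟩, ⟨3, [2637, 2187, 2181], 2, 0, [[], []]⟩, ⟨2, [283, 2332, 2359, 2315, 2363, 283, 2473], 1, 1, [[], [0, 2, 0, 2, 0, 0, 2, 0, 2, 1, 2, 0, 0, 2, 1, 2, 0, 0], [1, 2, 1, 2, 0, 2, 1, 2, 0, 0, 2, 0, 0, 2, 0, 2], [1, 2, 1, 2, 0, 2, 1, 2, 0, 2, 0, 2, 0, 2, 0, 2, 0, 2, 0, 2]]⟩, ⟨3, [2641, 2424, 2315], 2, 0, [[], []]⟩, ⟨2, [2358, 2396, 2333, 719], 0, 1, [[], [0, 0, 2, 0,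 2, 1, 2, 0, 2, 1, 2, 0, 2, 1, 2, 0, 2, 0, 0, 2, 0], [2, 0, 2, 1, 2, 0, 2, 0, 0, 2, 0, 2, 0, 2, 0, 0, 2, 0, 2, 1, 2, 0, 0]]⟩, ⟨3, [2645, 283], 2, 0, [[], []]⟩, ⟨2, [2333, 523, 2332], 1, 1, [[], [2, 1, 2, 0, 2, 0, 2, 0, 0, 2, 0, 0, 2, 0, 2, 0, 2, 0, 2, 0, 0], [0, 2, 0, 2, 0, 2, 1, 2, 0, 2, 0], [2, 0, 0, 2, 0, 2, 0, 2, 1, 2, 0, 0, 2, 0, 0, 2, 0, 0, 2, 0, 2, 0]]⟩, ⟨2, [2416, 2333, 283, 2334], 0, 2, [[], [0, 2, 0, 2, 0, 0, 2, 1, 2, 1, 2, 0, 2, 0, 2, 1, 2, 1, 2], [2, 0, 2, 0, 2, 0, 2, 0, 2, 0, 2, 1, 2, 1, 2, 0, 2, 1, 2, 0, 2, 0, 0]]⟩, ⟨2, [283, 836, 282, 2334], 0, 2, [[], [1, 2, 1, 2, 0, 0, 2, 0, 2, 1, 2, 0, 0, 2, 0, 0, 2, 0, 2, 0], [2, 1, 2, 1, 2, 0, 2, 0,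 2, 1, 2, 1, 2, 0, 0, 2, 1, 2, 0, 0]]⟩, ⟨3, [2653, 2397, 2315], 2, 0, [[], []]⟩, ⟨2, [2416, 2336, 282, 613, 2332], 1, 2, [[], [0, 0, 2, 1, 2, 1, 2, 1, 2, 1, 2, 0, 0, 2, 0, 0, 2, 1, 2, 1, 2, 0], [2, 0, 0, 2, 0, 2, 0, 0, 2, 0, 2, 0, 2, 0, 2, 0, 0, 2, 0], [0, 0, 2, 0, 2, 0, 0, 2, 0, 2, 0, 2, 0, 0, 2]]⟩, ⟨2, [98, 78, 134, 66, 61, 1583, 2344], 1, 3, [[], [1, 2, 0, 0, 2, 1, 2, 0, 2, 1, 2, 0, 2, 0, 2, 0, 2, 0], [0, 2, 0, 2, 1, 2, 0, 0, 2, 0, 0, 2, 0, 0, 2], [0, 2, 0, 2, 1, 2, 0, 2, 1, 2, 0, 0, 2, 0, 2, 0, 2, 0, 0, 2, 0, 0]]⟩, ⟨3, [2659, 2359], 2, 0, [[], []]⟩, ⟨2, [2358, 2417, 2372, 1479, 2469], 1, 2, [[], [2, 0, 2, 0, 2, 0, 2, 0, 0, 2, 0, 2, 0, 0, 2, 0, 2, 1,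 2, 0, 0], [0, 0, 2, 1, 2, 1, 2, 0, 0, 2, 0, 0, 2, 0, 0, 2, 0, 2], [0, 2, 1, 2, 1, 2, 0, 2, 1, 2, 0, 2, 1, 2, 1, 2, 0, 0, 2, 0, 0]]⟩, ⟨2, [1584, 1698, 888, 282, 2374], 1, 3, [[], [0, 2, 0, 2, 1, 2, 1, 2, 0, 2, 0, 2, 0, 0, 2, 0, 2, 0, 2, 0, 2], [0, 2, 0, 2, 1, 2, 1, 2, 0, 0, 2, 1, 2, 1, 2, 0, 2, 1], [2, 1, 2, 1, 2, 0, 2, 0, 2, 0, 2, 0, 2, 0, 2, 0, 0, 2]]⟩, ⟨3, [2665, 2315], 2, 0, [[], []]⟩, ⟨2, [2416, 2412, 2374, 2416, 2359, 2573], 1, 2, [[], [1, 2, 1, 2, 0, 2, 0, 0, 2, 1, 2, 1, 2, 0, 0, 2, 0, 2], [2, 1, 2, 0, 2, 1, 2, 0, 2, 0, 2, 0, 2, 0, 0, 2, 0], [1, 2, 0, 0, 2, 0, 2, 1, 2, 1, 2, 0, 2, 0, 2, 0]]⟩, ⟨2, [191, 220, 550, 2382], 0, 2, [[], [2, 0, 0, 2, 0,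 2, 0, 0, 2, 0, 2, 0, 2, 1, 2, 0, 2, 1, 2, 1, 2, 0], [0, 2, 0, 2, 1, 2, 0, 0, 2, 0, 2, 0, 2, 0, 0, 2, 0, 2, 0, 0, 2, 0, 0]]⟩, ⟨3, [2671, 2425], 2, 0, [[], []]⟩, ⟨2, [2424, 2432, 283, 1923, 1757], 1, 2, [[], [1, 2, 0, 2, 1, 2, 0, 2, 0, 2, 0, 0, 2, 0, 2, 1, 2, 0, 2], [2, 1, 2, 0, 0, 2, 0, 2, 1, 2, 0, 0, 2, 1, 2, 0, 2, 1, 2, 1, 2, 1], [2, 0, 0, 2, 1, 2, 1, 2, 0, 0, 2, 0, 2, 0, 2, 0, 2]]⟩, ⟨3, [2675, 1655], 2, 0, [[], []]⟩, ⟨2, [2442, 1059, 385], 1, 1, [[], [0, 0, 2, 0, 2, 0, 2, 0, 0, 2, 1, 2, 0, 0, 2, 0, 0, 2, 1], [1, 2, 1, 2, 0, 2, 0, 0, 2, 0, 2, 0, 2, 1, 2, 0, 2], [2, 0, 0, 2, 0, 0, 2, 0, 2, 0, 2, 1, 2, 0, 0, 2, 0, 0, 2, 0, 0, 2, 1]]⟩, ⟨3, [2679, 233, 251,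 233], 2, 0, [[], []]⟩, ⟨2, [2462, 251, 235, 233, 2463], 0, 1, [[], [0, 2, 0, 2, 0, 2, 0, 0, 2, 0, 0, 2, 1, 2, 0, 2, 1, 2], [1, 2, 0, 2, 0, 0, 2, 1, 2, 0, 0, 2, 1, 2, 0, 0, 2, 1, 2, 0, 0, 2, 1]]⟩, ⟨2, [2462, 244, 239, 252, 232, 245, 2464], 1, 3, [[], [2, 1, 2, 1, 2, 1, 2, 0, 2, 0, 0, 2, 0, 0, 2, 0, 2, 0, 2, 0, 0], [2, 1, 2, 1, 2, 0, 2, 1, 2, 0, 0, 2, 1, 2, 0, 2, 0, 2, 0, 2, 0], [1, 2, 0, 2, 1, 2, 0, 0, 2, 1, 2, 1]]⟩, ⟨2, [2532, 2314, 2416, 2532], 0, 2, [[], [1, 2, 0, 0, 2, 0, 2, 0, 2, 0, 0, 2, 0, 2, 0, 2, 0, 0, 2], [0, 2, 0, 2, 0, 2, 1, 2, 0, 2, 1, 2, 0, 2, 1, 2, 1, 2, 1, 2]]⟩, ⟨2, [2676, 1584, 2666, 2425, 2532], 1, 3, [[], [2, 1, 2, 0, 2, 0, 0, 2, 0,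 2, 1, 2, 0, 2, 0, 2, 0, 0, 2, 1, 2, 0], [0, 0, 2, 1, 2, 0, 2, 0, 2, 0, 0, 2, 0, 0, 2, 0, 0, 2, 0], [2, 0, 2, 1, 2, 1, 2, 1, 2, 0, 0, 2, 0, 0, 2, 0, 2, 1, 2, 0, 0]]⟩, ⟨2, [2568, 283, 1395, 282, 2569], 1, 1, [[], [2, 1, 2, 1, 2, 0, 2, 1, 2, 0, 2, 0, 0, 2, 1], [0, 0, 2, 1, 2, 0, 2, 0, 0, 2, 1, 2, 1, 2, 0, 0, 2, 0, 2, 0, 0, 2], [1, 2, 0, 2, 0, 2, 1, 2, 0, 2, 0, 2, 0, 0, 2, 0, 2, 0, 0, 2, 0, 0]]⟩, ⟨2, [2578, 2396, 2578], 0, 2, [[], [2, 1, 2, 0, 0, 2, 1, 2, 1, 2, 0, 2, 0, 2, 1, 2], [2, 0, 0, 2, 0, 0, 2, 0, 2, 0, 2, 1, 2, 1, 2, 0, 0, 2, 0, 2, 0]]⟩, ⟨2, [2580, 2210, 2218, 2180, 2286, 2582], 1, 0, [[], [1, 2, 1, 2, 0, 0, 2, 1, 2, 1, 2, 1, 2, 1, 2, 1, 2, 0, 2],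 [2, 0, 0, 2, 1, 2, 0, 2, 0, 2, 0, 0, 2, 0, 0, 2, 0, 2], [0, 2, 0, 2, 0, 2, 0, 2, 1, 2, 1, 2, 1, 2, 0, 2, 0, 0, 2, 0]]⟩, ⟨2, [2638, 2180, 2211, 2219, 2636], 0, 2, [[], [1, 2, 1, 2, 0, 0, 2, 1, 2, 0, 2, 1, 2, 0, 2, 0, 2, 1, 2, 1], [1, 2, 0, 2, 1, 2, 1, 2, 0, 2, 0, 2, 1, 2, 1, 2, 1, 2, 1]]⟩, ⟨2, [2314, 2638, 2219, 2636], 0, 2, [[], [0, 0, 2, 1, 2, 1, 2, 0, 2, 0, 0, 2, 0, 2, 0, 0, 2, 0, 0], [2, 1, 2, 0, 0, 2, 1, 2, 1, 2, 0, 0, 2, 1, 2, 1, 2, 0, 2, 0, 0]]⟩, ⟨2, [2638, 2180, 2210, 2218, 2636], 0, 2, [[], [0, 0, 2, 0, 2, 0, 2, 0, 2, 0, 2, 0, 2, 1, 2, 1, 2, 0], [2, 0, 2, 1, 2, 0, 2, 1, 2, 1, 2, 0, 0, 2, 1, 2, 0, 2, 0, 2, 0, 0]]⟩] 1281 1351 = true := by decide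 +kernel
theorem dd_c19 : dd.checks [⟨0, [], 0, 0, []⟩, ⟨3, [2702, 98, 99, 99, 79, 81, 71, 2703], 2, 0, [[], [0, 2, 1, 2, 0, 0, 2, 0, 0, 2, 1, 2, 0, 0, 2, 0, 2, 1, 2, 0]]⟩, ⟨2, [2704, 2702, 81, 71, 79, 391], 0, 1, [[], [0, 2, 1, 2, 0, 0, 2, 1, 2, 0, 0, 2, 0, 2, 1, 2, 1, 2, 0, 2, 0, 0, 2, 1], [2, 0, 0, 2, 1, 2, 1, 2, 0, 2, 1, 2, 0, 0, 2, 0, 0, 2, 0, 0]]⟩, ⟨3, [2707, 282], 2, 0, [[], []]⟩, ⟨2, [2702, 99, 79, 141], 0, 1, [[], [2, 1, 2, 1, 2, 1, 2, 0, 2, 0, 0, 2, 0, 0, 2, 0, 2, 1, 2], [1, 2, 1, 2, 0, 0, 2, 0, 0, 2, 0, 0, 2, 0, 2, 1, 2, 1, 2, 0, 2, 1]]⟩, ⟨3, [2711, 81, 99, 81], 2, 0, [[], []]⟩, ⟨2, [2704, 2702, 99, 2075], 0, 1, [[], [1, 2, 0, 2, 0, 0, 2, 0,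 2, 1, 2, 1, 2, 0, 0, 2, 0, 0, 2], [1, 2, 0, 0, 2, 1, 2, 0, 0, 2, 1, 2, 1, 2, 0, 0, 2, 0, 2, 0]]⟩, ⟨3, [2715, 1660], 2, 0, [[], []]⟩, ⟨2, [2704, 2702, 81, 71, 81, 1477], 0, 1, [[], [1, 2, 1, 2, 1, 2, 1, 2, 0, 0, 2, 0, 2, 0, 2, 0, 2, 1], [0, 0, 2, 0, 2, 0, 2, 1, 2, 0, 2, 0, 0, 2, 0, 2, 0, 0, 2, 1]]⟩, ⟨2, [2704, 2702, 99, 79, 1935], 0, 1, [[], [0, 2, 1, 2, 1, 2, 0, 2, 0, 2, 0, 0, 2, 0, 0, 2, 0, 2], [0, 0, 2, 1, 2, 0, 0, 2, 1, 2, 1, 2, 0, 0, 2, 1, 2, 1, 2, 0, 2, 0]]⟩, ⟨3, [2721, 1660, 1585], 2, 0, [[], []]⟩, ⟨2, [2702, 99, 71, 81, 2179], 0, 1, [[], [2, 0, 0, 2, 0, 2, 0, 2, 0, 2, 0, 2, 1, 2, 1, 2, 0, 0, 2, 0, 0], [0, 2]]⟩, ⟨3, [2725, 2210, 2187, 2211], 2,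 0, [[], []]⟩, ⟨2, [2702, 99, 71, 81, 2313], 0, 1, [[], [0, 2, 0, 2, 1, 2, 0, 0, 2, 0, 2, 0, 0, 2, 1, 2, 0, 0], [0, 2, 0, 0, 2, 1, 2, 1, 2, 0, 2, 1, 2, 0, 0, 2, 0, 2, 1, 2, 0]]⟩, ⟨3, [2729, 2416], 2, 0, [[], []]⟩, ⟨2, [2702, 79, 99, 565], 0, 1, [[], [0, 2, 0, 2, 0, 2, 0, 2, 0, 0, 2, 0, 2, 1, 2, 0, 0, 2], [1, 2, 0, 0, 2, 0, 0, 2, 1, 2, 1, 2, 0, 2, 0, 0, 2, 0, 0]]⟩, ⟨3, [2733, 282], 2, 0, [[], []]⟩, ⟨2, [2704, 2702, 79, 71, 81, 79, 697], 0, 1, [[], [0, 2, 1, 2, 0, 2, 0, 2, 0, 2, 0, 2, 0, 2, 0, 2, 0, 2, 1, 2], [1, 2, 0, 2, 0, 2, 0, 2, 0, 2, 0, 2, 1, 2, 0, 2]]⟩, ⟨3, [2737, 283], 2, 0, [[], []]⟩, ⟨2, [2704, 2702, 81, 71, 99, 347, 283, 1251], 1, 1, [[], [1,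 2, 1, 2, 0, 2, 0, 2, 0, 0, 2, 1, 2, 0, 2, 1, 2, 0], [1, 2, 0, 0, 2, 0, 2, 0, 0, 2, 0, 2, 0, 0, 2, 0, 2, 0, 2], [0, 0, 2, 1, 2, 0, 2, 0, 0, 2, 0, 2, 1, 2, 1, 2]]⟩, ⟨3, [2741, 282], 2, 0, [[], []]⟩, ⟨2, [2702, 81, 71, 79, 309, 932], 1, 1, [[], [1, 2, 0, 2, 0, 2, 1, 2, 0, 0, 2, 0, 0, 2], [2, 0, 0, 2, 0, 2, 0, 2, 0, 0, 2, 0, 2, 1, 2, 0, 2, 0, 2, 0, 0, 2, 0], [0, 2, 0, 0, 2, 1, 2, 0, 0, 2, 0, 0, 2, 0, 2]]⟩, ⟨3, [2745, 283], 2, 0, [[], []]⟩, ⟨2, [2704, 2702, 71, 79, 71, 823, 1589], 1, 1, [[], [2, 0, 2, 1, 2, 1, 2, 0, 2, 0, 2, 0, 0, 2, 0, 2, 0, 2, 0, 0], [2, 0, 2, 1, 2, 0, 2, 1, 2, 0, 2, 0, 2, 0, 2, 0, 2, 0], [2, 1, 2, 0, 2, 0, 0, 2, 0, 2]]⟩, ⟨3, [2749, 1660,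 1655, 1585], 2, 0, [[], []]⟩, ⟨2, [2702, 81, 71, 79, 71, 457, 283, 2575], 1, 1, [[], [2, 0, 0, 2, 0, 2, 0, 2, 1, 2, 0, 2, 0, 0, 2, 1, 2, 0, 0, 2, 0, 2], [1, 2, 1, 2, 0, 2, 0, 2, 1, 2, 0, 0, 2, 0, 2, 0, 0, 2, 0, 2, 1], [0, 2, 0, 2, 0, 0, 2, 0, 2, 0, 2, 0, 2, 1, 2, 1, 2, 0, 2, 0, 0]]⟩, ⟨3, [2753, 2424, 2731], 2, 0, [[], [0, 2, 1, 2, 0, 0, 2, 1, 2, 0, 0, 2, 0, 2, 0, 0, 2, 1]]⟩, ⟨2, [2702, 81, 143, 79, 71, 99, 71, 619], 1, 1, [[], [2, 0, 2, 1, 2, 1, 2, 0, 0, 2, 1, 2, 1, 2, 0, 2, 1, 2, 0, 0, 2, 0], [2, 0, 2, 1, 2, 0, 2, 0, 2, 0, 0, 2, 0, 2, 1], [1, 2, 0, 0, 2, 0, 2, 1, 2, 0, 0, 2, 1, 2, 0, 0, 2, 0, 0]]⟩, ⟨3, [2757, 283], 2, 0, [[], []]⟩, ⟨2, [2704, 2702, 71,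 81, 1355, 283, 951], 1, 1, [[], [2, 0, 0, 2, 1, 2, 1, 2, 1, 2, 0, 0, 2, 0, 2, 1], [2, 1, 2, 1, 2, 0, 2, 0, 0, 2, 1, 2, 1, 2, 0, 0, 2, 0, 2], [0, 2, 0, 0, 2, 0, 0, 2, 0, 0, 2, 0, 2, 0, 0, 2, 0, 0, 2, 1]]⟩, ⟨3, [2761, 220, 208], 2, 0, [[], []]⟩, ⟨2, [2704, 2755, 2702, 79, 71, 99, 71, 637, 1013], 1, 1, [[], [2, 0, 2, 0, 0, 2, 0, 2, 0, 2, 1, 2, 0, 2, 1, 2], [0, 0, 2, 1, 2, 0, 0, 2, 0, 0, 2, 0, 0, 2, 1, 2, 1, 2, 1, 2], [0, 0, 2, 1, 2, 0, 2, 1, 2, 0, 0, 2, 1, 2, 0, 2, 0, 2, 0, 0, 2, 0, 2]]⟩, ⟨3, [2765, 283], 2, 0, [[], []]⟩, ⟨2, [2702, 99, 79, 71, 1891, 1655, 2723], 1, 1, [[], [0, 2, 1, 2, 0, 0, 2, 0, 0, 2, 0, 2, 0, 2, 0, 2, 0, 0, 2, 0], [2, 0, 0, 2, 0, 2,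 0, 2, 0, 2, 0, 0, 2, 1, 2], [2, 1, 2, 0, 2, 1, 2, 1, 2, 0, 2, 0, 0, 2, 0, 2, 1, 2, 1, 2, 0, 0]]⟩, ⟨2, [2704, 2754, 2754, 2702, 99, 71, 79, 71, 679, 283, 2709], 1, 1, [[], [0, 0, 2, 1, 2, 0, 0, 2, 0, 2, 1, 2, 0, 2, 1, 2, 0, 0], [2, 1, 2, 0, 2, 0, 0, 2, 0, 2, 1, 2, 0, 0, 2, 1, 2, 0, 2, 1, 2], [1, 2, 1, 2, 1, 2, 0, 2, 1, 2, 0, 2, 1, 2, 0, 2, 0, 2]]⟩, ⟨2, [2704, 2754, 2704, 2702, 99, 71, 81, 79, 935, 1485], 1, 1, [[], [1, 2, 0, 0, 2, 1, 2, 0, 2, 1, 2, 0, 2, 1, 2, 0, 2, 1, 2], [2, 1, 2, 0, 2, 1, 2, 0, 2, 0, 0, 2, 0, 2, 0, 2, 1, 2, 0, 2, 1], [0, 0, 2, 0, 2, 0, 0, 2, 0, 2, 1, 2, 1, 2, 0, 0, 2, 0, 0, 2, 0]]⟩, ⟨2, [2754, 2702, 71, 99, 863, 907], 1, 1, [[], [1,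 2, 1, 2, 0, 0, 2, 0, 2, 0, 2, 0, 2, 1, 2, 1, 2], [2, 0, 2, 1, 2, 0, 0, 2, 0, 2, 1, 2, 1, 2, 0, 2, 0], [2, 0, 0, 2, 1, 2, 0, 0, 2, 1, 2, 0, 2, 0, 2, 1, 2, 0, 0, 2, 1]]⟩, ⟨3, [2775, 283], 2, 0, [[], []]⟩, ⟨2, [2754, 2754, 2702, 99, 79, 107, 71, 79, 71, 565], 1, 1, [[], [2, 0, 0, 2, 1, 2, 0, 0, 2, 0, 2, 0, 2, 0, 2, 0, 0, 2, 0, 0, 2], [2, 1, 2, 1, 2, 0, 2, 0, 2, 1], [2, 0, 2, 1, 2, 0, 2, 1, 2, 0, 2]]⟩, ⟨2, [2704, 2754, 2702, 81, 71, 99, 215, 208, 220, 191, 481], 1, 1, [[], [0, 0, 2, 0, 2, 0, 0, 2, 0, 2, 0, 0, 2, 0, 0, 2, 1, 2, 0, 2, 0], [1, 2, 1, 2, 0, 2, 1, 2, 0, 0, 2, 0, 2, 0, 2, 1, 2, 0, 2, 0, 0], [0, 2, 0, 0, 2, 0, 0, 2, 1, 2, 0, 2, 0, 2, 1, 2, 0, 0,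 2, 1]]⟩, ⟨2, [2704, 2755, 2702, 81, 99, 79, 95, 99, 71, 79, 2713], 1, 1, [[], [2, 1, 2, 0, 2, 0, 2, 0, 2, 0, 2, 0, 0, 2, 0, 2, 1, 2, 0, 0, 2], [1, 2, 0, 0, 2, 1, 2, 0, 2, 1, 2, 0, 2, 0, 2, 1, 2, 0, 2, 0, 0], [2, 1, 2, 1, 2, 1, 2, 1, 2, 1, 2, 0, 0, 2, 0, 2, 1, 2, 1, 2]]⟩, ⟨2, [2754, 2702, 99, 79, 71, 2103, 1655, 1585, 1725], 1, 1, [[], [2, 1, 2, 0, 2, 0, 2, 0, 0, 2, 1, 2, 1, 2, 1], [1, 2, 1, 2, 0, 2, 0, 2, 0, 0, 2, 1, 2, 1, 2, 0], [0, 2, 0, 2, 0, 2, 0, 2, 0, 0, 2, 0, 2, 1, 2, 1, 2, 0, 2, 0, 2, 0, 0]]⟩, ⟨3, [2785, 282], 2, 0, [[], []]⟩, ⟨2, [2704, 2755, 2704, 2702, 99, 71, 79, 71, 749, 282, 895], 1, 1, [[], [2, 0, 2, 0, 2, 0, 0, 2, 0, 2, 1, 2, 0, 0], [1,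 2, 1, 2, 0, 2, 1, 2, 0, 0, 2, 0, 2, 0, 2, 1, 2, 0, 2, 1], [0, 2, 0, 0, 2, 1, 2, 0, 2, 1, 2, 0, 2, 1, 2]]⟩, ⟨2, [2702, 103, 81, 71, 81, 2179], 1, 1, [[], [2, 0, 2, 0, 0, 2, 0, 0, 2, 1, 2, 0, 2], [2, 0, 2, 0, 0, 2, 0, 2, 1, 2, 1, 2, 0, 0, 2, 1, 2], [0, 0, 2, 1, 2, 1, 2, 1, 2, 1, 2, 1, 2, 0, 2, 0, 2, 1, 2, 0, 2]]⟩, ⟨3, [2791, 2219], 2, 0, [[], []]⟩, ⟨2, [2704, 2754, 2704, 2754, 2702, 71, 81, 181, 164, 152, 165, 1515], 1, 1, [[], [1, 2, 0, 2, 0, 2, 0, 2, 0, 0, 2, 0, 2, 1, 2, 1, 2, 0, 2, 0, 2, 0, 2], [2, 0, 2, 1, 2, 0, 2, 0, 2, 0, 0, 2, 0, 2, 0, 0, 2, 0, 2, 0, 2], [2, 0, 0, 2, 1, 2, 0, 2, 0, 0, 2, 0, 2, 0, 2, 0, 2, 0, 0, 2, 1]]⟩, ⟨3, [2795, 283], 2, 0, [[],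 []]⟩, ⟨2, [2704, 2755, 2702, 71, 107, 81, 79, 619], 1, 1, [[], [2, 1, 2, 0, 2, 0, 0, 2, 0, 0, 2, 0, 2, 0, 2, 0, 2], [0, 2, 1, 2, 1, 2, 1, 2, 0, 2, 0, 0, 2, 1, 2, 0, 0], [0, 2, 0, 2, 0, 2, 0, 2, 1, 2, 0, 0, 2, 0, 2, 0, 2, 0, 2, 1]]⟩, ⟨2, [2702, 99, 877, 282, 895], 1, 1, [[], [2, 0, 0, 2, 0, 2, 1, 2, 0, 0, 2, 1, 2, 0, 2, 1, 2, 1, 2], [2, 1, 2, 0, 0, 2, 1, 2, 0, 2, 1, 2, 0, 0, 2, 1, 2, 0, 2, 0, 2, 0], [0, 2, 0, 2, 0, 2, 1, 2, 0, 0, 2, 0, 0, 2, 0, 0, 2, 0, 0, 2, 0]]⟩, ⟨3, [2801, 283], 2, 0, [[], []]⟩, ⟨2, [2755, 2704, 2754, 2702, 81, 71, 79, 71, 181, 157, 157, 155, 333], 1, 1, [[], [0, 2, 1, 2, 0, 2, 0, 0, 2, 0, 0, 2, 1, 2, 0, 0, 2, 1, 2, 1], [1, 2, 0, 2,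 0, 2, 1, 2, 1, 2, 0, 0, 2, 0, 2, 1, 2, 1, 2, 0, 2, 1], [2, 0, 2, 0, 2, 0, 2, 0, 0, 2, 0, 2, 1, 2, 0, 0, 2, 0, 0]]⟩, ⟨2, [2704, 2702, 935, 283, 2466], 1, 1, [[], [1, 2, 0, 2, 0, 2, 0, 0, 2, 1, 2, 1, 2, 1, 2, 0, 0, 2, 0, 0, 2, 0, 0], [2, 0, 2, 1, 2, 1, 2, 0, 2, 0, 2, 0, 0, 2, 0, 2, 1, 2, 0, 2, 0], [0, 2, 0, 2, 1, 2, 0, 2, 0, 0, 2, 0, 0, 2, 0, 2, 0, 2, 1]]⟩, ⟨3, [2807, 2397, 2315], 2, 0, [[], []]⟩, ⟨2, [2754, 2702, 71, 91, 57, 51, 49, 913], 1, 1, [[], [2, 0, 0, 2, 1, 2, 0, 0, 2, 1, 2, 0, 0, 2, 1, 2, 0, 2, 0], [1, 2, 1, 2, 1, 2, 0, 0, 2, 1, 2, 1], [1, 2, 0, 2, 0, 2, 0, 0, 2, 0, 0, 2, 0, 0, 2]]⟩, ⟨3, [2811, 283], 2, 0, [[], []]⟩, ⟨2, [2704, 2702, 73, 99, 71,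 2713], 1, 1, [[], [0, 2, 0, 2, 1, 2, 0, 2, 1, 2, 0, 2, 1, 2, 0, 0, 2, 1, 2, 0], [0, 2, 1, 2, 0, 2, 0, 0, 2, 1, 2, 0, 2, 0, 2, 1, 2, 0, 0, 2, 0], [0, 0, 2, 1, 2, 1, 2, 0, 0, 2, 1, 2, 0, 0, 2, 0, 2, 1, 2, 0, 2, 0, 0]]⟩, ⟨2, [2704, 2754, 2754, 2702, 81, 71, 99, 71, 1593, 1595, 1585, 2421], 1, 1, [[], [2, 0, 0, 2, 1, 2, 1, 2, 1, 2, 1, 2, 1, 2, 1, 2, 1], [2, 1, 2, 0, 2, 1, 2, 1, 2, 0, 2, 1, 2, 1, 2, 0], [0, 2, 0, 0, 2, 0, 2, 0, 2, 0, 0, 2, 1, 2, 1, 2, 0, 2, 0]]⟩, ⟨3, [2817, 2359], 2, 0, [[], []]⟩, ⟨2, [2754, 2754, 2704, 2702, 99, 81, 637, 282, 1111], 1, 1, [[], [1, 2, 0, 0, 2, 0, 2, 1, 2, 1], [0, 0, 2, 1, 2, 0, 2, 0, 0, 2, 0, 2, 0, 2, 1, 2, 1], [2, 0, 2, 1,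 2, 1, 2, 0, 2, 0, 2, 1, 2, 0, 2, 1, 2, 0, 2, 1, 2, 0, 0]]⟩, ⟨3, [2821, 282], 2, 0, [[], []]⟩, ⟨2, [2704, 2754, 2704, 2702, 697, 283, 1571], 1, 1, [[], [0, 2, 1, 2, 1, 2, 1, 2, 0, 2, 0, 2, 0, 0, 2], [0, 2, 1, 2, 1, 2, 1, 2, 1, 2, 0, 0, 2, 0, 2, 1, 2, 1, 2, 1, 2], [0, 0, 2, 0, 2, 0, 2, 1, 2, 0, 2, 0, 0, 2, 1, 2, 1, 2, 0]]⟩, ⟨3, [2825, 283], 2, 0, [[], []]⟩, ⟨2, [2755, 2702, 71, 99, 1891, 1661, 1585, 1873], 1, 1, [[], [2, 0, 2, 0, 0, 2, 1, 2, 0, 2, 1, 2, 1, 2, 0, 2, 0, 2, 0, 2], [2, 0, 0, 2, 1, 2, 0, 0, 2, 1, 2, 0, 2, 0, 0, 2, 1], [1, 2, 0, 2, 0, 0, 2, 0, 2, 1, 2, 0, 0, 2, 0, 0, 2, 0, 0]]⟩, ⟨3, [2829, 283], 2, 0, [[], []]⟩, ⟨2, [2704, 2702, 81, 79, 71, 1625,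 1655, 1585, 2541], 1, 1, [[], [1, 2, 0, 0, 2, 0, 2, 0, 0, 2, 0, 0, 2, 1, 2, 0, 0, 2, 1], [0, 2, 0, 2, 0, 2, 0, 2, 0, 2, 1, 2, 0, 2, 1, 2, 0, 2, 0, 0], [2, 1, 2, 0, 0, 2, 0, 0, 2, 1, 2, 1, 2, 0, 0, 2, 0, 2, 0, 0, 2]]⟩, ⟨3, [2833, 2359], 2, 0, [[], []]⟩, ⟨2, [2704, 2702, 99, 81, 99, 859, 339], 1, 1, [[], [1, 2, 0, 0, 2, 1, 2, 1, 2, 0, 0, 2, 0, 2, 1, 2, 0, 0], [1, 2, 0, 2, 0, 2, 0, 2, 0, 2, 1, 2, 0, 0, 2, 0, 2, 0, 0, 2, 0, 2, 0], [1, 2, 0, 0, 2, 0, 0, 2, 1, 2, 1, 2, 0, 2, 0, 0, 2, 0, 0, 2]]⟩, ⟨3, [2837, 283], 2, 0, [[], []]⟩, ⟨2, [2754, 2704, 2702, 81, 71, 99, 2599, 2425, 2417, 2559], 1, 1, [[], [2, 0, 2, 0, 2, 0, 2, 0, 0, 2, 0, 2, 0, 2, 0, 2, 1, 2, 0, 0,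 2, 1], [0, 2, 0, 2, 0, 2, 0, 2, 1, 2, 0, 2, 1, 2, 1, 2], [0, 0, 2, 0, 2, 1, 2, 0, 2, 0, 0, 2, 0, 0, 2, 1, 2, 1, 2, 0]]⟩, ⟨2, [2754, 2702, 99, 79, 1477, 283, 690], 1, 1, [[], [1, 2, 1, 2, 1, 2, 1, 2, 0, 0, 2, 1, 2, 1, 2, 1, 2], [2, 0, 2, 0, 0, 2, 0, 2, 1, 2, 0, 2, 1, 2, 1], [0, 2, 1, 2, 1, 2, 0, 2, 0, 2, 0, 0, 2, 0, 2, 0, 2, 0, 0, 2]]⟩, ⟨2, [2754, 2754, 2704, 2755, 2702, 99, 79, 71, 257, 239, 245, 251, 239, 383], 1, 1, [[], [2, 0, 2, 1, 2, 1, 2, 1, 2, 1, 2, 0, 2, 1, 2, 0, 2, 0], [1, 2, 0, 2, 1, 2, 0, 0, 2, 1, 2, 1, 2, 0, 2, 0, 0, 2, 0, 0], [0, 2, 1, 2, 1, 2, 1, 2, 1, 2, 1, 2, 0, 2, 1]]⟩] 1351 1423 = true := by decide +kernel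

end Cfsg.Agent.J4C.C
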