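import Cfsg.Agent.J4C.C.DceD0

set_option autoImplicit false
set_option Elab.async false
set_option maxRecDepth 100000
set_option linter.all false

namespace Cfsg.Agent.J4C.C
open Cfsg.Agent.CGT

theorem dd_c20 : dd.checks [⟨3, [2845, 283], 2, 0, [[], []]⟩, ⟨2, [2704, 2754, 2754, 2702, 81, 71, 81, 1323, 282, 2767], 1, 1, [[], [0, 2, 1, 2, 0, 0, 2, 1, 2, 1, 2, 1, 2, 0, 0, 2], [0, 2, 1, 2, 0, 0, 2, 1, 2, 0, 2, 0, 2, 0, 0, 2, 1, 2, 0], [2, 0, 2, 1, 2, 1, 2, 0, 0, 2, 1, 2, 0, 0, 2, 1, 2, 1, 2, 0, 2]]⟩, ⟨3, [2849, 2755, 2705], 2, 0, [[], []]⟩, ⟨2, [2754, 2704, 2754, 2702, 99, 71, 1477, 282, 367], 1, 1, [[], [0, 0, 2, 1, 2, 0, 2, 0, 2, 0, 2, 0, 2, 1, 2, 0, 0],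 [0, 0, 2, 0, 2, 1, 2, 1, 2, 1, 2, 1, 2, 0, 0, 2, 0, 0, 2, 0, 0], [0, 2, 0, 2, 1, 2, 0, 2, 1, 2, 1, 2, 0, 0, 2, 1, 2, 0, 2, 1]]⟩, ⟨2, [2755, 2704, 2754, 2702, 99, 863, 282, 409], 1, 1, [[], [0, 2, 1, 2, 1, 2, 0, 0, 2, 0, 2, 0, 2, 0, 2, 1, 2, 1, 2, 0], [2, 1, 2, 1, 2, 0, 0, 2, 0, 2, 0, 2, 0, 0, 2, 0, 0, 2, 1, 2, 0, 2], [1, 2, 0, 2, 1, 2, 1, 2, 0, 2, 0, 0, 2, 0, 2, 0, 0, 2, 0, 2, 1, 2]]⟩, ⟨2, [2702, 81, 71, 79, 71, 73, 79, 99, 79, 637], 1, 1, [[], [0, 0, 2, 0, 0, 2, 0, 0, 2, 1, 2, 0, 0, 2, 0, 2, 1, 2, 1, 2, 0, 0], [2, 0, 0, 2, 0, 0, 2, 1, 2, 1, 2, 0, 2, 1, 2, 1], [2, 0, 2, 0, 2, 1, 2, 1, 2, 1, 2, 1, 2, 1, 2, 0, 2, 1, 2, 0, 0, 2, 1]]⟩, ⟨2, [2704, 2754, 2704,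 2754, 2702, 99, 81, 99, 739, 2718], 1, 1, [[], [2, 0, 0, 2, 0, 2, 1, 2, 0, 2, 0, 0, 2, 1, 2, 1, 2, 0, 2, 1, 2, 0, 0], [0, 0, 2, 0, 2, 1, 2, 0, 0, 2, 1, 2, 0, 2, 0, 2, 1, 2, 0], [0, 2, 0, 2, 1, 2, 0, 2, 1, 2, 0, 2, 0, 0, 2, 1, 2]]⟩, ⟨2, [2704, 2754, 2704, 2702, 79, 71, 81, 443, 282, 1057], 1, 1, [[], [2, 0, 2, 0, 0, 2, 1, 2, 0, 0, 2, 1, 2, 0, 2, 0, 2, 0], [2, 1, 2, 1, 2, 0, 2, 0, 2, 0, 2, 0, 2, 0, 2, 0, 0], [2, 0, 2, 1, 2, 0, 0, 2, 0, 2, 0, 0, 2, 0, 2, 0, 2, 1]]⟩, ⟨3, [2861, 283], 2, 0, [[], []]⟩, ⟨2, [2755, 2704, 2755, 2702, 71, 79, 71, 73, 99, 71, 79, 71, 929], 1, 1, [[], [1, 2, 0, 2, 0, 0, 2, 0, 2, 0, 2, 0, 2, 1, 2, 1, 2, 0, 2, 0, 2, 1], [0, 2, 0, 0,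 2, 0, 0, 2, 0, 0, 2, 0, 2, 1, 2, 0, 0, 2, 1], [0, 0, 2, 1, 2, 1, 2, 0, 2, 0, 0, 2, 0, 2, 0, 0, 2, 0]]⟩, ⟨2, [2702, 81, 99, 81, 1355, 283, 1567], 1, 1, [[], [1, 2, 1, 2, 0, 2, 1, 2, 0, 0, 2, 0, 0, 2, 0, 0, 2, 1, 2, 1, 2], [0, 0, 2, 0, 2, 1, 2, 0, 2, 0, 2, 1, 2, 0, 0, 2, 0, 0, 2, 1], [1, 2, 0, 2, 1, 2, 0, 0, 2, 0, 0, 2, 1, 2, 0, 2, 0, 0, 2, 0]]⟩, ⟨3, [2867, 283], 2, 0, [[], []]⟩, ⟨2, [2754, 2754, 2704, 2702, 81, 71, 619, 1235], 1, 1, [[], [2, 0, 0, 2, 1, 2, 1, 2, 0, 2, 1, 2, 0, 0, 2, 0, 2, 1, 2, 0], [2, 0, 2, 0, 2, 0, 2, 0, 0, 2, 1, 2, 0, 2, 1, 2, 1, 2], [2, 0, 0, 2, 1, 2, 0, 0, 2, 0, 0, 2, 0, 0, 2, 0, 2, 0, 2]]⟩, ⟨3, [2871, 282], 2, 0, [[], []]⟩, ⟨2, [2754,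 2754, 2702, 107, 71, 79, 99, 619], 1, 1, [[], [0, 0, 2, 0, 0, 2, 0, 2, 0, 2, 0, 2, 0, 2, 1, 2, 0, 2, 1], [0, 0, 2, 1, 2, 1, 2, 1, 2, 0, 2, 0, 2, 0, 2, 1, 2, 0], [2, 0, 0, 2, 1, 2, 1, 2, 0, 0, 2, 0, 2, 0, 2, 0, 2, 1, 2, 1, 2]]⟩, ⟨3, [2875, 282], 2, 0, [[], []]⟩, ⟨2, [2755, 2702, 99, 81, 99, 379, 282, 2864], 1, 1, [[], [2, 1, 2, 0, 2, 0, 0, 2, 0, 0, 2, 0, 2, 0, 2, 0, 0, 2, 1, 2, 0], [1, 2, 0, 0, 2, 0, 0, 2, 0, 2, 1, 2, 1, 2, 1, 2, 0], [2, 1, 2, 1, 2, 0, 0, 2, 1, 2, 1, 2, 0, 0, 2, 0, 2]]⟩, ⟨2, [2702, 99, 71, 79, 565, 282, 1131], 1, 1, [[], [0, 2, 0, 0, 2, 1, 2, 0, 0, 2, 0, 0, 2, 1, 2, 0, 2, 0, 2, 0, 0, 2], [2, 0, 2, 1, 2, 0, 0, 2, 0, 0, 2, 0, 0, 2, 1, 2, 1,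 2, 0, 0, 2], [0, 2, 1, 2, 1, 2, 0, 0, 2, 0, 2, 1, 2, 0, 0, 2, 0, 0, 2, 0, 2, 0, 0, 2]]⟩, ⟨3, [2881, 283], 2, 0, [[], []]⟩, ⟨2, [2702, 99, 81, 71, 149, 99, 71, 81, 79, 443], 1, 1, [[], [1, 2, 0, 0, 2, 0, 2, 1, 2, 0, 2, 0, 2, 0, 0, 2, 1, 2, 0, 2, 0], [2, 0, 0, 2, 0, 2, 0, 2, 0, 0, 2, 0, 0, 2, 0, 0, 2, 1], [1, 2, 0, 2, 1, 2, 0, 0, 2, 0, 2, 1, 2, 0, 2, 0, 0, 2, 0, 2, 0, 2]]⟩, ⟨2, [2704, 2755, 2702, 79, 71, 81, 71, 317, 283, 614], 1, 1, [[], [0, 2, 0, 0, 2, 0, 2, 1, 2, 0, 2, 1, 2, 0, 2, 1, 2, 0, 2, 0, 0], [2, 1, 2, 0, 2, 1, 2, 1, 2, 0, 2, 0, 2, 1, 2, 0, 0, 2, 1, 2, 0], [0, 2, 0, 0, 2, 0, 2, 1, 2, 1, 2, 0, 0, 2, 0, 2, 1, 2, 0]]⟩, ⟨2, [2704, 2754, 2754, 2702,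 71, 99, 317, 1875], 1, 1, [[], [1, 2, 1, 2, 1, 2, 0, 2, 0, 2, 0, 0, 2, 1, 2, 0], [2, 0, 0, 2, 0, 0, 2, 0, 0, 2, 0, 0], [2, 1, 2, 0, 2, 0, 2, 1, 2, 1, 2, 1, 2, 0, 0, 2, 1, 2, 0, 2, 0]]⟩, ⟨3, [2889, 1660, 1655], 2, 0, [[], []]⟩, ⟨2, [2754, 2754, 2704, 2755, 2702, 71, 79, 71, 902, 283, 489], 1, 2, [[], [0, 2, 1, 2, 0, 2, 1, 2, 1, 2, 0, 0, 2, 0, 2, 1, 2, 0, 2, 0, 2, 0, 0], [2, 0, 2, 0, 0, 2, 0, 2, 1, 2, 0, 2, 1, 2, 0, 2, 1, 2, 1, 2, 1], [0, 0, 2, 0, 0, 2, 0, 2, 0, 2, 0, 2, 1, 2, 0, 0, 2, 0, 2, 1]]⟩, ⟨3, [2893, 283], 2, 0, [[], []]⟩, ⟨2, [283, 354, 283, 316, 98, 80, 2703], 1, 3, [[], [1, 2, 0, 2, 1, 2, 1, 2, 1, 2, 1, 2, 1, 2, 0, 2], [0, 0, 2, 1, 2, 1, 2, 1,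 2, 0, 0, 2, 0, 0, 2, 1, 2, 0], [0, 2, 0, 2, 1, 2, 0, 0, 2, 0, 0, 2, 0, 0, 2, 1, 2, 0, 0]]⟩, ⟨3, [2897, 2754, 2705, 2755, 2755], 2, 0, [[], []]⟩, ⟨2, [2522, 2314, 2424, 2380, 80, 98, 80, 2703], 1, 3, [[], [0, 0, 2, 0, 2, 1, 2, 0, 2, 0, 2, 1, 2, 1, 2, 1, 2, 1], [2, 1, 2, 1, 2, 0, 2, 0, 2, 0, 0, 2, 1, 2, 0, 0, 2, 0, 0, 2, 1], [0, 2, 1, 2, 1, 2, 0, 2, 0, 2, 0, 0, 2, 0, 2, 0, 0, 2, 0, 0, 2, 1]]⟩, ⟨2, [283, 2474, 2416, 2425, 2598, 78, 2703], 1, 3, [[], [2, 0, 2, 1, 2, 1, 2, 0, 2, 0, 2, 0, 0, 2, 0, 2, 0, 2, 0, 2, 0], [0, 2, 0, 0, 2, 0, 2, 0, 2, 1, 2, 0, 0, 2, 0, 0, 2, 0, 0, 2, 0, 2, 0], [0, 0, 2, 0, 2, 0, 2, 1, 2, 0, 0, 2, 0, 2, 0, 0, 2, 0, 0, 2, 0, 0]]⟩, ⟨3,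 [2903, 2755, 2755, 2705], 2, 0, [[], []]⟩, ⟨2, [282, 1322, 78, 80, 70, 78, 106, 70, 78, 70, 80, 2703], 1, 3, [[], [2, 1, 2, 1, 2, 1, 2, 1, 2, 1, 2, 0, 2, 0, 2, 1, 2, 0, 2, 0, 0], [2, 1, 2, 1, 2, 0, 2, 0, 2, 0, 0, 2, 0, 2, 1], [1, 2, 0, 2, 0, 0, 2, 0, 2, 1, 2, 0, 0, 2, 0, 0, 2, 0, 0, 2, 0]]⟩, ⟨3, [2907, 2755], 2, 0, [[], []]⟩, ⟨2, [2754, 2754, 2704, 2755, 2734, 282, 862, 70, 78, 70, 80, 2703], 1, 3, [[], [2, 0, 2, 0, 0, 2, 1, 2, 1, 2, 0, 2, 1, 2, 0, 0, 2, 1, 2, 0, 0], [0, 2, 1, 2, 0, 0, 2, 0, 2, 1, 2, 0, 2, 0, 2, 0, 0, 2], [2, 1, 2, 0, 2, 1, 2, 0, 2, 1, 2, 0, 2, 0, 2, 0]]⟩, ⟨2, [1661, 1854, 1661, 2066, 70, 78, 80, 2703], 1, 3, [[], [2, 0, 2, 0, 2, 1, 2,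 1, 2, 1, 2, 1, 2, 1, 2, 1, 2, 1, 2, 0, 2, 1, 2], [2, 0, 2, 0, 2, 1, 2, 1, 2, 0, 2, 1, 2, 0, 0, 2, 0, 0, 2], [2, 0, 2, 1, 2, 0, 0, 2, 0, 0, 2, 0, 2, 0, 2, 0, 0]]⟩, ⟨2, [1654, 1968, 283, 1418, 70, 78, 98, 2703], 1, 3, [[], [2, 1, 2, 0, 2, 1, 2, 1, 2, 0, 0, 2, 0, 0, 2, 0], [1, 2, 1, 2, 0, 2, 1, 2, 0, 2, 0, 2, 0, 0, 2, 0, 2, 0], [2, 1, 2, 1, 2, 1, 2, 1, 2, 1, 2, 0, 2, 0, 2, 0, 2, 0, 0]]⟩, ⟨3, [2915, 2755, 2705, 2755], 2, 0, [[], []]⟩, ⟨2, [283, 1338, 282, 1424, 78, 2703], 1, 3, [[], [0, 0, 2, 1, 2, 1, 2, 1, 2, 0, 0, 2, 0, 2, 0, 2, 0, 2, 1, 2, 1], [2, 1, 2, 0, 2, 0, 2, 0, 2, 0, 0, 2, 0, 2, 1, 2, 0, 0, 2, 0], [1, 2, 0, 2, 1, 2, 0, 2, 1, 2, 1, 2, 0, 0, 2, 1, 2,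 0, 0]]⟩, ⟨3, [2919, 2705], 2, 0, [[], []]⟩, ⟨2, [283, 564, 78, 80, 86, 98, 78, 70, 2703], 1, 3, [[], [2, 1, 2, 0, 2, 0, 2, 1, 2, 0, 2, 0, 0, 2, 1, 2, 1, 2, 0, 0, 2, 0, 0], [2, 0, 0, 2, 0, 0, 2, 1, 2, 0, 2, 0, 2, 0, 2, 0, 2, 0, 0, 2, 0, 0], [2, 0, 0, 2, 0, 0, 2, 0, 2, 1, 2, 1, 2, 1, 2, 1, 2, 0]]⟩, ⟨3, [2923, 2705], 2, 0, [[], []]⟩, ⟨2, [282, 1824, 1660, 1934, 98, 80, 98, 2703], 1, 3, [[], [0, 2, 0, 2, 1, 2, 0, 0, 2, 1, 2, 0, 2, 1, 2, 1, 2, 0, 0, 2, 1, 2], [0, 0, 2, 0, 2, 0, 2, 0, 0, 2, 1, 2, 1, 2, 1, 2, 1], [2, 0, 0, 2, 1, 2, 0, 2, 0, 2, 0, 0, 2, 0, 0, 2, 0, 2, 0, 2, 0]]⟩, ⟨3, [2927, 2705], 2, 0, [[], []]⟩, ⟨2, [2704, 2755, 2704, 2712, 70, 98, 70, 78, 2703,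 2705, 2754, 2881], 1, 2, [[], [2, 0, 0, 2, 1, 2, 0, 0, 2, 1, 2, 0, 2, 0, 2, 1, 2, 0, 2, 0, 0], [0, 0, 2, 1, 2, 0, 2, 1, 2, 0, 2, 1, 2, 0, 2, 1, 2], [0, 0, 2, 1, 2, 1, 2, 1, 2, 1, 2, 0, 2, 0, 2, 0, 2]]⟩, ⟨2, [282, 422, 282, 618, 70, 80, 98, 2703], 1, 3, [[], [0, 0, 2, 1, 2, 0, 0, 2, 1, 2, 0, 0, 2, 1, 2], [0, 2, 1, 2, 0, 0, 2, 0, 0, 2, 0, 2, 1, 2, 0], [1, 2, 1, 2, 0, 0, 2, 1, 2, 1, 2, 0, 2, 0, 0, 2, 0, 0, 2]]⟩, ⟨3, [2933, 2755], 2, 0, [[], []]⟩, ⟨2, [283, 1332, 282, 556, 78, 98, 2703], 1, 3, [[], [2, 0, 2, 1, 2, 0, 0, 2, 1, 2, 1, 2, 0, 0, 2, 1, 2, 0, 2, 1, 2], [2, 0, 2, 0, 2, 1, 2, 1, 2, 0, 2, 0, 2, 1, 2, 1, 2, 1, 2, 0, 0, 2, 0], [2, 1, 2, 0, 2, 1, 2, 0,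 0, 2, 1, 2, 0, 2, 0, 2, 1, 2, 0, 0]]⟩, ⟨3, [2937, 2754, 2705, 2754], 2, 0, [[], []]⟩, ⟨2, [283, 724, 282, 738, 98, 70, 80, 2703], 1, 3, [[], [2, 0, 0, 2, 0, 2, 0, 0, 2, 1, 2, 0, 2, 1, 2, 0, 0, 2], [0, 0, 2, 0, 2, 0, 2, 0, 2, 0, 0, 2, 0, 2, 0, 0, 2, 0], [0, 0, 2, 1, 2, 1, 2, 0, 2, 0, 2, 1, 2, 0, 0, 2, 0, 2]]⟩, ⟨3, [2941, 2754, 2705, 2755], 2, 0, [[], []]⟩, ⟨2, [1654, 1660, 2418, 2358, 2417, 2598, 78, 70, 98, 2703], 1, 3, [[], [0, 2, 0, 2, 1, 2, 1, 2, 0, 0, 2, 1, 2, 0, 2, 0, 2, 0, 2], [1, 2, 1, 2, 0, 0, 2, 0, 0, 2, 1, 2, 0, 0, 2, 0, 2, 0, 2, 0, 2], [0, 2, 0, 2, 1, 2, 1, 2, 1, 2, 1, 2, 1, 2, 1, 2, 0, 0, 2, 0, 2, 0, 0]]⟩, ⟨2, [2358, 2508, 2314, 2396, 2598,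 78, 80, 70, 78, 2703], 1, 3, [[], [1, 2, 1, 2, 0, 2, 1, 2, 0, 2, 0, 0, 2, 0, 0, 2, 0, 2, 0, 2, 0], [2, 1, 2, 1, 2, 1, 2, 1, 2, 0, 2, 0, 2, 1, 2, 0, 2, 1, 2, 0, 2, 0], [2, 0, 0, 2, 0, 2, 0, 2, 1, 2, 1, 2, 1, 2, 0, 0, 2, 0, 2, 0, 2, 0, 0]]⟩, ⟨3, [2947, 2755, 2705, 2755], 2, 0, [[], []]⟩, ⟨2, [1724, 1584, 1594, 1894, 78, 80, 2703], 1, 0, [[], [2, 1, 2, 0, 2, 0, 2, 0, 2, 1, 2, 1, 2, 0, 2, 0, 2, 1, 2, 0, 0, 2, 0, 2], [2, 0, 2, 0, 0, 2, 1, 2, 0, 2, 0, 2, 1, 2, 0, 2], [1, 2, 0, 0, 2, 0, 2, 1, 2, 0, 0, 2, 1, 2, 0, 2, 1, 2, 1, 2, 0]]⟩, ⟨3, [2951, 2705], 2, 0, [[], []]⟩, ⟨2, [1812, 282, 903, 70, 98, 70, 2703], 1, 0, [[], [1, 2, 0, 0, 2, 0, 0, 2, 0, 2, 0, 0, 2, 0,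 0, 2, 1, 2, 0, 0, 2, 0], [2, 0, 2, 0, 2, 0, 2, 0, 2, 1, 2, 0, 0, 2, 0, 0, 2, 0, 0], [0, 2, 0, 0, 2, 1, 2, 0, 0, 2, 0, 2, 1, 2, 0, 2, 0, 2, 0, 0]]⟩, ⟨3, [2955, 2705], 2, 0, [[], []]⟩, ⟨2, [282, 466, 48, 52, 67, 44, 90, 70, 98, 2703], 1, 0, [[], [0, 0, 2, 1, 2, 1, 2, 0, 2, 0, 0, 2, 1, 2, 0, 0, 2, 0], [0, 0, 2, 0, 0, 2, 1, 2, 1, 2, 0, 0, 2, 0, 2, 1, 2, 0], [1, 2, 0, 0, 2, 0, 2, 0, 2, 0, 0, 2, 0, 0, 2, 1, 2, 1, 2, 0, 0, 2]]⟩, ⟨3, [2959, 2755], 2, 0, [[], []]⟩, ⟨2, [2755, 2712, 70, 80, 72, 70, 78, 98, 2703], 1, 0, [[], [2, 0, 0, 2, 0, 2, 0, 2, 1, 2, 0, 0, 2, 0, 2, 0, 2, 0, 2, 0, 0], [0, 2, 1, 2, 1, 2, 0, 2, 1, 2, 0, 2, 1], [0, 2, 0, 2, 1, 2, 1, 2, 1, 2, 1, 2,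 1, 2, 1, 2, 0, 2, 1, 2, 0, 0]]⟩, ⟨2, [282, 1802, 1654, 1890, 70, 2703], 1, 0, [[], [0, 2, 0, 2, 0, 2, 1, 2, 0, 2, 1, 2, 0, 2, 1, 2, 0, 2, 1], [2, 0, 2, 0, 2, 0, 2, 0, 2, 1, 2, 1, 2, 0], [1, 2, 1, 2, 1, 2, 1, 2, 0, 0, 2, 1, 2, 0, 2]]⟩, ⟨2, [1584, 1992, 1584, 1654, 1620, 78, 2703], 1, 0, [[], [2, 1, 2, 0, 0, 2, 1, 2, 1, 2, 0, 2, 1, 2, 0, 2, 1, 2, 0, 0], [2, 0, 2, 1, 2, 1, 2, 0, 0, 2, 0, 0, 2, 0, 0, 2, 1, 2, 1, 2], [0, 2, 0, 0, 2, 1, 2, 0, 2, 1, 2, 0, 0, 2, 1, 2, 0, 2, 0]]⟩, ⟨3, [2967, 2755, 2705, 2755], 2, 0, [[], []]⟩, ⟨2, [2186, 2222, 282, 1424, 70, 78, 70, 80, 2703], 1, 0, [[], [1, 2, 1, 2, 1, 2, 1, 2, 1, 2, 0, 2, 1, 2, 0, 0, 2], [0, 0, 2, 0, 0, 2, 0,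 2, 0, 2, 0, 2, 0, 0, 2, 1, 2, 0, 0, 2, 1], [2, 0, 2, 0, 2, 0, 2, 0, 2, 0, 0, 2, 1, 2, 0, 0, 2, 0]]⟩] 1423 1486 = true := by decide +kernel
theorem dd_c21 : dd.checks [⟨3, [2971, 2754], 2, 0, [[], []]⟩, ⟨2, [283, 1378, 282, 390, 70, 78, 70, 2703], 1, 0, [[], [1, 2, 0, 2, 1, 2, 0, 2, 1, 2, 0, 2, 1, 2, 0, 0, 2, 1, 2, 1], [0, 0, 2, 0, 0, 2, 0, 2, 1, 2, 0, 2, 0, 2, 0, 0, 2, 0, 2], [0, 0, 2, 0, 2, 0, 2, 0, 2, 0, 2, 0, 0, 2, 0, 2, 1, 2, 1, 2, 0, 2, 0]]⟩, ⟨3, [2975, 2705, 2755, 2705], 2, 0, [[], []]⟩, ⟨2, [283, 436, 282, 822, 80, 70, 78, 2703], 1, 0, [[], [0, 0, 2, 1, 2, 1, 2, 0, 0, 2, 1, 2, 0, 0, 2, 0, 2, 1, 2, 0, 2, 0], [0, 0, 2, 1, 2, 0, 2, 0, 2, 1, 2, 0, 2,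 1, 2, 0, 2, 0, 0, 2], [0, 0, 2, 0, 2, 0, 2, 0, 0, 2, 0, 0, 2, 1, 2, 0, 0, 2]]⟩, ⟨3, [2979, 2705, 2755, 2755], 2, 0, [[], []]⟩, ⟨2, [283, 1918, 1584, 1661, 1958, 70, 98, 2703], 1, 0, [[], [0, 2, 0, 0, 2, 1, 2, 1, 2, 0, 0, 2, 0, 2, 0, 2, 0, 2], [2, 0, 0, 2, 0, 0, 2, 0, 0, 2, 1, 2, 0, 2, 0, 2, 1, 2, 1], [2, 0, 2, 0, 2, 1, 2, 0, 2, 1, 2, 0, 2, 1, 2, 0, 2, 0, 0, 2, 0]]⟩, ⟨3, [2983, 2705, 2755, 2705], 2, 0, [[], []]⟩, ⟨2, [1584, 1661, 1804, 282, 1418, 70, 98, 70, 80, 2703], 1, 0, [[], [0, 2, 0, 0, 2, 0, 0, 2, 0, 2, 1, 2, 0, 0], [0, 2, 1, 2, 1, 2, 0, 2, 1, 2, 0, 2, 1, 2, 1, 2, 1, 2, 0, 0, 2, 0, 0], [2, 0, 2, 0, 2, 0, 0, 2, 1, 2, 1, 2, 0, 2, 0, 0, 2, 1, 2, 0]]⟩,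 ⟨3, [2987, 2705, 2755, 2705], 2, 0, [[], []]⟩, ⟨2, [2314, 2416, 2424, 2330, 283, 644, 78, 98, 2703], 1, 0, [[], [2, 1, 2, 1, 2, 0, 0, 2, 0, 2, 0, 2, 0, 0, 2, 0, 2, 0, 0, 2, 1, 2, 1], [1, 2, 0, 2, 0, 2, 1, 2, 0, 2, 1, 2, 0, 2, 1, 2, 1, 2, 1, 2, 1, 2, 1], [1, 2, 1, 2, 0, 2, 0, 0, 2, 0, 0, 2, 1, 2, 0, 0, 2, 1, 2, 1, 2]]⟩, ⟨3, [2991, 2755, 2755, 2705, 2755], 2, 0, [[], []]⟩, ⟨2, [283, 1226, 283, 2706], 0, 2, [[], [2, 1, 2, 1, 2, 0, 2, 0, 2, 0, 0, 2, 1, 2], [0, 0, 2, 0, 2, 1, 2, 1, 2, 1, 2, 1, 2, 0, 0, 2, 0, 2, 1, 2]]⟩, ⟨3, [2995, 2705, 2754, 2705], 2, 0, [[], []]⟩, ⟨2, [98, 80, 698, 283, 2706], 0, 2, [[], [1, 2, 1, 2, 0, 0, 2, 0, 2, 0, 2, 0, 0, 2, 0, 0, 2,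 0, 0], [2, 1, 2, 1, 2, 0, 0, 2, 0, 0, 2, 1, 2, 0, 2, 0, 2]]⟩, ⟨2, [283, 966, 2706], 0, 2, [[], [0, 2, 1, 2, 1, 2, 0, 2, 0, 0, 2, 0, 2, 1, 2, 1, 2, 0, 0, 2, 0, 0], [2, 0, 2, 0, 2, 1, 2, 0, 2, 0, 0, 2, 0, 0, 2, 1, 2, 1, 2, 1, 2, 1]]⟩, ⟨3, [3001, 2754, 2705, 2754], 2, 0, [[], []]⟩, ⟨2, [904, 2706], 0, 2, [[], [0, 0, 2, 0, 2, 0, 2, 1, 2, 0, 0, 2, 0, 0, 2, 0, 0, 2, 0, 2, 0], [2, 0, 2, 1, 2, 0, 2, 0, 0, 2, 0, 2, 1, 2, 0, 2, 0, 0]]⟩, ⟨3, [3005, 2754], 2, 0, [[], []]⟩, ⟨2, [2754, 2738, 282, 2706], 0, 2, [[], [0, 2, 1, 2, 0, 2, 0, 2, 1, 2, 0, 0, 2, 0, 0, 2, 0], [0, 0, 2, 1, 2, 0, 2, 0, 0, 2, 0, 2, 1, 2, 1, 2, 0, 0, 2, 0]]⟩, ⟨2, [2186, 2211, 2256, 283, 2706], 0,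 2, [[], [2, 0, 0, 2, 1, 2, 0, 0, 2, 1, 2, 1, 2, 0, 0, 2, 0, 0, 2, 1], [2, 1, 2, 1, 2, 0, 2, 1, 2, 0, 2, 1, 2, 0, 0, 2, 0, 2, 1]]⟩, ⟨3, [3011, 2754, 2705, 2755, 2755], 2, 0, [[], []]⟩, ⟨2, [1054, 2706], 0, 2, [[], [0, 2, 0, 2, 0, 2, 1, 2, 0, 0, 2, 1, 2, 0, 0, 2, 1, 2, 1, 2, 0, 2, 0], [2, 1, 2, 1, 2, 0, 2, 1, 2, 0, 2, 0, 2, 0, 0, 2, 0, 2]]⟩, ⟨3, [3015, 2754], 2, 0, [[], []]⟩, ⟨2, [283, 736, 283, 424, 2706], 1, 3, [[], [2, 0, 2, 0, 0, 2, 0, 2, 0, 2, 0, 0, 2, 0, 2, 1, 2, 0, 2, 0, 2], [0, 0, 2, 0, 0, 2, 0, 2, 0, 2, 0, 0, 2, 1, 2, 0], [0, 0, 2, 0, 0, 2, 1, 2, 0, 0, 2, 1, 2, 0, 0, 2, 1]]⟩, ⟨3, [3019, 2755, 2705, 2754], 2, 0, [[], []]⟩, ⟨2, [2704, 2754, 2754, 2773,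 283, 2706, 2754, 2705, 2754, 2821], 1, 2, [[], [1, 2, 1, 2, 1, 2, 0, 2, 0, 0, 2, 0, 2, 1, 2, 1], [1, 2, 0, 2, 0, 2, 0, 2, 0, 2, 1, 2, 0, 0, 2, 0, 2, 0, 0, 2, 0, 2], [2, 1, 2, 0, 0, 2, 0, 2, 0, 2, 0, 2, 0, 0, 2, 0, 2, 0, 2, 0, 0]]⟩, ⟨2, [540, 1044, 283, 2706], 1, 3, [[], [2, 1, 2, 0, 0, 2, 0, 2, 0, 0, 2, 1, 2, 0, 2, 1, 2, 0, 0, 2, 0, 0, 2, 0], [2, 1, 2, 0, 0, 2, 0, 2, 1, 2, 0, 0, 2, 0, 0, 2, 0, 0, 2, 0, 0], [0, 0, 2, 1, 2, 0, 0, 2, 0, 0, 2, 1, 2, 0, 0, 2, 0, 2, 0, 2, 0, 0]]⟩, ⟨3, [3025, 2755, 2705, 2754], 2, 0, [[], []]⟩, ⟨2, [282, 1256, 283, 792, 2706], 1, 3, [[], [2, 0, 0, 2, 0, 2, 1, 2, 1, 2, 0, 2, 0, 2, 1, 2, 1, 2, 0, 0], [2, 1, 2, 0, 0, 2, 0, 2, 0,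 2, 0, 0, 2, 0, 2, 1, 2, 0, 2, 0], [2, 0, 2, 1, 2, 1, 2, 0, 0, 2, 1, 2, 0, 0, 2, 0, 2, 0, 0, 2, 0]]⟩, ⟨3, [3029, 2754], 2, 0, [[], []]⟩, ⟨2, [1276, 1096, 2706], 1, 0, [[], [0, 2, 1, 2, 1, 2, 0, 2, 1, 2, 0, 0, 2, 0, 0, 2, 0, 0, 2, 1], [0, 0, 2, 0, 0, 2, 0, 0, 2, 0, 0, 2, 0, 2, 1], [0, 2, 0, 2, 0, 0, 2, 0, 2, 0, 2, 0, 0, 2, 1, 2]]⟩, ⟨2, [1654, 2134, 675, 283, 2706], 1, 0, [[], [2, 0, 0, 2, 0, 0, 2, 0, 2, 0, 0, 2, 0, 2, 0, 2, 0], [0, 2, 0, 0, 2, 0, 2, 1, 2, 0, 0, 2, 1, 2, 0, 0, 2, 0, 2, 1], [0, 2, 0, 2, 0, 2, 1, 2, 0, 0, 2, 1, 2, 0, 2, 0, 0]]⟩, ⟨3, [3035, 2755, 2755], 2, 0, [[], []]⟩, ⟨2, [283, 1372, 283, 853, 2706], 1, 0, [[], [2, 0, 0, 2, 0, 2, 0, 2, 0, 0,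 2, 0, 2, 1, 2, 0, 0, 2], [0, 2, 0, 0, 2, 1, 2, 1, 2, 1, 2, 0, 0, 2, 1, 2, 1, 2, 1, 2, 0, 2, 0, 0], [2, 1, 2, 1, 2, 0, 2, 1, 2, 0, 0, 2, 1, 2, 1, 2, 0, 2, 1]]⟩, ⟨3, [3039, 2755, 2705, 2755], 2, 0, [[], []]⟩, ⟨2, [684, 1136, 283, 2706], 1, 0, [[], [2, 0, 0, 2, 0, 2, 1, 2, 1, 2, 0, 0, 2], [2, 0, 0, 2, 1, 2, 1, 2, 0, 0, 2, 0, 2, 1, 2, 0, 0, 2, 1], [0, 2, 0, 0, 2, 1, 2, 0, 2, 0, 2, 1, 2, 0, 0, 2, 0, 2, 1, 2, 0]]⟩, ⟨3, [3043, 2755, 2705, 2754], 2, 0, [[], []]⟩, ⟨2, [156, 153, 165, 294, 1126, 283, 2706], 1, 0, [[], [0, 2, 0, 2, 0, 2, 0, 0, 2, 0, 2, 1, 2, 1, 2, 0, 2, 0, 0, 2, 1, 2], [2, 0, 2, 1, 2, 1, 2, 0, 2, 0, 0, 2, 1, 2, 1, 2, 0, 0, 2], [0, 2, 1, 2, 0, 0, 2,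 0, 0, 2, 0, 0, 2, 1, 2, 0, 0, 2, 0, 2, 0, 2, 0, 0]]⟩, ⟨3, [3047, 2705, 2755, 2755], 2, 0, [[], []]⟩, ⟨2, [2332, 2343, 283, 2706], 1, 0, [[], [0, 2, 0, 2, 1, 2, 0, 2, 1, 2, 1, 2, 0, 2, 0, 2, 0, 0, 2], [2, 1, 2, 1, 2, 0, 2, 1, 2, 0, 0, 2, 0, 2, 0, 2, 0, 2, 0], [2, 1, 2, 0, 0, 2, 1, 2, 0, 2, 0, 0, 2, 0, 2, 1, 2, 1, 2, 0, 0]]⟩, ⟨3, [3051, 2705, 2755], 2, 0, [[], []]⟩, ⟨2, [2754, 2754, 2738, 688, 282, 2706], 1, 0, [[], [1, 2, 0, 2, 0, 2, 0, 2, 1, 2, 1, 2, 0, 2, 0, 2, 1, 2, 1, 2, 0], [1, 2, 0, 2, 1, 2, 1, 2, 0, 0, 2, 1, 2, 0, 2, 1], [0, 2, 0, 0, 2, 0, 0, 2, 0, 2, 0, 2, 0, 2, 1, 2]]⟩, ⟨3, [3055, 2705, 2755], 2, 0, [[], []]⟩, ⟨2, [2865, 632, 283, 2706], 1, 0, [[],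 [2, 0, 0, 2, 1, 2, 0, 0, 2, 0, 2, 0, 0, 2, 0, 2, 0, 2, 1, 2, 0, 2, 1], [0, 0, 2, 0, 0, 2, 1, 2, 0, 2, 0, 2, 0, 0, 2, 0, 2, 1], [0, 2, 0, 0, 2, 0, 2, 1, 2, 1, 2, 1, 2, 1, 2, 1, 2, 0, 2, 0]]⟩, ⟨3, [3059, 2705, 2755], 2, 0, [[], []]⟩, ⟨2, [1122, 1025, 282, 2706], 1, 0, [[], [2, 0, 2, 1, 2, 0, 2, 1, 2, 1, 2, 0, 0, 2, 1, 2, 0, 0, 2], [2, 0, 2, 1, 2, 0, 0, 2, 0, 0, 2, 0, 0, 2, 0, 0], [1, 2, 0, 2, 1, 2, 0, 2, 0, 0, 2, 0, 2, 1, 2, 1, 2, 1]]⟩, ⟨3, [3063, 2754], 2, 0, [[], []]⟩, ⟨2, [2314, 2358, 2506, 2417, 2425, 2330, 282, 2706], 1, 0, [[], [2, 1, 2, 0, 0, 2, 0, 0, 2, 1, 2, 1, 2, 0, 0, 2, 0, 2, 1, 2, 0], [2, 0, 2, 0, 0, 2, 0, 2, 1, 2, 1, 2, 1, 2, 1, 2, 0, 0], [2,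 0, 2, 0, 0, 2, 0, 2, 0, 2, 0, 0, 2, 0, 2, 0, 0, 2, 1, 2, 0]]⟩, ⟨3, [3067, 2755], 2, 0, [[], []]⟩, ⟨2, [282, 580, 282, 616, 283, 2706], 1, 0, [[], [1, 2, 0, 2, 1, 2, 0, 0, 2, 1, 2, 0, 0, 2, 1, 2, 1, 2, 0, 0, 2, 0, 0], [2, 0, 2, 0, 2, 1, 2, 1, 2, 0, 0, 2, 0, 2], [2, 0, 2, 1, 2, 0, 0, 2, 0, 2, 0, 2, 0, 2, 0, 2, 0, 2, 0, 2, 0, 2]]⟩, ⟨3, [3071, 2705, 2755, 2755], 2, 0, [[], []]⟩, ⟨2, [2186, 2210, 2210, 2210, 2183, 283, 410, 283, 2706], 1, 0, [[], [0, 2, 0, 0, 2, 0, 2, 0, 0, 2, 0, 2, 0, 2, 0, 2, 1, 2, 1], [2, 1, 2, 1, 2, 1, 2, 0, 2, 1, 2, 0, 0, 2, 1, 2, 0, 2, 0, 0], [1, 2, 0, 2, 1, 2, 0, 0, 2, 0, 0, 2, 1, 2, 0, 2, 0, 2, 0, 2, 0, 2]]⟩, ⟨3, [3075, 2705, 2755, 2705],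 2, 0, [[], []]⟩, ⟨2, [2704, 2755, 2858, 2754, 2754, 2708, 283, 883], 1, 2, [[], [2, 1, 2, 0, 0, 2, 1, 2, 0, 0, 2, 0, 2, 0, 0, 2, 1, 2, 0], [2, 0, 2, 0, 0, 2, 1, 2, 0, 2, 0, 0, 2, 1], [0, 2, 1, 2, 0, 2, 1, 2, 1, 2, 0, 2, 0, 2, 1, 2, 1, 2, 0, 0, 2]]⟩, ⟨3, [3079, 283], 2, 0, [[], []]⟩, ⟨2, [283, 2904, 2754, 2754, 2708, 2863], 1, 2, [[], [1, 2, 1, 2, 0, 0, 2, 1, 2, 0, 0, 2, 0, 2, 0, 0, 2, 1, 2, 0, 2, 0], [0, 2, 0, 2, 1, 2, 0, 2, 0, 2, 1, 2, 1, 2, 0, 0], [2, 0, 2, 1, 2, 0, 2, 1, 2, 1, 2, 1, 2, 1, 2, 0, 2, 0, 2]]⟩, ⟨3, [3083, 2754, 2705, 2754], 2, 0, [[], []]⟩, ⟨2, [2754, 2754, 2704, 2885, 696, 70, 78, 98, 78, 2710], 1, 3, [[], [1, 2, 1, 2, 1, 2, 0, 0, 2, 0,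 2, 1, 2, 0, 0, 2, 1, 2, 1, 2], [1, 2, 0, 0, 2, 0, 2, 0, 2, 0, 2, 0, 2, 0, 2, 0, 2, 0, 2, 0, 2], [1, 2, 1, 2, 0, 0, 2, 0, 2, 0, 2, 0, 0, 2, 0, 0, 2, 1, 2, 0, 2, 1]]⟩, ⟨3, [3087, 2754, 2705, 2755], 2, 0, [[], []]⟩, ⟨2, [2210, 2266, 282, 1418, 78, 98, 78, 2710], 1, 3, [[], [1, 2, 1, 2, 1, 2, 0, 2, 0, 2, 1, 2, 0, 0, 2, 1, 2, 1, 2, 0], [2, 0, 0, 2, 0, 2, 1, 2, 0, 0, 2, 1, 2, 0, 2, 0, 0, 2, 1], [2, 0, 0, 2, 1, 2, 1, 2, 0, 0, 2, 0, 2, 0, 2, 0, 2, 1, 2, 0, 0]]⟩, ⟨3, [3091, 2705, 2755], 2, 0, [[], []]⟩, ⟨2, [283, 484, 283, 440, 80, 2710], 1, 0, [[], [1, 2, 1, 2, 1, 2, 0, 0, 2, 0, 2], [0, 2, 0, 2, 0, 2, 0, 0, 2, 1, 2, 0, 2, 0, 2, 0, 0, 2, 0, 2, 0], [0, 2, 1, 2, 0,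 0, 2, 0, 2, 1, 2, 1, 2, 1, 2, 1, 2, 1, 2, 1]]⟩, ⟨3, [3095, 2755], 2, 0, [[], []]⟩, ⟨2, [1256, 282, 748, 78, 80, 70, 2710], 1, 0, [[], [0, 2, 0, 2, 0, 2, 1, 2, 0, 2, 1, 2, 0, 2, 0, 0, 2, 0, 2], [2, 0, 2, 0, 2, 0, 0, 2, 0, 2, 1, 2, 0, 0, 2, 0, 2, 0, 2, 0, 2, 1], [2, 0, 0, 2, 0, 0, 2, 0, 2, 1, 2, 0, 2, 0, 2]]⟩, ⟨3, [3099, 2754, 2705, 2755, 2755], 2, 0, [[], []]⟩, ⟨2, [2704, 2755, 2704, 2716, 1654, 1661, 1934, 70, 78, 2710], 1, 0, [[], [2, 1, 2, 1, 2, 0, 2, 0, 2, 0, 0, 2, 1, 2, 0, 2, 0, 0, 2, 0, 0], [1, 2, 1, 2, 0, 2, 0, 0, 2, 1, 2, 1, 2, 1, 2, 0, 0], [2, 0, 2, 0, 2, 0, 0, 2, 0, 2, 0, 2, 0, 0, 2, 1]]⟩, ⟨3, [3103, 2755, 2755, 2705], 2, 0, [[], []]⟩, ⟨2, [283,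 622, 1322, 78, 80, 70, 80, 2710], 1, 0, [[], [0, 2, 0, 2, 1, 2, 1, 2, 0, 2, 0, 0, 2, 0, 2, 0, 0, 2, 0, 2, 0, 0], [2, 0, 2, 0, 0, 2, 0, 0, 2, 0, 2, 1, 2, 0, 2, 0, 0, 2, 0, 0, 2, 0, 0], [0, 0, 2, 0, 0, 2, 0, 2, 0, 0, 2, 0, 0, 2, 0, 2, 0, 0, 2, 1]]⟩, ⟨2, [2704, 2722, 1584, 1654, 1890, 80, 70, 78, 2710], 1, 0, [[], [2, 1, 2, 0, 0, 2, 0, 0, 2, 1, 2, 1, 2, 0, 0, 2, 0, 0, 2, 0], [0, 0, 2, 0, 2, 0, 2, 0, 2, 1, 2, 1, 2, 0, 0, 2, 1, 2, 0, 2, 1], [0, 2, 1, 2, 0, 0, 2, 0, 0, 2, 1, 2, 0, 0, 2, 0, 2, 0, 2]]⟩, ⟨2, [2712, 99, 2713], 0, 1, [[], [1, 2, 0, 2, 0, 2, 1, 2, 1, 2, 1, 2, 0, 0, 2, 1, 2, 0, 2, 1, 2, 0, 0], [2, 0, 2, 1, 2, 0, 2, 1, 2, 1, 2, 1, 2, 1, 2, 0, 2, 0, 2]]⟩,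 ⟨2, [2755, 2712, 71, 79, 71, 2179], 0, 1, [[], [0, 2, 1, 2, 0, 2, 1, 2, 1, 2, 0, 0, 2, 0, 2, 1, 2, 0, 0, 2], [1, 2, 1, 2, 0, 0, 2, 1, 2, 1, 2, 0, 0, 2]]⟩, ⟨2, [2754, 2704, 2712, 71, 79, 99, 1891, 1585, 2987], 1, 2, [[], [1, 2, 0, 2, 0, 2, 0, 2, 1, 2, 0, 0, 2, 1, 2, 0, 2, 1, 2, 0, 0], [0, 2, 1, 2, 1, 2, 1, 2, 0, 0, 2, 0, 2, 1, 2, 0, 2, 1, 2, 0, 0], [2, 0, 2, 1, 2, 0, 2, 0, 2, 0, 2, 0, 0, 2, 0, 0, 2, 0, 0, 2, 1]]⟩] 1486 1558 = true := by decide +kernel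
theorem dd_c22 : dd.checks [⟨2, [2754, 2704, 2755, 2712, 99, 79, 87, 81, 71, 1419], 1, 2, [[], [2, 1, 2, 0, 0, 2, 0, 0, 2, 1, 2, 0, 2, 1, 2, 0, 2, 0, 2, 0], [2, 0, 0, 2, 0, 0, 2, 0, 2, 0, 0, 2, 0, 2, 0, 2, 0, 2, 1, 2, 0, 0], [2, 0, 2, 1, 2, 1, 2, 0, 0, 2, 0, 2, 1, 2, 0, 2, 1, 2]]⟩, ⟨3, [3117, 283], 2, 0, [[], []]⟩, ⟨2, [2704, 2712, 71, 81, 71, 79, 441, 3001], 1, 2, [[], [0, 2, 0, 2, 0, 2, 0, 0, 2, 1, 2, 0, 0, 2, 0, 2, 0, 0, 2, 0, 0], [0, 0, 2, 0, 2, 1, 2, 0, 0, 2, 1, 2, 1, 2], [0, 2, 0, 2, 0, 0, 2, 0, 2, 0, 2, 0, 2, 1, 2, 0, 0, 2, 0]]⟩, ⟨2, [1654, 2714, 2754, 2705, 2879], 0, 1, [[], [2, 0, 0, 2, 1, 2, 1, 2, 0, 2, 0, 2, 0, 2, 0, 0, 2, 0, 2, 0, 2, 1], [2,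 1, 2, 0, 2, 0, 2, 1, 2, 0, 2, 1, 2, 0, 2, 0, 2, 1, 2]]⟩, ⟨3, [3123, 2755], 2, 0, [[], []]⟩, ⟨2, [1594, 1836, 1584, 1654, 1660, 2714], 0, 2, [[], [2, 1, 2, 1, 2, 1, 2, 0, 2, 1, 2, 0, 0, 2, 0, 2, 1, 2, 0, 2], [1, 2, 0, 0, 2, 0, 2, 0, 0, 2, 1, 2, 0, 2, 0, 2, 0, 2, 0]]⟩, ⟨3, [3127, 2755, 2705, 2755, 2705], 2, 0, [[], []]⟩, ⟨2, [1655, 1836, 1661, 2714], 0, 2, [[], [0, 2, 0, 2, 0, 2, 0, 2, 0, 0, 2, 0, 0, 2, 1, 2, 0, 2, 1, 2, 0, 0], [2, 0, 2, 1, 2, 0, 2, 0, 2, 0, 0, 2, 1, 2, 0, 0, 2, 1, 2]]⟩, ⟨3, [3131, 2755, 2705, 2755], 2, 0, [[], []]⟩, ⟨2, [2755, 2704, 2755, 2912, 1660, 2714], 0, 2, [[], [2, 1, 2, 1, 2, 0, 2, 1, 2, 0, 2, 1, 2, 1, 2, 0, 0, 2, 0, 0, 2, 0, 0],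 [1, 2, 0, 2, 0, 2, 0, 2, 1, 2, 1, 2, 0, 0, 2, 1, 2, 0, 2, 1]]⟩, ⟨2, [2754, 2704, 2755, 2716, 1585, 1835, 283, 1115], 1, 1, [[], [1, 2, 0, 2, 0, 0, 2, 0, 2, 0, 2, 0, 2, 1, 2, 0, 0, 2, 0, 2, 0], [1, 2, 1, 2, 0, 2, 0, 2, 0, 0, 2, 0, 0, 2, 0, 0, 2], [2, 1, 2, 0, 0, 2, 0, 0, 2, 0, 0, 2, 1, 2, 0, 0, 2, 0]]⟩, ⟨3, [3137, 283], 2, 0, [[], []]⟩, ⟨2, [2704, 2754, 2716, 1595, 1757, 1660, 2967], 1, 2, [[], [2, 1, 2, 0, 0, 2, 0, 0, 2, 1, 2, 0, 0, 2, 1, 2, 0, 0], [0, 0, 2, 0, 2, 1, 2, 0, 0, 2, 1, 2, 1, 2, 0, 0, 2, 0, 0], [1, 2, 0, 2, 1, 2, 0, 2, 0, 2, 1, 2, 0, 0, 2, 0, 0, 2, 0, 2, 1]]⟩, ⟨2, [2704, 2754, 2704, 2754, 2716, 2031, 765], 1, 2, [[], [2, 0, 2, 0, 2, 1, 2, 0,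 2, 1, 2, 1, 2, 1, 2, 0, 0, 2, 0, 2, 1], [0, 2, 1, 2, 0, 0, 2, 1, 2, 0, 2, 0, 2, 0, 2, 0, 2, 0, 2, 0], [0, 2, 1, 2, 1, 2, 0, 2, 1, 2, 0, 2, 0, 0, 2, 0, 0, 2, 0, 2]]⟩, ⟨3, [3143, 282], 2, 0, [[], []]⟩, ⟨2, [154, 165, 153, 1492, 282, 2718], 0, 2, [[], [1, 2, 1, 2, 0, 0, 2, 1, 2, 1, 2, 0, 2, 0, 2, 0, 0, 2, 0, 0], [0, 2, 0, 2, 1, 2, 0, 2, 0, 0, 2, 1, 2, 0, 2, 0, 2, 0, 0]]⟩, ⟨3, [3147, 2705, 2755], 2, 0, [[], []]⟩, ⟨2, [2417, 2627, 2314, 2417, 2442, 2718], 1, 3, [[], [2, 1, 2, 0, 0, 2, 1, 2, 0, 0, 2, 0, 2, 0, 0, 2, 0, 0, 2, 1], [2, 0, 2, 0, 2, 0, 2, 0, 0, 2, 0, 0, 2, 0, 0, 2, 1], [2, 1, 2, 0, 2, 0, 2, 1, 2, 1, 2, 1, 2, 1, 2, 0, 0, 2, 0, 2, 1]]⟩, ⟨3, [3151, 2755,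 2705, 2754], 2, 0, [[], []]⟩, ⟨2, [282, 1002, 1177, 283, 2718], 1, 3, [[], [1, 2, 1, 2, 1, 2, 1, 2, 1, 2, 1, 2, 0, 2, 0, 0, 2, 0], [1, 2, 0, 2, 1, 2, 1, 2, 1, 2, 1, 2, 1, 2, 1, 2, 0, 0, 2], [0, 2, 0, 2, 0, 2, 0, 2, 1, 2, 0, 0, 2, 0, 0, 2, 0]]⟩, ⟨3, [3155, 2705, 2755, 2705], 2, 0, [[], []]⟩, ⟨2, [191, 208, 428, 282, 624, 2718], 1, 3, [[], [0, 2, 0, 2, 1, 2, 0, 2, 0, 2, 0, 0, 2, 0, 2, 0, 0], [0, 2, 0, 2, 1, 2, 1, 2, 0, 2, 0, 2, 1, 2, 0, 0, 2, 0, 2, 0, 0, 2, 0, 0], [1, 2, 0, 0, 2, 1, 2, 1, 2, 0, 0, 2, 0, 0, 2, 1, 2, 0, 2]]⟩, ⟨3, [3159, 2705, 2754], 2, 0, [[], []]⟩, ⟨2, [2704, 2754, 2704, 3062, 283, 2718, 2705, 2755, 2755, 2855], 1, 3, [[], [0, 2, 0, 2, 1,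 2, 0, 0, 2, 0, 0, 2, 1, 2, 0, 0, 2, 0, 2], [0, 2, 1, 2, 1, 2, 0, 2, 0, 2, 1, 2, 0, 0, 2, 0, 2, 0, 0, 2, 0], [0, 2, 0, 2, 0, 2, 0, 2, 0, 2, 0, 2, 0, 0]]⟩, ⟨2, [2704, 2754, 2754, 2719, 283, 943, 2401], 1, 2, [[], [2, 0, 2, 1, 2, 0, 2, 0, 0, 2, 1, 2, 0, 0, 2, 0], [2, 0, 2, 0, 0, 2, 1, 2, 0, 0, 2, 1, 2, 1, 2, 1, 2, 1, 2], [2, 1, 2, 1, 2, 1, 2, 0, 0, 2, 1, 2, 0, 2, 1, 2, 0, 2, 0]]⟩, ⟨3, [3165, 2416], 2, 0, [[], []]⟩, ⟨2, [2755, 2726, 2181, 2210, 2219, 2793, 2755, 2755, 2705, 2755, 2879], 1, 1, [[], [1, 2, 0, 0, 2, 1, 2, 1, 2, 0, 2, 0, 0, 2, 0, 0, 2, 0], [2, 1, 2, 0, 0, 2, 1, 2, 0, 0, 2, 0, 2, 1, 2, 1, 2, 0, 0, 2], [1, 2, 0, 0, 2, 0, 0, 2, 1, 2, 0, 2, 1, 2, 0,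 2, 0, 2, 0, 0, 2, 0]]⟩, ⟨2, [2704, 2755, 2746, 2512, 2416, 2416, 2728], 1, 0, [[], [1, 2, 0, 0, 2, 0, 0, 2, 1, 2, 1, 2, 0, 2, 0, 2, 0, 0, 2, 0, 2], [0, 0, 2, 1, 2, 0, 2, 0, 2, 1, 2, 0, 2, 0, 0], [0, 2, 0, 2, 0, 0, 2, 1, 2, 0, 0, 2, 1, 2, 0, 2, 0, 0, 2]]⟩, ⟨2, [2755, 2730, 2417, 2527, 283, 329], 1, 1, [[], [0, 0, 2, 0, 0, 2, 0, 2, 0, 0, 2, 0, 2, 1, 2, 1, 2, 0, 2, 0, 0, 2, 1], [2, 0, 2, 0, 0, 2, 0, 2, 0, 2, 0, 2, 0, 0, 2, 1, 2], [2, 0, 0, 2, 1, 2, 0, 2, 0, 0, 2, 0, 2, 1, 2, 1, 2, 0]]⟩, ⟨3, [3173, 282], 2, 0, [[], []]⟩, ⟨2, [2754, 2704, 2734, 282, 635, 99, 81, 99, 739], 1, 1, [[], [2, 0, 0, 2, 0, 2, 0, 0, 2, 0, 0, 2, 1, 2, 0, 2], [0, 2, 0, 2, 0, 0, 2, 0, 2,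 0, 2, 0, 0, 2, 0, 2, 0, 0, 2], [2, 1, 2, 0, 2, 1, 2, 0, 2, 1, 2, 1, 2, 1, 2, 0, 0, 2]]⟩, ⟨2, [2704, 2755, 2734, 1147, 2387], 1, 2, [[], [0, 2, 1, 2, 0, 2, 0, 0, 2, 1, 2, 1, 2, 1, 2, 0, 0, 2, 0, 2, 0, 0], [1, 2, 1, 2, 1, 2, 1, 2, 1, 2, 1, 2, 0, 2, 0, 0, 2, 0, 0], [2, 0, 2, 0, 0, 2, 0, 2, 0, 2, 0, 0, 2, 0, 2, 1, 2, 0]]⟩, ⟨3, [3179, 2417, 2397], 2, 0, [[], []]⟩, ⟨2, [2754, 2754, 2734, 283, 1399, 2641], 1, 2, [[], [1, 2, 0, 2, 0, 2, 1, 2, 0, 2, 0, 0, 2, 0, 2, 1, 2, 0, 2, 0], [1, 2, 1, 2, 0, 2, 1, 2, 1, 2, 0, 0, 2, 1, 2, 0, 0, 2, 0, 2, 1], [0, 2, 1, 2, 1, 2, 1, 2, 0, 0, 2, 0, 0, 2, 0, 2, 1, 2, 1]]⟩, ⟨3, [3183, 2397, 2359], 2, 0, [[], []]⟩, ⟨2, [1584, 1654, 1676,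 828, 283, 2740], 1, 0, [[], [1, 2, 0, 0, 2, 0, 2, 0, 2, 0, 2, 0, 0, 2, 0], [1, 2, 0, 0, 2, 1, 2, 1, 2, 0, 2, 0, 2, 0, 2, 0, 0, 2, 1, 2], [0, 0, 2, 0, 2, 0, 2, 0, 2, 0, 0, 2, 0, 2, 0, 2, 1, 2, 0, 2]]⟩, ⟨3, [3187, 2705, 2754], 2, 0, [[], []]⟩, ⟨2, [2704, 2754, 3180, 2396, 2416, 2816, 2754, 2754, 2742], 1, 3, [[], [0, 0, 2, 1, 2, 0, 2, 0, 0, 2, 0, 2, 0, 2, 0, 2, 1, 2, 1, 2, 0], [0, 0, 2, 0, 0, 2, 1, 2, 1, 2, 0, 0, 2, 0, 0, 2, 1, 2, 1], [0, 2, 1, 2, 0, 0, 2, 0, 0, 2, 0, 2, 0, 0, 2, 0, 0, 2, 0, 0]]⟩, ⟨3, [3191, 282], 2, 0, [[], []]⟩, ⟨2, [2755, 2704, 2754, 2742, 283, 611, 523], 1, 1, [[], [2, 1, 2, 0, 2, 0, 2, 1, 2, 0, 0, 2, 0, 2, 0, 2, 0, 2, 0, 2, 0], [0, 2,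 1, 2, 0, 2, 0, 0, 2, 1, 2, 0, 0, 2, 0, 2, 0, 0, 2, 1], [1, 2, 1, 2, 1, 2, 0, 0, 2, 0, 2, 0, 2, 0, 2, 1, 2, 0]]⟩, ⟨3, [3195, 282], 2, 0, [[], []]⟩, ⟨2, [2704, 2755, 3104, 2704, 2755, 2742, 283, 1715], 1, 3, [[], [2, 1, 2, 0, 0, 2, 0, 2, 0, 0, 2, 0, 2, 1, 2, 1, 2, 0, 0, 2, 0, 0], [0, 2, 1, 2, 0, 0, 2, 1, 2, 0, 2, 0, 2, 0, 0, 2, 0, 2, 0, 2, 0], [0, 0, 2, 0, 2, 1, 2, 0, 0, 2, 0, 2, 0, 2, 0, 2, 0, 2, 1, 2]]⟩, ⟨3, [3199, 1661], 2, 0, [[], []]⟩, ⟨2, [2744, 2705, 2754, 2887, 283, 2895], 1, 1, [[], [2, 0, 0, 2, 0, 0, 2, 0, 2, 1, 2, 0, 0, 2, 0, 0, 2, 0, 2], [1, 2, 0, 2, 0, 2, 0, 2, 1, 2, 1, 2, 0, 2, 0, 2, 0, 0, 2, 0, 2, 0], [1, 2, 0, 2, 1, 2, 1, 2, 0, 0, 2, 0, 2,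 0]]⟩, ⟨3, [3203, 2705, 2754], 2, 0, [[], []]⟩, ⟨2, [2704, 2755, 2704, 2746, 283, 491, 282, 2003], 1, 2, [[], [0, 2, 0, 2, 0, 2, 1, 2, 1, 2, 0, 2, 1], [1, 2, 1, 2, 1, 2, 0, 0, 2, 0, 0, 2, 0, 2], [1, 2, 1, 2, 0, 0, 2, 0, 2, 0, 2, 1, 2, 0, 0, 2, 0, 0, 2, 1]]⟩, ⟨3, [3207, 1660], 2, 0, [[], []]⟩, ⟨2, [2704, 2754, 2754, 2750, 1660, 1585, 2081, 282, 1402], 1, 2, [[], [1, 2, 1, 2, 1, 2, 0, 2, 1, 2, 0, 2, 1, 2, 0, 2, 0, 0], [0, 2, 1, 2, 0, 2, 0, 2, 1, 2, 1, 2, 0, 2, 0, 2, 1, 2, 0, 0, 2, 0], [0, 0, 2, 0, 0, 2, 0, 2, 0, 2, 1, 2, 1, 2, 0, 0, 2, 1, 2, 0, 2, 0]]⟩, ⟨3, [3211, 283], 2, 0, [[], []]⟩, ⟨2, [2754, 2766, 283, 1572, 2764], 1, 0, [[], [2, 0, 0, 2, 0, 0, 2, 1,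 2, 0, 0, 2, 1, 2, 0, 0, 2, 1, 2, 1], [0, 2, 1, 2, 0, 0, 2, 0, 2, 0, 0, 2, 1, 2, 1, 2, 1, 2, 0, 0, 2, 1], [1, 2, 0, 0, 2, 0, 0, 2, 1, 2, 1, 2, 0, 2, 0, 2, 1, 2, 1, 2]]⟩, ⟨2, [282, 3064, 2754, 2754, 2704, 2766, 283, 3015], 1, 2, [[], [1, 2, 0, 0, 2, 0, 0, 2, 1, 2, 0, 2, 1, 2, 0, 2, 0, 2, 0], [0, 0, 2, 0, 2, 1, 2, 0, 2, 0, 0, 2, 0, 2, 1, 2, 1, 2, 0, 0], [0, 2, 1, 2, 0, 2, 1, 2, 1, 2, 1, 2, 0, 0, 2, 0, 0, 2, 0, 2, 0]]⟩, ⟨3, [3217, 2705, 2754], 2, 0, [[], []]⟩, ⟨2, [2754, 2754, 2768, 2755, 2705, 2749, 1661, 1585, 2913], 1, 1, [[], [0, 2, 0, 0, 2, 0, 0, 2, 0, 0, 2, 1, 2, 0, 0, 2, 1], [1, 2, 0, 0, 2, 0, 0, 2, 0, 2, 1, 2, 0, 2, 1, 2, 0], [1, 2, 1, 2, 1, 2, 0, 2,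 1, 2, 0, 2, 1, 2, 1, 2, 0, 2]]⟩, ⟨2, [2754, 2704, 2755, 2770, 2755, 2705, 2754, 3115], 0, 1, [[], [0, 2, 0, 2, 0, 0, 2, 0, 2, 0, 2, 0, 0, 2, 1, 2, 1], [2, 0, 2, 1, 2, 0, 0, 2, 0, 2, 0, 2, 0, 2, 0, 2, 1, 2, 0, 2, 1]]⟩, ⟨2, [2755, 2704, 2782, 2705, 3009], 0, 1, [[], [0, 0, 2, 0, 2, 0, 2, 0, 0, 2, 1, 2], [1, 2, 1, 2, 1, 2, 0, 0, 2, 0, 2, 1, 2, 0, 0, 2, 0, 0, 2, 0, 2]]⟩, ⟨2, [2782, 2705, 3221], 0, 1, [[], [0, 0, 2, 1, 2, 1, 2, 0, 0, 2, 1, 2, 0, 0, 2, 0, 2, 1, 2, 0, 2], [0, 2, 0, 2, 1, 2, 0, 0, 2, 1, 2, 0, 0, 2, 1, 2, 1, 2, 1, 2]]⟩, ⟨2, [2424, 2580, 2218, 2790], 0, 2, [[], [0, 2, 0, 0, 2, 0, 2, 0, 2, 1, 2, 1, 2, 0, 2, 0, 2, 1, 2, 1], [2, 0, 0, 2, 0, 2, 0, 0,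 2, 0, 2, 0, 2, 0, 2, 1, 2, 0, 0, 2]]⟩, ⟨3, [3229, 2705, 2754], 2, 0, [[], []]⟩, ⟨2, [2704, 2796, 283, 1061, 917], 1, 2, [[], [0, 0, 2, 0, 0, 2, 0, 2, 1, 2, 1, 2, 0, 0, 2, 0, 0, 2, 0, 2], [2, 1, 2, 0, 0, 2, 0, 0, 2, 1, 2, 1, 2, 0, 0, 2, 0, 2, 1, 2, 0, 2, 0], [0, 2, 1, 2, 0, 2, 0, 0, 2, 0, 0, 2, 0, 2, 0, 2, 1, 2, 0, 0, 2, 0, 0]]⟩, ⟨3, [3233, 221, 191], 2, 0, [[], []]⟩, ⟨0, [], 0, 0, []⟩, ⟨3, [3236, 80, 71, 99, 71, 3237], 2, 0, [[], [2, 1, 2, 0, 0, 2, 1, 2, 1, 2, 0, 0, 2, 1, 2, 0, 2, 0, 2, 1]]⟩, ⟨2, [3236, 317], 0, 1, [[], [2, 0, 0, 2, 0, 2, 1, 2, 0, 2, 0, 2, 1, 2, 1, 2, 1, 2, 1], [1, 2, 0, 2, 0, 2, 0, 2, 1, 2, 1, 2, 0, 2, 0, 2, 0, 0, 2, 0, 0]]⟩, ⟨2, [3238,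 3236, 81, 71, 99, 71, 1959], 0, 1, [[], [2, 0, 0, 2, 1, 2, 0, 0, 2, 0, 0, 2, 0, 2, 1, 2, 0, 2, 0, 0, 2, 0], [2, 0, 0, 2, 0, 0, 2, 0, 2, 0, 0, 2, 0, 0, 2, 0, 2, 0, 2, 0]]⟩, ⟨3, [3243, 1585], 2, 0, [[], []]⟩, ⟨2, [3236, 99, 71, 79, 71, 2713], 0, 1, [[], [1, 2, 0, 2, 1, 2, 0, 2, 1, 2, 1, 2, 0, 0, 2, 0, 0, 2, 0, 0], [0, 2, 0, 0, 2, 1, 2, 0, 2, 0, 2, 0, 0, 2, 1, 2, 0]]⟩, ⟨3, [3247, 2755, 2705], 2, 0, [[], []]⟩, ⟨3, [3248, 2755, 2754, 2755, 2705, 2704, 2755, 3249], 2, 0, [[], [0, 2, 0, 2, 0, 0, 2, 0, 0, 2, 0, 0, 2, 0, 2, 0, 2, 1, 2, 0, 2, 0]]⟩, ⟨2, [3236, 99, 71, 81, 79, 645], 0, 1, [[], [0, 2, 0, 2, 1, 2, 1, 2, 0, 2, 1, 2, 1, 2, 0, 0, 2, 1], [2, 1, 2, 0, 0,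 2, 0, 2, 0, 2, 0, 2, 1, 2, 1, 2, 0]]⟩, ⟨3, [3253, 283], 2, 0, [[], []]⟩, ⟨2, [3236, 81, 71, 81, 79, 902], 0, 1, [[], [2, 1, 2, 1, 2, 1, 2, 0, 0, 2, 1, 2, 0, 2, 1, 2, 0, 2, 0, 2, 0, 0], [0, 2, 0, 2, 1, 2, 0, 0, 2, 0, 0, 2, 1, 2, 1]]⟩, ⟨3, [3257, 282], 2, 0, [[], []]⟩, ⟨2, [3236, 71, 97], 0, 1, [[], [0, 2, 0, 0, 2, 1, 2, 1, 2, 1, 2, 0, 0, 2, 0, 2, 1, 2], [2, 0, 2, 0, 2, 1, 2, 0, 0, 2, 0, 0, 2, 1, 2, 0, 2]]⟩, ⟨3, [3261, 81, 79], 2, 0, [[], []]⟩] 1558 1632 = true := by decide +kernel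
theorem dd_c23 : dd.checks [⟨2, [3238, 3236, 81, 99, 79, 3263], 0, 1, [[], [2, 0, 2, 0, 0, 2, 0, 2, 0, 2, 0, 2, 0, 2, 0, 0, 2, 0, 2, 0, 0], [0, 0, 2, 1, 2, 1, 2, 1, 2, 1, 2, 0, 2, 0, 2, 0, 2, 0]]⟩, ⟨2, [3238, 3250, 3238, 3236, 81, 99, 215], 0, 1, [[], [1, 2, 0, 0, 2, 0, 2, 1, 2, 1, 2, 0, 2, 0, 0, 2, 0, 0], [2, 0, 2, 0, 0, 2, 1, 2, 1, 2, 0, 2, 0, 2, 1, 2, 1]]⟩, ⟨3, [3267, 209, 195, 191], 2, 0, [[], []]⟩, ⟨2, [3236, 99, 2179], 0, 1, [[], [0, 2, 1, 2, 0, 0, 2, 0, 0, 2, 0, 0, 2, 1, 2, 1, 2, 0, 0, 2], [2, 0, 0, 2, 1, 2, 0, 0, 2, 1, 2, 0, 0, 2, 0, 0, 2, 1]]⟩, ⟨3, [3271, 2211, 2211], 2, 0, [[], []]⟩, ⟨2, [3238, 3250, 3236, 81, 71, 3263], 0, 1, [[], [1, 2, 1, 2,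 0, 2, 1, 2, 1, 2, 0, 0, 2, 0, 2, 0], [2, 0, 2, 0, 2, 0, 2, 0, 0, 2, 0, 0, 2, 1, 2, 0]]⟩, ⟨3, [3275, 3251, 3239], 2, 0, [[], []]⟩, ⟨2, [3236, 99, 79, 71, 3237], 0, 1, [[], [1, 2, 0, 2, 0, 2, 0, 2, 1, 2, 0, 0, 2, 0, 0, 2, 1, 2, 1, 2, 0, 0], [2, 1, 2, 1, 2, 1, 2, 1, 2, 1, 2, 1, 2, 1, 2, 0]]⟩, ⟨2, [3236, 351], 0, 1, [[], [0, 2, 1, 2, 0, 0, 2, 0, 2, 0, 0, 2, 0, 0, 2, 0, 2, 0, 2], [0, 0, 2, 0, 0, 2, 0, 0, 2, 0, 0, 2, 1, 2, 1, 2, 0, 2, 1, 2, 1]]⟩, ⟨2, [3238, 3250, 3236, 99, 79, 205], 0, 1, [[], [1, 2, 0, 2, 1, 2, 0, 2, 0, 0, 2, 1, 2, 0, 2, 0, 2, 1], [2, 1, 2, 0, 0, 2, 0, 2, 0, 2, 1, 2, 1, 2, 0, 0, 2, 0, 2, 1]]⟩, ⟨3, [3283, 195], 2, 0, [[], []]⟩, ⟨2, [3238, 3236,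 79, 71, 181], 0, 1, [[], [0, 2, 0, 2, 1, 2, 0, 0, 2, 1, 2, 0, 2, 1, 2, 1, 2], [1, 2, 1, 2, 0, 0, 2, 0, 2, 0, 2, 1, 2, 0, 0, 2, 1, 2, 0, 2, 0, 0]]⟩, ⟨3, [3287, 153, 157, 153], 2, 0, [[], []]⟩, ⟨2, [3236, 81, 3237], 0, 1, [[], [2, 0, 2, 1, 2, 1, 2, 0, 0, 2, 1, 2, 0, 2, 0, 0, 2, 0], [2, 1, 2, 0, 0, 2, 0, 2, 1, 2, 1, 2, 0, 0, 2, 0, 2]]⟩, ⟨2, [3236, 71, 205], 0, 1, [[], [0, 2, 0, 2, 1, 2, 1, 2, 1, 2, 1, 2, 0, 2, 1, 2, 0, 0, 2, 0, 0], [2, 0, 2, 0, 2, 0, 2, 0, 2, 0, 2, 0, 0]]⟩, ⟨3, [3293, 191, 221, 191], 2, 0, [[], []]⟩, ⟨2, [3250, 3238, 3236, 71, 99, 71, 575, 283, 1497], 1, 1, [[], [1, 2, 1, 2, 1, 2, 1, 2, 1, 2, 0, 2, 1, 2, 0, 0, 2, 0, 2, 0, 2, 0], [0, 2, 1,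 2, 0, 2, 0, 0, 2, 1, 2, 1, 2, 1, 2, 0, 0, 2, 0, 2, 1], [0, 0, 2, 1, 2, 0, 0, 2, 0, 0, 2, 0, 2, 1, 2, 1, 2, 1]]⟩, ⟨3, [3297, 165, 155, 157], 2, 0, [[], []]⟩, ⟨2, [3250, 3238, 3236, 81, 99, 607, 282, 1139], 1, 1, [[], [0, 2, 0, 0, 2, 0, 2, 0, 2, 0, 0, 2, 1, 2, 0, 2, 1, 2, 1, 2, 0, 0], [2, 0, 0, 2, 0, 2, 0, 2, 1, 2, 0, 2, 1], [0, 0, 2, 0, 2, 0, 2, 0, 0, 2, 0, 2, 0, 2, 0, 0, 2, 1, 2, 1]]⟩, ⟨3, [3301, 283], 2, 0, [[], []]⟩, ⟨2, [3236, 79, 71, 81, 309, 283, 1463], 1, 1, [[], [2, 0, 2, 0, 2, 0, 2, 1, 2, 0, 0, 2, 0, 2, 1, 2, 0, 2, 0, 2, 0, 0], [2, 0, 0, 2, 0, 2, 1, 2, 1, 2, 0, 2, 0, 2, 0, 0, 2, 0], [2, 1, 2, 0, 2, 1, 2, 1, 2, 0, 0, 2, 0, 2, 1, 2, 0, 2, 0]]⟩, ⟨2,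 [3250, 3236, 99, 79, 679, 282, 1739], 1, 1, [[], [2, 0, 0, 2, 1, 2, 1, 2, 1, 2, 0, 0, 2, 0, 0, 2, 1, 2, 0, 2, 0], [2, 1, 2, 1, 2, 1, 2, 0, 0, 2, 0, 2, 0, 0, 2, 0, 0, 2, 0, 0, 2, 0, 0], [1, 2, 1, 2, 0, 0, 2, 0, 2, 0, 2, 0, 2, 0, 2, 0, 2, 1, 2, 0, 0, 2, 0]]⟩, ⟨3, [3307, 1660, 1585], 2, 0, [[], []]⟩, ⟨2, [3236, 71, 79, 351, 282, 1813], 1, 1, [[], [0, 2, 0, 2, 1, 2, 0, 2, 1, 2, 0, 2, 0, 0, 2, 1], [1, 2, 1, 2, 0, 2, 0, 0, 2, 0, 2, 0, 2, 0, 0, 2, 1, 2, 0, 2, 0, 0], [1, 2, 0, 2, 1, 2, 0, 0, 2, 0, 2, 0, 2, 0, 0, 2, 0, 0, 2, 0, 2]]⟩, ⟨3, [3311, 1595], 2, 0, [[], []]⟩, ⟨2, [3238, 3250, 3236, 225, 71, 2143], 1, 1, [[], [1, 2, 1, 2, 0, 0, 2, 0, 2, 0, 0, 2, 0, 2, 0,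 2, 1, 2, 0, 2], [2, 0, 2, 1, 2, 0, 0, 2, 0, 0, 2, 1, 2, 0, 0, 2, 1, 2, 1], [1, 2, 0, 0, 2, 0, 2, 0, 2, 1, 2, 1, 2, 0, 0, 2, 0, 2, 0, 0]]⟩, ⟨3, [3315, 1585], 2, 0, [[], []]⟩, ⟨2, [3238, 3250, 3236, 71, 99, 877, 283, 1487], 1, 1, [[], [0, 0, 2, 1, 2, 1, 2, 0, 0, 2, 1, 2, 1, 2, 0, 2, 1, 2], [0, 2, 0, 2, 1, 2, 0, 2, 0, 2, 0, 0, 2, 0, 2, 0, 2, 0, 2, 0], [0, 2, 1, 2, 0, 2, 0, 0, 2, 0, 2, 0, 2, 0, 0, 2, 0, 2]]⟩, ⟨3, [3319, 282], 2, 0, [[], []]⟩, ⟨2, [3250, 3238, 3236, 79, 71, 99, 71, 2713, 2755, 2705, 2755, 2705, 3219], 1, 1, [[], [1, 2, 1, 2, 0, 2, 0, 2, 0, 2, 1, 2, 0, 0, 2, 0, 0, 2, 0, 0], [2, 0, 2, 0, 2, 1, 2, 1, 2, 0, 2, 0, 2, 0, 2, 0, 2, 0, 2, 0], [0, 2,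 0, 2, 1, 2, 0, 2, 1, 2, 0, 2, 1, 2, 0]]⟩, ⟨2, [3238, 3236, 71, 79, 99, 379, 283, 3015], 1, 1, [[], [0, 2, 1, 2, 1, 2, 1, 2, 1, 2, 0, 0, 2, 0, 0, 2, 1, 2, 1, 2, 0, 2], [1, 2, 0, 2, 0, 0, 2, 1, 2, 0, 2, 1, 2, 1, 2, 0, 2, 0, 0, 2], [2, 1, 2, 0, 2, 0, 0, 2, 1, 2, 0, 0]]⟩, ⟨3, [3325, 2755, 2705], 2, 0, [[], []]⟩, ⟨2, [3238, 3236, 99, 71, 2103, 1654, 1975], 1, 1, [[], [0, 0, 2, 0, 0, 2, 0, 2, 1, 2, 1, 2, 1, 2, 1, 2, 1, 2, 0], [0, 0, 2, 0, 0, 2, 0, 0, 2, 0, 2, 1, 2, 0, 2, 0, 2, 1, 2, 0, 0], [0, 2, 0, 2, 1, 2, 1, 2, 0, 0, 2, 0, 2, 1, 2, 1, 2, 0, 0, 2]]⟩, ⟨2, [3238, 3236, 81, 79, 145, 81, 1355], 1, 1, [[], [2, 1, 2, 1, 2, 1, 2, 0, 0, 2, 1, 2, 1, 2, 0, 0, 2, 0, 0,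 2, 0, 0], [0, 2, 1, 2, 0, 0, 2, 0, 2, 1, 2, 1, 2, 1, 2, 0, 0, 2, 0, 0], [2, 1, 2, 1, 2, 0, 0, 2, 0, 2, 1, 2, 0, 2, 1, 2, 0, 2, 0, 0, 2]]⟩, ⟨3, [3331, 282], 2, 0, [[], []]⟩, ⟨2, [3236, 81, 71, 79, 71, 929, 283, 2863], 1, 1, [[], [2, 1, 2, 0, 2, 1, 2, 1, 2, 1, 2, 1, 2, 0, 0, 2, 0, 2, 1, 2, 0], [2, 0, 2, 0, 0, 2, 1, 2, 1, 2, 0, 0, 2, 0, 0, 2, 1, 2, 1, 2, 1], [0, 0, 2, 1, 2, 0, 2, 0, 2, 1, 2, 1, 2, 1, 2, 0]]⟩, ⟨3, [3335, 2705, 2755, 2755], 2, 0, [[], []]⟩, ⟨2, [3236, 73, 71, 79, 457], 1, 1, [[], [2, 1, 2, 1, 2, 1, 2, 0, 0, 2, 1, 2, 1, 2, 1, 2, 1, 2, 0, 0], [2, 0, 2, 0, 2, 1, 2, 0, 0, 2, 0, 2, 0, 2, 1, 2, 1, 2, 1, 2], [0, 0, 2, 0, 0, 2, 0, 2, 0, 0, 2, 0, 0,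 2, 1]]⟩, ⟨3, [3339, 282], 2, 0, [[], []]⟩, ⟨2, [3236, 81, 79, 71, 2075, 1595, 1585, 1755], 1, 1, [[], [1, 2, 1, 2, 1, 2, 0, 2, 0, 2, 1, 2, 0, 0, 2, 1, 2, 1, 2, 1], [0, 2, 1, 2, 0, 0, 2, 1, 2, 1, 2, 0, 2, 0, 2, 1, 2, 0, 0, 2], [2, 0, 0, 2, 1, 2, 0, 2, 0, 2, 0, 0, 2, 0, 0, 2, 0, 0, 2, 0]]⟩, ⟨2, [3236, 71, 79, 71, 225, 81, 99, 79, 2659], 1, 1, [[], [0, 0, 2, 1, 2, 1, 2, 0, 2, 0, 2, 0, 2, 0, 2, 0, 2, 0, 0], [0, 2, 0, 2, 0, 2, 1, 2, 0, 2, 1, 2, 1, 2, 0, 2, 0, 2, 0, 2, 1, 2, 0], [2, 0, 2, 1, 2, 1, 2, 0, 0, 2, 0, 2, 1, 2, 0, 2, 0, 0]]⟩, ⟨3, [3345, 2424, 2315], 2, 0, [[], []]⟩, ⟨2, [3250, 3236, 81, 71, 79, 309, 674], 1, 1, [[], [0, 2, 1, 2, 1, 2, 0, 2, 0, 0, 2,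 0, 2, 0, 2, 1, 2, 0, 0, 2, 1], [0, 0, 2, 0, 2, 0, 0, 2, 1, 2, 1, 2, 1, 2, 1], [1, 2, 1, 2, 0, 0, 2, 1, 2, 1, 2, 0, 0, 2, 0, 2, 0, 2, 0, 2, 1, 2, 0]]⟩, ⟨2, [3236, 99, 93, 81, 79, 71, 3263], 1, 1, [[], [0, 2, 0, 2, 0, 2, 0, 0, 2, 1, 2, 0, 2, 1, 2, 1, 2, 1], [2, 1, 2, 1, 2, 1, 2, 1, 2, 0, 2, 1, 2, 0, 0, 2, 1, 2, 0], [0, 0, 2, 0, 2, 1, 2, 1, 2, 0, 0, 2, 0, 0, 2, 0, 0, 2, 1, 2, 0]]⟩, ⟨2, [3238, 3236, 99, 859, 282, 1019], 1, 1, [[], [2, 0, 0, 2, 0, 2, 0, 2, 0, 0, 2, 1], [1, 2, 0, 2, 0, 0, 2, 1, 2, 0], [2, 1, 2, 1, 2, 0, 2, 0, 2, 1, 2, 0, 2, 0, 0, 2, 0, 0, 2, 0, 0]]⟩, ⟨3, [3353, 282], 2, 0, [[], []]⟩, ⟨2, [3250, 3238, 3236, 99, 81, 99, 1419, 1573], 1, 1, [[],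 [2, 0, 0, 2, 1, 2, 1, 2, 1, 2, 1, 2, 0, 0, 2, 1, 2, 0], [2, 1, 2, 0, 2, 0, 2, 1, 2, 1, 2, 0, 2, 0, 2, 1, 2, 1, 2, 0], [0, 2, 0, 2, 1, 2, 0, 2, 0, 0, 2, 0, 2, 1, 2, 1, 2, 1, 2, 1, 2, 0]]⟩, ⟨3, [3357, 283], 2, 0, [[], []]⟩, ⟨2, [3236, 105, 71, 79, 71, 3237], 1, 1, [[], [0, 0, 2, 1, 2, 0, 2, 0, 2, 1, 2, 0, 0, 2, 1, 2, 1, 2, 1, 2, 0, 0], [1, 2, 1, 2, 0, 2, 0, 2, 0, 2, 0, 2, 0, 2, 1, 2, 0, 0, 2], [1, 2, 1, 2, 0, 2, 0, 2, 1, 2, 1, 2, 1, 2, 0, 0, 2, 1, 2, 1]]⟩, ⟨2, [3250, 3236, 379, 282, 930], 1, 1, [[], [1, 2, 0, 0, 2, 0, 2, 0, 2, 0, 2, 1, 2, 0, 0, 2, 0, 2, 0, 0], [0, 0, 2, 0, 0, 2, 0, 2, 0, 2, 1, 2, 0, 0, 2, 0, 2, 0, 2, 1, 2], [0, 2, 0, 2, 0, 2, 0, 0, 2, 1,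 2, 1, 2, 1, 2, 0, 2]]⟩, ⟨3, [3363, 283], 2, 0, [[], []]⟩, ⟨2, [3238, 3236, 81, 107, 81, 79, 71, 863], 1, 1, [[], [0, 2, 1, 2, 0, 2, 0, 2, 0, 2, 0, 2, 0, 2, 1, 2, 0, 0, 2, 1], [0, 0, 2, 1, 2, 0, 2, 1], [2, 0, 0, 2, 1, 2, 1, 2, 1, 2, 1, 2, 1, 2, 1, 2, 1, 2, 0, 2, 0]]⟩, ⟨2, [3236, 81, 71, 81, 79, 1419, 282, 1657], 1, 1, [[], [0, 2, 1, 2, 0, 2, 0, 2, 0, 0, 2, 1, 2, 1, 2, 0, 2, 1], [2, 1, 2, 1, 2, 0, 2, 0, 2, 1, 2, 1, 2, 0, 2, 0, 2, 1, 2, 1, 2, 0, 0], [2, 0, 0, 2, 0, 0, 2, 0, 2, 0, 2, 0, 2, 0, 2, 1, 2, 0, 2]]⟩, ⟨3, [3369, 1655], 2, 0, [[], []]⟩, ⟨2, [3238, 3250, 3238, 3236, 99, 71, 81, 79, 1323, 283, 1291], 1, 1, [[], [1, 2, 0, 2, 1, 2, 1, 2, 1, 2, 0, 0, 2,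 0, 0, 2, 0, 0], [0, 2, 1, 2, 1, 2, 0, 0, 2, 1, 2, 1, 2, 1, 2, 0, 2, 0, 2, 0, 0, 2], [2, 0, 2, 0, 0, 2, 0, 0, 2, 0, 2, 1, 2, 1, 2, 0, 2, 1, 2, 0, 2, 1]]⟩, ⟨3, [3373, 282], 2, 0, [[], []]⟩, ⟨2, [3250, 3238, 3236, 79, 71, 81, 71, 929, 282, 2203], 1, 1, [[], [0, 2, 0, 0, 2, 1, 2, 0, 0, 2, 0, 0, 2, 0, 2, 1, 2, 0, 2], [0, 0, 2, 1, 2, 0, 2, 1, 2, 0, 0, 2, 1, 2, 0, 2, 1, 2], [0, 2, 0, 0, 2, 1, 2, 1, 2, 0, 0, 2, 1, 2, 0, 0, 2, 0, 0, 2, 0, 0]]⟩, ⟨3, [3377, 2187, 2211, 2181], 2, 0, [[], []]⟩, ⟨2, [3250, 3236, 79, 1935, 1661, 1655, 1893], 1, 1, [[], [1, 2, 0, 0, 2, 0, 2, 1, 2, 1, 2, 0, 2, 1, 2, 0, 2, 0, 0, 2, 0, 0], [0, 0, 2, 1, 2, 1, 2, 1, 2, 1, 2, 1, 2, 1, 2, 1,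 2, 0, 0, 2, 0, 0], [1, 2, 0, 2, 0, 2, 0, 0, 2, 0, 2, 1, 2, 0, 2, 0, 0]]⟩, ⟨3, [3381, 81, 71, 79, 71], 2, 0, [[], []]⟩, ⟨2, [3238, 3250, 3238, 3236, 79, 71, 99, 71, 1037, 282, 1255], 1, 1, [[], [0, 0, 2, 1, 2, 0, 0, 2, 0, 2, 0, 2, 0, 2, 0, 0, 2, 1], [0, 0, 2, 0, 2, 0, 0, 2, 1, 2, 1, 2, 0, 2, 0, 0, 2, 0, 2, 0, 2, 0], [2, 0, 2, 1, 2, 1, 2, 1, 2, 0, 0, 2, 0, 0, 2, 1, 2, 0, 0]]⟩, ⟨3, [3385, 283], 2, 0, [[], []]⟩, ⟨2, [3236, 81, 99, 902, 908], 1, 1, [[], [0, 0, 2, 0, 2, 1, 2, 0, 2, 0, 0, 2, 0, 0, 2, 0, 2, 0, 2, 1], [2, 0, 0, 2, 0, 2, 0, 2, 0, 0, 2, 1, 2, 0, 2, 0, 2, 0, 0], [1, 2, 0, 2, 0, 2, 1, 2, 0, 0, 2, 0, 0, 2, 0, 0, 2, 1, 2, 1]]⟩, ⟨3, [3389, 282], 2, 0,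 [[], []]⟩, ⟨2, [3238, 3236, 71, 81, 79, 71, 351, 283, 813], 1, 1, [[], [1, 2, 1, 2, 0, 0, 2, 0, 0, 2, 0, 2, 1, 2, 0, 0, 2, 0, 0, 2], [2, 0, 0, 2, 1, 2, 1, 2, 0, 2, 0, 0, 2, 1, 2, 1, 2, 0, 0], [2, 0, 2, 1, 2, 0, 2, 1, 2, 0, 0, 2, 1, 2, 1, 2, 0, 2, 1]]⟩, ⟨2, [3236, 79, 99, 79, 71, 141, 81, 99, 141], 1, 1, [[], [2, 0, 0, 2, 0, 0, 2, 1, 2, 1, 2, 0, 2, 1, 2, 0, 0, 2, 1, 2, 0, 0], [2, 1, 2, 0, 2, 1, 2, 1, 2, 0, 2, 0, 2, 1, 2, 0, 0, 2, 0, 0, 2, 0], [2, 0, 0, 2, 0, 2, 1, 2, 0, 2, 1, 2, 1, 2, 0, 2, 0, 2, 0, 0, 2, 0]]⟩, ⟨3, [3395, 79, 71, 81, 71], 2, 0, [[], []]⟩, ⟨2, [3250, 3236, 99, 71, 79, 231, 239, 233, 2155], 1, 1, [[], [1, 2, 0, 2, 0, 2, 1, 2, 0, 2, 0, 2, 0,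 0, 2, 1, 2], [2, 1, 2, 0, 2, 1, 2, 0, 0, 2, 0, 2, 0, 2, 0, 0, 2], [0, 2, 1, 2, 0, 0, 2, 1, 2, 0, 2, 0, 2, 1, 2, 0, 2, 1]]⟩, ⟨3, [3399, 1654], 2, 0, [[], []]⟩, ⟨2, [3238, 3250, 3236, 99, 161, 165, 152, 156, 297], 1, 1, [[], [1, 2, 0, 0, 2, 0, 0, 2, 0, 0, 2, 0, 0, 2, 1, 2, 0, 2, 1], [2, 0, 2, 0, 2, 1, 2, 1, 2, 1, 2, 1, 2, 0, 0, 2, 1, 2, 1], [0, 2, 1, 2, 1, 2, 1, 2, 1, 2, 1, 2, 0, 2]]⟩, ⟨3, [3403, 283], 2, 0, [[], []]⟩, ⟨2, [3238, 3236, 71, 81, 79, 679, 282, 2593], 1, 1, [[], [0, 2, 1, 2, 0, 0, 2, 0, 0, 2, 0, 2, 0, 2, 0, 2, 0, 0, 2], [1, 2, 1, 2, 0, 0, 2, 0, 2, 0, 0, 2, 0, 0, 2, 0, 2, 1, 2, 0], [1, 2, 0, 2, 1, 2, 0, 2, 0, 0, 2, 0, 2, 1, 2, 1, 2, 0, 0, 2, 0,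 0]]⟩] 1632 1704 = true := by decide +kernel
theorem dd_c24 : dd.checks [⟨3, [3407, 2417, 2397], 2, 0, [[], []]⟩, ⟨2, [3236, 71, 79, 2659, 2424, 2627], 1, 1, [[], [0, 0, 2, 1, 2, 0, 2, 1, 2, 0, 0, 2, 1, 2, 0], [2, 1, 2, 0, 2, 0, 2, 0, 0, 2, 0, 2, 0, 2, 0, 0], [0, 2, 0, 2, 0, 2, 0, 2, 0, 0, 2, 1, 2, 0, 2, 0, 2, 1]]⟩, ⟨3, [3411, 2397, 2315], 2, 0, [[], []]⟩, ⟨2, [3238, 3250, 3238, 3236, 99, 79, 71, 347, 283, 3029], 1, 1, [[], [0, 0, 2, 0, 2, 1, 2, 1, 2, 0, 2, 0, 2, 1, 2, 0, 0, 2, 0, 0, 2, 1, 2], [1, 2, 1, 2, 0, 0, 2, 0, 2, 0, 2, 1, 2, 1, 2, 1, 2, 1], [0, 2, 1, 2, 0, 2, 1, 2, 1, 2, 0, 2, 0, 0, 2, 0, 2, 0, 0, 2, 0]]⟩, ⟨3, [3415, 2755], 2, 0, [[], []]⟩, ⟨2, [3238,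 3250, 3238, 3236, 71, 123, 81, 71, 1621], 1, 1, [[], [0, 2, 0, 2, 1, 2, 0, 2, 1, 2, 1, 2, 0, 2, 0, 2, 0, 0, 2, 0], [0, 2, 0, 2, 0, 0, 2, 1, 2, 1, 2, 1, 2, 0, 2, 0, 0], [0, 0, 2, 1, 2, 0, 2, 0, 2, 0, 2, 0, 2, 0, 0, 2, 1, 2, 0, 0, 2]]⟩, ⟨3, [3419, 1595, 1585], 2, 0, [[], []]⟩, ⟨2, [3238, 3250, 3236, 81, 71, 81, 79, 1891, 1661, 1585, 3245], 1, 1, [[], [0, 2, 0, 0, 2, 1, 2, 1, 2, 0, 2, 0, 0, 2, 1, 2, 0, 2, 0, 2], [2, 0, 2, 0, 2, 0, 2, 0, 0, 2, 1, 2, 1, 2, 1, 2, 0, 2, 1], [2, 0, 0, 2, 0, 2, 0, 2, 0, 0, 2, 1, 2, 0, 2, 0, 2, 1, 2, 0]]⟩, ⟨2, [3236, 99, 1935, 1661, 1585, 1741], 1, 1, [[], [1, 2, 0, 0, 2, 1, 2, 0, 2, 1, 2, 0, 2, 1, 2, 1, 2, 1, 2, 0], [2, 1, 2, 0,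 0, 2, 0, 2, 0, 2, 0, 0, 2, 1, 2, 0, 2, 0], [0, 2, 0, 0, 2, 0, 0, 2, 0, 0, 2, 1, 2, 0, 0, 2, 1, 2]]⟩, ⟨3, [3425, 282], 2, 0, [[], []]⟩, ⟨2, [3238, 3236, 81, 565, 855], 1, 1, [[], [0, 0, 2, 1, 2, 0, 0, 2, 1, 2, 0, 2, 1, 2, 1, 2, 0], [0, 2, 0, 0, 2, 0, 2, 0, 2, 1, 2, 0, 0, 2, 0, 2, 0, 2, 1, 2, 1, 2], [1, 2, 1, 2, 1, 2, 1, 2, 0, 2, 0, 0, 2, 1, 2, 0, 2, 0, 2, 0, 0]]⟩, ⟨3, [3429, 282], 2, 0, [[], []]⟩, ⟨2, [3250, 3238, 3236, 71, 81, 73, 697], 1, 1, [[], [1, 2, 1, 2, 1, 2, 0, 2, 0, 0, 2, 1, 2, 1, 2, 0, 2, 1, 2], [1, 2, 0, 0, 2, 1, 2, 0, 2, 0, 2, 0, 0, 2, 0, 2], [0, 2, 0, 0, 2, 1, 2, 0, 2, 1, 2, 0, 2, 1, 2, 1, 2, 1, 2, 1]]⟩, ⟨3, [3433, 282], 2, 0, [[], []]⟩, ⟨2,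 [3250, 3236, 81, 71, 99, 2713, 2754, 2705, 2755, 2755, 2900], 1, 1, [[], [0, 0, 2, 0, 0, 2, 1, 2, 0, 0, 2, 1, 2, 0, 0, 2, 0, 0], [2, 1, 2, 0, 0, 2, 0, 0, 2, 0, 0, 2, 1, 2, 1, 2, 0, 2, 0, 2], [0, 0, 2, 0, 2, 0, 2, 0, 2, 1, 2, 0, 0, 2, 0, 2, 0, 0, 2, 0, 0]]⟩, ⟨3, [3437, 282], 2, 0, [[], []]⟩, ⟨2, [3236, 71, 81, 71, 2381, 2359, 2519], 1, 1, [[], [0, 2, 1, 2, 1, 2, 0, 0, 2, 1, 2, 0, 2, 1, 2, 0, 2, 0, 2, 1, 2, 1], [2, 1, 2, 1, 2, 0, 0, 2, 0, 0, 2, 0, 0, 2, 0, 0, 2, 1, 2, 1, 2, 0], [1, 2, 0, 2, 0, 2, 0, 2, 1, 2, 1, 2, 1, 2, 1, 2, 0, 0, 2, 1]]⟩, ⟨3, [3441, 282], 2, 0, [[], []]⟩, ⟨2, [3236, 79, 215, 190, 221, 191, 303], 1, 1, [[], [0, 2, 0, 2, 0, 2, 0, 2, 0, 2,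 0, 2, 0, 2, 0, 0, 2, 0, 2, 0], [0, 0, 2, 1, 2, 1, 2, 1, 2, 1, 2, 0, 0, 2, 0, 0, 2, 1, 2, 0], [0, 2, 1, 2, 1, 2, 1, 2, 0, 0, 2, 0, 0, 2, 0, 2, 0, 0, 2, 0, 0]]⟩, ⟨3, [3445, 283], 2, 0, [[], []]⟩, ⟨2, [3238, 3250, 3238, 3236, 81, 99, 81, 1959, 1661, 1585, 1679], 1, 1, [[], [2, 0, 2, 0, 2, 0, 2, 1, 2, 0, 2, 1, 2, 1, 2, 1, 2, 0, 0, 2, 0, 0], [1, 2, 0, 2, 1, 2, 1, 2, 0, 2, 0, 2, 1, 2, 0, 2, 0, 2], [0, 0, 2, 0, 0, 2, 1, 2, 0, 0, 2, 0, 2, 1, 2, 0, 2, 0, 2, 0, 0, 2, 0, 0]]⟩, ⟨2, [3236, 71, 81, 79, 571, 1335], 1, 1, [[], [0, 0, 2, 1, 2, 0, 0, 2, 0, 0, 2, 0, 0, 2, 0, 2, 0, 0, 2, 1], [0, 0, 2, 0, 2, 1, 2, 0, 2, 0, 0, 2, 1, 2, 1, 2, 0, 0, 2, 1, 2, 0], [0, 2, 0, 2, 0,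 0, 2, 0, 2, 0, 0, 2, 0, 0, 2, 1, 2, 1, 2, 0, 2, 0, 0]]⟩, ⟨2, [3238, 3250, 3238, 3236, 99, 79, 877, 283, 633], 1, 1, [[], [2, 0, 2, 0, 0, 2, 0, 2, 0, 0, 2, 0, 2, 0, 2, 0, 2, 1, 2], [0, 2, 0, 0, 2, 1, 2, 0, 2, 0, 2, 0, 0, 2, 1, 2, 0, 0, 2, 0, 0], [2, 1, 2, 0, 2, 1, 2, 0, 0, 2, 0, 0, 2, 0, 0, 2, 0, 0, 2, 0]]⟩, ⟨3, [3453, 282], 2, 0, [[], []]⟩, ⟨2, [3238, 3250, 3236, 71, 99, 379, 283, 1743], 1, 1, [[], [1, 2, 1, 2, 1, 2, 0, 0, 2, 0, 2, 1, 2, 0, 0, 2, 1, 2, 1, 2, 0, 0], [0, 2, 0, 2, 0, 0, 2, 0, 2, 0, 2, 0, 2, 1, 2, 0, 0, 2, 1, 2], [2, 0, 0, 2, 0, 2, 0, 0, 2, 1, 2, 1]]⟩, ⟨2, [3236, 79, 99, 287, 282, 778], 1, 1, [[], [0, 2, 0, 0, 2, 0, 0, 2, 0, 2, 0, 2, 0, 2,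 0, 0, 2, 1, 2, 1, 2, 0], [0, 2, 1, 2, 0, 2, 1, 2, 0, 0, 2, 0, 2, 0, 2, 1, 2, 0, 2], [2, 0, 0, 2, 0, 2, 0, 2, 1, 2, 0, 0, 2, 0, 0, 2, 1, 2, 0, 2, 0]]⟩, ⟨2, [3238, 3236, 99, 71, 81, 79, 575, 2907], 1, 1, [[], [0, 2, 1, 2, 0, 2, 1, 2, 0, 2, 1, 2, 0, 2, 1, 2, 1, 2, 0], [1, 2, 1, 2, 0, 2, 0, 2, 0, 0, 2, 0, 2, 1, 2, 0, 2, 0, 0, 2], [2, 0, 2, 0, 2, 0, 2, 0, 2, 1, 2, 1, 2, 0, 0, 2, 0, 2, 1, 2, 1, 2, 0]]⟩, ⟨3, [3461, 2755, 2755, 2705], 2, 0, [[], []]⟩, ⟨2, [3238, 3236, 81, 71, 81, 351, 769], 1, 1, [[], [0, 2, 1, 2, 0, 2, 0, 2, 0, 2, 0, 2, 0, 2, 0, 0, 2, 0, 0], [1, 2, 0, 2, 1, 2, 1, 2, 1, 2, 1, 2, 1, 2, 1, 2], [0, 0, 2, 0, 2, 0, 0, 2, 0, 2, 1, 2, 0, 0, 2, 0, 2, 0,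 2, 0, 2, 1, 2]]⟩, ⟨2, [3238, 3250, 3238, 3236, 71, 81, 739, 283, 2037], 1, 1, [[], [2, 0, 0, 2, 0, 2, 1, 2, 0, 0, 2, 1, 2, 1, 2, 0, 2, 1, 2, 0, 2, 0], [0, 2, 1, 2, 1, 2, 1, 2, 1, 2, 1, 2, 1, 2, 1, 2, 0, 0, 2], [0, 2, 0, 0, 2, 0, 2, 1, 2, 0, 2, 0, 0, 2, 0, 2, 0, 2]]⟩, ⟨3, [3467, 1660, 1655], 2, 0, [[], []]⟩, ⟨2, [3250, 3236, 81, 71, 79, 391, 283, 969], 1, 1, [[], [2, 0, 2, 1, 2, 0, 0, 2, 1, 2, 1, 2, 0, 2, 1, 2, 0], [2, 0, 0, 2, 1, 2, 1, 2, 0, 2, 0, 2, 1, 2, 1, 2, 1, 2, 1, 2, 0], [0, 2, 1, 2, 1, 2, 1, 2, 0, 2, 0, 2, 1, 2, 0, 2, 1, 2, 1, 2, 1]]⟩, ⟨3, [3471, 283], 2, 0, [[], []]⟩, ⟨2, [3250, 3236, 79, 71, 231, 251, 244, 251, 2155], 1, 1, [[], [0, 2, 0, 2, 1,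 2, 0, 0, 2, 0, 2, 1, 2, 0, 2, 0, 0, 2, 0, 2, 0], [0, 2, 0, 0, 2, 1, 2, 0, 2, 1, 2, 0, 0, 2, 0, 2, 0, 0, 2, 0], [0, 2, 1, 2, 1, 2, 0, 0, 2, 1, 2, 1, 2, 0, 0, 2, 0]]⟩, ⟨3, [3475, 1655, 1585], 2, 0, [[], []]⟩, ⟨2, [3238, 3236, 71, 81, 71, 571, 283, 1097], 1, 1, [[], [1, 2, 1, 2, 1, 2, 0, 2, 1, 2, 0, 2, 0, 0, 2, 0, 2, 0, 2], [0, 2, 1, 2, 0, 2, 0, 0, 2, 0, 0, 2, 0, 2, 0, 2, 0, 2, 1, 2, 1], [2, 1, 2, 0, 2, 0, 0, 2, 0, 0, 2, 0, 0, 2, 0, 0, 2, 0, 2, 1]]⟩, ⟨2, [3250, 3238, 3236, 71, 99, 1355, 2029], 1, 1, [[], [0, 2, 0, 0, 2, 0, 2, 1, 2, 0, 2, 0, 2, 0, 0, 2, 1, 2, 0, 2, 0, 0], [0, 0, 2, 0, 2, 1, 2, 0, 2, 1, 2, 0, 2, 1, 2, 0, 0, 2, 1, 2, 0], [1, 2, 0, 0, 2, 0, 2,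 1, 2, 1, 2, 0, 0, 2, 0, 0, 2, 1, 2, 0, 2]]⟩, ⟨3, [3481, 1660, 1585], 2, 0, [[], []]⟩, ⟨2, [3236, 99, 71, 79, 71, 443, 282, 1447], 1, 1, [[], [1, 2, 0, 2, 0, 2, 0, 0, 2, 0, 0, 2, 0, 2, 0, 2, 1, 2, 0, 0], [0, 2, 0, 0, 2, 0, 2, 0, 2, 0, 0, 2, 0, 2, 0, 2, 0, 2], [2, 1, 2, 0, 2, 1, 2, 0, 0, 2, 1, 2, 1, 2, 1, 2, 0, 0, 2]]⟩, ⟨2, [3238, 3236, 71, 79, 619, 283, 971], 1, 1, [[], [0, 2, 1, 2, 0, 2, 0, 2, 0, 2, 0, 0, 2, 0, 2, 0, 0], [2, 1, 2, 0, 0, 2, 0, 2, 0, 2, 1, 2, 1, 2, 0, 2, 0, 2, 0, 0], [0, 2, 0, 0, 2, 0, 0, 2, 0, 2, 1, 2, 1, 2, 0, 0, 2, 1]]⟩, ⟨2, [3238, 3250, 3238, 3264, 3238, 3250, 3236, 81, 71, 79, 317], 1, 2, [[], [0, 2, 0, 2, 0, 0, 2, 0, 0, 2, 1, 2, 0,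 0, 2, 0, 0, 2, 0, 2, 1], [2, 1, 2, 0, 2, 1, 2, 0, 0, 2, 0, 2, 0, 0, 2, 0, 2, 0, 0, 2], [1, 2, 0, 2, 0, 2, 1, 2, 0, 2, 1, 2, 0, 2, 1, 2, 1, 2, 1, 2, 1, 2]]⟩, ⟨2, [3238, 3250, 3238, 3236, 99, 71, 81, 79, 1625, 1654, 1925], 1, 1, [[], [0, 2, 1, 2, 0, 2, 0, 2, 1, 2, 0, 2, 0, 0, 2, 0, 2, 1, 2, 0, 0], [2, 1, 2, 0, 0, 2, 0, 2, 0, 2, 0, 2, 0, 2, 0, 2, 0, 2, 0, 2, 0, 0, 2, 0], [0, 2, 0, 2, 1, 2, 1, 2, 1, 2, 1, 2, 0, 0, 2, 0, 2, 1]]⟩, ⟨3, [3491, 282], 2, 0, [[], []]⟩, ⟨2, [3236, 93, 81, 73], 1, 1, [[], [0, 2, 0, 2, 1, 2, 0, 0, 2, 0, 2, 1, 2, 0, 2, 0, 0, 2, 1, 2], [2, 0, 0, 2, 0, 2, 0, 2, 1, 2, 0, 0, 2, 1], [1, 2, 0, 0, 2, 0, 2, 1, 2, 1, 2, 0, 2, 1, 2, 0, 2, 0, 0,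 2, 0, 2]]⟩, ⟨3, [3495, 81, 71, 81], 2, 0, [[], []]⟩, ⟨2, [3236, 71, 79, 71, 565, 282, 921], 1, 1, [[], [0, 0, 2, 0, 0, 2, 0, 2, 1, 2, 1, 2, 0, 2, 0, 0, 2, 0, 0], [0, 0, 2, 0, 2, 1, 2, 0, 0, 2, 0, 0, 2, 0, 0, 2, 1, 2, 0, 0, 2], [1, 2, 0, 0, 2, 1, 2, 1, 2, 0, 2, 0, 0, 2, 1, 2, 1, 2, 0, 2, 0]]⟩, ⟨3, [3499, 282], 2, 0, [[], []]⟩, ⟨2, [3238, 3236, 81, 71, 99, 2143, 1595, 1585, 1997], 1, 1, [[], [0, 2, 1, 2, 0, 0, 2, 1, 2, 0, 0, 2, 1, 2, 0, 2, 0, 0, 2, 0, 2, 0], [2, 0, 2, 0, 0, 2, 1, 2, 0, 2, 0, 2, 1, 2, 0, 0, 2, 1, 2, 0, 0, 2, 0], [1, 2, 0, 2, 0, 2, 1, 2, 0, 2, 1, 2, 0, 2, 1, 2, 1, 2, 1, 2]]⟩, ⟨3, [3503, 282], 2, 0, [[], []]⟩, ⟨2, [3238, 3236, 81, 71, 79, 71,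 181, 157, 152, 164, 1413], 1, 1, [[], [1, 2, 0, 0, 2, 0, 2, 1, 2, 0, 2, 1, 2, 0, 2, 1, 2, 0, 2, 0], [2, 0, 0, 2, 0, 0, 2, 1, 2, 0, 2, 0, 0, 2, 0, 2], [0, 2, 1, 2, 0, 0, 2, 1, 2, 0, 2, 0, 2, 1, 2, 0, 0, 2, 1]]⟩, ⟨3, [3507, 282], 2, 0, [[], []]⟩, ⟨2, [3250, 3236, 99, 441, 2223], 1, 1, [[], [0, 0, 2, 0, 0, 2, 0, 2, 1, 2, 1, 2, 0, 2, 0, 0, 2, 0, 2], [0, 0, 2, 1, 2, 0, 2, 1, 2, 0, 0, 2, 0, 2, 0, 2, 1, 2, 0, 2, 0, 0], [1, 2, 0, 2, 0, 2, 0, 2, 0, 2, 0, 0, 2, 0]]⟩, ⟨3, [3511, 2211, 2211, 2181], 2, 0, [[], []]⟩, ⟨2, [3238, 3236, 81, 79, 71, 81, 645, 923], 1, 1, [[], [0, 2, 0, 0, 2, 0, 0, 2, 0, 2, 1, 2, 0, 2, 0, 2, 0, 0, 2, 0, 0], [0, 2, 1, 2, 1, 2, 1, 2, 1, 2, 0,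 0, 2, 1, 2], [2, 0, 0, 2, 0, 2, 0, 0, 2, 0, 2, 1, 2, 0, 2, 0, 2, 1, 2]]⟩, ⟨3, [3515, 282], 2, 0, [[], []]⟩, ⟨2, [3238, 3250, 3238, 3236, 81, 103, 99, 81, 3237], 1, 1, [[], [2, 1, 2, 1, 2, 0, 0, 2, 1, 2, 0, 2, 1, 2, 0, 2, 0, 2, 0, 0], [0, 0, 2, 1, 2, 1, 2, 1, 2, 1, 2, 1, 2, 1, 2, 1, 2, 0, 0, 2, 0, 2], [0, 2, 1, 2, 1, 2, 1, 2, 1, 2, 1, 2, 0]]⟩, ⟨2, [3236, 81, 71, 79, 902, 339], 1, 1, [[], [0, 0, 2, 0, 0, 2, 0, 2, 0, 2, 0, 2, 0, 0, 2, 1, 2, 0, 0], [0, 0, 2, 0, 0, 2, 1, 2, 1, 2, 1, 2, 0, 0, 2, 0, 2, 0, 2, 0, 0, 2, 0, 0], [0, 0, 2, 1, 2, 0, 0, 2, 0, 2, 1, 2, 1, 2, 0, 0, 2, 0, 0, 2]]⟩, ⟨3, [3521, 282], 2, 0, [[], []]⟩, ⟨2, [3250, 3236, 81, 79, 71, 81, 571, 282,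 3259], 1, 1, [[], [1, 2, 0, 2, 1, 2, 0, 2, 1, 2, 1, 2, 0, 0, 2, 0, 0, 2, 0, 2], [2, 0, 2, 1, 2, 0, 2, 0, 0, 2, 0, 0, 2, 1, 2, 1, 2, 0, 2, 0], [1, 2, 1, 2, 0, 2, 0, 2, 0, 2, 0, 0, 2, 0, 2, 0, 2, 1, 2, 1, 2]]⟩, ⟨2, [3250, 3236, 79, 71, 99, 71, 877, 283, 1235], 1, 1, [[], [1, 2, 1, 2, 0, 0, 2, 1, 2, 0, 2, 0, 2, 1, 2, 0, 2, 0, 2, 0], [0, 0, 2, 0, 0, 2, 0, 2, 0, 2, 0, 2, 0, 0, 2, 1, 2, 0, 0, 2, 0, 0], [2, 1, 2, 1, 2, 1, 2, 0, 2, 0, 2, 1, 2]]⟩, ⟨3, [3527, 283], 2, 0, [[], []]⟩, ⟨2, [3236, 79, 2713, 2754, 3045], 1, 1, [[], [1, 2, 1, 2, 0, 0, 2, 0, 2, 1, 2, 0, 2, 0, 0, 2, 1, 2, 1], [0, 2, 0, 2, 0, 2, 1, 2, 1, 2, 0, 2, 0, 0, 2, 0, 0, 2, 0], [1, 2, 0, 2, 1, 2, 0,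 0, 2, 0, 2, 0, 2, 0, 0, 2, 1, 2]]⟩, ⟨3, [3531, 282], 2, 0, [[], []]⟩, ⟨2, [3238, 3250, 3236, 79, 71, 81, 645, 282, 295], 1, 1, [[], [1, 2, 0, 0, 2, 0, 2, 0, 2, 0, 0, 2, 1, 2, 1, 2, 1, 2, 0, 2, 1], [0, 2, 1, 2, 0, 0, 2, 0, 0, 2, 0, 0], [2, 1, 2, 1, 2, 0, 2, 0, 2, 1, 2, 0, 0, 2, 0, 2, 1, 2, 0, 2, 0]]⟩, ⟨3, [3535, 157, 152, 165, 153], 2, 0, [[], []]⟩, ⟨2, [3238, 3250, 3236, 71, 2599, 2417, 2397, 2603], 1, 1, [[], [2, 0, 2, 1, 2, 0, 2, 0, 2, 0, 2, 0, 2, 0, 0, 2, 0, 2, 0, 0], [2, 1, 2, 0, 0, 2, 0, 0, 2, 0, 0, 2, 1, 2, 1, 2, 0, 2, 1, 2, 0, 0], [1, 2, 1, 2, 0, 2, 0, 2, 0, 2, 0, 2, 0, 2, 0, 2, 1, 2, 0, 0]]⟩] 1704 1770 = true := by decide +kernel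

end Cfsg.Agent.J4C.C
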