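import Cfsg.Agent.J4C.C.DceD0

set_option autoImplicit false
set_option Elab.async false
set_option maxRecDepth 100000
set_option linter.all false

namespace Cfsg.Agent.J4C.C
open Cfsg.Agent.CGT

theorem dd_c25 : dd.checks [⟨2, [3236, 71, 347, 283, 1111], 1, 1, [[], [2, 1, 2, 0, 0, 2, 1, 2, 0, 2, 1, 2, 0, 0, 2, 1, 2, 0, 2, 0, 2, 0, 0], [1, 2, 0, 2, 0, 0, 2, 0, 2, 1, 2, 0, 2, 0, 2, 0, 0, 2, 0, 0, 2, 0, 0], [1, 2, 0, 2, 0, 2, 1, 2, 0, 2, 0, 0, 2, 0, 2]]⟩, ⟨2, [3238, 3250, 3236, 81, 71, 99, 71, 877, 282, 755], 1, 1, [[], [2, 1, 2, 0, 2, 1, 2, 0, 0, 2, 0, 0, 2, 1, 2, 1, 2, 0, 0, 2, 1], [2, 0, 0, 2, 0, 0, 2, 1, 2, 1, 2, 0, 0, 2, 0, 0, 2], [0, 0, 2, 0, 2, 0, 2,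 0, 0, 2, 1, 2, 0, 2, 0, 2, 0, 0, 2, 0, 2, 0]]⟩, ⟨3, [3543, 282], 2, 0, [[], []]⟩, ⟨2, [3238, 3236, 79, 99, 79, 71, 645, 2975], 1, 1, [[], [2, 0, 0, 2, 1, 2, 1, 2, 0, 2, 0, 0, 2, 0, 2, 1, 2], [2, 0, 2, 0, 2, 1, 2, 1, 2, 0, 2, 0, 2, 1, 2, 1, 2, 1, 2, 1], [0, 0, 2, 1, 2, 0, 0, 2, 1, 2, 0, 0, 2, 0, 2, 1, 2, 0, 2]]⟩, ⟨3, [3547, 2754, 2705, 2755], 2, 0, [[], []]⟩, ⟨2, [3236, 81, 79, 2313, 2424, 2416, 2315, 2513], 1, 1, [[], [0, 2, 0, 0, 2, 1, 2, 1, 2, 0, 2, 1, 2, 0, 0, 2, 0, 2, 0], [2, 0, 0, 2, 0, 2, 1, 2, 0, 2, 0, 2, 0, 0, 2, 1, 2, 0, 0, 2, 1, 2, 0], [1, 2, 1, 2, 0, 2, 1, 2, 0, 2, 1, 2, 1, 2, 0, 0, 2, 0, 0, 2, 0, 0]]⟩, ⟨3, [3551, 283], 2, 0, [[], []]⟩, ⟨2, [3238,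 3250, 3236, 71, 79, 192, 208, 195, 191, 587], 1, 1, [[], [2, 1, 2, 1, 2, 0, 2, 1, 2, 1, 2, 0, 0], [0, 0, 2, 0, 0, 2, 1, 2, 0, 2, 0, 2, 1, 2, 0, 0, 2, 1, 2], [0, 2, 1, 2, 0, 2, 1, 2, 1, 2, 0, 2, 0, 0, 2, 0, 0, 2]]⟩, ⟨2, [3250, 3236, 99, 81, 2151, 1661, 1655, 2099], 1, 1, [[], [0, 2, 0, 2, 1, 2, 1, 2, 0, 0, 2, 0, 2, 1, 2], [2, 1, 2, 0, 0, 2, 1, 2, 0, 2, 0, 0, 2, 0, 2, 0, 0, 2, 0, 0, 2, 0], [1, 2, 1, 2, 1, 2, 1, 2, 0, 2, 1, 2, 0, 0, 2, 0, 2, 0, 0, 2, 1]]⟩, ⟨3, [3557, 283], 2, 0, [[], []]⟩, ⟨2, [3250, 3238, 3236, 81, 71, 79, 929, 282, 2937], 1, 1, [[], [0, 2, 1, 2, 0, 0, 2, 1, 2, 0, 0, 2, 0, 2, 1, 2, 1], [2, 1, 2, 1, 2, 1, 2, 0, 0, 2, 0, 0, 2, 0, 2, 1, 2, 0,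 0], [0, 2, 1, 2, 0, 2, 1]]⟩, ⟨2, [3238, 3236, 81, 71, 79, 619, 283, 2895], 1, 1, [[], [0, 0, 2, 0, 0, 2, 1, 2, 1, 2, 0, 2, 0, 0, 2, 0, 0, 2], [0, 0, 2, 0, 2, 0, 2, 0, 2, 0, 2, 0, 2, 0, 2, 0], [0, 2, 0, 2, 0, 2, 1, 2, 1, 2, 0, 2, 0, 0, 2, 0, 0, 2, 0]]⟩, ⟨2, [3238, 3250, 3264, 3250, 3238, 3236, 71, 79, 71, 347], 1, 2, [[], [1, 2, 1, 2, 1, 2, 1, 2, 1, 2, 1, 2, 0, 2, 0, 2, 1, 2, 0, 2, 1, 2, 0], [1, 2, 0, 2, 1, 2, 0, 0, 2, 0, 0, 2, 0, 0, 2, 0, 0, 2, 0, 0], [0, 2, 0, 0, 2]]⟩, ⟨3, [3565, 283], 2, 0, [[], []]⟩, ⟨2, [3238, 3250, 3238, 3236, 81, 99, 391, 1731], 1, 1, [[], [0, 2, 0, 2, 0, 2, 1, 2, 0, 2, 0, 0, 2, 1, 2, 1, 2, 1, 2], [0, 0, 2, 0, 2, 0, 0, 2, 0, 2, 0,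 0, 2, 0, 2, 0, 0, 2, 0], [0, 2, 0, 2, 0, 2, 1, 2, 1, 2, 1, 2, 1, 2, 1, 2, 1, 2, 0, 2, 0]]⟩, ⟨3, [3569, 1661, 1655, 1585], 2, 0, [[], []]⟩, ⟨2, [3250, 3238, 3236, 71, 99, 71, 619, 283, 3341], 1, 1, [[], [0, 0, 2, 1, 2, 0, 0, 2, 0, 2, 1, 2, 0, 2, 0, 0, 2, 0, 2, 1, 2, 0], [2, 0, 2, 0, 0, 2, 1, 2, 0, 2, 0, 2, 1, 2, 0, 2, 0], [2, 0, 0, 2, 1, 2, 0, 2, 0, 2, 0, 0, 2, 0, 0, 2, 0, 2, 0]]⟩, ⟨2, [3238, 3250, 3238, 3236, 81, 71, 2103, 1654, 1585, 1729], 1, 1, [[], [1, 2, 0, 2, 0, 2, 1, 2, 0, 0, 2, 1, 2, 0, 0, 2, 1, 2, 0, 2, 0, 2, 0], [1, 2, 0, 2, 0, 0, 2, 0, 0, 2, 0, 0, 2, 0, 2, 0, 0, 2, 1, 2, 1], [0, 0, 2, 1, 2, 0, 2, 1, 2, 1, 2, 0, 2, 1, 2, 0, 0]]⟩, ⟨3, [3575, 283],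 2, 0, [[], []]⟩, ⟨2, [3236, 81, 205, 220, 194, 191, 481], 1, 1, [[], [2, 1, 2, 0, 2, 1, 2, 0, 2, 0, 0, 2, 0, 2, 0, 2, 0, 0, 2, 1], [0, 2, 0, 2, 0, 0, 2, 0, 2, 0, 2, 0, 2, 1, 2, 0, 0, 2, 0, 0, 2], [0, 0, 2, 1, 2, 1, 2, 0, 2, 0, 2, 0, 0, 2, 0, 0, 2, 0, 0]]⟩, ⟨2, [3236, 79, 99, 79, 71, 637, 283, 3255], 1, 1, [[], [0, 0, 2, 0, 0, 2, 0, 2, 1, 2, 0, 0, 2, 1, 2, 1, 2, 0, 0], [0, 0, 2, 0, 2, 1, 2, 1, 2, 0, 0, 2, 1], [2, 0, 2, 0, 2, 0, 2, 0, 2, 0, 2, 0, 2, 0, 2, 0, 2, 1, 2]]⟩, ⟨2, [3236, 79, 71, 81, 79, 1935, 1661, 1585, 2945], 1, 1, [[], [2, 0, 0, 2, 0, 2, 1, 2, 0, 2, 0, 2, 0, 0, 2, 1, 2, 0, 2, 1], [2, 0, 2, 1, 2, 0, 0, 2, 1, 2, 1, 2, 0, 0, 2, 1], [0, 2, 1, 2,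 0, 2, 0, 2, 0, 0, 2, 0, 2, 0, 2, 1, 2]]⟩, ⟨3, [3583, 2705, 2754, 2705], 2, 0, [[], []]⟩, ⟨2, [3250, 3238, 3236, 71, 99, 71, 457, 283, 311], 1, 1, [[], [1, 2, 1, 2, 1, 2, 0, 0, 2, 0, 0, 2, 0, 2, 1, 2, 0], [0, 2, 0, 2, 1, 2, 0, 2, 0, 0, 2, 0, 2, 1, 2, 1, 2, 0, 0, 2, 0], [2, 1, 2, 0, 2, 1, 2, 0, 0, 2, 0, 2, 0, 2, 0, 2, 0, 2, 0, 0]]⟩, ⟨3, [3587, 282], 2, 0, [[], []]⟩, ⟨2, [3250, 3238, 3236, 79, 71, 1037, 283, 409], 1, 1, [[], [2, 0, 2, 0, 0, 2, 0, 2, 0, 2, 1, 2, 0, 0, 2, 1, 2, 0, 0, 2, 0, 0], [0, 2, 1, 2, 0, 2, 1, 2, 1, 2, 0], [2, 1, 2, 1, 2, 0, 0, 2, 0, 0, 2, 0, 2, 0, 2, 1]]⟩, ⟨3, [3591, 283], 2, 0, [[], []]⟩, ⟨2, [3238, 3250, 3238, 3236, 71, 81, 79, 71, 457,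 282, 617], 1, 1, [[], [2, 1, 2, 0, 2, 0, 2, 0, 2, 0, 2, 0, 2, 0, 2, 1, 2, 0, 2, 0, 0], [0, 2, 0, 2, 1, 2, 0, 2, 1, 2, 0, 2, 0, 2, 0, 0, 2, 0], [2, 0, 2, 0, 2, 0, 0, 2, 0, 0, 2, 0, 2, 1, 2, 1, 2, 0, 2, 1, 2, 1]]⟩, ⟨3, [3595, 282], 2, 0, [[], []]⟩, ⟨2, [3250, 3236, 99, 79, 83, 81, 71, 81, 79, 1625], 1, 1, [[], [2, 1, 2, 0, 2, 0, 0, 2, 0, 2, 0, 0, 2, 0, 2, 1, 2, 1, 2, 0, 0, 2, 1], [1, 2, 1, 2, 0, 2, 0, 2, 1, 2, 0, 0, 2, 0, 0, 2, 1, 2, 0, 0, 2, 1], [0, 2, 1, 2, 0, 2, 0, 0, 2, 1, 2, 1, 2, 0, 2, 1, 2]]⟩, ⟨2, [3238, 3250, 3236, 71, 79, 309, 1145], 1, 1, [[], [2, 0, 2, 0, 2, 0, 2, 1, 2, 0, 0, 2, 0, 0, 2, 0, 2, 0, 2, 0], [2, 0, 0, 2, 1, 2, 0, 2, 1, 2, 0, 0, 2, 0,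 2, 1, 2, 0, 2], [1, 2, 0, 0, 2, 0, 0, 2, 0, 0, 2, 0, 0, 2, 1, 2, 0, 0]]⟩, ⟨3, [3601, 283], 2, 0, [[], []]⟩, ⟨2, [3236, 99, 115, 71, 79, 71, 3237], 1, 1, [[], [2, 0, 2, 0, 2, 1, 2, 0, 2, 0, 2, 0, 0, 2, 1, 2, 0, 2, 1, 2, 1], [1, 2, 0, 0, 2, 1, 2, 0, 0, 2, 0, 2, 0, 0, 2, 0, 0], [2, 0, 2, 1, 2, 1, 2, 0, 2, 1, 2, 0, 0, 2, 0, 2, 0, 0, 2]]⟩, ⟨2, [3236, 99, 71, 149, 81, 99, 859], 1, 1, [[], [2, 0, 0, 2, 1, 2, 1, 2, 0, 0, 2, 1, 2, 0, 2, 1, 2, 0, 2, 0, 2, 1], [0, 0, 2, 0, 2, 0, 0, 2, 1, 2, 0, 0, 2, 1, 2], [1, 2, 0, 0, 2, 0, 2, 0, 0, 2, 0, 0, 2, 0, 2, 0, 2, 0, 0, 2]]⟩, ⟨2, [3250, 3238, 3236, 99, 71, 565, 1719], 1, 1, [[], [0, 2, 1, 2, 0, 2, 0, 2, 0, 0, 2, 0, 2, 1,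 2, 1], [2, 0, 2, 1, 2, 0, 2, 1, 2, 1, 2, 1, 2, 1, 2, 0, 2, 0, 0, 2], [0, 2, 0, 2, 1, 2, 1, 2, 0, 0, 2, 0, 2, 1, 2, 1, 2, 1, 2, 0]]⟩, ⟨2, [3238, 3250, 3236, 79, 71, 99, 859, 305], 1, 1, [[], [1, 2, 0, 0, 2, 0, 2, 1, 2, 1, 2, 0, 0, 2, 1, 2, 0, 2, 0, 2, 0], [1, 2, 0, 2, 0, 0, 2, 0, 2, 0, 0, 2, 1, 2, 1, 2, 0, 0, 2, 0], [2, 1, 2, 1, 2, 0, 0, 2, 0, 2, 0, 0, 2, 0, 2, 1, 2, 0, 0]]⟩, ⟨3, [3611, 209, 209, 189], 2, 0, [[], []]⟩, ⟨2, [3238, 3236, 71, 81, 71, 79, 679, 282, 3342], 1, 1, [[], [0, 0, 2, 1, 2, 1, 2, 0, 2, 1, 2, 0, 2, 0, 2, 0, 2, 0], [0, 0, 2, 1, 2, 1, 2, 0, 0, 2, 0, 2, 1, 2, 1, 2, 0, 2, 1, 2, 1], [2, 1, 2, 0, 0, 2, 0, 2, 1, 2, 0, 2, 0, 0, 2, 0, 2, 1, 2,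 1, 2, 0]]⟩, ⟨2, [3236, 81, 71, 79, 2103, 1660, 1585, 1729], 1, 1, [[], [2, 0, 2, 0, 2, 0, 0, 2, 1, 2, 1, 2, 1, 2, 0, 2, 0, 2, 0, 0, 2, 1], [2, 1, 2, 0, 2, 1, 2, 0, 2, 0, 2, 0, 2, 0, 2, 0, 0, 2, 0, 2, 0, 0], [0, 2, 0, 2, 1, 2, 0, 2, 1, 2, 1, 2, 0, 0, 2, 1, 2, 0, 0, 2, 0]]⟩, ⟨3, [3617, 283], 2, 0, [[], []]⟩, ⟨2, [3238, 3250, 3238, 3504, 3554, 3250, 3236], 1, 0, [[], [2, 1, 2, 1, 2, 1, 2, 1, 2, 1, 2, 1, 2, 1, 2, 0, 0, 2, 0, 2, 1, 2, 0, 0], [1, 2, 1, 2, 0, 2, 0, 0, 2, 0, 2, 1, 2, 1, 2, 1, 2, 0, 0, 2, 0, 0], [0, 2, 1, 2, 0, 2, 1, 2, 1, 2, 0, 0, 2, 0, 2, 1, 2, 0, 2, 1, 2]]⟩, ⟨2, [3238, 3250, 3238, 3236, 1891, 1660, 1655, 1755], 1, 2, [[], [1, 2, 0, 2, 0, 2, 0,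 0, 2, 1, 2, 1, 2, 1, 2, 0, 2, 0, 2, 0, 0], [0, 0, 2, 1, 2, 0, 2, 0, 2, 0, 0, 2, 0, 2, 0, 2, 0, 0, 2, 0, 0, 2, 0, 0], [1, 2, 0, 0, 2, 1, 2, 0, 2, 0, 2, 0, 0, 2, 1, 2, 1, 2, 0, 0, 2, 1]]⟩, ⟨3, [3623, 283], 2, 0, [[], []]⟩, ⟨2, [3238, 3236, 859, 1024], 1, 2, [[], [0, 2, 0, 0, 2, 1, 2, 0, 0, 2, 1, 2, 0, 2, 0, 0, 2, 1], [0, 2, 1, 2, 1, 2, 1, 2, 0, 0, 2, 0, 2, 0, 0, 2, 0, 2, 0], [1, 2, 0, 2, 1, 2, 0, 2, 0, 0, 2, 0, 2, 0, 2, 0, 0, 2]]⟩, ⟨3, [3627, 282], 2, 0, [[], []]⟩, ⟨2, [3238, 3236, 99, 71, 79, 2713, 2755, 2705, 3013], 1, 2, [[], [2, 0, 2, 0, 2, 0, 0, 2, 0, 0, 2, 0, 0, 2, 0], [0, 2, 1, 2, 0, 0, 2, 1, 2, 0, 0, 2, 1, 2, 1, 2, 1, 2], [1, 2, 0, 0, 2, 1, 2, 0,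 2]]⟩, ⟨3, [3631, 2181, 2211], 2, 0, [[], []]⟩, ⟨2, [3250, 3238, 3236, 79, 71, 1425, 282, 1489], 1, 2, [[], [2, 0, 0, 2, 0, 0, 2, 1, 2, 1, 2, 0, 2, 0, 2, 1, 2, 0, 2, 0], [1, 2, 0, 0, 2, 0, 0, 2, 0, 2, 0, 2, 0, 2, 0, 2, 1, 2, 0], [1, 2, 1, 2, 1, 2, 0, 2, 0, 0, 2, 1, 2, 1, 2, 0, 2, 1, 2, 1]]⟩, ⟨2, [3238, 3250, 3236, 99, 71, 79, 71, 823, 283, 975], 1, 2, [[], [0, 2, 0, 2, 1, 2, 1, 2, 0, 2, 0, 2, 1, 2, 0, 0, 2, 0, 2, 0, 0, 2, 1], [0, 0, 2, 0, 0, 2, 0, 2, 0, 2, 0, 0, 2, 0, 2, 1, 2, 0, 2, 0], [2, 1, 2, 0, 0, 2, 1, 2, 0, 0, 2, 0, 2, 1, 2, 1, 2, 0, 0]]⟩, ⟨2, [3238, 3250, 3236, 99, 79, 749, 283, 453], 1, 2, [[], [1, 2, 0, 2, 1, 2, 1, 2, 1, 2, 1, 2, 0, 0, 2, 0, 2,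 1, 2, 0, 2], [2, 1, 2, 1, 2, 0, 0, 2, 1, 2, 0, 0, 2, 0, 2, 0, 0, 2, 0, 2, 0, 0], [0, 2, 1, 2, 0, 2, 0, 0, 2, 0, 0, 2, 0, 0, 2, 0, 2, 1, 2, 1]]⟩, ⟨3, [3639, 282], 2, 0, [[], []]⟩, ⟨2, [3238, 3236, 81, 71, 81, 351, 283, 812], 1, 2, [[], [0, 2, 0, 2, 1, 2, 0, 0, 2, 0, 0, 2, 0, 0, 2, 0, 2], [1, 2, 1, 2, 0, 0, 2, 0, 2, 1, 2, 0, 0, 2, 0, 0, 2], [0, 2, 0, 0, 2, 0, 2, 1, 2, 0, 2, 0, 0, 2, 1, 2]]⟩, ⟨3, [3643, 282], 2, 0, [[], []]⟩, ⟨2, [3250, 3238, 3236, 81, 99, 79, 192, 209, 220, 189, 965], 1, 2, [[], [2, 0, 0, 2, 0, 0, 2, 0, 0, 2, 0, 0, 2, 1, 2, 0, 2, 0, 2, 0], [0, 2, 0, 2, 0, 2, 0, 0, 2, 0, 0, 2, 0, 2, 1, 2, 0, 0], [1, 2, 1, 2, 0, 0, 2, 0, 2, 0, 0, 2, 1, 2, 0,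 0]]⟩, ⟨3, [3647, 282], 2, 0, [[], []]⟩, ⟨2, [3238, 3250, 3236, 71, 79, 99, 1959, 1660, 1655, 1995], 1, 2, [[], [1, 2, 0, 2, 0, 0, 2, 0, 2, 0, 2, 1, 2, 0, 2, 0, 0, 2, 0, 2, 1, 2], [0, 2, 0, 2, 1, 2, 1, 2, 0, 2, 0, 2, 1, 2, 1, 2, 0, 0, 2, 1], [2, 1, 2, 0, 2, 0, 0, 2, 0, 0, 2, 0, 2, 1, 2, 1, 2, 0, 0, 2, 0, 2, 0]]⟩, ⟨3, [3651, 282], 2, 0, [[], []]⟩, ⟨2, [3236, 81, 71, 79, 2179, 2181, 2218, 2225], 1, 2, [[], [2, 1, 2, 1, 2, 1, 2, 0, 0, 2, 0, 0, 2, 0, 2, 0, 0, 2, 1, 2, 0], [0, 0, 2, 1, 2, 0, 0, 2, 0, 2, 1, 2, 1, 2, 1, 2, 0, 0, 2, 0, 2, 1], [2, 1, 2, 0, 0, 2, 0, 0, 2, 0, 2, 1, 2, 0, 0, 2]]⟩, ⟨3, [3655, 282], 2, 0, [[], []]⟩, ⟨2, [3238, 3250, 3238, 3236, 71, 79,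 71, 317, 283, 2279], 1, 2, [[], [2, 0, 2, 0, 2, 1, 2, 0, 0, 2, 1, 2, 0, 0, 2, 0, 2, 1, 2, 1], [2, 0, 2, 0, 0, 2, 0, 2, 0, 2, 0, 0, 2, 1, 2, 0, 2, 1], [1, 2, 0, 2, 0, 2, 0, 0, 2, 1, 2, 1, 2, 1, 2, 0, 2, 0]]⟩, ⟨3, [3659, 2181, 2218, 2181], 2, 0, [[], []]⟩, ⟨2, [3238, 3236, 99, 81, 71, 619, 282, 305], 1, 2, [[], [1, 2, 0, 2, 0, 0, 2, 1, 2, 0, 2, 0, 2, 1, 2, 1, 2], [0, 2, 1, 2, 0, 0, 2, 1, 2, 1, 2, 1, 2, 0, 2, 0, 2], [0, 0, 2, 0, 2, 0, 0, 2, 0, 0, 2, 1, 2, 0, 0, 2, 1, 2, 1, 2]]⟩, ⟨3, [3663, 220, 208, 189], 2, 0, [[], []]⟩, ⟨2, [3250, 3238, 3572, 3250, 3236, 619], 1, 3, [[], [2, 0, 0, 2, 0, 0, 2, 1, 2, 0, 0, 2, 0, 0, 2, 0, 0, 2, 0, 2], [2, 0, 2, 0, 2, 1, 2,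 1, 2, 0, 2, 0, 2, 0, 0, 2, 1, 2, 0, 2, 1], [0, 2, 0, 2, 0, 0, 2, 0, 2, 1, 2, 0, 2, 0, 2, 0, 0, 2, 1, 2]]⟩] 1770 1834 = true := by decide +kernel
theorem dd_c26 : dd.checks [⟨3, [3667, 283], 2, 0, [[], []]⟩, ⟨2, [3238, 3236, 99, 79, 71, 1959, 1660, 1897], 1, 2, [[], [1, 2, 1, 2, 1, 2, 0, 0, 2, 0, 2, 1, 2, 1, 2, 1, 2, 0], [2, 0, 0, 2, 0, 2, 1, 2, 0, 2, 0, 0, 2, 0, 0, 2, 0, 2, 0, 0], [0, 2, 1, 2, 0, 2, 0, 2, 0, 0, 2, 0, 2, 0, 0, 2, 0, 2, 0, 2, 1]]⟩, ⟨3, [3671, 99, 71, 81, 79, 71], 2, 0, [[], []]⟩, ⟨2, [3250, 3236, 99, 71, 81, 79, 575, 282, 3019], 1, 2, [[], [2, 1, 2, 0, 2, 1, 2, 0, 0, 2, 0, 2, 0, 2, 0, 2, 1, 2, 0, 0, 2, 0, 0], [2, 0, 2, 1, 2, 0, 2, 0, 2, 1,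 2, 0, 2, 1, 2, 0, 2, 0, 2, 1, 2, 0, 2, 0], [1, 2, 0, 0, 2, 0, 2, 1, 2, 0, 0, 2, 1, 2, 0, 2, 0]]⟩, ⟨3, [3675, 2705, 2754, 2705], 2, 0, [[], []]⟩, ⟨2, [3250, 3238, 3236, 81, 79, 379, 282, 1211], 1, 2, [[], [2, 0, 2, 0, 0, 2, 0, 0, 2, 0, 0, 2, 0, 0, 2, 1], [2, 0, 0, 2, 0, 0, 2, 0, 2, 0, 2, 0, 0, 2, 1, 2, 0, 2, 1, 2, 1, 2, 0, 0], [0, 0, 2, 0, 0, 2, 0, 2, 1, 2, 0, 0, 2, 0, 0, 2, 0, 0, 2, 1, 2, 1, 2, 1]]⟩, ⟨2, [3238, 3236, 81, 99, 3263, 3239, 3251, 3667], 1, 2, [[], [2, 1, 2, 1, 2, 1, 2, 0, 2, 0, 2, 1, 2, 0, 0, 2, 1, 2, 0, 0, 2, 0], [0, 0, 2, 0, 2, 1, 2, 1, 2, 0, 0, 2, 0, 2, 1, 2, 1], [2, 1, 2, 0, 0, 2, 0, 0, 2, 0, 2, 1, 2, 1, 2, 0, 2, 1, 2]]⟩, ⟨2, [3342, 3236,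 71, 81, 79, 71, 3397], 1, 3, [[], [0, 2, 0, 2, 1, 2, 0, 2, 0, 0, 2, 0, 2, 1, 2, 0, 2, 0, 0, 2, 0], [2, 0, 2, 0, 2, 0, 0, 2, 0, 2, 0, 0, 2, 0, 2, 1, 2, 1, 2, 1, 2, 0], [2, 0, 2, 0, 0, 2, 1, 2, 1, 2, 0, 2, 0, 0, 2, 0, 2, 0, 2, 1]]⟩, ⟨3, [3683, 3239, 3251, 3239], 2, 0, [[], []]⟩, ⟨2, [3590, 3250, 3238, 3236, 71, 81, 71, 79, 3673], 1, 3, [[], [0, 0, 2, 0, 0, 2, 0, 2, 1, 2, 0, 2, 0, 2, 0, 0, 2, 1, 2, 1, 2, 0], [2, 0, 0, 2, 0, 2, 1, 2, 1, 2, 0, 2, 0, 0, 2, 0, 2, 0], [2, 0, 2, 0, 2, 0, 2, 1, 2, 0, 2, 1, 2, 1, 2]]⟩, ⟨3, [3687, 3239, 3251, 3239], 2, 0, [[], []]⟩, ⟨2, [3238, 3250, 3236, 79, 71, 99, 1935, 1660, 1655, 1585, 1697], 1, 2, [[], [0, 0, 2, 0, 2, 0, 2, 0,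 2, 0, 2, 0, 2, 1, 2, 1, 2, 0], [1, 2, 1, 2, 0, 2, 0, 0, 2, 0, 2, 1, 2, 0, 2], [1, 2, 0, 2, 1, 2, 1, 2, 1, 2, 0, 0, 2, 0, 2, 0, 2, 0, 0]]⟩, ⟨2, [3238, 3236, 99, 81, 71, 3397, 3239, 3251, 3393], 1, 2, [[], [2, 0, 2, 0, 0, 2, 1, 2, 0, 2, 0, 2, 1, 2], [0, 0, 2, 0, 2, 0, 0, 2, 0, 2, 0, 2, 0, 2, 0, 0, 2, 0, 0], [2, 0, 2, 0, 2, 1, 2, 0, 0, 2, 0, 2, 0, 0, 2, 1, 2, 1, 2, 1, 2, 1]]⟩, ⟨2, [3250, 3236, 99, 71, 79, 443, 3431], 1, 2, [[], [1, 2, 0, 2, 1, 2, 0, 2, 0, 0, 2, 0, 2, 1, 2, 0, 0, 2, 0, 2, 0, 0], [2, 0, 0, 2, 0, 2, 1, 2, 0, 2, 1, 2, 0, 2, 1, 2, 0, 2, 0, 0, 2], [2, 0, 2, 0, 0, 2, 1, 2, 0, 2, 1, 2, 1, 2, 0, 0, 2, 0]]⟩, ⟨2, [3250, 3238, 3236, 79, 103, 99, 81, 99,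 3397], 1, 2, [[], [1, 2, 0, 2, 1, 2, 1, 2, 0, 2, 0, 2, 1, 2, 0, 0, 2, 0, 0, 2, 1, 2, 0], [1, 2, 0, 0, 2, 0, 0, 2, 0, 0, 2, 1, 2, 1, 2, 1], [1, 2, 1, 2, 1, 2, 1, 2, 0, 0, 2, 1, 2, 0, 2, 1, 2, 0, 0, 2, 0, 0]]⟩, ⟨2, [3250, 3236, 99, 71, 79, 1625, 1661, 2005], 1, 2, [[], [0, 2, 0, 2, 0, 0, 2, 0, 2, 1, 2, 0, 0, 2, 0], [2, 0, 0, 2, 1, 2, 1, 2, 0, 2, 0, 2, 1, 2, 1, 2, 0, 2, 0, 0], [1, 2, 0, 2, 0, 0, 2, 0, 2, 0, 0, 2, 1, 2]]⟩, ⟨2, [3238, 3236, 81, 71, 257, 233, 244, 1871], 1, 2, [[], [1, 2, 0, 2, 0, 2, 0, 0, 2, 0, 0, 2, 0, 0, 2, 0, 0, 2, 0, 2], [2, 1, 2, 0, 2, 0, 2, 0, 2, 0, 2, 1, 2, 0, 0, 2, 0, 0, 2, 0, 0], [0, 2, 0, 0, 2, 0, 2, 0, 0, 2, 0, 2, 0, 2, 0, 0, 2, 0,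 2, 0, 0]]⟩, ⟨3, [3701, 1595], 2, 0, [[], []]⟩, ⟨2, [3250, 3236, 79, 99, 565, 582], 1, 2, [[], [0, 2, 0, 0, 2, 0, 2, 0, 0, 2, 0, 2, 0, 0, 2, 0, 2, 0, 0, 2, 1, 2], [1, 2, 1, 2, 0, 2, 0, 2, 1, 2, 0, 2, 1, 2, 0, 2, 0, 0, 2, 1, 2, 0], [2, 0, 2, 1, 2, 1, 2, 0, 0, 2, 1, 2, 0, 0, 2, 0, 2, 0, 0, 2]]⟩, ⟨2, [3238, 3236, 99, 2703, 2705, 2755, 2705, 3023], 1, 2, [[], [0, 2, 0, 0, 2, 1, 2, 1, 2, 0, 2, 0, 0, 2, 0, 0, 2, 1], [0, 2, 0, 0, 2, 0, 0, 2, 0, 0, 2, 1, 2, 1, 2, 0, 2, 1, 2], [2, 1, 2, 0, 2, 0, 0, 2, 1, 2, 0, 0, 2, 1, 2, 0, 0, 2, 0, 2, 0, 0]]⟩, ⟨3, [3707, 283], 2, 0, [[], []]⟩, ⟨2, [3250, 3236, 99, 85, 71, 3237], 1, 2, [[], [2, 0, 2, 1, 2, 0, 2, 0, 2, 0, 0, 2, 0,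 2, 1, 2, 0, 2, 1, 2], [0, 0, 2, 0, 2, 1, 2, 1, 2, 1, 2, 0, 0, 2, 1, 2, 1, 2, 1, 2], [2, 1, 2, 1, 2, 1, 2, 0, 0, 2, 0, 2, 0, 2, 0, 0, 2, 0, 0, 2, 0]]⟩, ⟨2, [3238, 3236, 81, 71, 99, 71, 73, 79, 71, 679], 1, 2, [[], [2, 0, 0, 2, 1, 2, 0, 2, 0, 0, 2, 0, 2, 1, 2, 0, 0, 2], [1, 2, 0, 0, 2, 0, 2, 0, 0, 2, 0, 2, 0, 2, 1, 2, 1, 2, 0, 0], [0, 2, 0, 0, 2, 1, 2, 1, 2, 0, 2, 0, 2, 1, 2, 0, 0, 2, 1, 2, 0, 0]]⟩, ⟨3, [3713, 283], 2, 0, [[], []]⟩, ⟨2, [3238, 3236, 79, 71, 2355, 2417, 2315, 2947], 1, 2, [[], [0, 2, 0, 2, 1, 2, 0, 2, 0, 2, 1, 2, 1, 2, 1, 2, 0, 0], [0, 2, 0, 2, 0, 0, 2, 0, 2, 1, 2, 1, 2, 0, 2, 1, 2, 0], [1, 2, 0, 2, 0, 0, 2, 0, 2, 1, 2, 1, 2, 0, 2]]⟩, ⟨3,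 [3717, 2705], 2, 0, [[], []]⟩, ⟨2, [3238, 3236, 71, 79, 99, 1037, 283, 753], 1, 2, [[], [1, 2, 0, 0, 2, 0, 0, 2, 0, 0, 2, 1, 2, 1, 2, 0, 2, 0, 0, 2, 1, 2, 1], [0, 0, 2, 1, 2, 1, 2, 0, 2, 0], [1, 2, 0, 0, 2, 0, 2, 0, 2, 0, 0, 2, 1, 2, 0, 2, 0, 0]]⟩, ⟨3, [3721, 282], 2, 0, [[], []]⟩, ⟨2, [3238, 3236, 99, 79, 71, 2381, 2417, 2539], 1, 2, [[], [1, 2, 1, 2, 1, 2, 1, 2, 1, 2, 0, 0, 2, 0, 0, 2, 1, 2, 1, 2, 0, 0], [2, 0, 0, 2, 0, 0, 2, 0, 2, 0, 2, 0, 2, 0, 0, 2, 1], [0, 0, 2, 1, 2, 0, 0, 2, 0, 2, 1, 2, 1, 2, 1, 2, 1, 2, 1, 2]]⟩, ⟨2, [3250, 3236, 99, 71, 79, 309, 283, 1715], 1, 2, [[], [2, 0, 2, 0, 0, 2, 1, 2, 1, 2, 0, 0, 2, 0, 0, 2, 1, 2, 0, 0], [2, 0, 2, 1, 2,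 1, 2, 1, 2, 1, 2, 0, 2, 1, 2, 0, 2], [1, 2, 0, 0, 2, 1, 2, 1, 2, 1, 2, 0, 0, 2, 0, 0, 2]]⟩, ⟨3, [3727, 1661, 1655, 1585], 2, 0, [[], []]⟩, ⟨2, [3238, 3236, 99, 71, 79, 1891, 1661, 1585, 3469], 1, 2, [[], [2, 0, 2, 1, 2, 0, 2, 1, 2, 1, 2, 0, 2, 0, 0, 2, 1], [1, 2, 1, 2, 1, 2, 0, 2, 0, 2, 1, 2, 0, 2, 1, 2, 0, 2, 0, 2, 1, 2], [0, 2, 0, 0, 2, 1, 2, 1, 2, 1, 2, 0, 0, 2, 1, 2, 1, 2, 1, 2, 0, 0]]⟩, ⟨3, [3731, 3251], 2, 0, [[], []]⟩, ⟨2, [3238, 3250, 3236, 99, 79, 71, 877, 1221], 1, 2, [[], [0, 0, 2, 0, 2, 1, 2, 1, 2, 0, 0, 2, 0, 2, 1, 2, 0, 0, 2, 0, 0], [0, 0, 2, 0, 0, 2, 1, 2, 1, 2, 0, 2, 0, 2, 0, 0, 2, 0, 0, 2], [0, 2, 0, 2, 0, 0, 2, 0, 2, 0, 0, 2, 0, 2, 0,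 2, 0, 2, 0, 0, 2, 1]]⟩, ⟨2, [3238, 3250, 3236, 99, 71, 81, 2143, 1661, 1585, 1955], 1, 2, [[], [0, 2, 1, 2, 1, 2, 0, 0, 2, 1, 2, 0, 2, 0, 2, 0, 2], [2, 1, 2, 0, 0, 2, 0, 0, 2, 0, 0, 2, 0, 2, 1, 2, 1, 2, 0, 2, 0, 0], [2, 0, 0, 2, 1, 2, 0, 0, 2, 0, 0, 2, 0, 0, 2, 1]]⟩, ⟨3, [3737, 282], 2, 0, [[], []]⟩, ⟨2, [3250, 3236, 71, 81, 71, 2381, 2425, 2416, 2335], 1, 2, [[], [1, 2, 0, 2, 0, 2, 1, 2, 1, 2, 0, 2, 0, 2, 0, 0], [2, 1, 2, 0, 2, 0, 0, 2, 0, 0, 2, 0, 2, 0, 2, 1, 2, 0, 0, 2, 0, 0, 2, 0], [2, 1, 2, 0, 2, 1, 2, 0, 2, 1, 2, 1, 2, 0, 2, 1, 2]]⟩, ⟨3, [3741, 282], 2, 0, [[], []]⟩, ⟨2, [3238, 3236, 71, 81, 123, 81, 71, 81, 1621], 1, 2, [[], [1, 2, 0, 2, 1, 2, 1,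 2, 0, 2, 0, 2, 0, 2, 0, 2], [0, 2, 0, 0, 2, 0, 0, 2, 1, 2, 1, 2, 1, 2, 0, 0, 2, 1, 2, 0, 2, 1], [2, 1, 2, 0, 0, 2, 0, 0, 2, 0, 0, 2, 1, 2, 0, 0, 2, 0, 2, 0, 2, 1]]⟩, ⟨2, [3250, 3236, 2703, 2755, 2705, 2755, 2705, 2981], 1, 2, [[], [1, 2, 0, 0, 2, 0, 2, 0, 2, 0, 2, 0, 2, 0, 2, 0, 2, 0, 2, 0], [1, 2, 1, 2, 0, 0, 2, 0, 2, 0, 0, 2, 0, 2, 0, 2, 1, 2, 0], [1, 2, 0, 2, 0, 2, 0, 2, 0, 2, 1, 2, 1, 2, 1, 2, 0, 2]]⟩, ⟨2, [3238, 3236, 99, 3263, 3713], 1, 2, [[], [2, 0, 0, 2, 1, 2, 1, 2, 0, 2, 0, 2, 0, 0, 2, 0, 2, 0, 2, 1], [1, 2, 1, 2, 1, 2, 0, 2, 0, 2, 1, 2, 0, 0, 2, 1, 2, 1, 2, 1, 2, 0, 0], [1, 2, 1, 2, 1, 2, 1, 2, 0, 0, 2, 1, 2, 1, 2, 0, 0, 2, 0, 2]]⟩, ⟨3, [3749,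 283], 2, 0, [[], []]⟩, ⟨2, [3236, 99, 81, 619, 283, 1735], 1, 2, [[], [2, 0, 0, 2, 1, 2, 0, 2, 1, 2, 0, 0, 2, 0, 2, 0, 2, 1, 2, 0, 2, 0], [0, 0, 2, 0, 2, 0, 0, 2, 0, 2, 1, 2, 1, 2, 0, 0, 2, 0, 2, 0, 2, 0, 0], [0, 0, 2, 1, 2, 1, 2, 0, 2, 0, 2, 0, 0, 2, 0, 0, 2, 0]]⟩, ⟨3, [3753, 1595, 1585], 2, 0, [[], []]⟩, ⟨2, [3250, 3238, 3236, 99, 1935, 1654, 1585, 3187], 1, 2, [[], [1, 2, 0, 2, 0, 2, 0, 0, 2, 0, 2, 0, 2, 1, 2, 0, 2, 1, 2, 0, 0], [0, 2, 0, 0, 2, 0, 2, 1, 2, 0, 0, 2, 0, 0, 2, 1, 2, 1], [0, 0, 2, 1, 2, 0, 2, 0, 2, 1, 2, 0, 0, 2, 1, 2, 1, 2, 1, 2, 0, 0]]⟩, ⟨3, [3757, 2754, 2705, 2755, 2755], 2, 0, [[], []]⟩, ⟨2, [3238, 3250, 3238, 3236, 71, 79, 99, 351,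 282, 2003], 1, 2, [[], [1, 2, 0, 2, 0, 0, 2, 0, 0, 2, 0, 2, 1, 2, 0, 2, 0, 0, 2, 1, 2], [0, 2, 0, 2, 0, 0, 2, 1, 2, 0, 0, 2, 0, 0, 2, 0, 0, 2], [1, 2, 0, 2, 0, 0, 2, 1, 2, 0, 2, 0, 0]]⟩, ⟨2, [3238, 3236, 71, 99, 71, 351, 1289], 1, 2, [[], [0, 2, 0, 2, 0, 2, 0, 0, 2, 1, 2, 0, 2, 1, 2, 0, 2, 0, 2, 0, 0], [1, 2, 0, 2, 0, 0, 2, 0, 2, 0, 2, 0, 2, 1, 2, 1, 2, 0, 2, 1], [1, 2, 0, 0, 2, 0, 2, 0, 0, 2, 0, 2, 0, 2, 1, 2, 1, 2, 1, 2, 0]]⟩, ⟨3, [3763, 283], 2, 0, [[], []]⟩, ⟨2, [3238, 3250, 3656, 282, 3440, 3238, 3236], 1, 0, [[], [2, 1, 2, 0, 0, 2, 0, 0, 2, 0, 2, 0, 0, 2, 1, 2, 0, 2, 0], [2, 1, 2, 1, 2, 1, 2, 0, 2, 1, 2, 0, 0, 2, 1], [2, 0, 2, 0, 2, 0, 2, 1, 2, 0,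 0, 2, 0, 0, 2, 1, 2, 1, 2, 0, 0]]⟩, ⟨3, [3767, 71, 81, 71], 2, 0, [[], []]⟩, ⟨2, [3238, 3250, 3238, 3236, 71, 79, 99, 379, 3636], 1, 2, [[], [2, 1, 2, 0, 0, 2, 1, 2, 1, 2, 0, 0, 2, 0, 0, 2, 1, 2, 0, 2, 1], [1, 2, 1, 2, 0, 0, 2, 0, 0, 2, 0, 0, 2, 0, 2, 1, 2, 1, 2], [2, 0, 2, 1, 2, 0, 0, 2, 1, 2, 1, 2, 0, 2, 1, 2, 0]]⟩, ⟨3, [3771, 3239, 3251], 2, 0, [[], []]⟩, ⟨2, [3250, 3236, 71, 81, 71, 79, 2713, 2755, 2949], 1, 2, [[], [2, 1, 2, 0, 0, 2, 0, 0, 2, 1, 2, 0, 2, 0, 0, 2, 0, 2, 0], [0, 2, 0, 2, 1, 2, 1, 2, 0, 0, 2, 1, 2, 0, 2, 1], [0, 2, 1, 2, 1, 2, 0, 2, 0, 2, 0, 0, 2, 0, 0, 2, 0, 0, 2, 1, 2, 0]]⟩, ⟨3, [3775, 2425, 2416], 2, 0, [[], []]⟩, ⟨2, [3238, 3250,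 3236, 99, 71, 79, 71, 287, 1201], 1, 2, [[], [2, 0, 0, 2, 0, 2, 0, 0, 2, 0, 0], [2, 1, 2, 0, 2, 1, 2, 1, 2, 0, 2, 0, 2, 0, 0, 2, 0, 2], [1, 2, 0, 2, 0, 0, 2, 1, 2, 1, 2, 0, 2, 0, 0]]⟩, ⟨3, [3779, 282], 2, 0, [[], []]⟩, ⟨2, [3346, 2314, 2416, 3410, 3236], 1, 0, [[], [2, 0, 0, 2, 0, 2, 1, 2, 0, 0, 2, 1, 2, 0, 2, 1, 2], [0, 2, 0, 2, 0, 2, 0, 0, 2, 1, 2, 0, 0, 2, 1, 2, 0, 2, 1], [0, 0, 2, 1, 2, 1, 2, 1, 2, 1, 2, 1, 2, 0, 2, 1]]⟩, ⟨3, [3783, 99, 71, 79, 71], 2, 0, [[], []]⟩, ⟨2, [3238, 3250, 3238, 3236, 71, 79, 71, 565, 491], 1, 2, [[], [0, 2, 1, 2, 0, 0, 2, 0, 2, 0, 2, 0, 2, 0, 2, 1, 2, 0, 0, 2, 1], [0, 2, 0, 2, 0, 2, 0, 2, 0, 2, 0, 2, 1, 2, 0, 0, 2, 0], [1,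 2, 0, 2, 1, 2, 1, 2, 1, 2, 1, 2, 0, 2, 0, 2, 0, 2, 0, 0]]⟩, ⟨3, [3787, 283], 2, 0, [[], []]⟩, ⟨2, [3238, 3250, 3236, 99, 71, 81, 79, 71, 379, 282, 2405], 1, 2, [[], [1, 2, 0, 0, 2, 1, 2, 0, 2, 1, 2, 1, 2, 1], [0, 0, 2, 1, 2, 0, 2, 0, 2, 1, 2, 0, 2, 1, 2, 0, 2], [2, 1, 2, 0, 2, 1, 2, 0, 2, 1, 2, 1, 2, 1, 2, 1, 2]]⟩, ⟨3, [3791, 2417, 2397], 2, 0, [[], []]⟩, ⟨2, [3238, 3236, 71, 3673, 3239, 3251, 3471], 1, 2, [[], [2, 0, 0, 2, 1, 2, 0, 0, 2, 0, 0, 2, 0, 0, 2, 1, 2, 1, 2], [0, 2, 0, 2, 0, 0, 2, 1, 2, 0, 2, 1, 2, 1, 2, 0, 2, 0, 0, 2], [0, 2, 0, 2, 1, 2, 0, 0, 2, 0, 2, 1, 2, 0, 2, 0, 0]]⟩] 1834 1898 = true := by decide +kernel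
theorem dd_c27 : dd.checks [⟨3, [3795, 282], 2, 0, [[], []]⟩, ⟨2, [3238, 3236, 81, 71, 81, 79, 287, 283, 761], 1, 2, [[], [0, 0, 2, 0, 2, 0, 2, 1, 2, 1, 2, 0, 2, 0, 2, 1, 2, 0, 2, 0, 0], [1, 2, 0, 0, 2, 0, 0, 2, 0, 2, 0, 2, 0, 0, 2, 0, 2, 0, 2, 0, 2, 1, 2, 1], [2, 0, 2, 0, 2, 0, 2, 1, 2, 1, 2, 0, 0, 2, 0, 2, 1, 2, 0]]⟩, ⟨2, [3250, 3238, 3236, 81, 99, 309, 3559], 1, 2, [[], [0, 0, 2, 1, 2, 0, 0, 2, 0, 0, 2, 1, 2, 0, 2, 0, 0, 2, 0, 2, 0, 2, 0], [0, 0, 2, 1, 2, 0, 0, 2, 0, 2, 0, 2, 1, 2, 0, 0, 2], [2, 1, 2, 0, 2, 1, 2, 0, 2, 1, 2, 1, 2, 0, 0, 2]]⟩, ⟨3, [3801, 3251, 3239], 2, 0, [[], []]⟩, ⟨2, [3238, 3236, 99, 81, 99, 351, 963], 1, 2, [[], [0, 2, 0, 2, 0, 2,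 0, 0, 2, 0, 2, 0, 0, 2, 1, 2, 1], [2, 0, 0, 2, 0, 2, 1, 2, 1, 2, 0, 0, 2, 0, 2, 0, 0, 2, 0], [0, 0, 2, 1, 2, 0, 0, 2, 1, 2, 1, 2, 0, 2, 0, 2, 1, 2, 0, 0, 2, 1]]⟩, ⟨3, [3805, 220, 209, 190], 2, 0, [[], []]⟩, ⟨2, [3238, 3250, 3238, 3236, 71, 81, 71, 2075, 1660, 2009], 1, 2, [[], [2, 0, 2, 0, 0, 2, 0, 0, 2, 0, 2, 0, 2, 1, 2, 0, 2, 1, 2, 0, 2, 0, 0], [1, 2, 0, 2, 1, 2, 1, 2, 1, 2, 0, 0, 2, 0, 2, 1, 2, 0, 0, 2, 1, 2], [2, 1, 2, 1, 2, 1, 2, 1, 2, 1, 2, 0, 0, 2, 0, 2, 1, 2, 0, 2, 1]]⟩, ⟨3, [3809, 1661], 2, 0, [[], []]⟩, ⟨2, [3236, 71, 99, 107, 71, 863], 1, 2, [[], [0, 2, 1, 2, 1, 2, 0, 2, 0, 2, 0, 0], [0, 0, 2, 0, 2, 1, 2, 1, 2, 1, 2, 1, 2, 0, 2, 1], [0, 2, 0,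 0, 2, 1, 2, 0, 2, 0, 2, 0, 0, 2, 1, 2, 0, 0]]⟩, ⟨2, [3238, 3250, 3238, 3276, 3236, 81, 71, 99, 443], 1, 3, [[], [2, 0, 2, 0, 2, 0, 0, 2, 0, 2, 1, 2, 0, 2, 0, 2, 0, 0, 2, 0], [1, 2, 1, 2, 1, 2, 0, 0, 2, 0, 2, 1, 2, 1, 2, 0, 0, 2, 0, 2], [0, 2, 1, 2, 1, 2, 0, 2, 1, 2, 0, 0, 2, 0]]⟩, ⟨2, [3238, 3250, 3238, 3236, 823, 282, 1263], 1, 2, [[], [1, 2, 1, 2, 0, 2, 1, 2, 0, 2, 1, 2, 1, 2, 0, 2, 1], [2, 1, 2, 1, 2, 0, 0, 2, 0, 2, 0, 0, 2, 0, 0, 2, 1], [1, 2, 0, 0, 2, 0, 2, 0, 2, 0, 0, 2, 0, 0, 2, 0, 0, 2, 0, 2, 0]]⟩, ⟨3, [3817, 282], 2, 0, [[], []]⟩, ⟨2, [3250, 3236, 79, 97, 71, 81, 79, 71, 73], 1, 2, [[], [2, 1, 2, 0, 0, 2, 0, 2, 0, 2, 1, 2, 0, 0, 2, 0, 0, 2, 1,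 2, 1], [2, 1, 2, 0, 2, 1, 2, 0, 0, 2, 0, 2, 0, 0, 2], [2, 0, 2, 0, 0, 2, 0, 2, 1, 2, 0, 0, 2, 0, 0, 2, 0, 0, 2, 0]]⟩, ⟨3, [3821, 81, 79], 2, 0, [[], []]⟩, ⟨2, [3236, 99, 71, 79, 71, 1891, 1660, 1585, 3245], 1, 2, [[], [0, 2, 0, 2, 1, 2, 1, 2, 0, 2, 0, 2, 1, 2, 0, 2], [2, 0, 2, 1, 2, 0, 2, 0, 2, 0, 0, 2, 0, 2, 1, 2, 0, 0, 2], [2, 0, 0, 2, 0, 2, 0, 2, 0, 2, 0, 2, 0, 0, 2, 0, 2, 0, 2, 0, 0]]⟩, ⟨2, [3238, 3236, 81, 79, 2703, 2705, 3085], 1, 2, [[], [1, 2, 1, 2, 1, 2, 0, 2, 1, 2, 0, 0, 2, 1, 2, 0, 2, 0, 0, 2, 0, 0], [0, 2, 1, 2, 0, 2, 0, 2, 1, 2, 0, 2, 1, 2, 0, 2, 1], [2, 0, 0, 2, 0, 2, 0, 2, 0, 2, 0, 2, 1, 2, 0, 2, 0, 0]]⟩, ⟨3, [3827, 282], 2, 0, [[], []]⟩,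 ⟨2, [3238, 3250, 3236, 71, 81, 79, 71, 1037, 283, 1267], 1, 2, [[], [0, 2, 1, 2, 0, 0, 2, 1, 2, 0, 0, 2, 0, 2, 1, 2, 1, 2], [2, 1, 2, 0, 2, 0, 2, 0, 2, 0, 2, 0, 0, 2, 0, 2, 1, 2, 0, 0, 2], [0, 2, 0, 0, 2, 0, 2, 0, 0, 2, 0, 2, 0, 2, 1, 2, 0, 2, 1, 2, 0, 0]]⟩, ⟨2, [3250, 3238, 3236, 81, 71, 637, 283, 1999], 1, 2, [[], [0, 2, 0, 0, 2, 0, 2, 0, 2, 1, 2, 0, 0, 2, 1, 2, 0, 0, 2, 0], [0, 2, 0, 0, 2, 0, 2, 0, 2, 0, 2, 1, 2, 1, 2, 0, 0, 2, 0, 2], [1, 2, 0, 2, 0, 0, 2, 1, 2, 0, 2, 0, 2, 1, 2, 0, 0, 2, 1, 2, 0]]⟩, ⟨3, [3833, 1595], 2, 0, [[], []]⟩, ⟨2, [3236, 81, 71, 79, 443, 283, 1739], 1, 2, [[], [1, 2, 0, 2, 0, 0, 2, 0, 2, 1, 2, 1, 2, 0, 2, 0, 0, 2, 1, 2, 0], [1,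 2, 0, 0, 2, 1, 2, 0, 0, 2, 0, 0, 2, 0, 2, 0, 0, 2, 1, 2, 0, 0], [0, 2, 0, 2, 1, 2, 0, 0, 2, 0, 0, 2, 1, 2, 1, 2, 0, 0, 2, 0, 0]]⟩, ⟨2, [3238, 3236, 71, 79, 2143, 1595, 2121], 1, 2, [[], [0, 2, 0, 2, 0, 0, 2, 0, 0, 2, 0, 0, 2, 0, 2, 1], [0, 2, 0, 0, 2, 0, 2, 0, 0, 2, 1, 2, 0, 0, 2, 1, 2, 1, 2, 0, 0], [0, 2, 0, 2, 0, 0, 2, 0, 2, 0, 2, 0, 2, 1, 2, 0, 0, 2, 1, 2, 1]]⟩, ⟨2, [3238, 3250, 3236, 139, 71, 81, 181], 1, 2, [[], [2, 1, 2, 0, 2, 1, 2, 1, 2, 0, 2, 0, 2, 0, 0, 2, 0, 0, 2], [0, 2, 0, 0, 2, 0, 2, 1, 2, 1, 2, 1, 2, 1, 2, 0, 0, 2, 0, 2, 0], [2, 1, 2, 0, 2, 0, 2, 1, 2, 1, 2, 0, 0, 2, 0, 2, 0, 2, 1, 2, 0]]⟩, ⟨3, [3841, 152, 157], 2, 0, [[], []]⟩, ⟨2, [3238,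 3236, 81, 107, 79, 71, 81, 71, 679], 1, 2, [[], [2, 0, 2, 0, 0, 2, 0, 0, 2, 0, 0, 2, 0, 2, 1, 2, 1, 2, 0, 0], [2, 0, 2, 0, 2, 0, 2, 1, 2, 0, 2, 1, 2, 0, 2, 1, 2, 0, 2, 1], [2, 0, 0, 2, 1, 2, 0, 2, 0, 0, 2, 0, 2, 0, 2, 0, 2, 0, 0, 2]]⟩, ⟨3, [3845, 283], 2, 0, [[], []]⟩, ⟨2, [3238, 3250, 3238, 3236, 71, 81, 71, 565, 283, 1139], 1, 2, [[], [1, 2, 0, 2, 1, 2, 0, 2, 0, 0, 2, 1, 2, 1, 2, 1, 2, 0, 0, 2, 1, 2], [1, 2, 1, 2, 0, 2, 1, 2, 1, 2, 0, 0, 2, 1, 2, 1, 2, 1, 2, 0], [2, 0, 0, 2, 0, 2, 0, 2, 1, 2, 0, 2, 1, 2, 0, 2, 1, 2, 1, 2, 0, 2]]⟩, ⟨2, [3238, 3236, 81, 79, 71, 81, 739, 282, 3641], 1, 2, [[], [2, 0, 2, 1, 2, 0, 0, 2, 1, 2, 0, 0, 2, 0, 2, 0], [2, 1, 2, 0,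 0, 2, 0, 0, 2, 0, 0, 2, 1, 2, 1, 2, 0, 2, 1, 2, 0, 0, 2, 0], [2, 0, 0, 2, 0, 2, 0, 2, 1, 2, 0, 2, 0, 0, 2, 1, 2, 1, 2, 0, 0]]⟩, ⟨2, [3238, 3236, 71, 2143, 1661, 1609], 1, 2, [[], [1, 2, 0, 0, 2, 1, 2, 1, 2, 0, 0, 2, 0, 2, 1, 2, 0, 0, 2, 0], [2, 0, 2, 1, 2, 0, 2, 1, 2, 1, 2, 0, 0, 2, 1], [2, 1, 2, 0, 2, 0, 2, 0]]⟩, ⟨2, [3238, 3250, 3238, 3236, 71, 79, 147, 99, 79, 71, 3383], 1, 2, [[], [0, 2, 1, 2, 0, 0, 2, 0, 2, 1, 2, 0, 2, 1, 2, 0, 2], [0, 2, 0, 0, 2, 0, 0, 2, 0, 2, 1, 2, 1, 2, 0, 0, 2, 0, 0, 2, 0], [0, 2, 1, 2, 0, 2, 0, 2, 1, 2, 0, 0, 2, 0, 0, 2, 1, 2, 1, 2]]⟩, ⟨2, [3238, 3396, 80, 70, 98, 3237], 0, 2, [[], [1, 2, 0, 0, 2, 0, 0, 2, 0, 0, 2, 0, 2, 0],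 [2, 1, 2, 0, 2, 1, 2, 1, 2, 1, 2, 1, 2, 0, 2, 0, 2]]⟩, ⟨2, [1584, 1660, 2142, 98, 80, 3237], 0, 2, [[], [1, 2, 1, 2, 0, 0, 2, 1, 2, 1, 2, 1, 2, 0, 2, 0, 2, 0, 0, 2, 0, 0], [2, 1, 2, 1, 2, 1, 2, 0, 2, 0, 0, 2, 1, 2, 0, 2]]⟩, ⟨2, [3238, 3250, 3396, 70, 78, 3237], 0, 2, [[], [2, 0, 0, 2, 1, 2, 1, 2, 1, 2, 0, 2, 0, 0, 2, 0], [2, 1, 2, 0, 2, 1, 2, 1, 2, 0, 0, 2, 0, 2, 1, 2, 0, 2, 0, 2, 0, 0]]⟩, ⟨2, [3238, 3250, 3238, 3702, 1584, 1594, 1958, 70, 3237], 1, 3, [[], [2, 0, 0, 2, 0, 2, 1, 2, 1, 2, 0, 2, 1, 2, 1, 2, 0, 2], [1, 2, 0, 2, 0, 2, 0, 2, 0, 2, 1, 2, 1, 2, 1, 2, 0, 2, 0], [0, 2, 0, 0, 2, 1, 2, 0, 0, 2, 0, 2, 0, 2, 0, 2, 0, 2, 0, 2, 0, 0]]⟩, ⟨2, [3250, 3621,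 70, 98, 70, 80, 3237, 3239, 3251, 3239, 3451], 1, 2, [[], [2, 1, 2, 1, 2, 0, 2, 0, 2, 0, 0, 2, 0, 0, 2, 1, 2, 1], [1, 2, 1, 2, 0, 0, 2, 1, 2, 1, 2, 0, 2, 1, 2, 0, 2, 1, 2, 0, 2, 0], [0, 2, 0, 0, 2, 1, 2, 1, 2, 0, 2, 1, 2, 0, 0, 2, 1, 2, 1]]⟩, ⟨2, [2120, 1594, 1934, 70, 78, 70, 3237], 1, 3, [[], [2, 1, 2, 0, 2, 0, 2, 0, 0, 2, 0, 0, 2, 0, 2, 1, 2, 1, 2, 0, 0], [2, 1, 2, 0, 0, 2, 0, 2, 0, 2, 0, 0, 2, 1, 2, 0, 2, 0, 2, 0, 0], [0, 0, 2, 1, 2, 0, 2, 1, 2, 0, 0, 2, 0, 2, 0, 0, 2, 0, 2, 0, 0]]⟩, ⟨3, [3867, 3251], 2, 0, [[], []]⟩, ⟨2, [283, 678, 98, 80, 98, 106, 98, 70, 3237], 1, 3, [[], [0, 0, 2, 1, 2, 0, 2, 1, 2, 0, 0, 2, 1, 2, 1, 2, 0, 2, 0, 2], [0, 0, 2, 1,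 2, 1, 2, 0, 0, 2, 0, 2, 0, 2, 0, 2, 1, 2, 1], [0, 0, 2, 1, 2, 0, 2, 1, 2, 0, 2, 1, 2, 0, 2]]⟩, ⟨3, [3871, 3239], 2, 0, [[], []]⟩, ⟨2, [3396, 3237, 3239, 3707], 1, 2, [[], [2, 0, 2, 1, 2, 1, 2, 1, 2, 0, 2, 0, 0, 2, 1, 2, 0, 2, 0, 2], [2, 0, 2, 1, 2, 0, 2, 1, 2, 1, 2, 0, 0, 2, 0, 0, 2, 1, 2, 0, 0], [1, 2, 0, 0, 2, 0, 0, 2, 0, 0, 2, 1, 2, 0, 0, 2]]⟩, ⟨3, [3875, 282], 2, 0, [[], []]⟩, ⟨2, [1708, 1654, 1660, 1894, 3237], 1, 3, [[], [1, 2, 0, 0, 2, 0, 2, 0, 2, 0, 0, 2, 0, 0, 2, 1, 2, 0, 0, 2], [1, 2, 0, 0, 2, 0, 2, 0, 2, 0, 0, 2, 0, 2, 0, 0, 2, 0, 2, 0], [1, 2, 0, 0, 2, 0, 2, 0, 2, 0, 0, 2, 0, 0, 2, 0, 2, 1, 2, 1, 2]]⟩, ⟨3, [3879, 3239, 3251], 2, 0, [[], []]⟩,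 ⟨2, [78, 80, 70, 68, 22, 26, 22, 25, 22, 26, 26, 69, 3237], 1, 3, [[], [1, 2, 0, 2, 0, 0, 2, 0, 2, 0, 2, 0, 2, 1, 2, 1, 2, 0], [2, 0, 0, 2, 1, 2, 0, 2, 0, 0, 2], [0, 0, 2, 1, 2, 1, 2, 0, 2, 0, 2, 1, 2, 0, 0, 2, 0, 2, 0, 0, 2]]⟩, ⟨3, [3883, 3239], 2, 0, [[], []]⟩, ⟨2, [283, 996, 822, 78, 98, 3237], 1, 3, [[], [2, 0, 2, 0, 2, 0, 0, 2, 1, 2, 0, 0, 2, 1, 2, 0, 2], [2, 0, 2, 1, 2, 0, 2, 0, 2, 1, 2, 1, 2, 0, 2, 0, 0], [0, 0, 2, 0, 2, 0, 2, 0, 0, 2, 1, 2, 0, 2, 0, 2]]⟩, ⟨3, [3887, 3239], 2, 0, [[], []]⟩, ⟨2, [283, 2908, 2755, 2704, 2998, 98, 70, 3237], 1, 3, [[], [0, 2, 0, 2, 1, 2, 1, 2, 1, 2, 1, 2, 1, 2, 0, 0, 2, 0, 2, 1, 2, 0], [1, 2, 1, 2, 1, 2, 1, 2, 0, 0,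 2, 0, 2, 1, 2, 1, 2, 0, 0, 2, 0, 0], [0, 2, 0, 0, 2, 0, 2, 1, 2, 0, 0, 2, 0, 2, 0, 2, 0, 0, 2, 0, 0, 2]]⟩, ⟨3, [3891, 3239], 2, 0, [[], []]⟩, ⟨2, [283, 920, 282, 346, 3237], 1, 3, [[], [0, 2, 0, 2, 0, 2, 1, 2, 0, 2, 0, 0, 2, 0, 0, 2, 1, 2, 1, 2, 0, 0], [1, 2, 1, 2, 1, 2, 0, 0, 2, 0, 2, 1, 2, 0, 2, 1, 2, 0, 2], [1, 2, 0, 0, 2, 1, 2, 0, 0, 2, 1, 2, 0, 2, 0, 0, 2, 0, 0]]⟩, ⟨3, [3895, 3239, 3251, 3239], 2, 0, [[], []]⟩, ⟨2, [1584, 1730, 282, 442, 80, 98, 3237], 1, 3, [[], [0, 0, 2, 1, 2, 0, 0, 2, 0, 2, 1, 2, 0, 2, 1, 2, 0, 0], [0, 2, 0, 2, 1, 2, 0, 0, 2, 0, 0, 2, 0, 2, 1, 2, 0, 2, 0, 2, 0], [2, 0, 2, 0, 2, 0, 0, 2, 0, 0, 2, 0, 0, 2, 0, 2, 1, 2, 1, 2]]⟩, ⟨3,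 [3899, 3251], 2, 0, [[], []]⟩, ⟨2, [3238, 3250, 3238, 3332, 283, 390, 80, 3237], 1, 3, [[], [1, 2, 0, 2, 0, 2, 0, 2, 0, 2, 1, 2, 0, 0, 2, 0, 2, 1], [2, 1, 2, 0, 0, 2, 0, 0, 2, 1, 2, 0, 2, 1, 2, 0, 0, 2, 0, 0], [1, 2, 0, 2, 0, 2, 1, 2, 0, 0, 2, 0, 0, 2, 1, 2, 0, 0, 2]]⟩, ⟨3, [3903, 3251], 2, 0, [[], []]⟩, ⟨2, [282, 1750, 1660, 1624, 80, 70, 98, 3237], 1, 3, [[], [2, 0, 2, 0, 2, 1, 2, 1, 2, 0, 0, 2, 0, 2, 1, 2, 1, 2, 0, 2], [2, 1, 2, 0, 0, 2, 1, 2, 0, 0, 2, 1, 2, 1, 2, 1, 2, 0, 0, 2, 1], [1, 2, 1, 2, 0, 0, 2, 0, 0, 2, 0, 0, 2, 0, 2, 0, 0, 2, 1, 2, 1]]⟩, ⟨3, [3907, 3251], 2, 0, [[], []]⟩, ⟨2, [283, 336, 282, 286, 78, 80, 70, 80, 3237], 1, 3, [[], [0, 2, 1,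 2, 0, 2, 1, 2, 0, 2, 0, 0, 2, 1, 2, 0, 2], [0, 0, 2, 0, 2, 0, 0, 2, 0, 2, 1, 2, 0, 0, 2, 1, 2, 0, 0, 2, 0], [1, 2, 0, 2, 0, 0, 2, 0, 0, 2, 0, 0, 2, 0, 2, 0, 0, 2, 0]]⟩, ⟨3, [3911, 3239], 2, 0, [[], []]⟩, ⟨2, [3250, 3358, 283, 1354, 70, 78, 80, 70, 3237], 1, 3, [[], [2, 1, 2, 0, 2, 0, 0, 2, 0, 0, 2, 1], [2, 0, 2, 0, 2, 1, 2, 0, 2, 1, 2, 1, 2, 0, 0, 2, 1, 2, 0, 2, 0], [2, 0, 0, 2, 0, 2, 1, 2, 0, 0, 2, 1, 2, 1, 2, 0, 2, 1, 2, 0]]⟩, ⟨2, [1870, 244, 256, 80, 70, 80, 3237], 1, 3, [[], [2, 0, 0, 2, 0, 2, 1, 2, 1, 2, 0, 2, 0, 2, 0], [0, 2, 0, 2, 0, 2, 1, 2, 0, 2, 1, 2, 0, 2, 1, 2, 0, 2, 1], [0, 2, 0, 2, 0, 0, 2, 1, 2, 0, 0]]⟩, ⟨2, [1584, 1582, 57, 44, 66, 132,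 70, 98, 3237], 1, 3, [[], [0, 2, 0, 2, 0, 2, 1, 2, 0, 0, 2, 1, 2, 1], [0, 2, 0, 0, 2, 0, 2, 0, 2, 0], [2, 1, 2, 0, 0, 2, 0, 2, 0, 2, 0, 2, 0, 2, 1, 2, 1, 2, 0]]⟩, ⟨3, [3919, 3239], 2, 0, [[], []]⟩, ⟨2, [2186, 2234, 934, 70, 98, 70, 80, 3237], 1, 3, [[], [2, 0, 0, 2, 0, 0, 2, 0, 0, 2, 1, 2, 1, 2, 0, 2, 1, 2, 0, 0, 2, 0, 0], [1, 2, 0, 2, 1, 2, 0, 2, 0, 2, 0, 0, 2, 1, 2, 1, 2], [2, 1, 2, 1, 2, 0, 2, 1, 2, 0, 0, 2, 1]]⟩, ⟨3, [3923, 3239], 2, 0, [[], []]⟩] 1898 1963 = true := by decide +kernel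
theorem dd_c28 : dd.checks [⟨2, [190, 221, 3232, 2704, 2998, 78, 80, 3237], 1, 3, [[], [0, 2, 1, 2, 0, 0, 2, 1, 2, 0, 2, 0, 2, 0, 0, 2, 0, 2, 0, 2, 1], [0, 2, 0, 0, 2, 1, 2, 1, 2, 0, 2, 0], [1, 2, 0, 0, 2, 0, 0, 2, 0, 0, 2, 0, 2, 1, 2]]⟩, ⟨2, [283, 3424, 3882, 70, 80, 70, 3237], 1, 3, [[], [1, 2, 0, 0, 2, 0, 0, 2, 1, 2, 0, 0, 2, 1, 2, 0, 0, 2], [2, 0, 2, 0, 2, 0, 2, 1, 2, 0, 0, 2, 0, 0, 2, 0, 2, 0, 2, 0], [2, 1, 2, 0, 0, 2, 1, 2, 0, 2, 1, 2, 1, 2]]⟩, ⟨3, [3929, 3239, 3251, 3239], 2, 0, [[], []]⟩, ⟨2, [1654, 1661, 1884, 283, 1036, 98, 78, 3237], 1, 3, [[], [2, 0, 0, 2, 1, 2, 1, 2, 1, 2, 0, 0, 2, 1, 2, 1], [1, 2, 0, 2, 1, 2, 1, 2, 0, 2, 1, 2, 0, 2, 0, 2],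 [0, 0, 2, 1, 2, 1, 2, 0]]⟩, ⟨3, [3933, 3251], 2, 0, [[], []]⟩, ⟨2, [78, 70, 80, 258, 232, 245, 232, 256, 70, 80, 3237], 1, 3, [[], [2, 0, 0, 2, 0, 0, 2, 0, 2, 1, 2, 0, 2, 0, 2, 1, 2, 1, 2], [1, 2, 0, 2, 0, 0, 2, 0, 2, 1, 2, 1, 2, 0, 2, 0, 2, 1], [2, 1, 2, 0, 2, 0, 2, 1, 2, 0, 2, 0, 2, 0, 0, 2, 0]]⟩, ⟨3, [3937, 3251], 2, 0, [[], []]⟩, ⟨2, [80, 70, 78, 80, 138, 80, 70, 80, 3237, 3251, 3279], 1, 2, [[], [1, 2, 0, 2, 1, 2, 0, 2, 1, 2, 1, 2, 1], [1, 2, 0, 2, 0, 2, 1, 2, 1, 2, 1, 2, 0, 0, 2, 1, 2, 0, 2, 0, 0], [1, 2, 0, 2, 1, 2, 0, 2, 1, 2, 0, 2, 0, 2, 0, 0, 2, 0, 2, 1]]⟩, ⟨3, [3941, 3251, 3239], 2, 0, [[], []]⟩, ⟨2, [2204, 2210, 2219, 2178, 98, 70, 3237], 1,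 3, [[], [0, 0, 2, 1, 2, 0, 0, 2, 1, 2, 0, 0, 2, 1, 2, 1, 2, 0, 0, 2], [2, 0, 0, 2, 1, 2, 1, 2, 1, 2, 0, 2, 0, 2, 0, 2, 1], [2, 0, 2, 1, 2, 0, 2, 1, 2, 0, 2, 1, 2, 1, 2, 0, 2, 0, 2, 1, 2]]⟩, ⟨3, [3945, 3239, 3251, 3239], 2, 0, [[], []]⟩, ⟨2, [283, 583, 283, 862, 70, 80, 98, 3237], 1, 3, [[], [2, 0, 2, 1, 2, 1, 2, 0, 2, 0, 2, 0, 2, 1, 2, 0, 0, 2, 0], [1, 2, 0, 0, 2, 0, 2, 0, 2, 0, 2, 0, 0, 2, 0, 0, 2, 0, 0, 2, 0], [0, 0, 2, 0, 0, 2, 0, 0, 2, 1, 2, 0, 0, 2, 1, 2, 1, 2, 0, 2, 0, 0]]⟩, ⟨2, [3238, 3250, 3238, 3784, 70, 78, 98, 138, 98, 70, 78, 3237], 1, 3, [[], [0, 2, 0, 2, 0, 2, 1, 2, 0, 2, 0, 0, 2, 0, 2, 0, 2, 0, 2, 0], [2, 0, 2, 0, 0, 2, 0, 0, 2, 0, 2, 0,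 2, 0, 0, 2, 0, 2], [1, 2, 1, 2, 0, 0, 2, 0, 2, 1, 2, 0, 2, 0, 2, 1, 2, 0, 0]]⟩, ⟨3, [3951, 3251], 2, 0, [[], []]⟩, ⟨2, [282, 1136, 282, 862, 78, 80, 70, 98, 3237], 1, 3, [[], [1, 2, 0, 2, 0, 0, 2, 0, 2, 1, 2, 1, 2, 1, 2, 0, 0, 2, 1, 2, 1], [1, 2, 1, 2, 0, 0, 2, 1, 2, 1, 2, 1, 2, 0, 2], [2, 0, 0, 2, 0, 2, 0, 0, 2, 1, 2, 1, 2, 0, 2, 0, 2, 1, 2, 1, 2, 1]]⟩, ⟨3, [3955, 3239, 3251, 3239], 2, 0, [[], []]⟩, ⟨2, [1128, 283, 564, 70, 80, 70, 3237], 1, 3, [[], [0, 2, 0, 2, 1, 2, 1, 2, 1, 2, 0, 0, 2, 1, 2, 1, 2, 0, 0, 2, 0, 0, 2, 1], [1, 2, 1, 2, 1, 2, 0, 2, 1, 2, 0, 2, 1, 2, 1, 2, 0, 0], [1, 2, 0, 0, 2, 1, 2, 0, 0, 2, 0, 2, 0, 2, 0, 2, 0, 0, 2, 0, 0]]⟩, ⟨2, [3768,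 78, 80, 3237, 3239, 3251, 3239, 3565], 1, 3, [[], [0, 2, 0, 0, 2, 0, 2, 0, 0, 2, 0, 2, 0, 2, 1, 2], [2, 0, 2, 1, 2, 0, 0, 2, 0, 0, 2, 1, 2, 0, 2, 0, 0, 2, 0], [0, 2, 0, 2, 0, 2, 0, 2, 0, 2, 1, 2, 0, 2, 0, 0, 2]]⟩, ⟨2, [3238, 3822, 80, 3237, 3251, 3291], 1, 3, [[], [2, 0, 2, 0, 2, 0, 0, 2, 0, 0, 2, 0, 2, 1, 2, 1, 2, 0, 2, 1, 2, 1], [0, 0, 2, 1, 2, 1, 2, 0, 2, 0, 2, 1, 2, 0, 0, 2, 1, 2, 0, 0, 2], [0, 0, 2, 0, 2, 1, 2, 1, 2, 0, 2, 0, 2, 1, 2, 0, 0, 2, 0, 0, 2, 1, 2]]⟩, ⟨3, [3963, 3239], 2, 0, [[], []]⟩, ⟨2, [3238, 3250, 3238, 3264, 3250, 3621, 98, 70, 3237], 1, 0, [[], [2, 1, 2, 1, 2, 0, 2, 0, 0, 2, 0, 0, 2, 0, 2, 0, 2, 1, 2, 1, 2, 1], [0, 0, 2, 0, 2, 0, 2,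 0, 2, 1, 2, 1, 2, 0, 0, 2, 0, 2, 0, 0], [2, 0, 2, 0, 0, 2, 1, 2, 0, 0, 2, 0, 2, 0]]⟩, ⟨3, [3967, 3239, 3251], 2, 0, [[], []]⟩, ⟨2, [283, 3084, 2755, 2998, 70, 78, 70, 98, 3237], 1, 0, [[], [1, 2, 1, 2, 1, 2, 0, 0], [1, 2, 0, 0, 2, 1, 2, 0, 0, 2, 0, 2, 0, 2], [2, 1, 2, 1, 2, 1, 2, 1, 2, 1, 2, 1, 2, 0, 0]]⟩, ⟨3, [3971, 3251], 2, 0, [[], []]⟩, ⟨2, [1189, 283, 644, 78, 98, 78, 3237], 1, 0, [[], [0, 2, 1, 2, 1, 2, 1, 2, 0, 0, 2, 0, 2, 0, 2, 0, 0, 2, 1, 2], [0, 0, 2, 1, 2, 1, 2, 1, 2, 0, 2, 0, 2, 1, 2, 0, 2, 1, 2, 1, 2], [2, 0, 2, 1, 2, 0, 0, 2, 0, 2, 0, 0, 2, 0, 2, 0, 2, 1, 2, 1, 2]]⟩, ⟨2, [2314, 2358, 3410, 3250, 3784, 70, 78, 98, 78, 3237], 1, 0, [[], [2,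 1, 2, 1, 2, 0, 2, 0, 2, 1, 2, 1, 2, 1, 2, 0, 0, 2, 0, 2, 0], [2, 0, 2, 1, 2, 0, 2, 0, 2, 1, 2, 0], [0, 0, 2, 1, 2, 0, 2, 0, 2, 0, 0, 2, 1, 2, 1, 2, 0, 2, 0]]⟩, ⟨3, [3977, 3251], 2, 0, [[], []]⟩, ⟨2, [3238, 3250, 3238, 3940, 78, 70, 3237, 3251, 3239, 3909], 1, 3, [[], [0, 2, 0, 2, 0, 2, 1, 2, 1, 2, 1, 2, 1, 2, 0, 0, 2, 0, 0, 2, 0], [0, 2, 0, 0, 2, 0, 0, 2, 0, 0, 2, 1, 2, 0, 0, 2, 1, 2, 0], [0, 0, 2, 0, 0, 2, 0, 0, 2, 0, 2, 0, 2, 0, 0, 2]]⟩, ⟨3, [3981, 282], 2, 0, [[], []]⟩, ⟨2, [283, 1136, 283, 564, 80, 3237], 1, 0, [[], [0, 2, 1, 2, 0, 2, 1, 2, 0, 2, 1, 2, 1, 2, 1, 2, 1, 2, 0, 0, 2, 0, 0], [2, 0, 0, 2, 0, 2, 1, 2, 1, 2, 0, 0, 2, 0, 2, 0, 0, 2, 1], [1, 2,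 1, 2, 1, 2, 1, 2, 1, 2, 0, 2, 1, 2, 0, 0, 2, 0, 0]]⟩, ⟨3, [3985, 3251], 2, 0, [[], []]⟩, ⟨2, [3238, 3621, 80, 70, 98, 3237, 3251, 3357], 1, 3, [[], [0, 0, 2, 0, 2, 0, 0, 2, 0, 2, 1, 2, 0, 2, 0, 2, 0, 0, 2, 1, 2], [2, 0, 2, 0, 2, 0, 2, 1, 2, 0, 2, 1, 2, 0, 2, 0, 2, 0, 0], [2, 1, 2, 0, 2, 0, 2, 1, 2, 1, 2, 0, 2, 1, 2, 0, 0, 2]]⟩, ⟨3, [3989, 282], 2, 0, [[], []]⟩, ⟨2, [3849, 282, 456, 98, 70, 3237], 1, 0, [[], [2, 0, 0, 2, 0, 2, 1, 2, 1, 2, 0, 2, 0, 0, 2, 1, 2, 1], [1, 2, 0, 2, 0, 0, 2, 0, 2, 0, 2, 0, 0, 2, 1, 2, 1], [0, 2, 0, 2, 0, 2, 0, 2, 0, 2, 1, 2, 1, 2, 1, 2, 0, 0, 2, 0]]⟩, ⟨3, [3993, 3239], 2, 0, [[], []]⟩, ⟨2, [3238, 3250, 3238, 3822, 78, 98, 3237,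 3239, 3251, 3239, 3357], 1, 3, [[], [1, 2, 1, 2, 0, 2, 1, 2, 1, 2, 0, 2, 0, 2, 1, 2, 0, 0], [2, 0, 2, 1, 2, 0, 2, 0, 2, 1, 2, 0, 2, 1, 2, 0, 2, 0, 2, 1, 2, 0, 2], [0, 0, 2, 0, 0, 2, 0, 2, 0, 2, 1, 2, 0, 2, 1, 2, 0, 2, 0, 2, 0, 0]]⟩, ⟨3, [3997, 282], 2, 0, [[], []]⟩, ⟨2, [1661, 1690, 283, 3240], 0, 2, [[], [1, 2, 1, 2, 1, 2, 0, 0, 2, 0, 2, 0, 2, 1, 2, 1], [2, 0, 0, 2, 0, 2, 0, 2, 1, 2, 0, 0, 2, 0, 2, 0, 2, 0, 2, 0, 0]]⟩, ⟨2, [2755, 2704, 2754, 2773, 283, 3240], 0, 2, [[], [2, 0, 0, 2, 1, 2, 0, 2, 0, 2, 0, 0, 2, 1, 2, 0, 0, 2, 0], [0, 2, 0, 0, 2, 1, 2, 1, 2, 1, 2, 1, 2, 1, 2, 0, 2, 1, 2, 0, 0, 2, 0, 0]]⟩, ⟨3, [4003, 3251, 3239], 2, 0, [[], []]⟩, ⟨2, [2314,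 2417, 2425, 2400, 282, 3240], 0, 2, [[], [2, 0, 0, 2, 1, 2, 0, 2, 0, 0, 2, 1, 2, 1, 2, 0, 2, 0, 2, 1, 2, 0], [1, 2, 0, 0, 2, 0, 0, 2, 0, 0, 2, 0, 2, 0, 0, 2, 0, 2, 0]]⟩, ⟨3, [4007, 3239], 2, 0, [[], []]⟩, ⟨2, [1655, 2042, 282, 3240], 0, 2, [[], [2, 1, 2, 0, 2], [0, 2, 1, 2, 1, 2, 0, 2, 0, 0, 2, 1, 2, 1]]⟩, ⟨3, [4011, 3239, 3251], 2, 0, [[], []]⟩, ⟨2, [282, 1490, 283, 3240], 0, 2, [[], [2, 0, 2, 0, 2, 0, 0, 2, 1, 2, 0, 0, 2, 0, 0, 2, 0, 2, 0, 2], [2, 0, 0, 2, 0, 2, 0, 2, 0, 2, 0, 0, 2, 1, 2, 0, 2]]⟩, ⟨2, [3238, 3250, 3238, 3358, 283, 3240], 0, 2, [[], [0, 0, 2, 0, 2, 1, 2, 1, 2, 0, 0, 2, 0, 0, 2, 0, 0, 2, 1], [0, 2, 1, 2, 1, 2, 0, 2, 0, 2, 1, 2, 0, 2, 0,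 2, 1]]⟩, ⟨2, [1654, 1661, 1656, 3240], 0, 2, [[], [2, 0, 0, 2, 0, 2, 1, 2, 0, 0, 2, 1, 2, 1, 2, 0, 2, 1, 2, 0, 2, 0], [1, 2, 1, 2, 0, 2, 0, 0, 2, 1, 2, 0, 2, 0]]⟩, ⟨3, [4019, 3239], 2, 0, [[], []]⟩, ⟨2, [3250, 3238, 3290, 3250, 3238, 3866, 282, 3240], 1, 3, [[], [0, 2, 1, 2, 0, 2, 1, 2, 0, 0, 2, 1, 2, 1, 2, 1, 2, 1], [2, 1, 2, 1, 2, 1, 2, 0, 0, 2, 1, 2, 1, 2, 0, 0, 2, 1], [1, 2, 1, 2, 1, 2, 0, 0, 2, 1]]⟩, ⟨3, [4023, 3239, 3251, 3239], 2, 0, [[], []]⟩, ⟨2, [3238, 3250, 3238, 3382, 98, 78, 70, 348, 283, 3240], 1, 3, [[], [2, 1, 2, 0, 0, 2, 0, 0, 2, 0, 2, 0, 2, 1, 2, 1, 2, 1, 2, 0], [0, 0, 2, 1, 2, 0, 2, 0, 2, 0, 0, 2, 0, 0, 2, 1, 2, 0, 2, 0, 2], [1, 2, 0,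 2, 0, 2, 1, 2, 1, 2, 0, 0, 2, 0, 2, 1, 2, 1]]⟩, ⟨3, [4027, 3251], 2, 0, [[], []]⟩, ⟨2, [3238, 3250, 3238, 3849, 368, 3240], 1, 3, [[], [1, 2, 0, 2, 1, 2, 0, 2, 0, 0, 2, 0, 0, 2, 1, 2, 0, 0, 2, 0], [0, 2, 1, 2, 0, 0, 2, 0, 0, 2, 1, 2, 0, 2, 0, 2, 0, 0, 2, 1, 2], [1, 2, 0, 0, 2, 1, 2, 1, 2, 0, 2, 0, 2, 1, 2, 1, 2, 1, 2, 1]]⟩, ⟨3, [4031, 3239], 2, 0, [[], []]⟩, ⟨2, [283, 3240, 3239, 3251, 3707, 3765], 1, 1, [[], [2, 0, 0, 2, 1, 2, 0, 0, 2, 1, 2, 1, 2, 0, 0, 2, 1, 2, 0, 2], [0, 2, 0, 2, 0, 2, 1, 2, 0, 0, 2, 1, 2, 0, 0, 2, 1], [0, 0, 2, 0, 2, 1, 2, 1, 2, 0, 2, 1, 2, 0, 0, 2, 0, 0, 2, 0]]⟩, ⟨3, [4035, 3239, 3251, 3239], 2, 0, [[], []]⟩, ⟨2, [1584, 1661, 1938,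 1654, 1661, 1598, 283, 3240], 1, 3, [[], [2, 0, 2, 0, 0, 2, 0, 2, 0, 0, 2, 0, 0, 2, 1], [0, 0, 2, 1, 2, 0, 2, 0, 0, 2, 0, 0, 2, 0, 2, 1, 2, 0, 0], [0, 2, 0, 0, 2, 1, 2, 1, 2, 1, 2, 0, 0, 2, 1, 2, 0, 2, 0, 0, 2]]⟩, ⟨3, [4039, 3239], 2, 0, [[], []]⟩, ⟨2, [3240, 3239, 3251, 3861, 3265], 1, 1, [[], [2, 0, 2, 0, 2, 0, 0, 2, 0, 0, 2, 0, 2, 0, 2, 0, 2, 0, 0, 2], [0, 2, 0, 2, 0, 0, 2, 1, 2, 0, 2, 1, 2, 0, 2], [0, 0, 2, 0, 0, 2, 0, 0, 2, 0, 0, 2, 1, 2, 0, 0, 2, 0, 2, 0, 0]]⟩, ⟨3, [4043, 3239, 3251], 2, 0, [[], []]⟩, ⟨2, [234, 250, 238, 238, 250, 417, 1342, 3240], 1, 3, [[], [2, 0, 2, 0, 0, 2, 0, 2, 0, 2, 1, 2, 1, 2, 1, 2, 0, 2, 0], [2, 1, 2, 0, 2, 0, 2, 1, 2, 0,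 2, 1, 2, 0, 2], [2, 0, 0, 2, 1, 2, 1, 2, 0, 0, 2, 0, 2, 1, 2, 0, 2, 0, 2, 0, 0]]⟩, ⟨2, [283, 3240, 3251, 3541, 282, 3375], 1, 1, [[], [0, 2, 0, 2, 0, 2, 0, 2, 1, 2, 0, 2, 1, 2], [2, 0, 0, 2, 1, 2, 0, 0, 2, 1, 2, 0, 2, 0, 2, 0, 0, 2, 1, 2], [2, 1, 2, 0, 2, 0, 2, 1, 2, 1]]⟩, ⟨3, [4049, 3239, 3251], 2, 0, [[], []]⟩, ⟨2, [3238, 3512, 2210, 2186, 2211, 2189, 3240], 1, 3, [[], [0, 2, 1, 2, 1, 2, 0, 2, 0, 2, 0, 2, 0, 0, 2, 1, 2, 1, 2, 1, 2], [2, 0, 2, 0, 0, 2, 1, 2, 0, 0, 2, 0, 0, 2, 0, 0, 2, 1, 2, 1, 2, 1], [2, 0, 0, 2, 0, 2, 0, 2, 1, 2, 0, 2, 1, 2, 1, 2, 1, 2, 0, 0, 2, 0, 0]]⟩, ⟨2, [2754, 2754, 3118, 283, 1022, 3240], 1, 3, [[], [1, 2, 0, 0, 2, 0, 0, 2, 1, 2,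 0, 0], [1, 2, 0, 2, 1, 2, 0, 2, 1, 2, 0, 0, 2, 0, 2, 0, 2], [2, 0, 0, 2, 0, 0, 2, 0, 2, 1, 2, 1, 2, 0, 2, 1, 2, 0, 2]]⟩, ⟨3, [4055, 3251], 2, 0, [[], []]⟩, ⟨2, [232, 245, 232, 2306, 2186, 2278, 282, 3240], 1, 3, [[], [0, 2, 0, 0, 2, 0, 2, 0, 0, 2, 0, 2, 1, 2, 1, 2, 0, 0, 2], [0, 2, 0, 2, 1, 2, 0, 2, 0], [2, 0, 2, 0, 0, 2, 1, 2, 0, 2, 1, 2]]⟩, ⟨3, [4059, 3239, 3251], 2, 0, [[], []]⟩, ⟨2, [283, 1176, 283, 1175, 283, 3240], 1, 3, [[], [2, 1, 2, 0, 0, 2, 0, 2, 0, 0, 2, 1, 2, 0, 2, 1], [2, 0, 2, 1, 2, 0, 2, 0, 0, 2, 0, 0, 2, 0, 0, 2, 0], [0, 2, 0, 0, 2, 1, 2, 0, 2, 0, 0, 2, 0, 2, 0, 2, 1, 2, 1]]⟩, ⟨3, [4063, 3239], 2, 0, [[], []]⟩, ⟨2, [282, 3240, 3239, 4052,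 3251, 3239, 3771], 1, 1, [[], [1, 2, 1, 2, 0, 2, 0, 0, 2, 0, 2, 1, 2, 0, 2], [2, 0, 2, 0, 2, 1, 2, 1, 2, 0, 2, 0, 2, 0, 0, 2, 1, 2, 0, 0, 2, 0], [1, 2, 0, 0, 2, 0, 0, 2, 0, 0, 2, 0, 2, 1, 2, 1]]⟩, ⟨3, [4067, 3239, 3251], 2, 0, [[], []]⟩, ⟨2, [898, 1368, 282, 3240], 1, 3, [[], [0, 2, 0, 0, 2, 1, 2, 0, 0, 2, 0], [2, 1, 2, 0, 0, 2, 0, 2, 0, 2, 0, 2, 0, 0, 2, 0, 2, 0, 2, 1, 2, 1], [2, 0, 2, 1, 2, 1, 2, 0, 0, 2, 1, 2, 0, 2, 0, 2, 0, 2]]⟩] 1963 2036 = true := by decide +kernel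
theorem dd_c29 : dd.checks [⟨3, [4071, 3251, 3239], 2, 0, [[], []]⟩, ⟨2, [282, 692, 283, 1292, 282, 3240], 1, 3, [[], [2, 0, 2, 0, 0, 2, 0, 2, 0, 0, 2, 1, 2, 0, 2, 0, 2, 0, 2, 0, 0], [0, 2, 0, 2, 0, 2, 0, 0, 2, 0, 0, 2, 0, 2, 1, 2, 0, 0, 2, 1, 2], [2, 0, 2, 0, 2, 0, 0, 2, 0, 0, 2, 0, 0, 2, 0, 2, 0, 0, 2, 0]]⟩, ⟨3, [4075, 3239, 3251], 2, 0, [[], []]⟩, ⟨2, [282, 3240, 3251, 3239, 3283, 195, 3665], 1, 1, [[], [1, 2, 0, 2, 1, 2, 0, 2, 0, 0, 2, 0, 0, 2, 1, 2, 1, 2], [2, 0, 2, 0, 2, 0, 2, 0, 2, 1, 2, 1, 2, 0, 2, 1, 2, 0, 2, 1], [1, 2, 1, 2, 0, 0, 2, 0, 2, 1, 2, 0, 0, 2, 0, 0, 2, 0, 0]]⟩, ⟨3, [4079, 3239], 2, 0, [[], []]⟩, ⟨2, [2754, 2704, 3062, 283, 1532, 282,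 3240], 1, 3, [[], [1, 2, 1, 2, 0, 0, 2, 0, 2, 1, 2, 0, 2, 0, 2, 1, 2, 0, 2, 1], [0, 2, 1, 2, 0, 2, 1, 2, 0, 2, 1, 2, 0, 2, 0, 2, 0, 0, 2, 0, 0], [0, 2, 0, 2, 0, 0, 2, 0, 2, 0, 0, 2, 0, 0, 2, 1, 2, 1, 2, 0]]⟩, ⟨3, [4083, 3251, 3239], 2, 0, [[], []]⟩, ⟨2, [3238, 3250, 3682, 282, 1124, 283, 3240], 1, 3, [[], [1, 2, 0, 2, 1, 2, 0, 0, 2, 0, 2, 0, 2, 0, 0, 2, 0, 0, 2, 1], [2, 0, 0, 2, 0, 2, 0, 2, 0, 0, 2, 0, 0, 2, 1, 2, 1, 2, 0, 0, 2, 0, 0], [2, 0, 0, 2, 1, 2, 0, 2, 0, 0, 2, 0, 0, 2, 0, 0, 2, 0, 0, 2, 0]]⟩, ⟨2, [282, 1200, 283, 3240, 3251, 3581], 1, 2, [[], [2, 0, 2, 1, 2, 0, 2, 0, 2, 0, 0, 2, 0, 2, 1, 2, 0, 0, 2, 0, 2], [0, 2, 0, 2, 1, 2, 1, 2, 1, 2, 1], [0,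 2, 1, 2, 1, 2, 0, 0, 2, 0, 0, 2, 1, 2, 0, 2, 1, 2, 0, 0, 2, 0]]⟩, ⟨3, [4089, 3239], 2, 0, [[], []]⟩, ⟨2, [1490, 283, 1222, 283, 3240], 1, 3, [[], [0, 0, 2, 1, 2, 0, 2, 0, 2, 0, 0, 2, 1, 2, 1, 2, 0, 0], [1, 2, 1, 2, 0, 0, 2, 0, 2, 1, 2, 0, 0, 2, 1, 2, 1, 2, 0, 0], [2, 1, 2, 0, 2, 1, 2, 1, 2, 0, 2, 0, 0, 2, 0, 2, 1, 2, 1, 2, 0]]⟩, ⟨3, [4093, 3251, 3239], 2, 0, [[], []]⟩, ⟨2, [283, 892, 283, 774, 282, 3240], 1, 3, [[], [0, 2, 1, 2, 1, 2, 0, 2, 0, 2, 0, 0, 2, 0, 0, 2, 0, 0], [1, 2, 1, 2, 1, 2, 1, 2, 0, 0, 2, 0, 0, 2, 1], [0, 0, 2, 0, 0, 2, 1, 2, 1, 2, 1, 2, 0, 0, 2, 0, 0, 2, 1]]⟩, ⟨2, [2460, 2396, 2490, 283, 3240], 1, 3, [[], [2, 1, 2, 0, 0, 2, 0, 2, 1, 2,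 0, 0, 2, 0, 0, 2, 1, 2, 0, 2, 1], [2, 0, 2, 1, 2, 0, 0, 2, 1, 2, 1, 2, 1, 2, 1, 2, 1, 2, 1], [2, 1, 2, 0, 2, 1, 2, 1, 2, 1, 2, 0, 0, 2, 0, 0, 2, 0, 2, 1, 2, 0]]⟩, ⟨3, [4099, 3251, 3239], 2, 0, [[], []]⟩, ⟨2, [3238, 3489, 1314, 3240], 1, 3, [[], [1, 2, 0, 0, 2, 1, 2, 0, 0, 2, 0, 0, 2, 0, 0, 2, 0, 2, 0], [1, 2, 0, 2, 0, 2, 1, 2, 0, 2, 0, 2, 0, 0, 2, 0, 2, 0, 0, 2], [2, 0, 2, 0, 2, 1, 2, 0, 0, 2, 0, 2, 0, 2, 1, 2, 1, 2]]⟩, ⟨3, [4103, 3239, 3251, 3239], 2, 0, [[], []]⟩, ⟨2, [282, 1070, 283, 1068, 283, 3240], 1, 3, [[], [0, 0, 2, 0, 2, 0, 2, 1, 2, 0, 2, 1, 2, 0], [2, 1, 2, 0, 2, 0, 0, 2, 0, 0, 2, 0, 0, 2, 1, 2, 1, 2, 0, 2, 1, 2, 0, 0], [1, 2, 0, 0, 2, 0, 0,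 2, 0, 2, 0, 2, 1, 2, 0, 2, 0, 0]]⟩, ⟨3, [4107, 3239, 3251], 2, 0, [[], []]⟩, ⟨2, [1654, 1661, 2090, 1584, 1660, 1796, 283, 3240], 1, 3, [[], [0, 2, 0, 0, 2, 0, 0, 2, 0, 0, 2, 0, 2, 0, 2, 0, 2, 1, 2, 0], [2, 0, 2, 1, 2, 1, 2, 0, 0, 2, 0, 0, 2, 1, 2, 0, 0, 2, 0, 0], [0, 2, 0, 2, 0, 2, 0, 2, 0, 0, 2, 0, 0, 2, 0, 0, 2, 0, 2, 0]]⟩, ⟨3, [4111, 3239], 2, 0, [[], []]⟩, ⟨2, [3666, 3539, 283, 3240], 1, 3, [[], [0, 0, 2, 0, 2, 1, 2, 1, 2, 0, 2, 0, 0, 2, 1, 2, 1, 2, 0], [0, 2, 0, 2, 1, 2, 0, 0, 2, 0, 0, 2, 1, 2, 1, 2, 0, 0, 2, 1, 2], [0, 2, 0, 2, 0, 0, 2, 1, 2, 0, 0, 2, 0, 2, 0, 2, 0, 0, 2, 0, 0]]⟩, ⟨3, [4115, 3251, 3239], 2, 0, [[], []]⟩, ⟨2, [2416, 2424, 2472, 282,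 880, 282, 3240], 1, 3, [[], [0, 0, 2, 1, 2, 0, 0, 2, 0, 2, 0, 2, 0, 2, 1, 2, 1, 2, 1, 2], [2, 0, 0, 2, 0, 0, 2, 0, 2, 0, 2, 1, 2, 0, 2, 0, 0, 2, 0, 2, 0, 0], [0, 0, 2, 0, 0, 2, 0, 0, 2, 1, 2, 0, 0, 2, 0, 2, 1, 2, 1]]⟩, ⟨3, [4119, 3239, 3251, 3239], 2, 0, [[], []]⟩, ⟨2, [2754, 2704, 2754, 2754, 2970, 2210, 2186, 2183, 282, 3240], 1, 3, [[], [1, 2, 1, 2, 0, 0, 2, 1, 2, 0, 0, 2, 1, 2, 1, 2, 1, 2, 1, 2], [0, 2, 0, 0, 2, 1, 2, 1, 2, 1, 2, 0, 0, 2, 1, 2, 1, 2, 1], [2, 1, 2, 0, 0, 2, 1, 2, 1, 2, 0, 0, 2, 0, 0, 2, 1, 2, 0, 2, 0]]⟩, ⟨3, [4123, 3239], 2, 0, [[], []]⟩, ⟨2, [2704, 2754, 3174, 282, 388, 282, 3240], 1, 3, [[], [2, 0, 2, 0, 0, 2, 1, 2, 1, 2, 0, 2, 0,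 0, 2, 0, 0, 2, 0, 2, 1], [0, 2, 0, 2, 0, 2, 0, 2, 0, 0, 2, 0, 0, 2, 0, 0, 2, 0, 2], [2, 1, 2, 0, 2, 0, 2, 0, 0, 2, 0, 0, 2, 0, 2, 0, 2, 1, 2, 0, 2]]⟩, ⟨2, [2754, 2754, 2868, 283, 804, 3240], 1, 3, [[], [2, 1, 2, 0, 2, 0, 2, 0, 0, 2, 1, 2, 0, 2, 1, 2, 0, 2, 0, 2, 0, 2, 0], [1, 2, 0, 0, 2, 0, 2, 0, 2, 0, 0, 2, 0, 0, 2, 0, 0, 2, 1], [1, 2, 0, 0, 2, 0, 2, 0, 2, 1, 2, 0, 2, 1, 2, 0, 2, 0, 0, 2]]⟩, ⟨3, [4129, 3239], 2, 0, [[], []]⟩, ⟨2, [3240, 3251, 3257, 283, 3493], 1, 1, [[], [2, 1, 2, 0, 2, 0, 0, 2, 1, 2, 1, 2, 1, 2, 1, 2, 0, 2, 1, 2, 1], [1, 2, 1, 2, 1, 2, 0, 0, 2, 0, 2, 1, 2, 1, 2, 0, 2, 1, 2, 0, 2], [2, 0, 0, 2, 0, 2, 0, 0, 2, 1, 2, 1, 2, 0, 2, 0, 0, 2]]⟩,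 ⟨2, [3250, 3238, 3323, 980, 282, 3240], 1, 3, [[], [0, 2, 0, 2, 0, 2, 1, 2, 0, 0, 2, 1, 2, 0, 2, 1, 2, 0, 0], [0, 2, 0, 2, 1, 2, 1, 2, 0, 0, 2, 1, 2, 0, 2, 0, 2], [2, 0, 0, 2, 0, 2, 1, 2, 0, 0, 2, 1, 2, 0, 2, 1, 2, 0, 2]]⟩, ⟨2, [3250, 3238, 3806, 190, 195, 209, 550, 282, 3240], 1, 3, [[], [0, 2, 1, 2, 0, 0, 2, 0, 2, 0, 2, 0, 2, 1, 2, 1, 2, 1, 2, 0, 0], [0, 0, 2, 0, 2, 1, 2, 0, 0, 2, 1, 2, 0, 0, 2, 1, 2, 0, 2, 0, 0, 2], [2, 0, 2, 0, 0, 2, 0, 0, 2, 1, 2, 0, 2, 1, 2, 1, 2, 0, 2]]⟩, ⟨3, [4137, 3239, 3251, 3239], 2, 0, [[], []]⟩, ⟨2, [282, 378, 98, 78, 70, 572, 3240], 1, 3, [[], [1, 2, 0, 2, 1, 2, 1, 2, 0, 0, 2, 1, 2, 0, 0, 2, 0, 2, 1, 2, 0, 2], [0, 2, 0, 2,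 0, 2, 1, 2, 1, 2, 1, 2, 1, 2, 1, 2, 0, 2, 0], [2, 1, 2, 0, 0, 2, 0, 2, 1, 2, 1, 2, 0, 0, 2, 0, 0, 2, 0, 0, 2, 0]]⟩, ⟨2, [1584, 1594, 1944, 1200, 282, 3240], 1, 3, [[], [1, 2, 1, 2, 1, 2, 0, 0, 2, 0, 2, 0, 2, 0, 0, 2, 0, 2, 0, 0, 2, 1, 2], [0, 0, 2, 0, 2, 0, 0, 2, 0, 2, 0, 0, 2, 1, 2, 1, 2], [1, 2, 1, 2, 0, 0, 2, 0, 2, 1, 2, 1, 2, 1, 2, 1, 2, 0, 0, 2, 0, 0]]⟩, ⟨3, [4143, 3251], 2, 0, [[], []]⟩, ⟨2, [2358, 3406, 3238, 3250, 3628, 3240], 1, 3, [[], [2, 0, 0, 2, 1, 2, 1, 2, 0, 2, 1, 2, 0, 2, 1, 2, 1], [2, 0, 0, 2, 0, 0, 2, 0, 2, 0, 0, 2, 0, 2, 0, 2, 0, 0, 2], [2, 0, 0, 2, 0, 0, 2, 1, 2, 1, 2, 0, 2, 0, 2, 1, 2, 0]]⟩, ⟨3, [4147, 3251], 2, 0, [[], []]⟩, ⟨2, [282,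 1768, 1730, 283, 3240], 1, 3, [[], [2, 0, 2, 0, 2, 0, 2, 0, 0, 2, 0, 2, 0, 2, 0, 2, 0, 2, 0, 0, 2, 0], [2, 1, 2, 0, 2, 0, 0, 2, 0, 0, 2, 1, 2, 0, 0, 2, 0, 2, 0, 0, 2], [2, 1, 2, 1, 2, 1, 2, 1, 2, 1, 2, 0, 2, 0, 2, 0, 2, 1]]⟩, ⟨3, [4151, 3239], 2, 0, [[], []]⟩, ⟨2, [282, 444, 283, 1070, 282, 3240], 1, 3, [[], [2, 0, 2, 1, 2, 1, 2, 0, 2, 0, 2, 0, 0, 2, 0, 0, 2, 0, 2, 0], [1, 2, 0, 0, 2, 0, 2, 0, 2, 1, 2, 0, 0, 2, 0, 2, 0, 2, 1, 2, 1, 2, 0, 0], [1, 2, 0, 0, 2, 0, 2, 0, 2, 0, 2, 1, 2, 1, 2, 1, 2]]⟩, ⟨3, [4155, 3239], 2, 0, [[], []]⟩, ⟨2, [2417, 2458, 283, 691, 282, 3240], 1, 3, [[], [2, 1, 2, 1, 2, 1, 2, 0, 2, 0, 2, 0, 2, 0, 2, 1, 2, 0, 2, 0], [2, 0, 0, 2,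 0, 2, 0, 2, 0, 0, 2, 1, 2, 0, 2, 1, 2, 1, 2], [2, 0, 0, 2, 0, 2, 0, 0, 2, 0, 2, 1, 2, 0, 2, 0, 2, 0, 0, 2]]⟩, ⟨3, [4159, 3239, 3251], 2, 0, [[], []]⟩, ⟨2, [283, 768, 1194, 283, 3240], 1, 3, [[], [0, 2, 1, 2, 0, 2, 0, 2, 0, 0, 2, 1, 2, 0, 2, 1, 2, 0, 0, 2, 0, 2, 0, 0], [0, 2, 0, 0, 2, 0, 0, 2, 0, 2, 1, 2, 0, 2, 0, 0, 2, 0, 2, 0], [0, 2, 0, 2, 1, 2, 0, 0, 2, 0, 2, 0, 2, 0, 0, 2, 0]]⟩, ⟨2, [3238, 3250, 3238, 3858, 1584, 1660, 1842, 283, 3240], 1, 3, [[], [2, 0, 2, 0, 2, 1, 2, 0, 2, 0, 2, 1, 2, 1, 2, 1], [0, 2, 0, 2, 0, 0, 2, 1, 2, 0, 0, 2, 0, 2, 0, 0, 2], [1, 2, 1, 2, 1, 2, 0, 2, 0, 2, 1, 2, 1, 2]]⟩, ⟨2, [3238, 3876, 282, 3240, 3305], 1, 2, [[], [1, 2, 0,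 0, 2, 1, 2, 1, 2, 0, 0, 2, 1, 2, 0, 2, 1, 2, 0, 2], [1, 2, 0, 0, 2, 1, 2, 0, 2, 0, 2, 1, 2, 0, 0, 2, 1, 2, 0, 0], [2, 1, 2, 1, 2, 0, 0, 2, 1, 2, 0, 0, 2, 0, 2, 1, 2, 0, 2, 0, 0, 2, 1]]⟩, ⟨3, [4167, 282], 2, 0, [[], []]⟩, ⟨2, [2546, 2358, 2552, 283, 3240], 1, 3, [[], [0, 2, 1, 2, 1, 2, 0, 0, 2, 0, 0, 2, 0, 0, 2, 1], [0, 0, 2, 1, 2, 0, 2, 1, 2, 0, 2], [0, 2, 1, 2, 1, 2, 0, 0, 2, 0, 2, 0, 0, 2, 0, 0, 2, 0, 2, 1]]⟩, ⟨3, [4171, 3251], 2, 0, [[], []]⟩, ⟨2, [78, 70, 2710, 2704, 2754, 2855, 283, 3240], 1, 3, [[], [2, 0, 0, 2, 1, 2, 0, 0, 2, 0, 2, 0, 2, 0, 2, 0, 0], [2, 1, 2, 1, 2, 0, 2, 0, 2, 0, 0], [0, 2, 0, 2, 1, 2, 0, 2, 0, 2, 1, 2, 0, 0, 2, 0, 2]]⟩, ⟨3, [4175,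 3251, 3239], 2, 0, [[], []]⟩, ⟨2, [2396, 2333, 282, 1292, 283, 3240], 1, 3, [[], [0, 2, 0, 2, 1, 2, 0, 0, 2, 0, 2, 0, 2, 0, 2, 0, 2, 1, 2, 1, 2, 0], [0, 2, 0, 2, 1, 2, 0, 2, 1, 2, 0, 2, 0, 2, 0, 0], [0, 2, 0, 2, 1, 2, 0, 0, 2, 0, 2, 0, 2, 0, 2, 0, 2, 1, 2, 0, 0]]⟩, ⟨2, [3241, 283, 716, 282, 3240], 1, 3, [[], [1, 2, 1, 2, 0, 2], [1, 2, 0, 0, 2, 0, 2, 1, 2, 0, 2, 1, 2, 0, 2, 1, 2, 1], [2, 1, 2, 1, 2, 1, 2, 0, 2, 1, 2, 0, 2, 0, 0, 2, 0]]⟩, ⟨2, [283, 1012, 282, 315, 3240], 1, 3, [[], [2, 0, 0, 2, 0, 0, 2, 1, 2, 1, 2, 1, 2, 0, 0], [2, 0, 2, 1, 2, 1, 2, 0, 2, 0, 2, 0, 2, 0, 0, 2, 0, 2], [1, 2, 1, 2, 0, 2, 0, 2, 0, 2, 0, 0, 2, 0, 2, 1, 2]]⟩, ⟨3, [4183, 3251],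 2, 0, [[], []]⟩, ⟨2, [283, 1362, 282, 1306, 282, 3240], 1, 3, [[], [2, 1, 2, 0, 2, 1, 2, 0, 2, 0, 0, 2, 0, 0, 2, 0, 0], [1, 2, 1, 2, 0, 2, 0, 0, 2, 1, 2, 0, 0, 2, 0, 2, 1, 2, 1, 2, 0], [2, 0, 2, 0, 0, 2, 0, 2, 0, 2, 0, 2, 1, 2, 0, 0, 2, 0]]⟩, ⟨3, [4187, 3239, 3251], 2, 0, [[], []]⟩, ⟨2, [282, 770, 282, 1347, 283, 3240], 1, 3, [[], [2, 0, 0, 2, 0, 2, 0, 0, 2, 0, 2, 0, 2, 1, 2, 1, 2, 1], [0, 2, 0, 2, 0, 2, 0, 0, 2, 1, 2, 0, 2, 0, 2, 0, 0, 2, 0, 2, 1], [1, 2, 1, 2, 0, 0, 2, 0, 0, 2, 0, 0, 2, 0, 0]]⟩, ⟨3, [4191, 3239], 2, 0, [[], []]⟩, ⟨2, [3238, 3725, 1000, 3240], 1, 3, [[], [0, 0, 2, 0, 0, 2, 0, 2, 1, 2, 0, 0, 2, 1, 2, 1, 2, 0, 2, 1], [1, 2, 0, 2, 0, 2, 0,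 0, 2, 0, 2, 1, 2, 0, 2, 1, 2, 1], [0, 2, 0, 0, 2, 0, 2, 0, 2, 0, 2, 0, 2, 0, 0, 2, 0, 2, 1]]⟩, ⟨2, [1918, 1584, 1655, 1627, 3240], 1, 3, [[], [2, 1, 2, 1, 2, 1, 2, 0, 2, 1, 2, 0, 0, 2, 0, 2, 0, 2, 0, 2, 0, 2], [0, 2, 1, 2, 1, 2, 1, 2, 1, 2, 1, 2, 1, 2, 1, 2, 0, 2, 1, 2, 0, 0], [2, 1, 2, 1, 2, 1, 2, 0, 2, 1, 2, 0, 2, 1, 2, 1, 2, 0, 2, 1, 2]]⟩, ⟨3, [4197, 3239, 3251], 2, 0, [[], []]⟩, ⟨2, [1285, 283, 590, 283, 3240], 1, 3, [[], [1, 2, 1, 2, 0, 0, 2, 1, 2, 0, 2, 1, 2, 1, 2, 0, 2, 0, 2, 0, 2, 1], [0, 0, 2, 0, 0, 2, 0, 0, 2, 1, 2, 1, 2, 1, 2, 0, 0, 2, 0, 2, 0, 0], [1, 2, 0, 2, 0, 0, 2, 1, 2, 0, 0, 2, 0, 2, 0, 0, 2, 0, 0]]⟩, ⟨3, [4201, 3239, 3251], 2, 0, [[],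 []]⟩, ⟨2, [57, 45, 468, 283, 694, 283, 3240], 1, 3, [[], [2, 0, 0, 2, 0, 2, 0, 2, 0, 2, 0, 0, 2, 1, 2, 0, 0, 2, 0, 2, 1, 2], [2, 0, 0, 2, 0, 0, 2, 0, 2, 1, 2, 0, 2, 0, 0, 2, 0, 2, 0], [0, 2, 0, 0, 2, 0, 2, 0, 2, 0, 2, 1, 2, 0, 0, 2, 0, 0, 2, 0, 2, 0]]⟩, ⟨3, [4205, 3239], 2, 0, [[], []]⟩, ⟨2, [282, 535, 3240, 3251, 3239, 3573], 1, 2, [[], [0, 2, 1, 2, 1, 2, 1, 2, 0, 0, 2, 0, 0, 2, 1, 2, 0, 0, 2, 0], [2, 0, 0, 2, 1, 2, 1, 2, 0, 0, 2, 0, 2, 0, 2, 0, 2, 0, 0], [0, 2, 0, 2, 0, 2, 1, 2, 0, 0, 2, 0, 0, 2, 0, 2]]⟩] 2036 2105 = true := by decide +kernel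

end Cfsg.Agent.J4C.C
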