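import Cfsg.Agent.J4C.C.DceD0

set_option autoImplicit false
set_option Elab.async false
set_option maxRecDepth 100000
set_option linter.all false

namespace Cfsg.Agent.J4C.C
open Cfsg.Agent.CGT

theorem dd_c30 : dd.checks [⟨3, [4209, 3239, 3251, 3239], 2, 0, [[], []]⟩, ⟨2, [2754, 2872, 283, 972, 3240], 1, 3, [[], [1, 2, 1, 2, 1, 2, 1, 2, 0, 0, 2, 0, 2, 1, 2, 0, 0, 2], [0, 2, 0, 2, 0, 2, 0, 2, 0, 0, 2, 0, 2, 0, 2, 1, 2, 0, 2, 1, 2, 0, 0], [1, 2, 1, 2, 1, 2, 0, 2, 1, 2, 0, 2, 1, 2, 1, 2, 0, 0, 2, 0, 0]]⟩, ⟨3, [4213, 3239, 3251], 2, 0, [[], []]⟩, ⟨2, [3238, 3489, 283, 526, 282, 3240], 1, 3, [[], [0, 2, 0, 2, 0, 0, 2, 1, 2, 0, 0, 2, 0, 2, 0, 2, 0, 0, 2, 0, 0,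 2, 1], [2, 0, 2, 1, 2, 1, 2, 0, 0, 2, 0, 2, 1, 2, 1, 2, 0, 0, 2, 0, 0, 2], [0, 2, 0, 0, 2, 0, 0, 2, 1, 2, 1, 2, 0, 2, 0, 0, 2, 0]]⟩, ⟨2, [372, 1052, 282, 3240], 1, 3, [[], [0, 2, 1, 2, 0, 2, 0, 0, 2, 0, 0, 2, 0, 2, 1], [1, 2, 1, 2, 1, 2, 0, 0, 2, 0, 2, 1, 2, 0, 2, 1, 2, 0, 2], [2, 0, 2, 0, 0, 2, 1, 2, 0, 2, 1, 2, 0, 0, 2, 1, 2, 1, 2]]⟩, ⟨3, [4219, 3251, 3239], 2, 0, [[], []]⟩, ⟨2, [404, 283, 3240, 3995], 1, 2, [[], [1, 2, 0, 0, 2, 0, 2, 0, 2, 1, 2, 0, 0, 2, 0, 0, 2, 1, 2, 0, 2, 1], [0, 0, 2, 1, 2, 0, 2, 1, 2, 0, 0, 2, 1, 2, 1, 2, 0, 2, 0, 0, 2], [0, 0, 2, 0, 2, 0, 0, 2, 1, 2, 0, 2, 0, 2]]⟩, ⟨3, [4223, 3239, 3251, 3239], 2, 0, [[], []]⟩, ⟨2, [282, 3240, 3291,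 3239, 4139], 1, 1, [[], [0, 0, 2, 0, 0, 2, 0, 2, 0, 0, 2, 0, 2, 0, 2, 0, 2, 0, 0, 2], [1, 2, 1, 2, 0, 2, 0, 2, 0, 0, 2, 0, 0, 2, 0, 2, 0, 2, 1], [2, 1, 2, 0, 0, 2, 1, 2, 1, 2, 1, 2, 1, 2, 0, 2, 1, 2, 0, 0, 2, 0]]⟩, ⟨3, [4227, 3239], 2, 0, [[], []]⟩, ⟨2, [283, 3502, 3238, 3446, 282, 3240], 1, 3, [[], [1, 2, 0, 2, 0, 0, 2, 1, 2, 1, 2, 0, 0, 2, 0, 2, 0, 2, 0], [0, 0, 2, 0, 2, 0, 0, 2, 0, 2, 0, 0, 2, 1, 2, 0, 0, 2, 0, 0], [2, 0, 2, 0, 0, 2, 1, 2, 0, 0, 2, 0, 2, 0, 2, 0, 0, 2, 0, 0, 2, 0]]⟩, ⟨3, [4231, 3239], 2, 0, [[], []]⟩, ⟨2, [2704, 2754, 2894, 1370, 3240], 1, 3, [[], [1, 2, 1, 2, 1, 2, 1, 2, 0, 2, 0, 2, 1, 2, 0, 2, 0, 0, 2, 0], [2, 0, 2, 1, 2, 1, 2, 1, 2,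 0, 0, 2, 1, 2, 1, 2, 0, 0, 2, 0], [2, 0, 0, 2, 0, 0, 2, 0, 0, 2, 1, 2, 1, 2, 0, 0, 2, 0, 2, 1]]⟩, ⟨3, [4235, 3251, 3239], 2, 0, [[], []]⟩, ⟨2, [282, 4163, 3238, 3250, 3238, 3354, 283, 3240], 1, 3, [[], [1, 2, 1, 2, 0, 2, 0, 2, 1, 2, 0, 2, 1, 2, 0], [1, 2, 0, 0, 2, 0, 0, 2, 0, 2, 1, 2, 0, 0, 2, 0], [2, 1, 2, 0, 2, 1, 2, 1, 2, 0, 2, 0, 2, 0, 2, 1, 2, 0, 0]]⟩, ⟨3, [4239, 3251], 2, 0, [[], []]⟩, ⟨2, [283, 768, 283, 752, 283, 3240], 1, 3, [[], [2, 0, 0, 2, 0, 2, 0, 2, 0, 2, 0, 2, 0, 0, 2, 0, 2, 0, 2, 0, 2, 0], [2, 1, 2, 1, 2, 1, 2, 0, 2, 0, 2, 0, 2, 0, 2, 1, 2, 0, 2, 0], [1, 2, 0, 2, 1, 2, 0, 0, 2, 0, 0]]⟩, ⟨3, [4243, 3239, 3251, 3239], 2, 0, [[], []]⟩, ⟨2, [3238,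 3250, 3238, 3370, 1584, 1661, 1748, 282, 3240], 1, 3, [[], [1, 2, 0, 2, 0, 2, 0, 2, 1, 2, 1, 2, 0, 2, 0, 2, 0, 0, 2, 0, 2], [0, 2, 0, 0, 2, 0, 2, 0, 2, 0, 0, 2, 0, 0, 2, 1, 2, 0, 2, 0], [1, 2, 0, 0, 2, 0, 2, 0, 0, 2, 0, 2, 0, 0, 2, 0, 2, 0, 0, 2, 1]]⟩, ⟨3, [4247, 3239, 3251], 2, 0, [[], []]⟩, ⟨2, [3250, 3238, 3558, 3240, 3239, 3889], 1, 2, [[], [0, 2, 0, 2, 0, 2, 1, 2, 0, 2, 1, 2, 0, 0, 2], [1, 2, 0, 2, 0, 0, 2, 0, 2, 0, 2, 0, 2, 1, 2, 0, 0, 2], [2, 1, 2, 0, 0, 2, 0, 2, 0, 2, 1, 2, 1, 2, 1, 2, 1]]⟩, ⟨2, [282, 3908, 3250, 3238, 3393, 283, 3240], 1, 3, [[], [1, 2, 0, 2, 1, 2, 0, 0, 2, 0, 0, 2, 1, 2, 1, 2, 0, 2, 0], [2, 0, 0, 2, 1, 2, 0, 2, 0, 2, 0, 2, 0, 2,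 1], [1, 2, 1, 2, 1, 2, 0, 0, 2, 0, 0, 2, 0, 0, 2, 1, 2, 1, 2, 0, 0, 2, 0]]⟩, ⟨3, [4253, 3251], 2, 0, [[], []]⟩, ⟨2, [283, 1030, 282, 3240, 3251, 3239, 3277], 1, 2, [[], [2, 0, 0, 2, 0, 2, 1, 2, 0, 0, 2, 0, 2, 0, 2, 0, 2, 0, 0, 2], [2, 1, 2, 0, 2, 1, 2, 1, 2, 1, 2, 0, 0, 2, 1, 2, 1, 2, 0, 0, 2, 0, 0], [2, 0, 0, 2, 0, 2, 0, 2, 0, 0, 2, 1, 2, 0, 2, 0, 0]]⟩, ⟨2, [2358, 2417, 2490, 283, 1229, 282, 3240], 1, 3, [[], [0, 0, 2, 1, 2, 0, 2, 0, 2, 0, 0, 2, 0, 2, 0, 2, 0, 0, 2, 0, 0], [2, 0, 0, 2, 0, 2, 1, 2, 0, 2, 1, 2, 1, 2, 0, 2, 0, 2, 0, 2, 0], [2, 1, 2, 0, 2, 0, 2, 1, 2, 1, 2, 1, 2, 1, 2, 0, 0, 2, 0, 2, 1]]⟩, ⟨3, [4259, 3239, 3251], 2, 0, [[], []]⟩, ⟨2, [283,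 1276, 3240, 3251, 3850], 1, 2, [[], [0, 0, 2, 0, 0, 2, 0, 2, 0, 2, 1, 2, 1, 2, 1, 2, 1, 2, 0, 2, 0], [2, 0, 0, 2, 0, 0, 2, 0, 0, 2, 0, 2, 1, 2, 1, 2, 1, 2, 1, 2, 0], [0, 2, 0, 2, 0, 2, 0, 2, 0, 0, 2, 1, 2, 0, 2, 1]]⟩, ⟨3, [4263, 3239, 3251], 2, 0, [[], []]⟩, ⟨2, [603, 282, 3240, 3239, 4023], 1, 2, [[], [2, 0, 2, 0, 0, 2, 1, 2, 1, 2, 1, 2, 0], [2, 0, 2, 0, 2, 0, 0, 2, 1, 2, 0, 2, 1, 2, 0, 2, 0, 2, 1, 2, 0], [2, 0, 0, 2, 0, 0, 2, 0, 0, 2, 0, 2, 0, 2, 0]]⟩, ⟨3, [4267, 3239, 3251, 3239], 2, 0, [[], []]⟩, ⟨2, [2755, 2704, 2853, 282, 3240, 3251, 3239, 3855], 1, 2, [[], [0, 2, 0, 2, 1, 2, 0, 0, 2, 0, 0, 2, 1, 2, 1, 2, 0, 0, 2, 0], [0, 2, 0, 2, 1, 2, 0, 2, 1, 2,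 0, 0, 2, 0, 2, 0, 2, 0, 0, 2, 0], [2, 0, 2, 0, 2, 1, 2, 0, 0, 2, 0, 0, 2, 0, 2, 0, 0, 2, 0]]⟩, ⟨2, [2180, 2210, 2214, 1258, 3240], 1, 3, [[], [2, 0, 2, 1, 2, 0, 2, 1, 2, 0, 2, 1, 2, 1, 2, 0, 0, 2, 1, 2, 1], [2, 1, 2, 1, 2, 1, 2, 0, 2, 1, 2, 0, 0, 2, 0, 2, 0, 2, 0, 0, 2], [0, 2, 0, 2, 0, 2, 0, 2, 0, 0, 2, 1, 2, 1, 2, 0, 0]]⟩, ⟨2, [3250, 3358, 282, 3240, 3251, 3239, 3357], 1, 2, [[], [1, 2, 1, 2, 1, 2, 0, 0, 2, 0, 0, 2, 1, 2, 0, 0, 2, 1, 2], [2, 1, 2, 0, 0, 2, 0, 2, 1, 2, 1, 2, 1, 2, 0, 0, 2, 1, 2, 1], [2, 0, 0, 2, 1, 2, 0, 0, 2, 0, 2, 1, 2, 0, 2, 0, 0, 2, 0, 2, 0]]⟩, ⟨2, [1584, 1661, 2674, 2314, 2424, 2343, 283, 3240], 1, 0, [[], [1, 2, 1, 2, 0, 2, 1, 2,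 0, 0, 2, 0, 0, 2, 1, 2, 1, 2, 0, 0, 2], [0, 2, 0, 2, 1, 2, 1, 2, 0, 2, 1, 2, 0, 0, 2, 1], [0, 2, 0, 0, 2, 1, 2, 1, 2, 0, 2, 0, 2, 1, 2, 0, 2, 1, 2, 0]]⟩, ⟨3, [4277, 3251, 3239], 2, 0, [[], []]⟩, ⟨2, [283, 3240, 3239, 3251, 3239, 4157, 283, 3321], 1, 2, [[], [0, 2, 0, 0, 2, 0, 0, 2, 1, 2, 1, 2, 0, 2], [2, 1, 2, 1, 2, 1, 2, 0, 2, 0, 2, 1, 2, 1, 2, 1, 2], [2, 0, 0, 2, 1, 2, 0, 2, 0, 0, 2, 1, 2, 1, 2, 0, 2, 0, 2, 1, 2, 1]]⟩, ⟨3, [4281, 3251, 3239], 2, 0, [[], []]⟩, ⟨2, [282, 3240, 3251, 3239, 3855, 3251, 4195], 1, 2, [[], [0, 2, 1, 2, 0, 2, 0, 2, 1, 2, 0, 0, 2, 1, 2, 0, 0], [0, 0, 2, 0, 2, 1, 2, 0, 0], [1, 2, 1, 2, 0, 2, 1, 2, 0, 2, 0, 0, 2, 0, 0, 2, 0, 2, 0,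 2, 0, 0]]⟩, ⟨3, [4285, 3251], 2, 0, [[], []]⟩, ⟨2, [1594, 1853, 283, 844, 3240], 1, 0, [[], [2, 0, 2, 1, 2, 0, 0, 2, 0, 0, 2, 0, 0, 2, 1, 2, 1, 2, 0, 2, 1], [0, 2, 1, 2, 0, 0, 2, 0, 2, 1, 2, 0, 2, 1, 2, 0, 2, 0, 0], [0, 2, 1, 2, 1, 2, 0, 0, 2, 0, 0, 2, 0, 0, 2, 1, 2, 1, 2, 0, 0, 2]]⟩, ⟨3, [4289, 3239], 2, 0, [[], []]⟩, ⟨2, [282, 2810, 2704, 2754, 2754, 2857, 3240], 1, 0, [[], [2, 0, 2, 0, 0, 2, 0, 2, 0, 2, 1, 2, 0, 0, 2, 1, 2, 0, 2, 0, 0], [1, 2, 1, 2, 1, 2, 1, 2, 0, 0, 2, 0, 2, 1, 2, 0, 2, 1, 2, 0, 0], [0, 2, 1, 2, 1, 2, 0, 0, 2, 0, 2, 1, 2, 1]]⟩, ⟨3, [4293, 3251], 2, 0, [[], []]⟩, ⟨2, [3522, 282, 3240, 3239, 4135], 1, 3, [[], [2, 1, 2, 1, 2, 1, 2, 0, 2,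 0, 2, 0, 2, 0, 2, 1, 2, 0, 2], [2, 1, 2, 0, 2, 0, 0, 2, 1, 2, 1, 2, 1, 2, 0, 0, 2, 0, 2, 0], [0, 2, 0, 2, 0, 2, 0, 2, 1, 2, 0, 0, 2, 0, 0, 2, 0, 0]]⟩, ⟨3, [4297, 3239], 2, 0, [[], []]⟩, ⟨2, [4002, 2704, 2754, 2855, 283, 3240], 1, 0, [[], [1, 2, 0, 0, 2, 0, 0, 2, 1, 2, 1, 2, 1, 2, 0, 0, 2, 1, 2, 1, 2, 0], [1, 2, 1, 2, 0, 0, 2, 1, 2, 0, 2, 0, 2, 0, 0, 2, 0, 0, 2, 1, 2, 0], [2, 1, 2, 1, 2, 0, 0, 2, 0, 0, 2]]⟩, ⟨2, [3250, 3238, 3434, 282, 3240, 3239, 3251, 3974], 1, 3, [[], [1, 2, 1, 2, 1, 2, 0, 0, 2, 0, 2, 1, 2, 0, 0, 2, 1, 2, 1], [2, 0, 0, 2, 0, 0, 2, 1, 2, 0, 2, 0, 0, 2, 0, 2, 0, 2, 0, 2, 0, 0], [0, 2, 1, 2, 1, 2, 1, 2, 1, 2, 1, 2, 1, 2, 0, 2, 1, 2, 0, 2,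 1, 2]]⟩, ⟨2, [4222, 282, 649, 283, 3240], 1, 0, [[], [1, 2, 0, 2, 0, 0, 2, 0, 2, 0, 0, 2, 0, 2, 0, 0, 2, 0, 2, 0], [0, 2, 1, 2, 0, 0, 2, 1, 2, 0, 2, 0, 2, 0, 0, 2, 1], [2, 0, 0, 2, 0, 0, 2, 0, 2, 1, 2, 0, 2, 0, 0, 2, 0, 2, 0, 2]]⟩, ⟨2, [2892, 2704, 2978, 282, 3240], 1, 0, [[], [2, 0, 2, 1, 2, 0, 0, 2, 0, 2, 0, 0, 2, 1, 2, 1, 2, 1, 2], [1, 2, 0, 2, 0, 0, 2, 0, 0, 2, 1, 2, 1, 2], [2, 1, 2, 1, 2, 0, 0, 2, 1, 2, 1, 2, 0, 2, 0, 2, 0, 2, 0, 0, 2]]⟩, ⟨2, [3609, 1660, 1748, 282, 3240], 1, 0, [[], [2, 0, 2, 0, 2, 0, 2, 0, 0, 2, 0, 2, 0, 0, 2, 0, 0, 2], [0, 2, 1, 2, 0, 2, 0, 2, 1, 2, 1, 2, 0, 2, 0, 2, 1, 2, 0, 0, 2], [2, 1, 2, 1, 2, 0, 2, 0, 2, 0, 0, 2, 0, 2, 0, 0]]⟩,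 ⟨2, [798, 3240, 3251, 3239, 4052], 1, 3, [[], [1, 2, 0, 0, 2, 0, 0, 2, 0, 0, 2, 0, 2, 0, 2, 1], [2, 0, 2, 0, 0, 2, 0, 2, 1, 2, 0, 2, 1, 2, 0, 2, 1, 2, 1, 2, 0, 0], [2, 0, 0, 2, 1, 2, 0, 2, 0, 0, 2, 1, 2, 1, 2, 0, 2, 0, 2]]⟩, ⟨3, [4311, 3239], 2, 0, [[], []]⟩, ⟨2, [2754, 2754, 2799, 3240, 3239, 3251, 3694], 1, 3, [[], [0, 0, 2, 0, 2, 0, 2, 0, 2, 0, 2, 0, 0, 2, 1, 2, 0, 2, 0], [1, 2, 0, 2, 1, 2, 0, 0, 2, 1, 2, 0, 0, 2, 1, 2, 0, 2, 1, 2], [0, 0, 2, 1, 2, 0, 2, 0, 2, 1, 2, 1, 2, 1, 2, 0, 0, 2, 1, 2, 0]]⟩, ⟨3, [4315, 3239], 2, 0, [[], []]⟩, ⟨2, [3238, 3320, 283, 3240, 3239, 3363], 1, 3, [[], [2, 1, 2, 0, 0, 2, 1, 2, 1, 2, 0, 2, 0, 0, 2, 0], [2, 0, 2, 0, 2, 1,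 2, 0, 0, 2, 0, 0, 2, 0, 0, 2, 0, 0, 2], [0, 2, 1, 2, 1, 2, 1, 2, 1, 2, 0, 0, 2, 0, 2, 0, 0, 2, 0, 0, 2, 0]]⟩, ⟨3, [4319, 283], 2, 0, [[], []]⟩, ⟨2, [283, 1040, 592, 283, 3240], 1, 0, [[], [0, 2, 0, 2, 1, 2, 1, 2, 1, 2, 1, 2, 1, 2, 1, 2, 0, 0, 2], [0, 2, 1, 2, 1, 2, 1, 2, 0, 2, 0, 2, 0, 0, 2, 0, 0, 2, 0, 0, 2, 0, 0], [2, 1, 2, 1, 2, 0, 2, 1, 2, 0, 2, 0, 0, 2, 1, 2, 0, 2, 0]]⟩, ⟨3, [4323, 3239, 3251], 2, 0, [[], []]⟩, ⟨2, [2417, 2424, 4008, 3238, 3250, 3238, 3846, 283, 3240], 1, 0, [[], [2, 0, 0, 2, 0, 2, 0, 0, 2, 1, 2, 1, 2, 0, 0, 2, 0, 2, 0, 2, 0], [2, 1, 2, 1, 2, 0, 2, 1, 2, 1, 2, 0, 2, 1, 2, 0, 2], [0, 2, 0, 0, 2, 1, 2, 1, 2, 0, 0, 2, 0]]⟩, ⟨3, [4327,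 3239], 2, 0, [[], []]⟩, ⟨2, [1996, 1584, 1655, 1774, 3240], 1, 0, [[], [1, 2, 0, 2, 1, 2, 0, 0, 2, 0, 0, 2, 0, 2, 0, 0, 2, 0, 0], [2, 1, 2, 0, 2, 0, 2, 0, 2, 0, 2, 0, 2, 0, 0, 2], [0, 0, 2, 1, 2, 0, 0, 2, 0, 2, 0, 2, 0, 2, 1, 2, 1, 2, 0, 0]]⟩, ⟨3, [4331, 3239, 3251], 2, 0, [[], []]⟩, ⟨2, [1654, 1660, 2126, 1654, 1694, 3240], 1, 0, [[], [0, 2, 0, 2, 0, 2, 0, 0, 2, 1, 2, 0, 2, 0, 2, 0, 0], [2, 0, 0, 2, 1, 2, 1, 2, 0, 2, 0, 0, 2, 0, 2, 0, 0, 2, 1, 2, 0], [0, 2, 1, 2, 0, 2, 1, 2, 1, 2, 1, 2, 1, 2, 1, 2, 0]]⟩, ⟨3, [4335, 3251], 2, 0, [[], []]⟩, ⟨2, [283, 1282, 283, 1317, 283, 3240], 1, 0, [[], [0, 2, 0, 2, 0, 0, 2, 0, 2, 0, 2, 0, 2, 1, 2, 0, 0, 2, 0, 2, 1], [0,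 0, 2, 0, 0, 2, 0, 2, 0, 2, 0, 0, 2, 0, 0, 2, 1, 2, 0, 0, 2, 0], [0, 2, 0, 2, 0, 0, 2, 1, 2, 0, 0, 2, 0, 2, 1]]⟩, ⟨3, [4339, 3251, 3239], 2, 0, [[], []]⟩, ⟨2, [1584, 1794, 1584, 1654, 1964, 283, 3240], 1, 0, [[], [0, 0, 2, 1, 2, 0, 2, 0, 2, 0, 0, 2, 0, 2, 1, 2, 0, 2, 1, 2, 1], [0, 2, 0, 0, 2, 0, 2, 0, 2, 0, 0, 2, 1, 2, 0, 2, 1, 2], [0, 2, 1, 2, 0, 0, 2, 0, 0, 2, 0, 2, 1, 2, 1, 2, 1, 2, 0, 0, 2, 1]]⟩, ⟨3, [4343, 3251, 3239], 2, 0, [[], []]⟩, ⟨2, [282, 3240, 3251, 4037, 283, 3365], 1, 2, [[], [2, 0, 2, 1, 2, 1, 2, 0, 2, 1, 2, 0, 2, 0, 2, 1], [0, 0, 2, 1, 2, 0, 0, 2, 1, 2, 0, 2, 0, 2, 0, 2, 1], [0, 2, 0, 0, 2, 1, 2, 1, 2, 0, 2, 0, 2, 1, 2, 0, 2, 1]]⟩] 2105 2174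 = true := by decide +kernel
theorem dd_c31 : dd.checks [⟨2, [3876, 282, 3240, 3239, 3251, 3727], 1, 3, [[], [2, 1, 2, 0, 0, 2, 1, 2, 1, 2, 0, 2, 0, 2, 1, 2, 0, 2, 0, 2], [0, 2, 0, 2, 0, 2, 0, 2, 0, 0, 2, 0, 2, 1], [2, 0, 2, 0, 0, 2, 0, 2, 0, 0, 2, 1, 2, 0, 0, 2, 0, 0]]⟩, ⟨2, [3238, 3250, 4208, 282, 3240, 3239, 3251, 3239, 3305], 1, 3, [[], [2, 0, 0, 2, 1, 2, 0, 0, 2, 1, 2, 1, 2, 0, 2, 0, 2, 0, 0, 2, 0], [2, 0, 0, 2, 0, 2, 0, 2, 1, 2, 1, 2, 0, 0, 2, 0, 2, 1, 2, 1, 2, 0], [1, 2, 1, 2, 1, 2, 0, 0, 2, 1, 2, 1, 2, 0, 0, 2, 0]]⟩, ⟨3, [4351, 282], 2, 0, [[], []]⟩, ⟨2, [3240, 3251, 3239, 3511, 2218, 2211, 2181, 3633], 1, 2, [[], [0, 2, 0, 0, 2, 1, 2, 0, 0, 2, 0,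 2, 0, 2, 0, 0, 2, 1, 2], [2, 0, 2, 0, 2, 0, 0, 2, 0, 0, 2, 0, 0, 2, 0, 2, 1, 2, 0, 0, 2, 1, 2, 0], [1, 2, 0, 2, 0, 2, 0, 0, 2, 0, 2, 1, 2, 0, 2, 0, 0, 2, 0, 0]]⟩, ⟨3, [4355, 3239], 2, 0, [[], []]⟩, ⟨2, [283, 3240, 3251, 3367, 283, 4353], 1, 2, [[], [0, 2, 0, 2, 0, 0, 2, 0, 2, 0, 2, 0, 0, 2, 1, 2, 0, 2, 0, 2, 1, 2, 0, 0], [2, 0, 2, 0, 0, 2, 0, 2, 0, 0, 2, 1, 2, 0, 0, 2, 1, 2, 0, 0], [0, 0, 2, 0, 2, 0, 0, 2, 1, 2, 0, 2, 1, 2, 1]]⟩, ⟨3, [4359, 3239, 3251, 3239], 2, 0, [[], []]⟩, ⟨2, [282, 2044, 1584, 1654, 1660, 2094, 283, 3240], 1, 0, [[], [2, 0, 2, 1, 2, 1, 2, 1, 2, 1, 2, 0, 2, 0, 2, 1], [2, 0, 0, 2, 1, 2, 0, 0, 2, 0, 2, 1, 2, 1, 2, 1, 2, 1, 2, 1], [1, 2,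 0, 0, 2, 0, 2, 0, 2, 0, 2, 0, 2, 1, 2, 1, 2, 0, 2]]⟩, ⟨3, [4363, 3239], 2, 0, [[], []]⟩, ⟨2, [282, 3240, 3251, 4134, 3239, 3251, 3239, 3861], 1, 2, [[], [0, 0, 2, 0, 0, 2, 1, 2, 0, 0, 2, 0, 0, 2, 0, 2, 0], [2, 0, 2, 0, 2, 1, 2, 0, 2, 1, 2, 1, 2, 0, 0, 2, 0], [2, 1, 2, 1, 2, 0, 0, 2, 0, 0, 2, 0, 0, 2, 0, 0, 2, 1, 2, 0, 0]]⟩, ⟨2, [283, 830, 282, 530, 282, 3240], 1, 0, [[], [0, 2, 0, 2, 0, 2, 1, 2, 0, 0, 2, 0, 2, 0, 2], [1, 2, 0, 2, 0, 2, 0, 0, 2, 1, 2, 0, 0, 2, 1, 2, 0, 0, 2, 1, 2, 0, 0], [0, 0, 2, 0, 0, 2, 0, 0, 2, 0, 2, 1, 2, 1, 2, 0]]⟩, ⟨2, [3305, 283, 1342, 3240], 1, 0, [[], [2, 0, 0, 2, 1, 2, 0, 0, 2, 0, 0, 2, 0, 2, 0, 0], [1, 2, 1, 2, 1, 2, 0, 0, 2,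 0, 2, 0, 2, 0, 2, 1, 2, 1, 2], [0, 2, 0, 2, 1, 2, 1, 2, 1, 2, 1, 2, 0, 2, 1, 2, 0, 0, 2, 1]]⟩, ⟨2, [283, 886, 1236, 283, 3240], 1, 0, [[], [0, 2, 0, 2, 0, 0, 2, 0, 2, 0, 2, 0, 0, 2, 0, 2, 0, 2, 0, 2, 0, 0], [0, 0, 2, 1, 2, 0, 0, 2, 1, 2, 1, 2, 0, 2, 0, 0, 2, 1, 2, 1], [0, 0, 2, 1, 2, 1, 2, 1, 2, 1, 2, 1, 2, 1, 2, 0, 2, 1, 2]]⟩, ⟨3, [4373, 3239], 2, 0, [[], []]⟩, ⟨2, [1594, 3752, 3238, 3865, 3240], 1, 0, [[], [1, 2, 0, 2, 0, 2, 0, 0, 2, 0, 2, 0, 0, 2, 0, 2, 1, 2, 1, 2, 0, 2], [1, 2, 0, 0, 2, 0, 2, 0, 0, 2, 0, 0, 2, 0, 2, 0, 2, 0, 2, 0, 2], [2, 1, 2, 0, 2, 1, 2, 1, 2, 0, 0, 2, 1, 2, 0, 2, 1, 2, 0, 0, 2, 0, 0]]⟩, ⟨3, [4377, 3251, 3239], 2, 0, [[], []]⟩, ⟨2,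 [282, 1504, 283, 3240, 3251, 3239, 3277], 1, 3, [[], [0, 0, 2, 0, 2, 1, 2, 0, 2, 1, 2, 0], [0, 2, 0, 2, 0, 2, 1, 2, 0, 2, 1, 2, 1, 2, 0, 0, 2, 1, 2, 0], [1, 2, 1, 2, 0, 2, 1, 2, 0, 2, 1, 2, 1, 2, 0, 2, 0, 2, 1]]⟩, ⟨3, [4381, 3239, 3251, 3239], 2, 0, [[], []]⟩, ⟨2, [3250, 3238, 3644, 283, 1119, 283, 3240], 1, 0, [[], [1, 2, 1, 2, 0, 2, 0, 2, 1, 2, 0, 2, 1, 2, 0, 2, 0, 2, 1], [2, 0, 0, 2, 0, 0, 2, 0, 0, 2, 0, 0, 2, 0, 2, 0, 0, 2, 0, 0], [2, 1, 2, 0, 2, 0, 0, 2, 0, 0, 2, 0, 0, 2, 0, 2]]⟩, ⟨2, [283, 1418, 78, 98, 391, 282, 3240], 1, 0, [[], [0, 2, 1, 2, 0, 2, 1, 2, 0, 0, 2, 0, 0, 2, 0, 2, 1, 2, 1], [2, 0, 2, 1, 2, 1, 2, 0, 2, 0, 0, 2, 0, 2, 1, 2, 1, 2, 0, 0,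 2, 0], [2, 0, 2, 0, 2, 1, 2, 0, 2, 1, 2, 0, 2, 0, 0]]⟩, ⟨3, [4387, 3239], 2, 0, [[], []]⟩, ⟨2, [283, 815, 328, 282, 3240], 1, 0, [[], [2, 0, 0, 2, 0, 2, 0, 2, 0, 0, 2, 0, 2, 0, 2, 0, 2, 1, 2], [2, 1, 2, 1, 2, 0, 2, 1, 2, 0, 0, 2, 0, 2, 0, 2, 0, 2, 0], [0, 2, 1, 2, 1, 2, 0, 2, 0, 2, 1, 2, 0, 0, 2, 1]]⟩, ⟨3, [4391, 3251], 2, 0, [[], []]⟩, ⟨2, [516, 282, 970, 3240], 1, 0, [[], [0, 2, 0, 0, 2, 1, 2, 1, 2, 0, 0, 2, 1, 2, 0, 0, 2, 0, 0, 2, 0, 0], [1, 2, 0, 2, 0, 0, 2, 0, 0, 2, 0, 0, 2, 0, 2, 1, 2, 0, 0, 2, 0, 0], [1, 2, 0, 2, 1, 2, 0, 0, 2, 1, 2, 1, 2, 0, 0, 2, 0]]⟩, ⟨3, [4395, 3239], 2, 0, [[], []]⟩, ⟨2, [3250, 4330, 282, 1177, 3240], 1, 0, [[], [1, 2, 1, 2,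 1, 2, 0, 0, 2, 1, 2], [2, 0, 2, 1, 2, 1, 2, 0, 2, 0, 2, 0, 0, 2, 0, 2, 1, 2, 0, 2, 0], [0, 2, 0, 2, 1, 2, 0, 2, 0, 2, 1, 2, 1, 2, 1, 2, 1, 2, 0, 0]]⟩, ⟨3, [4399, 3251], 2, 0, [[], []]⟩, ⟨2, [283, 3304, 3250, 3238, 3354, 3240], 1, 0, [[], [2, 0, 2, 0, 2, 1, 2, 0, 2, 0, 0, 2, 0, 2, 0, 0, 2, 0, 2, 0, 0], [0, 0, 2, 0, 0, 2, 1, 2, 1, 2, 0, 0, 2, 1, 2, 0, 0, 2], [2, 1, 2, 0, 0, 2, 0, 0, 2, 1, 2, 0, 0, 2, 0, 2, 1, 2, 1]]⟩, ⟨3, [4403, 3251, 3239], 2, 0, [[], []]⟩, ⟨2, [283, 3240, 3251, 3239, 3693, 283, 3597], 1, 2, [[], [1, 2, 0, 2, 0, 2, 0, 2, 1, 2, 0, 0, 2, 0, 2, 0, 0, 2, 0, 2, 0], [1, 2, 1, 2, 1, 2, 1, 2, 0, 2, 0, 0, 2, 1, 2, 0, 0, 2, 0], [0, 2, 0, 2, 0, 2, 0,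 2, 0, 2, 1, 2, 0, 2, 0, 0, 2, 0, 2]]⟩, ⟨2, [283, 3162, 2704, 2754, 2862, 3240], 1, 0, [[], [0, 2, 1, 2, 0, 2, 0, 2, 1, 2, 1, 2, 0, 2, 0, 2, 0, 0, 2, 1, 2, 1], [0, 0, 2, 1, 2, 1, 2, 0, 0, 2, 0, 2, 1, 2, 0, 0, 2, 1, 2], [0, 2, 0, 2, 0, 2, 0, 0, 2, 0, 2, 1, 2, 0, 0, 2, 0, 0, 2, 1, 2, 0]]⟩, ⟨3, [4409, 3251], 2, 0, [[], []]⟩, ⟨2, [3250, 3241, 1286, 282, 3240], 1, 0, [[], [0, 2, 1, 2, 1, 2, 0, 2, 1, 2, 0, 2, 0, 0, 2, 0, 2, 0, 2, 1], [1, 2, 0, 2, 0, 0, 2, 0, 2, 0, 2, 1, 2, 1], [2, 1, 2, 0, 0, 2, 1, 2, 0, 0, 2, 0, 0, 2, 0, 2, 0, 0, 2, 1]]⟩, ⟨2, [282, 602, 1516, 282, 3240], 1, 0, [[], [0, 2, 1, 2, 0, 2, 1, 2, 1, 2, 0, 2, 0, 2, 1, 2, 1, 2, 0], [0, 2, 1, 2, 0, 2, 1,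 2, 1, 2, 0, 0, 2, 0, 2, 1, 2, 1, 2, 0], [0, 2, 0, 2, 1, 2, 0, 0, 2, 1, 2, 0, 0, 2, 1, 2, 0, 2, 0, 2, 0, 0, 2, 0]]⟩, ⟨3, [4415, 3239, 3251, 3239], 2, 0, [[], []]⟩, ⟨2, [3238, 3250, 3238, 3961, 282, 3240, 4069], 1, 3, [[], [2, 1, 2, 0, 2, 0, 0, 2, 0, 0, 2, 1, 2, 0, 0, 2, 0, 0, 2, 0, 2, 0], [2, 0, 2, 0, 0, 2, 0, 2, 0, 2, 0, 2, 1, 2, 0, 0, 2, 1, 2, 0], [1, 2, 1, 2, 1, 2, 0, 2, 1, 2, 0, 2, 1, 2, 1, 2]]⟩, ⟨2, [3238, 3250, 4242, 282, 542, 282, 3240], 1, 0, [[], [0, 0, 2, 1, 2, 0, 2, 0, 0, 2, 1], [0, 2, 0, 2, 0, 0, 2, 1, 2, 0, 0, 2, 0, 2, 0, 2, 0, 0, 2, 1], [1, 2, 0, 2, 1, 2, 0, 2, 1, 2, 0, 0, 2, 1, 2, 1, 2, 1]]⟩, ⟨2, [3240, 3239, 4017, 3251, 3239, 4031], 1, 2,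 [[], [1, 2, 0, 0, 2, 1, 2, 1, 2, 0, 2, 0, 0, 2, 1, 2, 1, 2], [1, 2, 1, 2, 0, 0, 2, 0, 2, 1, 2, 1, 2, 0, 0, 2, 0, 2, 0, 2, 0], [0, 0, 2, 0, 2, 1, 2, 1, 2, 0, 2, 1, 2, 0, 2, 1]]⟩, ⟨3, [4423, 3239], 2, 0, [[], []]⟩, ⟨2, [3250, 3558, 1374, 283, 3240], 1, 0, [[], [2, 1, 2, 1, 2, 0, 0, 2, 0, 2, 0, 2, 0, 2, 1, 2, 1, 2, 0, 0], [2, 0, 2, 0, 2, 0, 0, 2, 0, 0, 2, 1, 2, 0, 0, 2, 1, 2, 0, 2, 0], [0, 2, 0, 2, 1, 2, 0, 0, 2, 1, 2, 0, 2, 1]]⟩, ⟨2, [283, 382, 250, 244, 234, 250, 384, 3240], 1, 0, [[], [2, 1, 2, 1, 2, 1, 2, 0, 0, 2, 0, 0, 2, 0, 2], [2, 0, 2, 1, 2, 0, 2, 1, 2, 1, 2, 0, 2, 0, 2, 0, 2, 1, 2], [0, 0, 2, 1, 2, 0, 0, 2, 1, 2, 1, 2, 0, 0, 2, 1, 2, 1, 2, 0, 2, 0]]⟩,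 ⟨3, [4429, 3251], 2, 0, [[], []]⟩, ⟨2, [700, 283, 1403, 282, 3240], 1, 0, [[], [0, 0, 2, 0, 0, 2, 1, 2, 0, 0, 2, 1, 2, 0, 0, 2, 1, 2, 0, 0, 2, 1], [2, 1, 2, 0, 2, 0, 2, 0, 2, 0, 2, 1, 2, 0, 2, 1, 2, 0], [1, 2, 1, 2, 0, 0, 2, 0, 2, 1, 2, 1, 2, 0, 0, 2, 1, 2, 0, 2]]⟩, ⟨3, [4433, 3239, 3251], 2, 0, [[], []]⟩, ⟨2, [282, 1208, 282, 3240, 3239, 3251, 3239, 4134], 1, 3, [[], [2, 1, 2, 1, 2, 0, 0, 2, 0, 0, 2, 1, 2, 0, 2, 0], [1, 2, 1, 2, 0, 2, 1, 2, 0, 2, 1, 2, 0, 2, 1, 2, 0, 2, 0, 0], [2, 1, 2, 0, 2, 1, 2, 0, 2, 1, 2, 0, 2, 0, 2, 0, 0, 2, 0, 0]]⟩, ⟨3, [4437, 3239, 3251, 3239], 2, 0, [[], []]⟩, ⟨2, [3250, 3238, 3241, 374, 3240], 1, 0, [[], [1, 2, 1, 2, 1, 2, 0,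 0, 2, 0, 2, 0, 2, 1, 2, 0, 0], [2, 0, 2, 1, 2, 1, 2, 0, 2, 0, 2, 1, 2, 0, 0, 2, 1, 2, 0], [0, 2, 0, 2, 1, 2, 1, 2, 1, 2, 0, 0, 2, 1, 2, 1, 2, 0, 0]]⟩, ⟨2, [4070, 282, 1366, 3240], 1, 0, [[], [2, 0, 2, 1, 2, 1, 2, 1, 2, 0, 2, 0, 2, 0, 2, 0, 0, 2, 1], [1, 2, 0, 0, 2, 1, 2, 0, 2, 0, 0, 2, 0, 2, 0, 2, 1, 2], [1, 2, 0, 2, 1, 2, 1, 2, 1, 2, 1, 2, 0, 2, 1, 2, 0, 0]]⟩, ⟨3, [4443, 3239], 2, 0, [[], []]⟩, ⟨2, [282, 1314, 282, 472, 283, 3240], 1, 0, [[], [2, 0, 2, 0, 2, 1, 2, 0, 2, 1, 2, 0, 2, 1, 2, 0, 2, 0, 0, 2, 0], [0, 2, 0, 0, 2, 1, 2, 1, 2, 0, 0, 2, 0, 2, 0, 2, 0, 2, 0, 0, 2], [0, 2, 0, 0, 2, 0, 0, 2, 0, 2, 0, 2, 0, 0, 2, 0]]⟩, ⟨2, [3238, 3250, 3238, 4034, 283,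 3240, 3251, 3239, 3951], 1, 3, [[], [2, 1, 2, 1, 2, 0, 2, 1, 2, 0, 0, 2, 0, 0, 2, 1, 2, 0], [1, 2, 1, 2, 0, 0, 2, 0, 2, 1, 2, 0, 2], [0, 2, 0, 2, 0, 2, 1, 2, 0, 2, 1, 2, 0, 2, 0, 0, 2, 0, 2, 0]]⟩, ⟨3, [4449, 3251, 3239], 2, 0, [[], []]⟩, ⟨2, [3250, 3238, 3725, 282, 3240, 3239, 3643], 1, 3, [[], [2, 0, 2, 1, 2, 1, 2, 0, 0, 2, 1, 2, 0, 0, 2, 1], [0, 2, 0, 2, 0, 0, 2, 0, 0, 2, 1, 2, 0, 2, 1, 2, 1, 2, 1], [0, 2, 1, 2, 0, 0, 2, 0, 2, 0, 2, 0, 2, 0, 0, 2, 0, 0, 2]]⟩, ⟨3, [4453, 282], 2, 0, [[], []]⟩, ⟨2, [3250, 4104, 3238, 3241], 0, 2, [[], [0, 2, 0, 0, 2, 1, 2, 0, 0, 2, 1, 2, 0, 2, 0, 2, 0, 2, 0, 2, 0, 0], [2, 1, 2, 0, 2, 1, 2, 0, 2, 0, 2, 0, 0, 2, 1]]⟩, ⟨2,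 [3250, 4384, 3238, 3250, 3238, 3241], 0, 2, [[], [0, 0, 2, 1, 2, 1, 2, 1, 2, 0, 0, 2, 1], [2, 1, 2, 1, 2, 0, 2, 0, 2, 0, 0, 2, 0, 0, 2, 1, 2, 0, 0]]⟩, ⟨2, [3238, 3241, 4455], 0, 1, [[], [0, 2, 0, 0, 2, 0, 2, 0, 2, 0, 0, 2, 0, 2, 0, 2, 0, 2, 0, 0], [2, 0, 0, 2, 1, 2, 0, 0, 2, 0, 2, 0, 0, 2, 0, 2, 1, 2]]⟩, ⟨2, [3250, 3238, 3241, 283, 780], 0, 1, [[], [0, 2, 0, 0, 2, 0, 0, 2, 1, 2, 1, 2, 1, 2, 0, 0, 2, 1, 2, 0, 0], [0, 2, 1, 2, 0, 2, 1, 2, 0, 0, 2, 1, 2, 1, 2, 0, 0, 2, 0, 2, 0]]⟩, ⟨3, [4463, 283], 2, 0, [[], []]⟩, ⟨2, [3238, 3250, 3238, 3241, 4071], 0, 1, [[], [0, 2, 1, 2, 0, 0, 2, 0, 0, 2, 0, 2, 1, 2, 0, 0, 2, 0, 0, 2, 0], [0, 0, 2, 0, 0, 2, 0, 2, 0, 0, 2,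 1, 2, 0, 2, 1]]⟩, ⟨2, [3238, 3250, 3241, 3029], 0, 1, [[], [2, 1, 2, 0, 2, 0, 0, 2, 0, 2, 1, 2, 1, 2, 0], [0, 2, 0, 2, 0, 2, 1, 2, 0, 0, 2, 0, 2, 0, 0, 2, 1, 2, 0]]⟩, ⟨3, [4469, 2754], 2, 0, [[], []]⟩, ⟨2, [3250, 3238, 3241, 283, 295, 157, 157, 152, 3299], 1, 1, [[], [2, 0, 2, 0, 0, 2, 1, 2, 0, 0, 2, 1, 2, 1, 2, 0, 0, 2, 0, 2, 1, 2, 0], [0, 0, 2, 0, 2, 1, 2, 0, 2, 1, 2, 0, 2, 1, 2, 0, 2, 1, 2], [2, 1, 2, 1, 2, 0, 2, 1, 2, 1, 2, 0, 0, 2, 0, 0, 2, 1, 2, 0, 0]]⟩, ⟨3, [4473, 3239], 2, 0, [[], []]⟩, ⟨2, [3238, 3250, 3241, 283, 2059, 1660, 1655, 1585, 1993], 1, 1, [[], [0, 2, 1, 2, 1, 2, 0, 2, 0, 0, 2, 1, 2, 1, 2, 1, 2, 1, 2, 0], [0, 2, 0, 0, 2, 0, 2, 0, 2, 1,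 2, 0, 2, 0, 0, 2, 0, 2, 1, 2, 1], [0, 2, 0, 0, 2, 0, 2, 1, 2, 0, 0, 2, 0, 2, 0, 2, 0, 0, 2, 1, 2, 0]]⟩, ⟨3, [4477, 1661, 1655], 2, 0, [[], []]⟩, ⟨2, [4032, 3241, 282, 1199], 1, 2, [[], [0, 2, 1, 2, 1, 2, 0, 0, 2, 0, 2, 1, 2, 0, 2, 0, 2, 0, 0], [0, 0, 2, 1, 2, 1, 2, 0, 2, 0, 2, 1, 2, 1, 2, 1, 2, 1], [2, 0, 2, 0, 2, 1, 2, 1, 2, 0, 2, 1, 2, 0, 2, 0, 0, 2, 0]]⟩, ⟨3, [4481, 282], 2, 0, [[], []]⟩] 2174 2242 = true := by decide +kernel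
theorem dd_c32 : dd.checks [⟨2, [3794, 3250, 3241, 283, 4063], 1, 2, [[], [2, 1, 2, 0, 2, 0, 2, 0, 2, 0, 2, 0, 0, 2, 0, 2, 0, 0, 2, 1, 2, 0, 0], [0, 2, 0, 2, 0, 0, 2, 0, 2, 1, 2, 0, 2, 0, 2, 0, 0, 2, 1, 2], [0, 0, 2, 1, 2, 0, 2, 0, 0, 2, 0, 2, 0, 2, 1, 2, 1, 2, 1, 2]]⟩, ⟨3, [4485, 3239, 3251], 2, 0, [[], []]⟩, ⟨2, [3250, 3238, 3241, 283, 1899, 1660, 1655, 2717], 1, 1, [[], [2, 0, 0, 2, 1, 2, 1, 2, 0, 0, 2, 1, 2, 1, 2, 0, 2, 0], [0, 2, 1, 2, 0, 2, 1, 2, 0, 0, 2, 0, 2, 0, 0, 2, 0, 2, 0, 2, 1, 2], [1, 2, 1, 2, 1, 2, 0, 0, 2, 0, 0, 2, 0, 0, 2, 1, 2, 1, 2, 1, 2, 0]]⟩, ⟨2, [3250, 3241, 283, 1133, 283, 1517], 1, 1, [[], [2, 1, 2, 0, 2, 1, 2, 0, 2, 0, 2, 0, 2, 0,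 2, 1, 2, 1, 2, 0, 0, 2], [0, 2, 1, 2, 0, 0, 2, 1, 2, 1, 2, 0, 2, 0, 0, 2, 0, 0, 2, 1], [2, 1, 2, 1, 2, 0, 0, 2, 1, 2, 0, 0, 2, 0, 2, 1, 2, 0, 2, 0]]⟩, ⟨2, [3250, 3238, 3732, 3250, 3241, 282, 1402], 1, 2, [[], [0, 0, 2, 0, 0, 2, 1, 2, 0, 0, 2, 1, 2, 1, 2, 0, 2, 0, 2, 0], [2, 0, 0, 2, 0, 0, 2, 0, 0, 2, 0, 2, 1], [0, 2, 0, 0, 2, 0, 0, 2, 0, 2, 1, 2, 1, 2, 0, 2, 0, 2, 1, 2, 1]]⟩, ⟨3, [4493, 283], 2, 0, [[], []]⟩, ⟨2, [4418, 3238, 3250, 3241, 3540], 1, 2, [[], [1, 2, 1, 2, 0, 2, 0, 2, 1, 2, 1, 2, 1, 2, 0, 0, 2, 0], [0, 2, 1, 2, 0, 0, 2, 0, 2, 0, 0, 2, 0, 2, 1, 2, 0], [2, 0, 0, 2, 1, 2, 0, 0, 2, 1, 2, 1, 2, 0, 2]]⟩, ⟨3, [4497, 3239], 2, 0, [[], []]⟩, ⟨2, [3250,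 3238, 3241, 1313, 3240], 1, 1, [[], [2, 1, 2, 0, 0, 2, 0, 2, 0, 2, 0, 0, 2, 1, 2, 0, 2, 0, 2, 1, 2, 0], [2, 1, 2, 0, 0, 2, 1, 2, 1, 2, 0, 2, 0, 2, 0, 2, 1], [2, 0, 2, 0, 2, 0, 0, 2, 0, 2, 0, 0, 2, 0, 2, 1, 2, 0]]⟩, ⟨2, [3238, 4032, 3238, 3250, 3862, 3238, 3241], 1, 3, [[], [0, 2, 0, 0, 2, 0, 2, 0, 2, 0, 0, 2, 1, 2, 1, 2, 0, 2, 0, 0, 2, 0], [2, 0, 2, 0, 0, 2, 1, 2, 0, 2, 1, 2, 1, 2, 0, 0, 2], [0, 2, 0, 2, 1, 2, 0, 0, 2, 0, 2, 0, 2, 0]]⟩, ⟨2, [3238, 3250, 3241, 282, 1075, 282, 937], 1, 1, [[], [0, 0, 2, 0, 2, 0, 0, 2, 0, 0, 2, 0, 2, 0, 2, 1, 2, 1, 2, 1], [0, 2, 0, 2, 1, 2, 0, 2, 0, 2, 1, 2, 1, 2, 0, 2, 0], [2, 1, 2, 1, 2, 0, 2, 0, 0, 2, 0, 2, 1, 2, 1, 2, 1,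 2]]⟩, ⟨3, [4505, 99], 2, 0, [[], []]⟩, ⟨2, [3238, 3250, 3241, 282, 4257, 3239, 3251, 3389], 1, 1, [[], [0, 2, 0, 2, 1, 2, 0, 2, 0, 0, 2, 0, 0, 2, 1, 2, 1, 2, 0, 2], [2, 0, 0, 2, 1, 2, 0, 0, 2, 0, 0, 2, 0, 0, 2, 0, 2, 0, 2, 0], [0, 0, 2, 0, 2, 0, 2, 0, 2, 1, 2, 0, 0, 2, 0, 2, 0, 0, 2, 1, 2, 0]]⟩, ⟨3, [4509, 282], 2, 0, [[], []]⟩, ⟨2, [282, 4228, 3238, 3241, 283, 3739], 1, 2, [[], [0, 2, 0, 2, 0, 2, 0, 0, 2, 0, 0, 2, 0, 0, 2, 1, 2, 0, 0], [2, 0, 0, 2, 1, 2, 0, 0, 2, 1, 2, 0, 0, 2, 0, 2, 1, 2, 1, 2], [0, 2, 0, 2, 0, 2, 0, 2, 1, 2, 1, 2, 0, 2, 1, 2]]⟩, ⟨3, [4513, 3251], 2, 0, [[], []]⟩, ⟨2, [3238, 3241, 283, 2365, 2315, 2731], 1, 1, [[], [2, 1, 2, 0, 2, 1, 2,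 1, 2, 0, 2, 0, 0, 2, 0, 0, 2, 0, 2, 0], [2, 0, 2, 1, 2, 0, 2, 1, 2, 1, 2, 0, 2, 0, 0, 2, 0, 0, 2], [2, 0, 0, 2, 0, 2, 0, 0, 2, 1, 2, 1, 2, 0, 2, 1, 2]]⟩, ⟨3, [4517, 2705, 2755], 2, 0, [[], []]⟩, ⟨2, [3250, 3238, 3241, 283, 1313, 282, 705], 1, 1, [[], [0, 2, 1, 2, 1, 2, 1, 2, 0, 0, 2, 0, 2, 1, 2, 0, 2, 0], [1, 2, 0, 2, 1, 2, 0, 2, 1, 2, 0, 2, 1, 2, 0, 0, 2, 1, 2, 1], [0, 2, 1, 2, 0, 0, 2, 1, 2, 1, 2, 0, 2, 0, 2, 1, 2, 0]]⟩, ⟨3, [4521, 282], 2, 0, [[], []]⟩, ⟨2, [3238, 3241, 1779, 1595, 2109], 1, 1, [[], [0, 0, 2, 0, 2, 0, 0, 2, 0, 2, 0, 2, 1, 2, 0, 2, 1, 2, 0, 2, 1, 2, 0, 0], [0, 2, 0, 0, 2, 1, 2, 1, 2, 0, 2, 1, 2, 0, 2, 1, 2, 0, 0], [1, 2, 1, 2, 1, 2, 1,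 2, 0, 0, 2, 0, 0, 2, 1, 2, 0, 2]]⟩, ⟨3, [4525, 282], 2, 0, [[], []]⟩, ⟨2, [3241, 283, 755, 283, 891], 1, 1, [[], [2, 0, 2, 1, 2, 0, 0, 2, 0, 2, 1, 2, 1, 2, 1, 2, 0, 0, 2, 0, 2, 0, 0], [2, 1, 2, 1, 2, 0, 2, 0, 0, 2, 0, 2, 0, 2, 0, 0, 2, 1, 2, 0, 0], [0, 2, 1, 2, 0, 2, 0, 2, 1, 2, 0, 2, 0, 0, 2, 0, 0, 2]]⟩, ⟨3, [4529, 283], 2, 0, [[], []]⟩, ⟨2, [1584, 1654, 1661, 3934, 3250, 3238, 3241, 283, 3891], 1, 2, [[], [1, 2, 1, 2, 0, 0, 2, 1, 2, 0, 2, 1, 2, 1, 2, 0, 2, 0, 0], [1, 2, 1, 2, 0, 2, 0, 2, 1, 2, 0, 2, 1, 2, 0, 2, 0, 2, 0, 2], [1, 2, 0, 2, 1, 2, 0, 0, 2, 0, 0, 2, 0, 2, 0, 2, 0]]⟩, ⟨3, [4533, 3251], 2, 0, [[], []]⟩, ⟨2, [3238, 3250, 3238, 3241, 1791, 1661,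 1655, 1585, 3317], 1, 1, [[], [2, 0, 2, 0, 2, 0, 2, 1, 2, 0, 0, 2, 1, 2, 1, 2, 1, 2, 1, 2, 0, 0], [2, 0, 2, 1, 2, 0, 0, 2, 1, 2, 1, 2, 0, 2, 0, 2, 1], [0, 2, 0, 2, 1, 2, 0, 0, 2, 0, 2, 0, 0, 2, 1, 2, 1, 2, 0, 2]]⟩, ⟨3, [4537, 3251], 2, 0, [[], []]⟩, ⟨2, [3250, 3238, 4017, 3238, 3250, 3241, 283, 4285], 1, 2, [[], [0, 2, 1, 2, 0, 0, 2, 1, 2, 1, 2, 0, 2], [1, 2, 0, 2, 1, 2, 1, 2, 1, 2, 1, 2, 0, 0, 2, 1, 2, 1, 2, 0], [2, 1, 2, 1, 2, 0, 0, 2, 1, 2, 0, 2, 0, 0, 2]]⟩, ⟨2, [3250, 3238, 3241, 282, 4263, 3239, 3251, 3239, 4081], 1, 1, [[], [2, 1, 2, 1, 2, 1, 2, 0, 2, 0, 0, 2, 0, 0, 2, 0, 0, 2, 0], [2, 1, 2, 1, 2, 1, 2, 0, 2, 0, 2, 1, 2, 1, 2, 0, 2, 1], [2, 0, 0, 2,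 0, 0, 2, 1, 2, 1, 2, 1, 2, 0, 0, 2, 0, 0, 2, 0, 2, 1, 2]]⟩, ⟨3, [4543, 283], 2, 0, [[], []]⟩, ⟨2, [3241, 1857, 1595, 2093], 1, 1, [[], [0, 2, 0, 2, 1, 2, 0, 0, 2, 0, 2, 0, 0, 2, 0, 2, 0, 2, 0], [0, 2, 0, 2, 0, 0, 2, 0, 2, 0, 2, 1, 2, 0, 2, 1, 2, 1, 2, 1, 2], [0, 0, 2, 0, 2, 0, 2, 0, 2, 0, 2, 0, 2, 0, 2, 0, 2, 0, 2, 1]]⟩, ⟨2, [3250, 3238, 3241, 475, 282, 397], 1, 1, [[], [1, 2, 0, 2, 0, 2, 1, 2, 1, 2, 1, 2, 0, 0, 2, 1, 2, 0, 0, 2, 0], [0, 2, 0, 2, 0, 0, 2, 1, 2, 0, 0, 2, 1, 2, 0, 0, 2, 1], [0, 0, 2, 1, 2, 0, 2, 0, 2, 0, 2, 0, 0, 2, 0, 2, 0, 2, 1, 2]]⟩, ⟨3, [4549, 221], 2, 0, [[], []]⟩, ⟨2, [2754, 4316, 3241, 3819], 1, 2, [[], [0, 0, 2, 0, 0, 2, 1, 2, 0, 0,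 2, 1, 2, 1, 2, 0, 0, 2, 0, 2], [0, 2, 0, 0, 2, 0, 2, 0, 2, 0, 0, 2, 0, 2, 0, 2, 0, 2, 0, 0], [2, 0, 0, 2, 0, 0, 2, 1, 2, 0, 0, 2, 0, 0, 2, 0, 0, 2, 0, 2, 0, 0, 2, 0, 0]]⟩, ⟨3, [4553, 3239, 3251, 3239], 2, 0, [[], []]⟩, ⟨2, [3238, 3250, 3241, 283, 1055, 282, 4485], 1, 1, [[], [0, 0, 2, 0, 2, 1, 2, 0, 2, 1, 2, 1, 2, 1, 2, 1, 2, 0, 2, 0, 0], [1, 2, 0, 0, 2, 1, 2, 0, 2, 0, 2, 0, 2, 0, 2, 1, 2, 0, 2, 0], [2, 0, 2, 0, 2, 0, 2, 0, 2, 0, 0, 2, 0, 2, 1, 2, 0, 0, 2, 0]]⟩, ⟨2, [3250, 3241, 799, 283, 3887], 1, 1, [[], [2, 0, 2, 1, 2, 0, 2, 0, 2, 0, 2, 0, 2, 1, 2, 0, 0], [0, 0, 2, 1, 2, 1, 2, 0, 2, 0, 2, 1, 2, 0, 0, 2], [0, 0, 2, 1, 2, 0, 2, 0, 0, 2, 0, 2, 0, 2, 0, 2,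 1, 2, 0, 0]]⟩, ⟨2, [3238, 3250, 3238, 3241, 3365, 3251, 3855], 1, 1, [[], [2, 0, 0, 2, 0, 2, 0, 0, 2, 0, 2, 1, 2, 0, 0, 2, 0], [2, 0, 0, 2, 0, 2, 0, 0, 2, 0, 2, 0, 2, 1, 2, 1, 2, 1, 2, 0], [2, 0, 0, 2, 1, 2, 1, 2, 0, 2, 0, 0, 2, 1, 2, 0, 2]]⟩, ⟨3, [4561, 3251], 2, 0, [[], []]⟩, ⟨2, [1660, 4290, 3250, 3241, 3690], 1, 2, [[], [2, 0, 0, 2, 1, 2, 1, 2, 1, 2, 0, 0, 2, 1, 2, 0, 2, 0, 0, 2, 0, 0], [1, 2, 1, 2, 0, 2, 0, 2, 0, 0, 2, 0, 2, 0, 0, 2, 0, 0, 2, 0, 0], [0, 0, 2, 0, 2, 1, 2, 0, 2, 0, 2, 1, 2, 0, 0, 2, 0, 0, 2, 0, 2, 0]]⟩, ⟨3, [4565, 3239, 3251], 2, 0, [[], []]⟩, ⟨2, [3250, 3238, 3241, 282, 1035, 282, 831], 1, 1, [[], [0, 2, 0, 0, 2, 1, 2, 0, 2, 0, 2, 1,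 2, 0, 0, 2, 0, 2, 1, 2, 0], [1, 2, 0, 2, 0, 0, 2, 0, 0, 2, 0, 2, 0, 2], [0, 2, 1, 2, 0, 2, 0, 0, 2, 0, 2, 0, 2, 0, 0, 2, 0, 2, 1, 2, 0, 0]]⟩, ⟨3, [4569, 283], 2, 0, [[], []]⟩, ⟨2, [3238, 3250, 3241, 283, 1011, 2369], 1, 1, [[], [0, 2, 0, 2, 0, 2, 0, 0, 2, 1, 2, 1, 2, 1, 2, 0, 0, 2, 0, 0, 2, 1], [0, 2, 1, 2, 0, 2, 0, 2, 0, 2, 0, 0, 2, 1, 2, 1, 2, 0, 0, 2, 0], [0, 2, 0, 2, 1, 2, 1, 2, 1, 2, 0, 0, 2, 0, 2, 0]]⟩, ⟨2, [3238, 3250, 3860, 3241, 1359], 1, 2, [[], [2, 1, 2, 1, 2, 0, 0, 2, 1, 2, 0, 0, 2, 1, 2, 0, 0, 2, 0, 0], [0, 2, 1, 2, 1, 2, 0, 0, 2, 1, 2, 1, 2, 0, 2, 0, 2, 0, 2, 0, 0], [1, 2, 0, 0, 2, 1, 2, 1, 2, 0, 0, 2, 1, 2, 0, 0, 2, 0, 2, 1]]⟩, ⟨3, [4575,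 283], 2, 0, [[], []]⟩, ⟨2, [3238, 3250, 3238, 3241, 283, 3071, 2754, 2705, 2755, 2755, 2969], 1, 1, [[], [2, 0, 2, 1, 2, 1, 2, 0, 2, 1, 2, 0, 0, 2, 1, 2, 0, 0, 2, 0], [0, 0, 2, 0, 2, 1, 2, 0, 0, 2, 1, 2, 0, 2, 1, 2, 1, 2], [0, 0, 2, 0, 2, 1, 2, 1, 2, 1, 2, 0, 0, 2, 1, 2, 1, 2, 1, 2, 0, 0]]⟩, ⟨3, [4579, 1660, 1585], 2, 0, [[], []]⟩, ⟨2, [3238, 3250, 3241, 405, 4071], 1, 1, [[], [0, 0, 2, 0, 0, 2, 1, 2, 0, 0, 2, 1, 2, 0, 0, 2, 1, 2, 0, 2, 0], [2, 1, 2, 1, 2, 1, 2, 1, 2, 0, 0, 2, 0, 0, 2, 0, 2, 1, 2, 0, 0, 2, 0], [0, 2, 0, 2, 0, 2, 1, 2, 0, 2, 0, 0, 2, 0, 0, 2, 1, 2, 1, 2, 0]]⟩, ⟨2, [3250, 4304, 3250, 3238, 3241, 1723], 1, 2, [[], [1, 2, 1, 2, 0, 0, 2, 0, 2,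 1, 2, 0, 2, 0, 0, 2, 1], [2, 0, 2, 0, 2, 0, 2, 0, 2, 0, 0, 2, 1, 2, 0, 2, 0, 2, 0, 0], [1, 2, 0, 2, 1, 2, 0, 0, 2, 0, 0, 2, 1, 2, 0, 2, 0, 0, 2]]⟩, ⟨3, [4585, 1595], 2, 0, [[], []]⟩, ⟨2, [3250, 3238, 3241, 282, 2557, 2397, 2335], 1, 1, [[], [2, 1, 2, 0, 0, 2, 0, 2, 0, 2, 0, 2, 0, 2, 1, 2, 0, 0, 2, 0, 0], [0, 2, 0, 2, 0, 2, 0, 2, 1, 2, 0, 2, 1, 2, 1, 2, 0, 2, 0, 0], [2, 1, 2, 0, 2, 1, 2, 0, 2, 0, 0, 2, 0, 2, 1, 2, 1, 2, 0, 0, 2, 0, 0]]⟩, ⟨3, [4589, 282], 2, 0, [[], []]⟩, ⟨2, [3238, 3250, 3238, 3660, 2180, 2210, 2186, 2211, 3270, 3241], 1, 3, [[], [2, 1, 2, 0, 2, 0, 2, 0, 2, 1, 2, 1, 2, 0, 0, 2, 0, 0, 2], [2, 0, 2, 0, 0, 2, 1, 2, 0, 2, 1, 2, 0, 0, 2, 0, 2,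 1, 2, 0], [0, 2, 0, 2, 0, 2, 0, 0, 2, 0, 0, 2, 1, 2, 0, 0]]⟩, ⟨2, [3614, 3238, 3241, 3063], 1, 2, [[], [2, 0, 2, 1, 2, 0, 2, 0, 2, 1, 2, 0, 2, 1, 2, 1, 2, 0, 0], [2, 0, 0, 2, 0, 2, 0, 2, 0, 2, 0, 2, 1, 2, 1, 2, 0, 2], [2, 0, 0, 2, 1, 2, 0, 2, 1, 2, 1, 2, 0, 0, 2, 0, 0, 2, 0, 0, 2, 0]]⟩, ⟨3, [4595, 2705, 2755, 2755], 2, 0, [[], []]⟩, ⟨2, [3238, 3250, 3238, 3858, 1584, 3242], 0, 2, [[], [0, 2, 0, 2, 0, 2, 0, 0, 2, 1, 2, 0, 0, 2, 1, 2, 0, 0, 2], [1, 2, 0, 0, 2, 0, 0, 2, 1, 2, 1, 2, 0, 2, 0, 2, 0, 0, 2, 0, 2, 0, 0]]⟩, ⟨3, [4599, 3251], 2, 0, [[], []]⟩, ⟨2, [283, 3538, 3932, 1584, 1594, 3242], 1, 3, [[], [0, 2, 1, 2, 0, 2, 1, 2, 0, 2, 1, 2, 0, 2, 1, 2, 0, 2,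 1], [1, 2, 1, 2, 0, 0, 2, 0, 0, 2, 0, 0, 2, 0, 2, 1, 2, 1, 2, 1, 2, 0, 0], [2, 1, 2, 0, 0, 2, 1, 2, 1, 2, 1, 2, 0, 2, 0]]⟩, ⟨3, [4603, 3239, 3251], 2, 0, [[], []]⟩, ⟨2, [3238, 3250, 3964, 3250, 4038, 1654, 1660, 3242], 1, 3, [[], [2, 1, 2, 1, 2, 0, 2, 0, 2, 1, 2, 0, 2, 1, 2, 1, 2, 0, 0, 2], [0, 0, 2, 0, 0, 2, 0, 2, 0, 2, 1, 2, 0, 2, 1, 2, 0, 2, 0, 2, 0, 0], [0, 2, 0, 2, 0, 0, 2, 0, 0, 2, 1, 2, 0, 2, 0, 2, 1, 2, 0, 0]]⟩, ⟨2, [283, 1347, 282, 1900, 1584, 1654, 3242], 1, 3, [[], [2, 1, 2, 0, 0, 2, 0, 2, 0, 2, 0, 2, 0, 2], [0, 2, 1, 2, 0, 0, 2, 0, 0, 2, 0, 0, 2, 1, 2, 0, 0, 2, 0, 2, 0, 0], [0, 2, 0, 2, 0, 2, 1, 2, 1, 2, 0, 0, 2, 1, 2, 0, 2, 1, 2, 0, 2, 0]]⟩,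 ⟨2, [282, 2654, 2396, 2420, 1654, 1661, 3242], 1, 3, [[], [0, 2, 0, 2, 0, 2, 0, 0, 2, 0, 2, 0, 2, 0, 0, 2, 0, 2, 0, 0], [2, 1, 2, 0, 2, 1, 2, 0, 2, 0, 2, 1, 2, 0, 0, 2], [2, 1, 2, 0, 0, 2, 1, 2, 0, 2, 1, 2, 0, 2, 1, 2, 1, 2]]⟩, ⟨3, [4611, 3239, 3251], 2, 0, [[], []]⟩, ⟨2, [2417, 2425, 2626, 2396, 2498, 1584, 1654, 1660, 3242], 1, 3, [[], [2, 0, 2, 1, 2, 0, 0, 2, 1, 2, 0, 0, 2, 0, 2, 1, 2, 1, 2, 1, 2, 0], [0, 2, 1, 2, 1, 2, 0, 2, 0, 0, 2, 0, 0, 2, 0, 2, 1, 2, 0], [1, 2, 0, 0, 2, 1, 2, 1, 2, 0, 2, 0, 2, 0, 0, 2, 0, 2, 1]]⟩] 2242 2308 = true := by decide +kernel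
theorem dd_c33 : dd.checks [⟨3, [4615, 3251], 2, 0, [[], []]⟩, ⟨2, [3238, 3810, 1584, 1654, 2076, 1660, 3242], 1, 3, [[], [0, 2, 0, 2, 0, 2, 0, 0, 2, 0, 0, 2, 0, 0, 2, 0, 2, 1, 2, 0, 0, 2], [0, 2, 1, 2, 0, 2, 1, 2, 1, 2, 0, 0, 2, 0, 0, 2, 0, 2, 1, 2], [0, 2, 0, 2, 0, 2, 0, 2, 1, 2, 1, 2, 0, 0, 2, 0, 0, 2, 0]]⟩, ⟨2, [1584, 1655, 3242, 3251, 4087, 4023], 1, 1, [[], [0, 2, 0, 0, 2, 1, 2, 1, 2, 1, 2, 0, 0, 2, 0, 2, 0, 2, 0, 0, 2, 1, 2, 1], [2, 0, 0, 2, 1, 2, 0, 0, 2, 1, 2, 1, 2, 1, 2, 0, 0, 2, 1], [2, 0, 0, 2, 0, 0, 2, 0, 2, 1, 2, 0, 0, 2, 0, 0, 2, 0, 2, 1]]⟩, ⟨3, [4621, 3239, 3251, 3239], 2, 0, [[], []]⟩, ⟨2, [4017, 3250, 3238, 3482, 1594, 3242], 1, 3, [[],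 [0, 2, 0, 0, 2, 0, 0, 2, 0, 2, 0, 2, 0, 0, 2, 0, 2], [1, 2, 1, 2, 1, 2, 0, 2, 0, 2, 0, 0, 2, 0, 0, 2, 0, 0, 2, 0, 2, 0, 0], [1, 2, 1, 2, 0, 2, 1, 2, 1, 2, 0, 2, 0, 2, 0, 0, 2, 0]]⟩, ⟨3, [4625, 3251, 3239], 2, 0, [[], []]⟩, ⟨2, [2704, 2755, 3196, 283, 1822, 1660, 3242], 1, 3, [[], [1, 2, 0, 2, 0, 0, 2, 0, 2, 0, 2, 0, 2, 0, 0, 2, 1, 2, 0, 2, 0], [1, 2, 1, 2, 0, 2, 0, 2, 0, 2, 0, 2, 0, 0, 2, 0, 2, 1, 2], [0, 2, 1, 2, 0, 0, 2, 1, 2, 0, 2, 0, 2, 0, 0, 2, 0, 0, 2, 1, 2]]⟩, ⟨3, [4629, 3251], 2, 0, [[], []]⟩, ⟨2, [282, 1120, 282, 1699, 1661, 3242], 1, 3, [[], [0, 2, 0, 2, 1, 2, 0, 0, 2, 0, 0, 2, 1, 2, 0, 0, 2, 0, 0], [0, 0, 2, 0, 0, 2, 1, 2, 0, 0, 2, 0, 2, 1, 2,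 0, 2, 0], [0, 2, 1, 2, 0, 2, 0, 2, 0, 0, 2, 1, 2, 0, 2, 1, 2, 0, 0, 2, 0, 2]]⟩, ⟨3, [4633, 3251, 3239], 2, 0, [[], []]⟩, ⟨2, [1584, 1661, 3242, 3251, 4453, 282, 4075], 1, 1, [[], [2, 1, 2, 0, 2, 0, 0, 2, 0, 2, 0, 2, 1, 2, 1, 2, 0, 0, 2], [2, 0, 2, 1, 2, 1, 2, 1, 2, 1, 2, 0, 0, 2, 0, 0, 2, 1, 2], [0, 2, 0, 0, 2, 1, 2, 0, 0, 2, 0, 2, 0, 0, 2]]⟩, ⟨2, [1654, 1686, 283, 1924, 1654, 1660, 3242], 1, 3, [[], [2, 0, 2, 1, 2, 1, 2, 0, 0, 2, 0, 0, 2, 0, 0, 2, 0, 0, 2, 0], [0, 2, 0, 2, 0, 2, 0, 2, 0, 2, 1], [2, 0, 0, 2, 0, 0, 2, 0, 2, 0, 2, 1, 2, 0, 0, 2, 1, 2, 0, 0, 2, 0]]⟩, ⟨3, [4639, 3239], 2, 0, [[], []]⟩, ⟨2, [2755, 2722, 1661, 3242, 4557], 1, 2, [[], [2, 1, 2,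 1, 2, 0, 0, 2, 0, 2, 0, 2, 0, 2, 1], [2, 0, 2, 0, 2, 1, 2, 0, 2, 1, 2, 1, 2, 0, 0, 2, 1, 2, 0, 0, 2, 1], [0, 2, 0, 0, 2, 0, 0, 2, 0, 2, 0, 2, 0, 0, 2, 0]]⟩, ⟨3, [4643, 3239, 3251], 2, 0, [[], []]⟩, ⟨2, [3238, 3250, 4186, 2082, 1584, 3242], 1, 3, [[], [2, 0, 2, 0, 2, 1, 2, 0, 2, 0, 0, 2, 0, 0, 2, 0, 0], [2, 0, 2, 0, 2, 0, 2, 1, 2, 0, 0, 2, 0, 2, 0, 2, 1, 2, 0, 0], [0, 2, 0, 2, 0, 2, 1, 2, 1, 2, 0, 0, 2, 1, 2, 0]]⟩, ⟨2, [283, 1462, 282, 1684, 1660, 3242], 1, 3, [[], [2, 1, 2, 1, 2, 1, 2, 0, 0, 2, 0, 2, 0, 2], [0, 2, 0, 0, 2, 0, 0, 2, 0, 2, 1, 2, 1, 2, 0, 2, 1, 2, 0, 0, 2, 0, 0], [2, 0, 0, 2, 1, 2, 0, 2, 1, 2, 0, 0, 2, 1, 2, 0, 2, 0, 2, 0, 0, 2]]⟩, ⟨2, [282,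 617, 283, 1876, 3242], 1, 3, [[], [0, 0, 2, 1, 2, 1, 2, 0, 2, 0, 2, 1, 2, 1, 2, 0, 2, 1, 2, 1], [0, 0, 2, 0, 0, 2, 1, 2, 0, 0, 2, 1, 2, 0, 2, 0, 0, 2, 0, 2, 0, 2], [0, 2, 1, 2, 0, 2, 0, 0, 2, 0, 2, 0, 2, 1, 2, 0, 2, 0, 0, 2, 1, 2, 0]]⟩, ⟨2, [2314, 2358, 2520, 1918, 1654, 1661, 3242], 1, 3, [[], [1, 2, 0, 2, 1, 2, 0, 0, 2, 1, 2, 0, 2, 0, 2, 1, 2], [2, 0, 0, 2, 1, 2, 0, 0, 2, 0, 2, 0, 2, 0, 0, 2], [1, 2, 0, 0, 2, 0, 2, 0, 2, 0, 2, 1, 2, 0, 0, 2, 0, 0, 2, 0, 0, 2, 0]]⟩, ⟨2, [2754, 2754, 2704, 2755, 3070, 282, 1626, 1584, 1654, 1660, 3242], 1, 3, [[], [0, 0, 2, 1, 2, 0, 0, 2, 1, 2, 0, 2, 1, 2, 1, 2, 0], [1, 2, 0, 2, 0, 2, 1, 2, 1, 2, 0, 2, 0, 0, 2, 1, 2], [2,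 0, 0, 2, 0, 2, 0, 2, 0, 2, 0, 2, 1, 2, 0, 2, 1, 2, 0, 0, 2]]⟩, ⟨3, [4655, 3239], 2, 0, [[], []]⟩, ⟨2, [283, 376, 282, 2098, 1584, 1660, 3242], 1, 3, [[], [2, 0, 2, 1, 2, 0, 0, 2, 0, 0, 2, 0, 2, 0, 2, 0, 0], [1, 2, 0, 0, 2, 1], [2, 1, 2, 0, 2, 1, 2, 0, 2, 0, 2, 0, 0]]⟩, ⟨3, [4659, 3239], 2, 0, [[], []]⟩, ⟨2, [3250, 3238, 3596, 1626, 1660, 3242], 1, 3, [[], [1, 2, 1, 2, 1, 2, 0, 2, 0, 2, 1, 2, 1, 2, 0, 0, 2], [0, 2, 1, 2, 1, 2, 0, 2, 0, 0, 2, 0, 2, 1, 2, 0, 0], [0, 2, 0, 0, 2, 0, 0, 2, 0, 0, 2, 0, 2, 0, 2, 0, 2, 1, 2, 0, 0]]⟩, ⟨3, [4663, 3239], 2, 0, [[], []]⟩, ⟨2, [3238, 3250, 3238, 4000, 1655, 2006, 1584, 1594, 3242], 1, 0, [[], [0, 2, 1, 2, 0, 2, 1, 2,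 1, 2, 0, 0, 2, 0, 2, 1, 2, 1, 2, 1, 2], [0, 2, 0, 0, 2, 1, 2, 1, 2, 0, 0, 2, 0, 0, 2, 0, 0, 2, 0], [1, 2, 1, 2, 1, 2, 0, 2, 0, 2, 0, 2, 0, 2, 0, 0]]⟩, ⟨3, [4667, 3239], 2, 0, [[], []]⟩, ⟨2, [1654, 1660, 1910, 1654, 1661, 3242, 3239, 3251, 3239, 3771], 1, 3, [[], [2, 1, 2, 0, 2, 1, 2, 1, 2, 0, 2, 0, 2, 1, 2, 0, 0, 2, 1, 2, 0, 0], [1, 2, 0, 2, 0, 2, 0, 2, 1, 2, 1, 2, 1, 2, 1, 2, 1, 2, 0, 2, 0, 0], [2, 0, 2, 0, 0, 2, 1, 2, 0, 2, 1, 2, 0, 0, 2, 0, 0, 2, 1, 2, 0, 0]]⟩, ⟨3, [4671, 3239], 2, 0, [[], []]⟩, ⟨2, [3238, 3250, 4620, 1584, 1655, 3242, 3251, 3239, 4096], 1, 3, [[], [2, 1, 2, 0, 2, 0, 2, 0, 0, 2, 0, 2, 0, 0, 2, 1, 2], [1, 2, 0, 2, 0, 0, 2, 1, 2, 1, 2,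 1, 2, 0, 0, 2, 0, 0, 2, 0, 2, 0], [0, 2, 0, 0, 2, 1, 2, 1, 2, 0, 2, 0, 0, 2, 1, 2, 1, 2, 0, 0, 2, 0]]⟩, ⟨3, [4675, 283], 2, 0, [[], []]⟩, ⟨2, [1594, 1854, 1655, 3242, 4601], 1, 3, [[], [2, 0, 2, 1, 2, 1, 2, 0, 0, 2, 0, 0, 2, 0, 0], [2, 1, 2, 0, 2, 1, 2, 1, 2, 0, 0, 2, 1, 2, 0, 0, 2, 0, 2, 1, 2, 0, 2, 0], [2, 1, 2, 1, 2, 0, 0, 2, 0, 2, 1, 2, 0, 0, 2, 1]]⟩, ⟨2, [282, 2706, 2704, 2754, 2754, 3208, 1594, 3242], 1, 0, [[], [1, 2, 1, 2, 1, 2, 0, 0, 2, 1, 2, 1, 2, 1, 2, 0, 2, 0, 0], [1, 2, 0, 0, 2, 0, 0, 2, 0, 2, 0, 2, 1, 2, 0, 0, 2, 0, 2, 0], [0, 2, 0, 2, 0, 2, 0, 2, 0, 2, 1, 2, 1, 2]]⟩, ⟨3, [4681, 3239, 3251, 3239], 2, 0, [[], []]⟩, ⟨2, [1654, 1660, 3242, 3239,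 3251, 4265, 3391], 1, 2, [[], [2, 1, 2, 1, 2, 1, 2, 0, 2, 0, 2, 0, 2, 0, 2, 0, 0, 2, 0, 2, 0, 0, 2, 0], [0, 0, 2, 0, 2, 0, 0, 2, 0, 2, 0, 0, 2, 1, 2, 0, 0, 2, 1, 2], [0, 2, 1, 2, 0, 2, 1, 2, 0, 2, 0, 0, 2, 0, 2, 0, 2, 1, 2, 0, 2, 1]]⟩, ⟨3, [4685, 3239, 3251, 3239], 2, 0, [[], []]⟩, ⟨2, [3238, 3250, 3238, 3856, 3238, 3244], 0, 2, [[], [0, 0, 2, 0, 2, 0, 2, 1, 2, 1, 2, 0, 0, 2, 0, 0, 2, 0, 2, 0], [2, 1, 2, 1, 2, 0, 0, 2, 0, 0, 2, 1, 2, 0, 2, 1, 2, 0, 0]]⟩, ⟨3, [4689, 1654], 2, 0, [[], []]⟩, ⟨2, [3238, 3250, 4028, 3238, 3244, 1595, 2045], 1, 2, [[], [0, 2, 0, 2, 0, 2, 0, 0, 2, 0, 2, 1, 2, 0, 0, 2, 1, 2, 0, 2], [2, 0, 0, 2, 1, 2, 0, 2, 0, 2, 1, 2, 0, 0, 2, 1,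 2, 0, 0, 2, 1, 2], [2, 0, 2, 0, 2, 1, 2, 0, 2, 1, 2, 1, 2, 1, 2, 0, 0, 2, 0]]⟩, ⟨2, [3250, 3244, 1654, 1585, 2019, 283, 2718], 1, 1, [[], [2, 1, 2, 1, 2, 0, 2, 0, 2, 1, 2, 0, 2, 1, 2, 1, 2, 0, 0, 2, 1, 2], [0, 0, 2, 1, 2, 0, 0, 2, 0, 2, 0, 0, 2, 0, 2, 0, 2, 1, 2, 0, 2], [0, 0, 2, 1, 2, 0, 2, 1, 2, 0, 2, 0, 2, 0, 0, 2, 1, 2, 0, 2, 1]]⟩, ⟨3, [4695, 2755, 2755, 2705, 2755], 2, 0, [[], []]⟩, ⟨2, [3238, 3250, 3244, 1660, 1655, 1585, 2049, 4197], 1, 1, [[], [2, 1, 2, 0, 2, 0, 2, 1, 2, 0, 2, 1, 2, 0, 2, 0, 2, 1, 2, 0], [0, 2, 1, 2, 1, 2, 0, 2, 1, 2, 0, 0, 2, 1], [0, 2, 1, 2, 0, 0, 2, 0, 0, 2, 0, 2, 1, 2, 0, 2, 0, 2]]⟩, ⟨2, [283, 4210, 3238, 3250, 3238, 3244, 1661,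 1655, 1585, 4587], 1, 2, [[], [1, 2, 0, 2, 1, 2, 0, 2, 0, 2, 0, 2, 0, 2, 1, 2, 1, 2, 0, 0], [1, 2, 1, 2, 0, 0, 2, 0, 2, 1, 2, 0, 2, 1, 2, 0, 0, 2, 0, 2], [1, 2, 1, 2, 0, 2, 0, 2, 1, 2, 0, 2, 0, 0, 2, 0, 2, 1, 2, 0]]⟩, ⟨3, [4701, 3239, 3251, 3239], 2, 0, [[], []]⟩, ⟨2, [3238, 3250, 3238, 3244, 1660, 1655, 1909, 282, 3341], 1, 1, [[], [2, 1, 2, 1, 2, 0, 0, 2, 0, 0, 2, 0, 0, 2, 1, 2, 0, 2, 1], [0, 2, 1, 2, 0, 0, 2, 0, 2, 0, 2, 1, 2, 1, 2, 1, 2], [1, 2, 0, 0, 2, 0, 2, 0, 2, 0, 2, 0, 0, 2, 1, 2, 0, 0, 2, 0, 2]]⟩, ⟨3, [4705, 3239, 3251], 2, 0, [[], []]⟩, ⟨2, [3250, 3244, 1661, 1655, 1585, 1829, 2223], 1, 1, [[], [2, 1, 2, 0, 2, 0, 2, 0, 0, 2, 0, 0, 2, 0, 2, 1,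 2, 0, 0, 2, 0, 0], [1, 2, 0, 0, 2, 1, 2, 0, 2, 0, 0, 2, 1, 2, 1], [0, 2, 0, 2, 1, 2, 1, 2, 0, 0, 2, 0, 0, 2, 1, 2, 0, 2, 0, 2]]⟩, ⟨3, [4709, 2210, 2219, 2181], 2, 0, [[], []]⟩, ⟨2, [3244, 1661, 1585, 1725, 4187], 1, 1, [[], [2, 0, 2, 0, 2, 0, 0, 2, 0, 0, 2, 0, 2, 0, 2, 0, 2, 0, 2], [0, 0, 2, 1, 2, 1, 2, 0, 2, 1, 2, 0, 2, 1, 2, 1, 2, 0, 2, 1], [1, 2, 1, 2, 0, 2, 0, 2, 1, 2, 0, 0, 2, 0, 0, 2, 1, 2, 0, 0, 2]]⟩, ⟨2, [3250, 3244, 1661, 1655, 1585, 2083, 282, 1253], 1, 1, [[], [1, 2, 1, 2, 1, 2, 0, 0, 2, 1, 2, 0, 0, 2, 0, 2, 1], [2, 1, 2, 0, 2, 1, 2, 1, 2, 1, 2, 0, 0], [2, 1, 2, 1, 2, 0, 0, 2, 1, 2, 1, 2, 0, 2, 1, 2, 0, 2, 0]]⟩, ⟨3, [4715, 283], 2, 0, [[], []]⟩,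 ⟨2, [3238, 3250, 3244, 4671, 3251, 4475], 1, 1, [[], [1, 2, 0, 2, 0, 0, 2, 0, 2, 0, 2, 1, 2, 1, 2, 0, 0, 2, 1, 2], [0, 2, 0, 2, 0, 2, 1, 2, 0, 0, 2, 0, 2, 0, 2, 0, 2, 0, 2, 0, 0], [2, 0, 2, 1, 2, 1, 2, 0, 2, 0, 2, 1, 2, 1, 2, 0, 2, 1, 2, 0]]⟩, ⟨3, [4719, 3251], 2, 0, [[], []]⟩, ⟨2, [3250, 3238, 3244, 1661, 1655, 1817, 282, 1921], 1, 1, [[], [2, 1, 2, 0, 2, 1, 2, 0, 2, 1, 2, 0, 0, 2, 0, 2, 1, 2, 0, 2], [2, 1, 2, 1, 2, 1, 2, 0, 2, 1, 2, 0, 0, 2, 0, 2, 0, 0, 2], [0, 0, 2, 1, 2, 0, 2, 0, 2, 0, 2, 0, 0, 2, 0, 0, 2, 0, 0]]⟩, ⟨3, [4723, 1661, 1655], 2, 0, [[], []]⟩, ⟨2, [3250, 4408, 283, 4347, 3238, 3250, 3238, 3244], 1, 3, [[], [0, 2, 1, 2, 0, 0, 2, 1, 2, 0, 2,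 1, 2, 1, 2, 0, 0, 2, 0, 0, 2, 0], [2, 1, 2, 1, 2, 0, 2, 1, 2, 0, 0, 2, 1, 2, 0, 0, 2, 0, 2], [2, 1, 2, 0, 2, 1, 2, 0, 0, 2, 0, 0, 2, 1, 2, 1, 2, 0, 0, 2, 1]]⟩, ⟨3, [4727, 1660], 2, 0, [[], []]⟩, ⟨2, [3250, 3244, 1660, 1585, 1769, 283, 3039], 1, 1, [[], [2, 1, 2, 0, 2, 0, 0, 2, 0, 2, 0, 0, 2, 0, 2, 0, 0, 2, 0, 0, 2], [2, 0, 2, 1, 2, 0, 2, 0, 0, 2, 1, 2, 1, 2, 0, 2, 0, 2, 0, 0], [1, 2, 0, 2, 0, 2, 1, 2, 0, 2, 0, 2]]⟩, ⟨3, [4731, 2754, 2705, 2755, 2755], 2, 0, [[], []]⟩, ⟨2, [3250, 4032, 3238, 3250, 3238, 3244, 1661, 1585, 2499], 1, 2, [[], [2, 0, 2, 0, 2, 0, 0, 2, 0, 2, 0, 2, 1, 2, 0, 0, 2, 0, 2, 0], [0, 0, 2, 0, 2, 1, 2, 1, 2, 0, 2, 1, 2, 0, 2, 0, 0, 2],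 [1, 2, 1, 2, 1, 2, 1, 2, 1, 2, 0, 2, 1, 2, 0, 0, 2, 1, 2]]⟩, ⟨3, [4735, 2424, 2359], 2, 0, [[], []]⟩, ⟨2, [3250, 3244, 1660, 1943, 3907], 1, 1, [[], [1, 2, 1, 2, 0, 2, 0, 2, 1, 2, 0, 2, 0, 0, 2, 0, 0, 2, 0, 0, 2, 0], [0, 2, 0, 0, 2, 1, 2, 1, 2, 1, 2, 0, 0, 2, 0, 2, 1, 2, 0, 0, 2, 1], [0, 0, 2, 0, 2, 0, 2, 0, 0, 2, 0, 2, 0, 2, 0, 2, 0]]⟩, ⟨2, [152, 154, 3286, 3238, 3250, 3238, 3244, 1654, 4565], 1, 2, [[], [2, 1, 2, 0, 2, 0, 2, 0, 2, 1, 2, 1, 2, 1, 2, 1, 2, 0, 0, 2], [2, 1, 2, 0, 0, 2, 1], [1, 2, 1, 2, 1, 2, 0, 0, 2, 1, 2, 0, 2, 0, 2, 0, 2, 0, 2]]⟩, ⟨3, [4741, 3239, 3251], 2, 0, [[], []]⟩, ⟨2, [3238, 3244, 1655, 1679, 2787], 1, 1, [[], [2, 0, 2, 1, 2, 0,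 2, 0, 0, 2, 0, 2, 1, 2, 0, 0, 2, 1, 2, 0, 2], [0, 2, 1, 2, 0, 2, 0, 2, 0, 0, 2, 0, 2, 1, 2, 0, 2, 0, 0, 2], [2, 0, 2, 0, 0, 2, 1, 2, 0, 2, 0, 2, 1, 2, 0, 2, 0, 0, 2, 0, 0]]⟩, ⟨3, [4745, 2755, 2705, 2755], 2, 0, [[], []]⟩, ⟨2, [3250, 4386, 4100, 3250, 3238, 3244], 1, 3, [[], [0, 2, 0, 2, 1, 2, 1, 2, 1, 2, 0, 0, 2, 1, 2, 1, 2, 1, 2, 0, 0, 2, 0, 0], [2, 1, 2, 0, 0, 2, 0, 0, 2, 1, 2, 1, 2, 0, 2, 0, 2, 0, 0], [1, 2, 0, 2, 0, 0, 2, 0, 2, 0, 2, 0, 0, 2, 0, 2, 0, 2, 1]]⟩] 2308 2375 = true := by decide +kernel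
theorem dd_c34 : dd.checks [⟨2, [3238, 3250, 3244, 1705, 1655, 4691], 1, 1, [[], [1, 2, 1, 2, 0, 0, 2, 0, 2, 1, 2, 0, 0, 2, 0, 0, 2, 1, 2, 1], [0, 2, 1, 2, 0, 2, 1, 2, 0, 2, 0, 2, 1, 2, 0, 2, 0, 2, 0, 0, 2, 0, 0], [2, 1, 2, 0, 0, 2, 1, 2, 0, 2, 1, 2, 0, 2, 1, 2, 0, 2, 0]]⟩, ⟨2, [4720, 3250, 3244, 1595, 2007], 1, 2, [[], [2, 1, 2, 0, 2, 0, 0, 2, 0, 0, 2, 1, 2, 0, 0, 2, 1, 2, 1, 2, 0, 0], [0, 2, 1, 2, 1, 2, 0, 2, 0, 2, 1, 2, 1, 2, 0, 0], [0, 0, 2, 0, 2, 0, 0, 2, 0, 2, 0, 2, 0, 2, 0, 0, 2, 0, 2, 1]]⟩, ⟨2, [3238, 3250, 3244, 1660, 1585, 1991, 2780], 1, 1, [[], [0, 2, 1, 2, 1, 2, 0, 0, 2, 0, 2, 0, 2, 0, 2, 0, 0, 2, 0], [0, 2, 1, 2, 0, 2, 1, 2, 0, 2, 1, 2, 1,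 2, 0, 0, 2, 1, 2, 0, 0], [1, 2, 0, 2, 0, 0, 2, 1, 2, 0, 0, 2, 1, 2, 0, 0]]⟩, ⟨3, [4755, 2705, 2755, 2705], 2, 0, [[], []]⟩, ⟨2, [3238, 3810, 1584, 1661, 3836, 3238, 3250, 3244], 1, 3, [[], [2, 0, 0, 2, 1, 2, 0, 2, 0, 2, 0, 0, 2, 0, 0], [1, 2, 0, 2, 0, 2, 1, 2, 0, 0, 2, 1, 2, 0, 2, 0], [0, 0, 2, 1, 2, 0, 2, 0, 2, 0, 2, 0, 0, 2, 0, 2, 1, 2, 0, 0]]⟩, ⟨3, [4759, 1660, 1585], 2, 0, [[], []]⟩, ⟨2, [3250, 3244, 1595, 1585, 1823, 283, 3533], 1, 1, [[], [0, 0, 2, 1, 2, 0, 2, 0, 2, 1, 2, 0, 2, 1, 2, 0, 2, 0], [2, 0, 0, 2, 0, 2, 1, 2, 1, 2, 1, 2, 1, 2, 1, 2], [2, 0, 2, 0, 0, 2, 1, 2, 0, 2, 0, 2, 0, 0, 2, 0, 0, 2, 0, 0, 2, 0, 0]]⟩, ⟨3, [4763, 3239, 3251, 3239], 2, 0,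 [[], []]⟩, ⟨2, [3238, 3244, 1661, 1655, 1585, 1647, 282, 437], 1, 1, [[], [0, 2, 1, 2, 0, 0, 2, 0, 0, 2, 0, 0, 2, 0, 0, 2, 1, 2, 1, 2, 0, 0], [0, 2, 0, 2, 0, 2, 1, 2, 1, 2, 1, 2, 1, 2, 0, 2, 0], [0, 0, 2, 0, 2, 0, 0, 2, 1, 2, 0, 0, 2, 0, 2, 0, 2, 0, 0, 2, 0]]⟩, ⟨3, [4767, 282], 2, 0, [[], []]⟩, ⟨2, [3250, 3238, 3915, 3238, 3250, 3244, 1661, 1655, 1585, 4639], 1, 2, [[], [0, 2, 0, 2, 1, 2, 1, 2, 0, 0, 2, 0, 2, 0, 0, 2, 0, 0, 2, 1], [1, 2, 1, 2, 1, 2, 0, 0, 2, 0, 0, 2, 0, 0, 2, 1, 2, 0], [0, 2, 0, 0, 2, 0, 2, 0, 2, 1, 2, 0, 2, 0, 0, 2]]⟩, ⟨3, [4771, 3251, 3239], 2, 0, [[], []]⟩, ⟨2, [3250, 4624, 3238, 3244, 1654, 1585, 1689], 1, 2, [[], [1, 2, 0, 2, 1, 2,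 1, 2, 0, 2, 0, 2, 1, 2, 0, 2, 0], [2, 0, 2, 1, 2, 0, 0, 2, 0, 2, 0, 0, 2, 1, 2, 0, 2, 1], [1, 2, 0, 2, 1, 2, 0, 0, 2, 1, 2, 1, 2, 0, 0, 2, 1, 2, 0, 2, 0, 0]]⟩, ⟨3, [4775, 283], 2, 0, [[], []]⟩, ⟨2, [3250, 4636, 1654, 1660, 3836, 3244], 1, 3, [[], [2, 1, 2, 0, 2, 0, 2, 1, 2, 1, 2, 1, 2, 0, 0, 2, 0, 0, 2], [2, 0, 0, 2, 0, 0, 2, 0, 2, 1, 2, 0, 2, 0, 0, 2, 0, 2, 0], [0, 2, 1, 2, 0, 0, 2, 0, 2, 1, 2, 0, 0]]⟩, ⟨3, [4779, 1595, 1585], 2, 0, [[], []]⟩, ⟨2, [3250, 3238, 3952, 3238, 3250, 3238, 3902, 3238, 3244], 1, 3, [[], [0, 2, 1, 2, 1, 2, 0, 2, 0, 2, 1, 2, 0, 2, 1, 2, 0, 2, 0, 2, 1], [0, 2, 0, 2, 1, 2, 0, 0, 2, 1, 2, 0, 0, 2, 1, 2, 1, 2, 0, 2], [2, 1, 2, 0, 2,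 0, 0, 2, 0, 2, 0, 2, 1, 2, 0, 0, 2]]⟩, ⟨3, [4783, 1654, 1585], 2, 0, [[], []]⟩, ⟨2, [3250, 4135, 3250, 3244, 1660, 4679], 1, 2, [[], [2, 0, 0, 2, 1, 2, 0, 2, 0, 2, 1, 2, 1, 2, 0, 2, 0, 2, 1], [2, 0, 0, 2, 1, 2, 1, 2, 1, 2, 1, 2, 0, 0, 2, 1, 2, 1, 2, 1, 2, 0], [1, 2, 1, 2, 0, 0, 2, 0, 2, 0, 0, 2, 0, 0, 2, 0, 2, 0, 0, 2, 1]]⟩, ⟨2, [3238, 3250, 3244, 1661, 1585, 1675, 208, 221, 481], 1, 1, [[], [0, 2, 0, 2, 1, 2, 1, 2, 1, 2, 1, 2, 1, 2, 0, 0, 2, 0, 2, 1], [2, 0, 0, 2, 0, 0, 2, 1, 2, 0, 2, 0, 2, 0, 0, 2, 0, 0, 2, 1], [1, 2, 0, 2, 0, 2, 0, 0, 2, 0, 2, 0, 2, 0, 2, 0, 0, 2, 0, 0]]⟩, ⟨2, [3238, 4740, 164, 153, 156, 4742, 3238, 3250, 3238, 3244], 1, 0, [[], [0, 0,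 2, 0, 0, 2, 0, 2, 0, 2, 1, 2, 1, 2, 0, 2, 0, 2, 1, 2, 0], [0, 0, 2, 0, 0, 2, 0, 2, 1, 2, 1, 2, 1, 2, 1, 2, 0, 0, 2, 0, 2], [0, 0, 2, 1, 2, 1, 2, 1, 2, 1, 2, 0, 0, 2, 0, 0, 2]]⟩, ⟨3, [4791, 1660, 1585], 2, 0, [[], []]⟩, ⟨2, [3238, 3250, 3244, 1661, 2023, 2979], 1, 2, [[], [0, 0, 2, 1, 2, 0, 2, 1, 2, 0, 2, 0, 2, 0, 0, 2, 1, 2], [2, 0, 0, 2, 1, 2, 1, 2, 0, 0, 2, 1, 2, 0, 2, 1, 2, 0, 0], [2, 0, 2, 0, 2, 0, 0, 2, 0, 0, 2, 0, 2, 0, 0]]⟩, ⟨3, [4795, 2705, 2754], 2, 0, [[], []]⟩, ⟨2, [2754, 2704, 4694, 3250, 3238, 3244, 1595, 4348], 1, 3, [[], [1, 2, 0, 2, 1, 2, 0, 2, 1, 2, 1, 2, 0, 0, 2, 1, 2, 0, 2, 0, 2, 0, 0], [1, 2, 1, 2, 0, 0, 2, 1, 2, 1, 2, 0, 2, 0, 2, 1,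 2, 0, 2], [2, 0, 2, 0, 2, 1, 2, 0, 0, 2, 1, 2, 1, 2, 0, 0]]⟩, ⟨3, [4799, 3239, 3251, 3239], 2, 0, [[], []]⟩, ⟨2, [3244, 1585, 1681, 1595, 1585, 1659], 1, 2, [[], [2, 0, 2, 0, 0, 2, 0, 2, 0, 2, 1, 2, 0, 0, 2, 1, 2, 0, 2], [2, 0, 2, 0, 0, 2, 0, 2, 1, 2, 0, 2, 0, 2, 1, 2, 0, 0], [2, 1, 2, 0, 2, 1, 2, 0, 2, 0, 0, 2, 0, 2, 0, 2, 1, 2, 1, 2]]⟩, ⟨2, [3244, 1655, 1585, 3836, 3239, 4608], 1, 2, [[], [0, 2, 0, 2, 1, 2, 0, 2, 1, 2, 0, 2, 0, 0, 2, 1, 2, 0], [0, 2, 0, 2, 1, 2, 0, 0, 2, 1, 2, 0, 2, 1, 2, 1, 2, 0], [2, 0, 2, 1, 2, 0, 2, 0, 2, 0, 2, 0, 2, 0, 2, 1, 2, 0, 0, 2, 0]]⟩, ⟨3, [4805, 282], 2, 0, [[], []]⟩, ⟨2, [3238, 3250, 3584, 2755, 2704, 2755, 3246], 0, 2, [[],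 [2, 1, 2, 1, 2, 0, 2, 0, 0, 2, 0, 0, 2, 1, 2, 0, 0, 2, 0], [2, 1, 2, 0, 0, 2, 0, 2, 0, 0, 2, 1, 2, 0, 2, 1, 2, 1, 2]]⟩, ⟨2, [1502, 2866, 2704, 2754, 3246], 1, 3, [[], [2, 1, 2, 0, 0, 2, 0, 2, 0, 2, 0, 2, 0, 2, 1, 2, 1, 2, 1, 2, 0, 0], [1, 2, 0, 2, 0, 0, 2, 0, 2, 0, 2, 1, 2, 0, 2, 1, 2, 0, 2, 1, 2, 1], [0, 0, 2, 1, 2, 0, 2, 0, 0, 2, 0, 0, 2, 0, 2, 0, 2, 1, 2, 1, 2]]⟩, ⟨2, [3238, 3250, 3238, 4489, 2704, 2755, 3246, 3239, 4765], 1, 2, [[], [1, 2, 0, 2, 1, 2, 1, 2, 0, 2, 0, 2, 1, 2, 1, 2, 0, 2, 0, 2, 0, 0], [0, 2, 0, 2, 1, 2, 0, 2, 0, 0, 2, 1, 2, 1, 2, 0, 2, 0, 0, 2, 0], [2, 0, 0, 2, 1, 2, 1, 2, 0, 2, 0, 0, 2, 0, 0, 2, 0, 2, 0]]⟩, ⟨3, [4813, 3251], 2, 0, [[],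 []]⟩, ⟨2, [283, 1754, 1584, 1661, 3036, 2704, 2754, 2704, 2754, 3246], 1, 3, [[], [1, 2, 0, 2, 0, 2, 1, 2, 1, 2, 0, 0, 2, 1, 2, 1], [2, 1, 2, 0, 0, 2, 1, 2, 0, 0, 2, 0, 2, 0, 2, 0, 2, 0, 0, 2, 1], [0, 0, 2, 0, 2, 0, 2, 0, 0, 2, 1, 2, 0, 2, 0, 0]]⟩, ⟨3, [4817, 3239, 3251, 3239], 2, 0, [[], []]⟩, ⟨2, [1584, 1660, 2916, 2704, 2755, 2704, 3088, 2704, 2755, 2704, 3246], 1, 3, [[], [0, 2, 0, 0, 2, 0, 0, 2, 1, 2, 0, 2, 1, 2, 0, 0, 2, 0], [0, 2, 0, 2, 0, 2, 0, 0, 2, 0, 0, 2, 1, 2, 0, 0, 2, 0, 0, 2, 0, 0], [2, 1, 2, 0, 2, 0, 0, 2, 0, 2, 0, 2, 0, 2, 0, 0, 2, 0, 2, 0]]⟩, ⟨2, [2704, 2754, 2704, 2754, 3046, 156, 164, 153, 3048, 2704, 2754, 3246], 1, 3, [[], [0, 0, 2,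 0, 0, 2, 0, 2, 0, 0, 2, 1, 2, 1, 2, 0, 2], [1, 2, 0, 2, 1, 2, 1, 2, 0, 0, 2, 1, 2, 0, 0, 2], [1, 2, 0, 0, 2, 0, 2, 1, 2, 1, 2, 1, 2, 0, 0, 2, 0]]⟩, ⟨3, [4823, 3239, 3251], 2, 0, [[], []]⟩, ⟨2, [2754, 2754, 2704, 3246, 3251, 3779, 4692], 1, 1, [[], [1, 2, 0, 0, 2, 0, 2, 0, 2, 0, 0, 2, 1, 2, 1, 2, 0, 2, 0, 0], [1, 2, 0, 2, 1, 2, 1, 2, 0, 2, 0, 2, 0, 0, 2, 1, 2, 1], [0, 2, 0, 2, 0, 2, 0, 0, 2, 0, 2, 1, 2, 1, 2, 0, 2, 0, 2, 0, 2]]⟩, ⟨3, [4827, 3251, 3239], 2, 0, [[], []]⟩, ⟨2, [283, 2976, 2754, 2754, 3008, 2755, 2704, 3246], 1, 3, [[], [2, 1, 2, 1, 2, 1, 2, 0, 0, 2, 1, 2, 1, 2, 0, 0, 2, 0, 0, 2], [0, 0, 2, 0, 0, 2, 0, 2, 0, 0, 2, 0, 0, 2, 0, 2, 0, 2, 1, 2, 0],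 [0, 2, 0, 0, 2, 1, 2, 1, 2, 1, 2, 0, 0, 2, 0, 2, 1, 2, 0, 0, 2, 0]]⟩, ⟨3, [4831, 3239, 3251], 2, 0, [[], []]⟩, ⟨2, [3238, 3250, 4400, 3238, 4642, 3246], 1, 3, [[], [1, 2, 1, 2, 0, 0, 2, 0, 2, 0, 2, 0, 2, 0, 2, 0, 2, 1, 2, 1], [2, 0, 2, 1, 2, 1, 2, 0, 2, 0, 0, 2, 1, 2, 0, 0], [1, 2, 1, 2, 0, 2, 0, 2, 0, 0, 2, 0, 0, 2, 0, 2, 0, 2]]⟩, ⟨2, [2250, 2180, 2186, 2211, 3112, 2704, 2754, 3246], 1, 3, [[], [2, 1, 2, 0, 0, 2, 0, 2, 1, 2, 0, 0, 2, 1, 2, 0, 2, 1, 2, 1], [0, 2, 1, 2, 0, 2, 0, 2, 1, 2, 0, 0, 2, 0, 0, 2], [1, 2, 0, 2, 1, 2, 0, 2, 0, 2, 0, 0, 2, 1, 2, 0, 0]]⟩, ⟨2, [80, 70, 98, 619, 283, 3020, 3246], 1, 3, [[], [1, 2, 0, 2, 0, 0, 2, 1, 2, 0, 0, 2, 0, 2, 1,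 2, 1], [1, 2, 0, 0, 2, 0, 2, 1, 2, 1, 2, 1, 2, 0, 0, 2, 1, 2, 0, 0, 2, 0], [1, 2, 0, 2, 0, 2, 0, 0, 2, 0, 0, 2, 1, 2, 1, 2]]⟩, ⟨3, [4839, 3251], 2, 0, [[], []]⟩, ⟨2, [283, 4332, 3336, 2754, 2704, 2754, 2754, 3246], 1, 3, [[], [0, 0, 2, 1, 2, 0, 2, 0, 0, 2, 0, 2, 0, 0, 2, 0, 2, 1, 2, 0], [0, 2, 0, 2, 0, 0, 2, 0, 2, 1, 2, 0, 2, 0, 2, 0, 0, 2, 1, 2, 0, 0], [1, 2, 0, 0, 2, 1, 2, 0, 2, 1, 2, 0, 0, 2, 1, 2, 0, 0]]⟩, ⟨3, [4843, 3251, 3239], 2, 0, [[], []]⟩, ⟨2, [283, 1050, 282, 3078, 2755, 3246], 1, 3, [[], [2, 0, 0, 2, 1, 2, 0, 0, 2, 0, 2, 0, 0, 2, 0, 0, 2, 1, 2, 0, 2], [2, 1, 2, 1, 2, 0, 2, 0, 0, 2, 0, 2, 0, 2, 1, 2, 0, 2, 1, 2, 0, 0], [0, 0, 2, 0, 2, 1, 2, 0,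 0, 2, 0, 2, 0, 2, 0, 0, 2, 0, 0, 2]]⟩, ⟨2, [283, 2828, 2755, 2704, 3246, 3239, 3251, 3731], 1, 2, [[], [0, 0, 2, 0, 2, 0, 2, 1, 2, 1, 2, 0, 2, 0, 2, 0, 2], [2, 0, 2, 0, 0, 2, 0, 2, 1, 2, 0, 2, 0, 0, 2, 0], [0, 0, 2, 0, 2, 1, 2, 0, 2, 1, 2, 1, 2, 1, 2]]⟩, ⟨2, [3238, 3250, 4658, 282, 3107, 2754, 2754, 2704, 3246], 1, 3, [[], [0, 2, 0, 0, 2, 1, 2, 0, 0, 2, 1, 2, 0, 2, 0, 2, 0], [1, 2, 1, 2, 1, 2, 1, 2, 1, 2, 0, 2, 0, 0, 2, 0, 0], [0, 0, 2, 0, 2, 1, 2, 1, 2, 0, 2, 0, 0, 2, 0, 2, 0]]⟩, ⟨3, [4851, 3239, 3251], 2, 0, [[], []]⟩, ⟨2, [2754, 3222, 2755, 2704, 2754, 3246, 4765], 1, 2, [[], [0, 0, 2, 1, 2, 0, 0, 2, 1, 2, 1, 2, 0, 2, 1, 2, 0, 2, 0, 0], [2, 0, 2, 0, 0,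 2, 1, 2, 1, 2, 1, 2, 0, 0, 2, 1, 2, 0], [0, 2, 0, 0, 2, 0, 2, 0, 2, 0, 2, 0, 2, 0, 2, 0, 2, 0]]⟩, ⟨2, [3305, 283, 2804, 2704, 3246], 1, 3, [[], [2, 1, 2, 0, 0, 2, 0, 2, 1, 2, 1, 2, 0, 2, 0, 0, 2, 0, 2], [2, 1, 2, 1, 2, 1, 2, 0, 2, 1, 2, 0, 0, 2, 0, 2, 0, 0, 2, 0], [2, 0, 2, 1, 2, 0, 2, 0, 2, 0, 0, 2, 0, 2, 1, 2, 0, 2, 0]]⟩, ⟨2, [283, 3078, 2755, 2704, 2850, 2704, 2754, 2704, 3246], 1, 3, [[], [0, 0, 2, 1, 2, 0, 2, 1, 2, 0, 2, 1, 2, 0, 2, 0, 0, 2, 1], [0, 2, 0, 2, 1, 2, 1, 2, 0, 0, 2, 0, 0, 2, 1, 2, 0, 2, 0, 0], [1, 2, 0, 2, 0, 2, 0, 2, 0, 2, 1, 2, 0, 0, 2]]⟩, ⟨2, [3250, 3984, 282, 3210, 2754, 2704, 3246], 1, 3, [[], [2, 1, 2, 0, 2, 0, 2, 0, 0, 2, 1, 2, 0,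 2, 0, 2, 1], [1, 2, 1, 2, 0, 2, 0, 0, 2, 0, 2, 0, 2, 1], [1, 2, 1, 2, 1, 2, 0, 0, 2, 1, 2, 0, 0, 2, 0, 2, 1, 2, 1]]⟩, ⟨3, [4861, 3239], 2, 0, [[], []]⟩, ⟨2, [2754, 2704, 3246, 3239, 4723, 1595, 1585, 4581], 1, 1, [[], [2, 0, 2, 1, 2, 1, 2, 0, 0, 2], [2, 0, 2, 1, 2, 0, 2, 0, 0, 2, 0, 2, 0, 0, 2, 1], [0, 2, 1, 2, 1, 2, 1, 2, 1, 2, 0, 2, 1, 2, 0, 0, 2, 1, 2, 0, 0, 2, 0]]⟩, ⟨2, [2180, 2211, 2211, 2180, 2234, 282, 2980, 2755, 2704, 2755, 3246], 1, 3, [[], [1, 2, 0, 0, 2, 0, 2, 1, 2, 0, 2, 0, 0, 2, 0, 0, 2, 0, 2, 0, 2, 1, 2, 0], [2, 0, 2, 0, 0, 2, 1, 2, 0, 2, 1, 2, 0, 0, 2, 0, 2], [0, 0, 2, 1, 2, 0, 0, 2, 0, 0, 2, 0, 2, 0, 0, 2, 1, 2, 0, 0]]⟩, ⟨3, [4867, 3251,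 3239], 2, 0, [[], []]⟩, ⟨2, [2704, 2754, 2754, 3046, 156, 153, 164, 3048, 2704, 2754, 2704, 2754, 3246], 1, 0, [[], [2, 0, 2, 0, 0, 2, 0, 2, 1, 2, 1, 2, 0, 0, 2, 0, 2, 0, 0, 2, 0], [0, 2, 0, 0, 2, 0, 0, 2, 1, 2, 1, 2, 0, 2, 0, 2, 1, 2, 1, 2], [0, 0, 2, 0, 0, 2, 0, 2, 0, 2, 0, 0, 2, 1, 2, 1, 2, 0, 2, 0, 0]]⟩] 2375 2436 = true := by decide +kernel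

end Cfsg.Agent.J4C.C
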