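import Cfsg.Agent.J4C.Cert

set_option autoImplicit false
set_option Elab.async false
set_option maxRecDepth 100000
set_option linter.all false

namespace Cfsg.Agent.J4C.C
open Cfsg.Agent.CGT

noncomputable def dF0 : BT Fct := (.node 22 (.node 11 (.node 5 (.node 2 (.node 1 (.leaf ⟨0, 0, false, [0], [], []⟩) (.leaf ⟨0, 0, false, [2], [], []⟩)) (.node 1 (.leaf ⟨0, 0, false, [4], [], []⟩) (.node 1 (.leaf ⟨0, 0, false, [6], [], []⟩) (.leaf ⟨0, 0, false, [8], [], []⟩)))) (.node 3 (.node 1 (.leaf ⟨0, 0, false, [10], [], []⟩) (.node 1 (.leaf ⟨0, 0, false, [12], [], []⟩) (.leaf ⟨0, 0, false, [14], [], []⟩))) (.node 1 (.leaf ⟨0, 0, false, [16], [], []⟩) (.node 1 (.leaf ⟨0, 0, false, [18], [], []⟩) (.leaf ⟨0, 1, true, [], [], []⟩))))) (.node 5 (.node 2 (.node 1 (.leaf ⟨1, 1, false, [18, 18], [], [0, 2]⟩) (.leaf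 ⟨1, 1, false, [0, 10, 6, 0, 7, 10], [], [0, 2, 6]⟩)) (.node 1 (.leaf ⟨1, 1, false, [19, 15, 11, 2, 12, 18, 0], [], [0, 10, 9]⟩) (.node 1 (.leaf ⟨1, 2, true, [0, 10, 19, 5, 13, 19, 14], [], []⟩) (.leaf ⟨2, 0, true, [2, 0, 3], [], []⟩)))) (.node 3 (.node 1 (.leaf ⟨1, 2, false, [2, 0, 3], [], [-1]⟩) (.node 1 (.leaf ⟨1, 1, true, [0, 10, 19, 5, 13, 19, 14], [2, 0, 3], [1]⟩) (.leaf ⟨1, 1, true, [14, 18, 4, 15, 17, 13, 5], [0, 9, 12, 19, 11, 6, 19], [1, -13, -15, -1]⟩))) (.node 1 (.leaf ⟨1, 3, true, [3], [], []⟩) (.node 1 (.leaf ⟨3, 3, true, [4, 8, 13, 18, 5, 18, 11], [10, 5, 19, 12, 17, 13, 3], [1, -1, -17, -1]⟩) (.leaf ⟨3, 1, true, [19, 7, 9, 17, 6, 13, 11, 2], [13, 15, 4, 18, 9, 7, 3], [2, -22, -25, -1]⟩)))))) (.node 11 (.node 5 (.node 2 (.node 1 (.leaf ⟨3, 3, false, [18, 6, 8, 18, 4, 14, 7, 0], [],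 [-3, 19, 27, 1]⟩) (.leaf ⟨3, 3, true, [18, 9, 2, 13, 10, 18, 14, 9], [5, 8, 19, 7, 4, 11, 8, 3], [1, 16, -12, -1]⟩)) (.node 1 (.leaf ⟨3, 3, false, [7, 3, 19, 15, 13, 4, 14, 0], [], [6, -32, -44, -2]⟩) (.node 1 (.leaf ⟨3, 3, false, [7, 17, 13, 6, 2, 14, 11, 0], [], [0, -25, 10, 1]⟩) (.leaf ⟨3, 3, false, [16, 8, 14, 10, 13, 16, 11, 3], [], [-18, 103, 142, 6]⟩)))) (.node 3 (.node 1 (.leaf ⟨3, 3, true, [15, 3, 17, 10, 17, 15, 13, 3], [12, 15, 4, 6, 14, 19, 16, 9], [13, -116, -146, -5]⟩) (.node 1 (.leaf ⟨3, 3, false, [11, 2, 14, 17, 10, 7, 11], [], [-15, 167, 202, 6]⟩) (.leaf ⟨3, 3, true, [14, 16, 5, 12, 19, 10], [6, 11, 9, 10, 17, 10, 0, 4], [4, -42, -72, -2]⟩))) (.node 1 (.leaf ⟨3, 3, false, [14, 19, 16, 9, 7, 12, 11], [], [-12, 132, 157, 5]⟩) (.node 1 (.leaf ⟨3, 3, true, [18, 9, 11, 7, 12, 15, 11],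 [7, 10, 0, 19, 10, 14, 0], [-2, 10, 8]⟩) (.leaf ⟨3, 3, true, [16, 9, 0, 13, 7, 12], [14, 5, 16, 9, 4, 11, 15], [3, -65, -67, 0, -1]⟩))))) (.node 6 (.node 3 (.node 1 (.leaf ⟨3, 3, false, [7, 10, 7, 13, 18, 4, 0], [], [24, -209, -263, -8]⟩) (.node 1 (.leaf ⟨1, 4, true, [3, 0, 3], [], []⟩) (.leaf ⟨4, 4, false, [12, 10, 7, 11, 2, 18, 12], [], [0, 12, 12]⟩))) (.node 1 (.leaf ⟨4, 4, true, [0, 2, 6, 9, 6, 17, 0], [2, 6, 15, 13, 5, 8, 13], [1, -26, -14, -1]⟩) (.node 1 (.leaf ⟨4, 3, true, [0, 17, 14, 8, 6, 19, 15, 2], [2, 6, 19, 6, 3, 17, 2], [1, -22, -40, -1]⟩) (.leaf ⟨3, 4, true, [19, 9, 6, 14, 5, 8, 7, 2], [18, 7, 18, 0, 17, 7, 5, 3], [-35, 344, 433, 13]⟩)))) (.node 3 (.node 1 (.leaf ⟨4, 4, false, [12, 17, 4, 15, 18, 6, 14, 3], [], [-3, 38, 18]⟩) (.node 1 (.leaf ⟨4, 4, false, [0, 12, 2, 14, 6, 10, 2],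 [], [3, -100, -106, -2]⟩) (.leaf ⟨4, 4, true, [15, 6, 18, 4, 6, 6], [8, 14, 12, 6, 4, 15, 0, 4], [4, -47, -36, -1]⟩))) (.node 1 (.leaf ⟨4, 4, true, [6, 5, 13, 7, 13, 18, 9], [18, 9, 6, 4, 16, 3, 19, 6], [6, -75, -84, -1, -1]⟩) (.node 1 (.leaf ⟨4, 4, true, [2, 6, 19, 10, 14, 19, 7, 2], [19, 11, 5, 16, 9, 7, 4], [6, -43, -48, 0, -1]⟩) (.leaf ⟨3, 4, true, [19, 0, 16, 9, 6, 14, 9], [10, 19, 16, 9, 14, 6, 19], [16, -195, -231, -7]⟩)))))))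
noncomputable def dF45 : BT Fct := (.node 22 (.node 11 (.node 5 (.node 2 (.node 1 (.leaf ⟨4, 3, true, [8, 11, 12, 17, 6], [8, 15, 7, 8, 17, 0, 18], [-17, 183, 219, 7]⟩) (.leaf ⟨4, 4, true, [7, 4, 18, 14, 3, 14, 7, 4], [5, 19, 0, 15, 5, 19, 6, 2], [4, -96, -72, -1]⟩)) (.node 1 (.leaf ⟨4, 4, true, [8, 16, 9, 0, 18, 12, 14], [14, 18, 0, 11, 5, 13, 4, 7], [57, -422, -580, -18, -1]⟩) (.node 1 (.leaf ⟨4, 4, true, [9, 5, 14, 11, 15, 5, 16], [13, 8, 0, 12, 6, 14, 12, 5], [-11, 137, 158, 4]⟩) (.leaf ⟨4, 4, false, [14, 3, 14, 6, 9, 7, 14], [], [2, -62, -45, 1, -1]⟩)))) (.node 3 (.node 1 (.leaf ⟨4, 4, true, [11, 3, 11, 12, 7, 19, 7, 3], [15, 19, 7, 4, 19, 14, 0, 3], [-50, 378, 518, 17]⟩) (.node 1 (.leaf ⟨4, 4, true, [18, 10, 18, 14, 18, 6, 17, 2], [9, 4, 17, 4, 9, 19, 2], [-111, 826, 1192, 37, 2]⟩) (.leaf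 ⟨4, 4, true, [4, 8, 15, 11, 4, 16, 6], [13, 0, 9, 6, 9, 0, 3], [13, -201, -230, -6]⟩))) (.node 1 (.leaf ⟨4, 4, true, [7, 19, 15, 8, 2, 15, 6], [14, 0, 17, 10, 17, 14, 7, 3], [-5, 149, 114, 2]⟩) (.node 1 (.leaf ⟨4, 4, true, [6, 15, 12, 16, 18, 7, 2], [10, 15, 8, 6, 12, 4, 18], [-3, 34, 55, 3, -1]⟩) (.leaf ⟨4, 4, true, [19, 8, 4, 11, 15, 6, 15], [18, 18, 4, 7, 0, 15, 12, 0], [0, -25, -49, 0, -1]⟩))))) (.node 5 (.node 2 (.node 1 (.leaf ⟨4, 4, true, [14, 12, 4, 19, 11, 17, 9, 2], [11, 7, 3, 6, 11, 18, 8], [44, -215, -367, -16, 1]⟩) (.leaf ⟨4, 4, true, [5, 7, 9, 11, 9, 14, 16], [17, 0, 13, 18, 8, 14, 12], [-16, 239, 278, 6, 1]⟩)) (.node 1 (.leaf ⟨4, 4, true, [0, 3, 7, 14, 18, 12, 19], [18, 7, 17, 6, 14, 5, 16, 0], [24, 21, -118, -11, 2]⟩) (.node 1 (.leaf ⟨4, 4, true, [7, 8, 13, 6, 17, 18, 10], [18, 13,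 19, 15, 6, 2, 0], [-22, -71, 88, 11, -2]⟩) (.leaf ⟨4, 4, true, [12, 8, 7, 17, 15, 12, 9, 3], [11, 19, 17, 10, 6, 19, 15], [-5, 52, 47, 1]⟩)))) (.node 3 (.node 1 (.leaf ⟨4, 4, true, [18, 10, 2, 18, 18, 5, 17, 13], [6, 14, 18, 14, 18, 5, 6], [48, -246, -407, -19, 2]⟩) (.node 1 (.leaf ⟨4, 4, true, [11, 3, 7, 9, 4, 16, 13, 0], [7, 4, 10, 12, 7, 16, 14, 3], [3, -51, -34, 1, -1]⟩) (.leaf ⟨4, 4, true, [10, 8, 0, 17, 5, 17, 10, 12], [17, 7, 3, 16, 6, 16, 3, 19], [-16, 128, 127, 2, 1]⟩))) (.node 1 (.leaf ⟨4, 4, true, [4, 7, 10, 12, 7, 16, 8, 0], [4, 11, 9, 10, 5, 9, 18], [2, -157, -137, 1, -2]⟩) (.node 1 (.leaf ⟨4, 4, true, [13, 2, 11, 16, 15, 4, 16], [12, 9, 15, 18, 7, 17, 10, 0], [22, -333, -340, 0, -6]⟩) (.leaf ⟨4, 3, true, [7, 5, 17, 6, 5, 18, 0, 3], [7, 11, 18, 2, 16, 15, 10], [29, -480, -505, -1, -8]⟩))))))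 (.node 11 (.node 5 (.node 2 (.node 1 (.leaf ⟨3, 4, true, [5, 18, 17, 4, 19, 14, 5], [17, 13, 19, 17, 13, 11, 0, 3], [-72, 875, 997, 16, 8]⟩) (.leaf ⟨4, 4, true, [18, 6, 6, 6, 14, 6, 11], [5, 19, 13, 9, 4, 15, 2, 0], [-8, 175, 168, -5, 6]⟩)) (.node 1 (.leaf ⟨4, 4, true, [13, 7, 0, 14, 6, 4, 10, 13], [13, 15, 3, 19, 7, 19, 2], [34, -281, -312, -10]⟩) (.node 1 (.leaf ⟨4, 4, true, [10, 15, 8, 16, 11, 15], [4, 16, 3, 6, 15, 18, 6, 11], [-47, 336, 501, 30, -9]⟩) (.leaf ⟨4, 4, true, [10, 0, 17, 4, 9, 14, 18], [0, 19, 16, 8, 11, 6, 5], [-51, 414, 508, 30, -10]⟩)))) (.node 3 (.node 1 (.leaf ⟨4, 4, true, [9, 4, 7, 9, 14, 17, 11, 3], [19, 0, 17, 7, 9, 4], [-1, -408, -365, 26, -23]⟩) (.node 1 (.leaf ⟨4, 4, true, [9, 0, 13, 4, 19, 17, 7, 4], [0, 11, 8, 19, 6, 12, 7, 14], [38, -362, -456, -28, 10]⟩) (.leaf ⟨4,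 4, true, [8, 6, 19, 7, 16, 7, 16], [5, 6, 16, 18, 5, 12, 6, 3], [-44, 524, 607, 29, -9]⟩))) (.node 1 (.leaf ⟨3, 5, true, [7, 8, 19, 7, 4, 19, 12], [], []⟩) (.node 1 (.leaf ⟨5, 5, false, [3, 8, 7, 16, 3, 6, 4, 8], [], [-39, 341, 463, 15]⟩) (.leaf ⟨5, 5, false, [16, 10, 5, 18, 10, 6, 10, 18], [], [-3, 52, 27]⟩))))) (.node 6 (.node 3 (.node 1 (.leaf ⟨5, 5, false, [4, 6, 18, 10, 16, 19, 7], [], [-27, 236, 260, 8]⟩) (.node 1 (.leaf ⟨5, 4, true, [7, 15, 3, 6, 2, 6, 14, 18], [13, 10, 0, 5, 16, 18, 0], [-20, 433, 432, -2, 8]⟩) (.leaf ⟨4, 5, true, [3, 14, 12, 10, 19, 17, 6, 2], [19, 15, 7, 2, 18, 4, 8, 2], [22, -483, -462, 2, -8]⟩))) (.node 1 (.leaf ⟨5, 4, true, [13, 4, 19, 7, 13, 10, 17, 3], [8, 7, 12, 18, 12, 10, 3], [-125, 1224, 1592, 41, 5]⟩) (.node 1 (.leaf ⟨5, 5, false, [5, 8, 0, 15, 8, 15, 7, 3],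 [], [105, -785, -1151, -43, 3]⟩) (.leaf ⟨5, 5, true, [12, 0, 14, 11, 6, 14, 17, 2], [10, 5, 9, 5, 16, 4, 7, 0], [135, -1061, -1509, -53, 2]⟩)))) (.node 3 (.node 1 (.leaf ⟨5, 3, true, [19, 5, 19, 4, 0, 16, 0], [13, 2, 17, 10, 16, 9, 13, 2], [-156, 1653, 1966, 47, 7]⟩) (.node 1 (.leaf ⟨3, 5, true, [11, 3, 17, 11, 8, 13, 11, 2], [2, 0, 5, 7, 18, 4, 18], [197, -1990, -2361, -60, -7]⟩) (.leaf ⟨3, 5, true, [8, 16, 3, 19, 6, 10, 16, 3], [11, 0, 19, 10, 13, 18, 4, 2], [-12, 64, 91, 3]⟩))) (.node 1 (.leaf ⟨5, 3, true, [0, 17, 8, 6, 9, 5, 17, 0], [11, 0, 18, 4, 9, 3, 14, 2], [50, -405, -554, -18]⟩) (.node 1 (.leaf ⟨5, 5, true, [9, 0, 15, 8, 7, 18, 13], [10, 4, 8, 5, 6, 18], [-12, 173, 220, 7, -1]⟩) (.leaf ⟨5, 5, true, [17, 18, 12, 19, 17, 9, 2], [3, 6, 16, 10, 14, 17, 13], [-204, 1663, 2312, 77, -1]⟩)))))))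
noncomputable def dF90 : BT Fct := (.node 22 (.node 11 (.node 5 (.node 2 (.node 1 (.leaf ⟨4, 5, true, [16, 5, 2, 17, 6, 17, 4, 16], [14, 0, 15, 13, 9, 10, 6, 4], [158, -1580, -1904, -47, -7]⟩) (.leaf ⟨5, 3, true, [15, 5, 9, 5, 18, 11, 3], [12, 5, 18, 17, 7, 8, 6, 3], [133, -1132, -1501, -48, -1]⟩)) (.node 1 (.leaf ⟨3, 5, true, [19, 11, 6, 18, 5, 16, 9, 3], [2, 10, 19, 4, 8, 4, 14], [-146, 1209, 1607, 51, 1]⟩) (.node 1 (.leaf ⟨3, 6, true, [18, 10, 18, 2, 15, 8, 13], [], []⟩) (.leaf ⟨6, 6, false, [0, 15, 5, 7, 8, 5, 3], [], [24, -178, -263, -9]⟩)))) (.node 3 (.node 1 (.leaf ⟨6, 6, false, [8, 2, 18, 14, 10, 15, 9, 0], [], [-42, 432, 499, 13]⟩) (.node 1 (.leaf ⟨6, 4, true, [10, 5, 18, 12, 4, 9, 14], [16, 15, 11, 0, 11, 17, 12], [-49, 507, 597, 17]⟩) (.leaf ⟨6, 6, false, [9, 12, 19, 14, 11, 7, 5], [],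 [1, 17, 23, -1, 1]⟩))) (.node 1 (.leaf ⟨6, 5, true, [9, 4, 18, 8, 15, 19, 5, 0], [0, 12, 19, 7, 19, 17, 8, 2], [225, -2269, -2687, -69, -7]⟩) (.node 1 (.leaf ⟨5, 6, true, [0, 4, 17, 7, 19, 6, 11, 0], [6, 13, 7, 18, 2, 16, 0, 2], [-331, 3054, 3838, 112, 4]⟩) (.leaf ⟨6, 6, false, [9, 11, 5, 11, 2, 0], [], [-99, 691, 1104, 43, -3]⟩))))) (.node 5 (.node 2 (.node 1 (.leaf ⟨6, 4, true, [19, 16, 8, 0, 10, 13, 4], [15, 8, 16, 7, 18, 18, 6, 2], [61, -704, -787, -20, -1]⟩) (.leaf ⟨4, 6, true, [5, 19, 12, 0, 2, 11], [5, 12, 11, 0, 9, 17, 18], [-61, 716, 802, 19, 2]⟩)) (.node 1 (.leaf ⟨6, 6, true, [18, 6, 18, 11, 5, 18, 18], [14, 5, 18, 5, 11, 6, 16, 3], [-29, 322, 389, 11]⟩) (.node 1 (.leaf ⟨6, 6, false, [7, 14, 12, 2, 13, 10, 16], [], [-156, 1282, 1689, 58, -3]⟩) (.leaf ⟨6, 6, true, [19, 16, 18, 9, 6, 10,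 18, 3], [4, 17, 4, 15, 11, 4, 18], [160, -1365, -1784, -61, 3]⟩)))) (.node 3 (.node 1 (.leaf ⟨6, 4, true, [19, 10, 8, 17, 11, 14, 2], [6, 2, 6, 17, 0, 13, 9, 4], [-62, 490, 618, 20, -1]⟩) (.node 1 (.leaf ⟨4, 6, true, [13, 6, 0, 17, 8, 14, 9, 0], [15, 11, 18, 17, 9, 11, 18], [61, -452, -554, -18, 1]⟩) (.leaf ⟨6, 6, true, [3, 8, 4, 9, 19, 12, 6], [6, 8, 4, 16, 10, 17, 0], [7, -138, -96, 16, -12]⟩))) (.node 1 (.leaf ⟨6, 6, true, [7, 7, 19, 4, 3, 15, 16, 0], [14, 9, 4, 15, 19, 6, 16, 2], [-311, 2554, 3360, 115, -6]⟩) (.node 1 (.leaf ⟨6, 6, false, [19, 12, 11, 13, 7, 11, 0], [], [-3, 115, 106, 3]⟩) (.leaf ⟨6, 6, true, [12, 4, 7, 8, 13, 4, 2], [12, 3, 6, 17, 7, 4, 15, 8], [-5, 110, 49]⟩)))))) (.node 11 (.node 5 (.node 2 (.node 1 (.leaf ⟨4, 4, true, [11, 6, 3, 17, 18, 11], [4, 7, 11, 17, 7, 9, 0], [154,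 -1183, -1616, -56, 3]⟩) (.leaf ⟨6, 6, true, [9, 13, 15, 6, 15, 19], [4, 8, 4, 18, 9, 12, 7, 8], [-2, 100, 89, 2]⟩)) (.node 1 (.leaf ⟨6, 6, true, [14, 19, 0, 16, 6, 4, 19, 6], [5, 19, 6, 14, 6, 2, 14], [154, -1173, -1598, -56, 3]⟩) (.node 1 (.leaf ⟨4, 7, true, [0, 7, 16, 15, 6, 4, 14, 2], [], []⟩) (.leaf ⟨7, 7, false, [10, 6, 16, 4, 6, 13, 7], [], [-4, 52, -2, -4, 2]⟩)))) (.node 3 (.node 1 (.leaf ⟨7, 7, false, [9, 10, 17, 9, 13, 11, 8], [], [-14, 392, 375, 5, 1]⟩) (.node 1 (.leaf ⟨7, 4, true, [3, 0, 18, 14, 19, 15, 18, 2], [4, 19, 17, 7, 2, 11, 4], [1, -8, -19, 0, -1]⟩) (.leaf ⟨7, 7, false, [5, 17, 5, 12, 14, 7, 0], [], [-4, 62, 62, -1, 2]⟩))) (.node 1 (.leaf ⟨7, 6, true, [19, 4, 0, 7, 17, 12, 0], [10, 7, 4, 11, 17, 18, 6, 0], [52, -596, -706, -20]⟩) (.node 1 (.leaf ⟨6, 7, true, [3, 17, 0, 19, 11,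 0], [10, 9, 15, 11, 14, 18, 0], [-209, 1878, 2395, 78, -3]⟩) (.leaf ⟨7, 7, false, [14, 6, 14, 18, 5, 18, 14, 3], [], [-210, 1432, 2195, 85, -6]⟩))))) (.node 6 (.node 3 (.node 1 (.leaf ⟨7, 6, true, [2, 0, 8, 11, 19, 7, 18, 0], [15, 0, 8, 5, 9, 6, 19], [-267, 2038, 2878, 101, -4]⟩) (.node 1 (.leaf ⟨6, 7, true, [12, 4, 9, 14, 5, 11, 14, 0], [6, 0, 14, 13, 17, 11, 7, 3], [307, -2487, -3400, -113, 3]⟩) (.leaf ⟨7, 7, false, [14, 6, 10, 7, 12, 15, 5, 2], [], [17, -266, -249, -3, -1]⟩))) (.node 1 (.leaf ⟨7, 7, true, [11, 14, 16, 6, 10, 8, 2], [15, 17, 6, 15, 17, 15, 19], [-35, 382, 464, 30, -12]⟩) (.node 1 (.leaf ⟨7, 7, true, [5, 11, 3, 8, 6, 12, 4], [11, 15, 6, 6, 19, 13, 8, 3], [-228, 1707, 2494, 85, -1]⟩) (.leaf ⟨4, 7, true, [7, 2, 11, 16, 14, 10, 12], [17, 12, 4, 16, 8, 17, 2, 0], [-115, 1320, 1626,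 50, -1]⟩)))) (.node 3 (.node 1 (.leaf ⟨7, 4, true, [16, 11, 17, 7, 18, 10, 13], [7, 7, 12, 5, 19, 17, 6], [-85, -406, 68, 28, -6]⟩) (.node 1 (.leaf ⟨7, 7, true, [9, 19, 2, 13, 10, 18, 15, 17], [18, 7, 16, 18, 13, 9, 2], [198, -1746, -2229, -71, 2]⟩) (.leaf ⟨7, 7, true, [14, 7, 18, 0, 4, 19, 11], [10, 13, 3, 15, 10, 13], [538, -3913, -5918, -221, 12]⟩))) (.node 1 (.leaf ⟨7, 7, true, [11, 19, 2, 14, 7, 5, 17], [0, 14, 6, 11, 7, 10, 6, 9], [-130, 1201, 1571, 48, -2]⟩) (.node 1 (.leaf ⟨6, 6, true, [5, 10, 16, 6, 13, 15], [8, 14, 0, 19, 8, 14, 16], [535, -3173, -5451, -235, 21]⟩) (.leaf ⟨7, 7, true, [11, 12, 11, 18, 10, 19, 6, 0], [17, 9, 13, 10, 17, 0, 17, 13], [358, -2597, -3890, -157, 15]⟩)))))))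
noncomputable def dF135 : BT Fct := (.node 22 (.node 11 (.node 5 (.node 2 (.node 1 (.leaf ⟨7, 7, true, [18, 9, 5, 17, 18], [15, 9, 5, 9, 19, 7, 12, 15], [211, -1438, -2210, -86, 6]⟩) (.leaf ⟨7, 7, true, [8, 3, 4, 19, 5, 8, 17], [0, 9, 3, 6, 19, 16, 6, 9], [-1229, 8355, 13107, 497, -24]⟩)) (.node 1 (.leaf ⟨7, 7, true, [11, 7, 7, 18, 0, 18, 6], [2, 17, 0, 10, 4, 7, 9, 12], [-319, 2154, 3408, 130, -5]⟩) (.node 1 (.leaf ⟨6, 6, true, [17, 2, 17, 8, 7, 17, 13, 0], [0, 14, 9, 17, 5, 7, 4], [-343, 2191, 3424, 149, -17]⟩) (.leaf ⟨7, 7, true, [18, 3, 15, 6, 5, 8, 14, 0], [10, 18, 6, 10, 17, 7, 11], [-209, 1425, 2181, 84, -6]⟩)))) (.node 3 (.node 1 (.leaf ⟨3, 8, true, [0, 3], [], []⟩) (.node 1 (.leaf ⟨8, 8, false, [19, 4, 19, 17, 15, 4, 16, 2], [], [54, -438, -556, -19]⟩) (.leaf ⟨8, 4, true, [5, 7, 2, 6, 10,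 2, 19, 4], [6, 0, 14, 5, 12, 15, 19, 3], [-91, 788, 989, 31]⟩))) (.node 1 (.leaf ⟨4, 8, true, [12, 4, 6, 17, 15, 8, 0, 3], [5, 18, 5, 13, 3, 14, 16, 3], [87, -638, -807, -27]⟩) (.node 1 (.leaf ⟨8, 6, true, [19, 12, 4, 6, 16, 18], [5, 16, 10, 19, 5, 19, 0], [88, -776, -965, -32]⟩) (.leaf ⟨6, 8, true, [15, 5, 7, 13, 8, 6, 15], [19, 17, 7, 5, 13, 18], [-51, 442, 549, 23, -1]⟩))))) (.node 5 (.node 2 (.node 1 (.leaf ⟨8, 8, true, [12, 3, 6, 16, 7, 16, 11], [10, 2, 18, 6, 17, 2, 19], [-80, 667, 839, 28]⟩) (.leaf ⟨8, 5, true, [3, 4, 11, 5, 10, 19, 5, 0], [7, 10, 4, 6, 14, 19, 12, 0], [240, -2373, -2849, -77, -7]⟩)) (.node 1 (.leaf ⟨5, 8, true, [19, 15, 0, 7, 15, 7, 15], [12, 0, 17, 12, 18, 17, 5, 2], [-163, 1691, 1923, 47, 7]⟩) (.node 1 (.leaf ⟨8, 8, true, [2, 19, 10, 6, 19, 10, 4], [9, 12, 4, 14, 18, 5,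 8, 0], [96, -837, -1034, -33, -1]⟩) (.leaf ⟨8, 8, true, [11, 17, 3, 6, 15, 13, 4, 15], [17, 4, 7, 13], [-108, 802, 1270, 46, -4]⟩)))) (.node 3 (.node 1 (.leaf ⟨6, 8, true, [18, 7, 16, 13, 8, 6, 2], [17, 15, 10, 14, 12, 0, 9, 4], [177, -1545, -1974, -65, 2]⟩) (.node 1 (.leaf ⟨8, 6, true, [17, 5, 15, 17, 4, 11, 6, 2], [3, 7, 9, 12, 17, 6, 19], [-232, 1983, 2530, 84, -2]⟩) (.leaf ⟨8, 4, true, [15, 8, 14, 2, 12, 18, 6, 0], [12, 14, 4, 10, 2, 15], [67, -576, -854, -29, 2]⟩))) (.node 1 (.leaf ⟨4, 8, true, [5, 3, 4, 6, 13, 6, 14, 0], [8, 7, 3, 6, 15, 16, 9, 14], [-74, 764, 1054, 33, -2]⟩) (.node 1 (.leaf ⟨8, 8, true, [8, 0, 9, 19, 6, 15, 4], [14, 16, 2, 16, 12, 7, 4, 2], [-154, 1203, 1643, 55, -2]⟩) (.leaf ⟨8, 8, true, [7, 7, 12, 8, 10, 15, 2], [4, 10, 16, 7, 19, 8, 7, 2], [6, -146, -143, -2, -1]⟩))))))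 (.node 11 (.node 5 (.node 2 (.node 1 (.leaf ⟨8, 8, true, [7, 3, 4, 7, 8, 6, 14], [0, 3, 19, 14, 17, 10, 19], [-209, 1668, 2213, 86, -12]⟩) (.leaf ⟨4, 8, true, [17, 4, 10, 13, 11, 8, 16, 2], [0, 9, 6, 14, 17, 6, 3], [89, -652, -946, -38, 5]⟩)) (.node 1 (.leaf ⟨8, 8, true, [12, 10, 0, 15, 12, 0, 16, 14], [19, 10, 17, 0, 19, 15, 13], [-31, 362, 363, 8, 4]⟩) (.node 1 (.leaf ⟨8, 8, true, [12, 2, 6, 5, 18, 0, 17, 0], [3, 4, 10, 6, 9, 5, 11, 0], [-361, 3179, 3976, 128, -2]⟩) (.leaf ⟨8, 8, true, [12, 0, 12, 4, 9, 7, 2, 0], [19, 5, 13, 9, 7, 10, 8, 3], [414, -3617, -4532, -147, 2]⟩)))) (.node 3 (.node 1 (.leaf ⟨6, 8, true, [10, 6, 0, 17, 14, 9, 10, 4], [7, 0, 4, 17, 4, 6, 18], [195, -1831, -2205, -62, 2]⟩) (.node 1 (.leaf ⟨8, 8, true, [4, 10, 14, 7, 9, 2, 17], [7, 15, 6, 13, 18, 7, 3, 19], [364, -3254, -4067,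 -134, 6]⟩) (.leaf ⟨8, 8, true, [3, 7, 15, 7, 11, 9, 0, 3], [8, 4, 15, 17, 18, 11, 16], [-406, 3443, 4440, 146, -5]⟩))) (.node 1 (.leaf ⟨8, 8, true, [10, 0, 18, 7, 13, 14, 19, 0], [13, 7, 19, 0, 14, 11, 7, 3], [549, -4739, -5940, -195, 2]⟩) (.node 1 (.leaf ⟨5, 8, true, [3, 5, 16, 13, 16, 9, 0], [12, 14, 2, 13, 10, 17, 14, 10], [325, -2428, -3266, -128, 12]⟩) (.leaf ⟨8, 5, true, [3, 7, 10, 13, 11, 17, 0, 4], [0, 8, 17, 12, 17, 4, 2], [-272, 1990, 2710, 109, -12]⟩))))) (.node 6 (.node 3 (.node 1 (.leaf ⟨8, 8, true, [16, 6, 15, 16, 3, 19, 17, 3], [17, 0, 9, 12, 18, 15, 5], [-640, 5422, 6996, 234, -5]⟩) (.node 1 (.leaf ⟨8, 8, true, [13, 14, 9, 0, 9, 17, 14], [5, 11, 15, 11, 18, 14, 7, 17], [693, -5860, -7552, -253, 5]⟩) (.leaf ⟨8, 8, true, [12, 5, 17, 3, 18, 10, 16, 2], [4, 18, 4, 6, 9, 12, 8], [-508,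 4261, 5549, 188, -5]⟩))) (.node 1 (.leaf ⟨8, 8, true, [12, 9, 10, 15, 7, 9, 19, 2], [3, 17, 4, 14, 18, 14, 17, 3], [453, -3823, -4993, -169, 5]⟩) (.node 1 (.leaf ⟨8, 4, true, [19, 6, 17, 3, 7, 16, 5], [19, 7, 8, 3, 7, 19, 6], [-279, 2480, 3111, 100, -2]⟩) (.leaf ⟨4, 8, true, [16, 0, 8, 12, 16, 6, 11, 2], [4, 17, 6, 2, 16, 7, 18], [281, -2468, -3053, -98, 2]⟩)))) (.node 3 (.node 1 (.leaf ⟨8, 4, true, [8, 11, 7, 5, 0, 11, 17, 15], [11, 19, 4, 17, 8, 5, 6, 9], [-181, 1735, 2049, 61]⟩) (.node 1 (.leaf ⟨4, 8, true, [12, 15, 5, 8, 17, 11], [14, 16, 10, 9, 13, 15, 13, 2], [177, -1635, -1943, -59]⟩) (.leaf ⟨8, 8, true, [2, 16, 3, 17, 10, 8, 5, 19], [17, 12, 11, 19, 14, 11, 16, 0], [-125, 988, 1382, 54, -3]⟩))) (.node 1 (.leaf ⟨8, 8, true, [18, 6, 10, 9, 3, 14, 9, 4], [4, 0, 9, 12, 4, 17, 9, 4], [1, 281,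 39, -9, 3]⟩) (.node 1 (.leaf ⟨8, 6, true, [10, 17, 7, 18, 8, 5, 7], [14, 19, 15, 8, 14, 13, 8], [-112, 1047, 1364, 43, -2]⟩) (.leaf ⟨6, 8, true, [2, 16, 7, 18, 12, 6, 0], [6, 4, 9, 19, 6, 16, 11], [268, -2312, -3030, -102, 6]⟩)))))))
noncomputable def dF180 : BT Fct := (.node 22 (.node 11 (.node 5 (.node 2 (.node 1 (.leaf ⟨8, 8, true, [12, 15, 19, 13, 11, 4, 7], [6, 8, 7, 12, 17, 6, 14, 2], [-639, 5356, 6994, 249, -13]⟩) (.leaf ⟨8, 8, true, [5, 17, 12, 18, 5, 8, 3], [6, 15, 17, 18, 6, 19, 13], [-225, 2067, 2757, 93, -7]⟩)) (.node 1 (.leaf ⟨8, 8, true, [14, 17, 0, 13, 3, 14, 12, 11], [18, 17, 4, 16, 18, 8, 4, 11], [-429, 3640, 4675, 154, -7]⟩) (.node 1 (.leaf ⟨8, 8, true, [15, 16, 3, 16, 0, 10, 4, 17], [8, 2, 5, 13, 11, 18, 8, 4], [-351, 3111, 3976, 128, -4]⟩) (.leaf ⟨8, 8, true, [3, 13, 6, 16, 12,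 6, 2], [11, 17, 0, 13, 19, 7, 7, 17], [404, -3549, -4532, -147, 4]⟩)))) (.node 3 (.node 1 (.leaf ⟨8, 8, true, [18, 10, 19, 14, 9, 18, 2], [12, 17, 15, 2, 6, 9, 7], [-101, 789, 1230, 46, -6]⟩) (.node 1 (.leaf ⟨8, 8, true, [4, 19, 7, 8, 5, 6, 17, 3], [0, 14, 17, 12, 11, 6, 13, 11], [11, -227, -219, -6, 1]⟩) (.leaf ⟨8, 8, true, [11, 8, 5, 13, 18, 9, 11, 17], [12, 6, 4, 19, 5, 7, 11, 8], [-159, 1357, 1770, 56, -1]⟩))) (.node 1 (.leaf ⟨8, 8, true, [10, 2, 6, 17, 18, 5, 19], [0, 16, 6, 16, 11, 17, 7, 3], [-49, 343, 447, 15, 1]⟩) (.node 1 (.leaf ⟨4, 8, true, [5, 6, 17, 5, 13, 0, 9, 4], [8, 10, 0, 12, 15, 7, 8], [-278, 2384, 3230, 118, -14]⟩) (.leaf ⟨8, 4, true, [2, 17, 6, 12, 4, 14, 6, 3], [18, 7, 12, 3, 17, 7, 14, 3], [331, -2822, -3786, -137, 14]⟩))))) (.node 5 (.node 2 (.node 1 (.leaf ⟨7, 8, true, [16,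 4, 10, 5, 10, 7], [14, 18, 10, 12, 16, 2, 17], [118, -429, -905, -47, 3]⟩) (.leaf ⟨8, 7, true, [9, 5, 19, 0, 11, 12, 0], [6, 11, 4, 11, 5, 17], [-173, 867, 1461, 66, -3]⟩)) (.node 1 (.leaf ⟨8, 8, true, [9, 0, 17, 4, 19, 16, 15, 3], [7, 14, 2, 10, 17, 4, 6, 16], [214, -1874, -2419, -90, 12]⟩) (.node 1 (.leaf ⟨8, 8, true, [14, 6, 10, 13, 3, 16, 7], [5, 2, 18, 8, 5, 16, 6, 3], [-269, 2312, 2975, 109, -12]⟩) (.leaf ⟨4, 8, true, [12, 8, 14, 11, 0, 10, 17, 8], [16, 7, 10, 9, 19, 15, 6, 0], [-28, 470, 569, 1, 8]⟩)))) (.node 3 (.node 1 (.leaf ⟨8, 8, true, [15, 5, 10, 7, 15, 19, 14], [13, 4, 19, 7, 14, 9, 14, 2], [13, -237, -181, 9, -9]⟩) (.node 1 (.leaf ⟨6, 8, true, [12, 7, 18, 14, 7, 12, 10, 0], [18, 8, 10, 17, 15, 10, 14], [150, -1366, -1575, -46, -1]⟩) (.leaf ⟨8, 6, true, [13, 6, 18, 14, 8, 14, 11, 3],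 [17, 3, 15, 7, 4, 18, 4, 2], [-97, 928, 1019, 27, 1]⟩))) (.node 1 (.leaf ⟨8, 8, true, [5, 6, 8, 15, 9, 5, 18, 2], [17, 10, 16, 12, 7, 11, 8, 0], [-252, 1894, 2579, 102, -13]⟩) (.node 1 (.leaf ⟨8, 8, true, [4, 8, 17, 7, 17, 12, 18, 2], [12, 19, 2, 12, 4, 6, 17, 7], [-204, 1581, 2132, 85, -13]⟩) (.leaf ⟨8, 8, true, [4, 18, 17, 5, 8, 7, 11, 0], [17, 6, 8, 16, 15, 7, 11, 0], [257, -2019, -2688, -104, 13]⟩)))))) (.node 11 (.node 5 (.node 2 (.node 1 (.leaf ⟨8, 8, true, [18, 0, 12, 17, 6, 16, 6, 3], [9, 6, 13, 18, 7, 3, 14], [162, -1360, -1812, -60, 2]⟩) (.leaf ⟨8, 8, true, [5, 8, 15, 9, 4, 15, 3, 0], [3, 8, 12, 15, 6, 9, 3], [-2, 66, 40, 4, -3]⟩)) (.node 1 (.leaf ⟨8, 8, true, [7, 10, 9, 6, 18, 14, 4, 3], [18, 6, 9, 6, 13, 14, 10], [85, -684, -846, -33, 9]⟩) (.node 1 (.leaf ⟨8, 8, true, [5, 2, 6, 14, 6,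 10, 9, 16], [8, 10, 0, 19, 4, 18, 3, 7], [-140, 1122, 1402, 52, -9]⟩) (.leaf ⟨8, 8, true, [4, 14, 9, 4, 19, 0, 2], [13, 7, 5, 13, 19, 10, 7], [-10, 202, 173, 2, 1]⟩)))) (.node 3 (.node 1 (.leaf ⟨8, 8, true, [15, 5, 13, 15, 12, 4, 19, 0], [6, 5, 3, 19, 14, 7, 7, 8], [-4, 73, 65, 0, 1]⟩) (.node 1 (.leaf ⟨7, 8, true, [10, 9, 19, 7, 3, 6], [6, 15, 10, 18, 12, 15, 13], [-98, 1375, 1417, 43, -12]⟩) (.leaf ⟨8, 8, true, [6, 0, 6, 19, 15, 11, 14, 0], [14, 7, 11, 19, 15, 18, 11], [-350, 3125, 3965, 140, -15]⟩))) (.node 1 (.leaf ⟨8, 8, true, [9, 7, 13, 18, 13, 14, 9], [4, 15, 7, 5, 10, 5, 2, 6], [403, -3563, -4521, -159, 15]⟩) (.node 1 (.leaf ⟨8, 8, true, [9, 3, 7, 5, 8, 17, 18], [11, 0, 12, 9, 7, 17, 4], [46, 44, -352, -25, 3]⟩) (.leaf ⟨8, 8, true, [13, 2, 6, 19, 17, 11, 18, 13], [5, 8, 12, 14, 0, 16, 14],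 [-348, 2750, 3717, 138, -16]⟩))))) (.node 6 (.node 3 (.node 1 (.leaf ⟨8, 8, true, [19, 4, 12, 10, 12, 14, 12, 0], [14, 7, 16, 7, 19, 11, 13, 0], [401, -3188, -4273, -157, 16]⟩) (.node 1 (.leaf ⟨8, 6, true, [9, 6, 0, 7, 19, 7, 13, 19], [10, 18, 4, 8, 16, 8, 7, 19], [-211, 1177, 1822, 70, 4]⟩) (.leaf ⟨6, 8, true, [9, 4, 0, 11, 19, 5, 17, 9], [11, 12, 0, 16, 9, 11, 19, 6], [53, 88, -156, -11, -8]⟩))) (.node 1 (.leaf ⟨8, 8, true, [17, 0, 4, 19, 4, 18, 6, 19], [14, 16, 3, 18, 5, 10, 14, 18], [-211, 1673, 2319, 85, -8]⟩) (.node 1 (.leaf ⟨8, 8, true, [0, 4, 19, 6, 4, 7, 14], [7, 18, 4, 8, 19, 7], [-260, 2209, 3001, 117, -21]⟩) (.leaf ⟨8, 8, true, [7, 3, 10, 17, 0, 16, 8, 0], [15, 6, 5, 7, 18, 5, 0], [205, -1771, -2445, -98, 21]⟩)))) (.node 3 (.node 1 (.leaf ⟨8, 4, true, [0, 17, 3, 16, 9, 15, 4, 9], [13,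 6, 10, 15, 5, 7, 11, 3], [8, -616, -337, 14, -12]⟩) (.node 1 (.leaf ⟨4, 8, true, [11, 18, 10, 18, 0, 9, 12], [8, 5, 14, 8, 17, 2, 16, 0], [-16, 840, 533, -14, 14]⟩) (.leaf ⟨4, 8, true, [12, 19, 14, 6, 17, 11], [12, 8, 6, 12, 4, 14, 19, 0], [495, -4172, -5433, -184, 9]⟩))) (.node 1 (.leaf ⟨8, 8, true, [14, 2, 14, 12, 15, 11, 6, 4], [8, 12, 0, 19, 6, 12, 15, 16], [169, -1464, -1979, -57, -3]⟩) (.node 1 (.leaf ⟨8, 8, true, [7, 0, 13, 18, 17, 18, 14], [0, 11, 7, 19, 12, 10, 5, 2], [-54, 310, 463, 24, -13]⟩) (.leaf ⟨8, 8, true, [6, 10, 12, 0, 10, 4, 9], [7, 13, 7, 18, 3, 7, 18], [0, -126, -90, 5, -13]⟩)))))))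
noncomputable def dF225 : BT Fct := (.node 22 (.node 11 (.node 5 (.node 2 (.node 1 (.leaf ⟨8, 8, true, [8, 12, 18, 8, 0], [10, 0, 10, 18, 7, 11, 18, 0], [95, -634, -1037, -47, 7]⟩) (.leaf ⟨8, 8, true, [0, 9, 19, 6, 15, 13, 19], [13, 3, 14, 18, 6, 14], [-28, 292, 309, 3, 7]⟩)) (.node 1 (.leaf ⟨8, 8, true, [11, 15, 6, 5, 6, 10, 6], [14, 0, 11, 7, 18, 14, 12], [239, -1957, -2628, -102, 16]⟩) (.node 1 (.leaf ⟨4, 8, true, [13, 11, 7, 11, 9, 4, 19], [4, 6, 0, 7, 13, 2], [470, -3847, -5090, -178, 14]⟩) (.leaf ⟨8, 4, true, [7, 9, 19, 13, 8, 17, 5], [18, 5, 8, 10, 6, 10, 12], [-417, 3409, 4534, 159, -14]⟩)))) (.node 3 (.node 1 (.leaf ⟨8, 8, true, [16, 14, 5, 18, 10, 13, 19, 0], [15, 2, 12, 15, 0, 18, 14], [-134, 1263, 1562, 44, 3]⟩) (.node 1 (.leaf ⟨8, 8, true, [13, 7, 17, 5, 12, 15, 19, 3], [4, 14, 3, 17,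 12, 0, 16, 10], [187, -1701, -2118, -63, -3]⟩) (.leaf ⟨8, 8, true, [7, 3, 7, 14, 6, 9, 18], [19, 12, 4, 16, 6, 16, 3, 4], [104, -905, -1219, -37, 1]⟩))) (.node 1 (.leaf ⟨3, 8, true, [10, 12, 14, 6, 5, 19, 16], [4, 8, 2, 17, 13, 8, 14, 7], [338, -2977, -3730, -121, 2]⟩) (.node 1 (.leaf ⟨8, 3, true, [0, 7, 15, 7, 15, 6, 16], [17, 18, 4, 7, 15, 13, 11], [-285, 2539, 3174, 102, -2]⟩) (.leaf ⟨8, 8, true, [2, 9, 17, 7, 10, 6], [8, 2, 18, 5, 18, 0, 14], [244, -2000, -2535, -87]⟩))))) (.node 5 (.node 2 (.node 1 (.leaf ⟨8, 8, true, [12, 4, 10, 6, 14, 16, 12, 3], [15, 9, 11, 0, 15, 16, 18, 2], [-12, 140, 42, 0, 2]⟩) (.leaf ⟨8, 8, true, [6, 14, 7, 19, 10, 6, 14], [7, 7, 16, 2, 13, 4, 14, 0], [-43, 298, 514, 19, -2]⟩)) (.node 1 (.leaf ⟨6, 6, true, [6, 13, 17, 15, 19, 5], [17, 2, 16, 6, 10, 12, 4], [13, 754,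 473, -6, -6]⟩) (.node 1 (.leaf ⟨8, 6, true, [12, 18, 7, 13, 17, 12, 11], [7, 3, 17, 6, 3, 14, 0], [117, -640, -1057, -62, 11]⟩) (.leaf ⟨6, 8, true, [7, 17, 12, 15, 10, 15, 5], [10, 12, 17, 8, 6, 19, 13], [83, -1189, -1237, -12, -8]⟩)))) (.node 3 (.node 1 (.leaf ⟨8, 8, true, [5, 18, 6, 9, 15, 19], [19, 6, 12, 3, 6, 14, 17], [-193, 2225, 2459, 67, -11]⟩) (.node 1 (.leaf ⟨8, 8, true, [7, 14, 3, 8, 7, 9, 7, 3], [16, 3, 11, 6, 10, 6, 16, 0], [-465, 4479, 5470, 172, -16]⟩) (.leaf ⟨8, 8, true, [10, 19, 0, 15, 13, 9, 4, 14], [6, 16, 10, 6, 17, 12, 6], [-423, 3195, 4331, 165, -16]⟩))) (.node 1 (.leaf ⟨8, 8, true, [7, 14, 11, 19, 14, 5, 13], [16, 0, 17, 10, 19, 12, 10, 0], [368, -2757, -3775, -146, 16]⟩) (.node 1 (.leaf ⟨8, 8, true, [3, 5, 8, 5, 16, 15, 6, 3], [7, 2, 19, 7, 10, 12], [-293, 2490, 3069, 95,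 -3]⟩) (.leaf ⟨8, 8, true, [15, 17, 3, 6, 18, 15, 7], [9, 0, 14, 17, 4, 9, 4, 2], [238, -2052, -2513, -76, 3]⟩)))))) (.node 11 (.node 5 (.node 2 (.node 1 (.leaf ⟨8, 8, true, [3, 7, 11, 6, 10, 6, 16, 10], [13, 7, 2, 6, 18, 12, 11, 6], [-140, 1324, 1669, 47, -3]⟩) (.leaf ⟨8, 8, true, [13, 0, 18, 7, 7, 14, 16, 0], [11, 17, 7, 11, 7, 10, 6, 2], [85, -886, -1113, -28, 3]⟩)) (.node 1 (.leaf ⟨8, 8, true, [10, 18, 3, 7, 13, 18, 17, 8], [9, 6, 17, 7, 10, 16, 0, 3], [-133, 1998, 2061, 48, -11]⟩) (.node 1 (.leaf ⟨8, 8, true, [5, 14, 9, 13, 11, 7, 0], [15, 18, 0, 19, 5, 9, 4, 7], [-96, 836, 1015, 32, -1]⟩) (.leaf ⟨8, 8, true, [0, 9, 5, 12, 6, 12], [9, 0, 3, 6, 10, 13, 15, 2], [82, -92, -800, -54, 6]⟩)))) (.node 3 (.node 1 (.leaf ⟨8, 8, true, [9, 11, 14, 8, 6, 15, 18, 2], [13, 7, 13, 4, 8, 0], [-29, -346, 244,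 35, -6]⟩) (.node 1 (.leaf ⟨8, 8, true, [8, 5, 2, 13, 9, 12, 0, 16], [6, 19, 6, 19, 7, 19, 8], [26, 174, -50, -18, 1]⟩) (.leaf ⟨7, 8, true, [3, 15, 18, 13, 15, 11, 16], [11, 17, 18, 11, 6, 8, 10], [269, -1216, -2273, -99, -8]⟩))) (.node 1 (.leaf ⟨8, 8, true, [0, 4, 18, 10, 19, 5, 0], [16, 0, 17, 13, 7, 7, 16, 0], [-185, 1307, 1753, 66]⟩) (.node 1 (.leaf ⟨8, 8, true, [6, 0, 9, 16, 9, 7, 12], [0, 4, 18, 11, 19, 5, 0], [238, -1745, -2309, -85]⟩) (.leaf ⟨8, 8, true, [2, 10, 7, 19, 5, 17, 9], [13, 18, 17, 6, 18, 6, 10], [247, -2269, -2680, -75, -3]⟩))))) (.node 6 (.node 3 (.node 1 (.leaf ⟨8, 8, true, [18, 8, 13, 11, 16, 6, 15], [18, 4, 18, 2, 17, 5, 8, 4], [280, -1793, -3145, -130, 15]⟩) (.node 1 (.leaf ⟨8, 6, true, [8, 11, 9, 5, 17, 0, 2], [0, 16, 6, 17, 4, 0, 9, 4], [32, 147, -138, -32, 10]⟩) (.leaf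 ⟨6, 8, true, [12, 3, 12, 16, 11, 16, 15], [3, 0, 16, 4, 8, 10, 9], [-29, -245, 55, 28, -9]⟩))) (.node 1 (.leaf ⟨8, 8, true, [11, 6, 4, 11, 3, 8, 13], [14, 5, 16, 11, 12, 19, 14, 3], [169, -1504, -1854, -45, -12]⟩) (.node 1 (.leaf ⟨8, 8, true, [10, 18, 7, 12, 14, 18, 6], [10, 4, 17, 15, 19, 11, 12, 0], [244, -1954, -2588, -81]⟩) (.leaf ⟨8, 8, true, [6, 4, 19, 12, 0, 16, 7, 0], [7, 19, 15, 13, 6, 19, 11], [-299, 2392, 3144, 100]⟩)))) (.node 3 (.node 1 (.leaf ⟨8, 8, true, [15, 10, 19, 17, 11, 16, 9, 0], [16, 3, 11, 19, 7, 16, 9, 0], [-495, 4365, 5210, 167, 2]⟩) (.node 1 (.leaf ⟨8, 8, true, [4, 10, 6, 9, 3, 5, 8, 0], [8, 2, 12, 19, 5, 16, 6, 3], [18, -75, -201, -10, 2]⟩) (.leaf ⟨8, 8, true, [18, 0, 9, 7, 17, 0, 18, 17], [6, 6, 9, 6, 2, 19, 17, 0], [35, -363, -355, -9, -2]⟩))) (.node 1 (.leaf ⟨8, 8,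 true, [9, 14, 0, 11, 7, 16, 12], [8, 16, 7, 9, 2, 10, 15], [-482, 4357, 5298, 168]⟩) (.node 1 (.leaf ⟨8, 8, true, [14, 9, 5, 12, 10, 13, 15], [11, 6, 4, 10, 14, 18, 7, 3], [-105, 905, 1243, 40, -1]⟩) (.leaf ⟨8, 8, true, [10, 19, 5, 17, 2, 16, 3, 15], [17, 2, 9, 16, 11, 13, 16, 3], [831, -6949, -9045, -297, 5]⟩)))))))
noncomputable def dF270 : BT Fct := (.node 22 (.node 11 (.node 5 (.node 2 (.node 1 (.leaf ⟨8, 8, true, [2, 18, 6, 10, 15, 18, 12, 2], [6, 16, 3, 11, 7, 17, 3, 18], [-778, 6511, 8489, 278, -5]⟩) (.leaf ⟨8, 8, true, [4, 0, 4, 19, 17, 6, 14, 3], [8, 10, 16, 6, 19, 5, 9], [737, -6082, -7906, -267, 4]⟩)) (.node 1 (.leaf ⟨8, 8, true, [7, 9, 15, 5, 16, 3, 17], [16, 9, 19, 14, 9, 17, 7, 2], [67, -404, -973, -39, 6]⟩) (.node 1 (.leaf ⟨8, 8, true, [15, 0, 13, 19, 11, 13], [10, 4, 16, 7, 16, 5,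 9], [618, -5215, -6716, -231, 8]⟩) (.leaf ⟨8, 8, true, [17, 6, 9, 5, 19, 4, 17, 0], [12, 10, 18, 12, 0, 14], [-673, 5653, 7272, 250, -8]⟩)))) (.node 3 (.node 1 (.leaf ⟨8, 6, true, [8, 6, 11, 13, 16, 3, 15], [19, 9, 7, 8, 12, 7], [397, -3234, -4202, -146, 3]⟩) (.node 1 (.leaf ⟨6, 8, true, [15, 13, 9, 7, 12, 6, 3], [15, 0, 14, 9, 3, 16, 4], [-45, 221, 302, 18, 2]⟩) (.leaf ⟨8, 8, true, [19, 6, 5, 7, 11, 8, 13], [7, 9, 19, 5, 8, 15, 16, 0], [166, -1401, -1738, -63, 3]⟩))) (.node 1 (.leaf ⟨4, 8, true, [9, 5, 9, 5, 11, 4, 16], [18, 10, 7, 13, 17, 14, 5], [217, -1850, -2323, -80, 4]⟩) (.node 1 (.leaf ⟨8, 4, true, [0, 19, 16, 15, 4, 19, 11], [17, 5, 10, 4, 8, 4, 8], [-164, 1412, 1767, 61, -4]⟩) (.leaf ⟨8, 8, true, [15, 7, 19, 13, 16, 6, 13], [16, 7, 5, 10, 13, 3, 8, 4], [-272, 2250, 2994, 103, -6]⟩)))))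 (.node 5 (.node 2 (.node 1 (.leaf ⟨8, 8, true, [12, 2, 17, 15, 19, 7, 10, 4], [15, 4, 6, 4, 16, 18, 10], [625, -5470, -7121, -234, 9]⟩) (.leaf ⟨4, 8, true, [10, 9, 6, 16, 12, 2], [14, 16, 2, 16, 9, 11, 12], [-4, -40, -24, 12, -10]⟩)) (.node 1 (.leaf ⟨8, 4, true, [11, 7, 16, 18, 0, 19, 17, 0], [3, 13, 17, 7, 8, 11], [-51, 478, 580, 7, 10]⟩) (.node 1 (.leaf ⟨8, 4, true, [19, 0, 19, 7, 19, 16, 0, 3], [8, 11, 6, 4, 17, 12, 17, 3], [-69, 755, 769, 20, 1]⟩) (.leaf ⟨4, 8, true, [5, 7, 8, 4, 10, 7, 10, 0], [5, 7, 10, 16, 9, 10, 6, 2], [63, -593, -618, -19]⟩)))) (.node 3 (.node 1 (.leaf ⟨8, 4, true, [11, 15, 0, 6, 6, 19, 14, 6], [3, 4, 6, 14, 18, 14, 2], [-268, 2206, 2840, 107, -12]⟩) (.node 1 (.leaf ⟨4, 8, true, [0, 2, 8, 15, 17, 11, 16], [10, 4, 11, 12, 17, 18, 3, 4], [267, -2156, -2764, -105, 12]⟩) (.leaf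 ⟨8, 8, true, [12, 18, 15, 11, 16, 0, 18], [15, 4, 19, 5, 16, 18, 11, 2], [-249, 2268, 2649, 79, 2]⟩))) (.node 1 (.leaf ⟨8, 8, true, [16, 5, 10, 15, 12, 14, 8], [19, 0, 17, 10, 14, 19, 13], [302, -2706, -3205, -98, -2]⟩) (.node 1 (.leaf ⟨8, 8, true, [13, 3, 10, 13, 10, 15, 18, 3], [13, 19, 7, 4, 17, 10, 15], [93, -923, -1268, -42, 2]⟩) (.leaf ⟨8, 8, true, [19, 3, 5, 19, 10, 19, 16], [6, 12, 7, 17, 4, 17, 13, 3], [-307, 3207, 3943, 105, 4]⟩)))))) (.node 11 (.node 5 (.node 2 (.node 1 (.leaf ⟨8, 6, true, [6, 17, 0, 15, 9, 13, 6, 8], [15, 17, 7, 2, 16, 15, 13], [61, -220, -551, -48, 12]⟩) (.leaf ⟨6, 8, true, [17, 13, 18, 9, 2], [7, 16, 3, 16, 6, 6, 14, 0], [-120, 462, 1133, 79, -16]⟩)) (.node 1 (.leaf ⟨8, 8, true, [12, 18, 12, 10, 6, 11, 0], [17, 8, 6, 6, 10, 5, 3, 0], [82, -648, -783, -36, 6]⟩) (.node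 1 (.leaf ⟨8, 8, true, [17, 11, 17, 6, 14, 5, 8, 4], [7, 8, 10, 12, 8, 2], [-656, 6880, 7984, 206, 15]⟩) (.leaf ⟨8, 8, true, [16, 10, 7, 2, 18, 14, 8, 17], [4, 9, 7, 5, 12, 18, 6], [170, -1544, -1982, -63, 1]⟩)))) (.node 3 (.node 1 (.leaf ⟨8, 8, true, [11, 15, 7, 9, 17, 7, 18, 2], [0, 13, 11, 15, 16, 6, 11], [95, -1088, -1242, -36, 1]⟩) (.node 1 (.leaf ⟨8, 8, true, [19, 6, 19, 7, 10, 2], [17, 15, 3, 19, 4, 10, 15, 18], [-42, 650, 686, 17, -1]⟩) (.leaf ⟨8, 8, true, [16, 3, 0, 12, 7, 17, 7, 5], [13, 7, 0, 19, 10, 13, 15, 10], [-289, 2104, 3025, 116, -14]⟩))) (.node 1 (.leaf ⟨8, 8, true, [17, 6, 15, 9, 7, 19, 6, 0], [17, 3, 19, 16, 11, 7, 2, 0], [342, -2542, -3581, -135, 14]⟩) (.node 1 (.leaf ⟨8, 8, true, [14, 7, 4, 17, 14, 0, 17, 11], [13, 14, 6, 18, 14, 7, 15], [-85, 324, 472, 32, -11]⟩) (.leaf ⟨8,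 4, true, [9, 4, 10, 18, 7, 15, 4, 0], [4, 15, 3, 17, 2, 13, 11, 7], [-204, 1912, 2234, 61, 7]⟩))))) (.node 6 (.node 3 (.node 1 (.leaf ⟨4, 8, true, [19, 16, 2, 18, 6, 12, 5, 11], [13, 3, 9, 5, 7, 19, 10, 4], [201, -1862, -2201, -62, -6]⟩) (.node 1 (.leaf ⟨8, 8, true, [18, 4, 14, 3, 16, 8, 15, 2], [9, 0, 12, 10, 18, 7, 2, 0], [-187, 2102, 2623, 65, 4]⟩) (.leaf ⟨8, 8, true, [17, 18, 5, 18, 6, 18, 5, 9], [7, 7, 17, 12, 15, 7, 18, 0], [240, -2540, -3179, -84, -4]⟩))) (.node 1 (.leaf ⟨8, 8, true, [9, 14, 13, 4, 8, 6, 15, 2], [13, 11, 8, 12, 15, 19, 10], [23, -188, -262, -2, -8]⟩) (.node 1 (.leaf ⟨8, 8, true, [0, 12, 10, 19, 16, 0, 13], [0, 4, 10, 16, 11, 16, 6, 0], [-2, -850, -649, 0, 9]⟩) (.leaf ⟨8, 8, true, [12, 7, 3, 14, 4, 9, 6, 17], [12, 6, 3, 19, 6, 16, 0, 17], [124, -1848, -2050, -55, 12]⟩))))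 (.node 3 (.node 1 (.leaf ⟨4, 8, true, [7, 7, 2, 18, 17, 5, 13, 8], [14, 18, 0, 9, 13, 9, 13, 14], [230, -1902, -2539, -81, -7]⟩) (.node 1 (.leaf ⟨8, 8, true, [7, 5, 16, 2, 17, 9, 14], [11, 7, 8, 6, 18, 18, 3], [-219, 1828, 2379, 85, -4]⟩) (.leaf ⟨8, 8, true, [7, 0, 7, 11, 12, 5, 7, 4], [15, 8, 16, 3, 17, 4, 6], [272, -2266, -2935, -104, 4]⟩))) (.node 1 (.leaf ⟨8, 8, true, [17, 12, 14, 5, 18, 5, 8, 0], [0, 7, 19, 12, 14, 19, 5, 3], [385, -3501, -4295, -142, 15]⟩) (.node 1 (.leaf ⟨8, 8, true, [8, 10, 8, 19, 14, 18, 12, 6], [0, 9, 4, 19, 4, 15, 13, 16], [-332, 3063, 3739, 123, -15]⟩) (.leaf ⟨8, 8, true, [6, 16, 2, 11, 7, 19, 17, 15], [15, 7, 3, 17, 14, 6, 13, 16], [-194, 1476, 2169, 74, -6]⟩)))))))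
noncomputable def dF315 : BT Fct := (.node 22 (.node 11 (.node 5 (.node 2 (.node 1 (.leaf ⟨8, 8, true, [12, 10, 0, 16, 8, 2, 13, 16, 0], [9, 13, 0, 19, 4, 18, 2, 15], [124, -2137, -2103, -47, 9]⟩) (.leaf ⟨8, 8, true, [8, 3, 18, 7, 10, 15, 8, 0], [9, 15, 0, 19, 11, 6, 5, 16, 2], [-71, 1699, 1547, 28, -9]⟩)) (.node 1 (.leaf ⟨8, 4, true, [9, 6, 5, 19, 11, 17, 7, 2], [17, 14, 6, 10, 16, 4, 3], [-27, -321, -70, 26, -11]⟩) (.node 1 (.leaf ⟨4, 8, true, [11, 9, 6, 14, 12, 3, 19, 0], [11, 15, 8, 14, 2, 13, 19, 0], [29, 333, 128, -24, 11]⟩) (.leaf ⟨8, 8, true, [4, 8, 14, 11, 18, 2, 15, 2], [10, 6, 15, 8, 5, 10, 16, 2], [248, -2056, -2762, -96, 7]⟩)))) (.node 3 (.node 1 (.leaf ⟨8, 8, true, [4, 16, 19, 6, 14, 12, 3], [19, 4, 12, 16, 18, 15, 10, 4], [-303, 2494, 3318, 115, -7]⟩) (.node 1 (.leaf ⟨8, 8, true,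 [6, 12, 15, 0, 15, 17], [11, 18, 4, 19, 16, 9, 11, 2], [-100, 683, 965, 37, -5]⟩) (.leaf ⟨4, 8, true, [16, 13, 6, 9, 4, 17, 2], [5, 16, 11, 6, 3, 5, 12], [-3, -151, -76, 2]⟩))) (.node 1 (.leaf ⟨8, 4, true, [15, 8, 6, 6, 14, 19, 7, 3], [3, 16, 5, 8, 7, 12, 17], [-52, 589, 632, 17]⟩) (.node 1 (.leaf ⟨8, 8, true, [3, 8, 6, 14, 4, 14, 16, 2], [12, 11, 13, 15, 7, 17, 2, 0], [-1, -328, -263, -1, -2]⟩) (.leaf ⟨8, 8, true, [0, 15, 6, 17, 14, 16, 3], [15, 13, 4, 2, 6, 5, 19, 3], [-108, 855, 986, 31, -1]⟩))))) (.node 5 (.node 2 (.node 1 (.leaf ⟨8, 8, true, [6, 17, 0, 9, 7, 12, 11, 12], [2, 17, 15, 16, 7, 14, 0], [53, -417, -430, -12, 1]⟩) (.leaf ⟨8, 8, true, [15, 5, 14, 16, 2, 14, 12, 0], [11, 0, 19, 12, 10, 16, 4], [138, -849, -1450, -62, -4]⟩)) (.node 1 (.leaf ⟨8, 8, true, [15, 4, 10, 5, 7, 8, 14], [16,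 10, 19, 5, 10, 7, 10, 3], [212, -1754, -2486, -92, 1]⟩) (.node 1 (.leaf ⟨8, 8, true, [15, 0, 9, 18, 7, 9, 16, 0], [6, 4, 6, 2, 16, 13, 11, 17], [301, -2392, -3326, -108, 3]⟩) (.leaf ⟨8, 8, true, [12, 17, 4, 10, 18, 12, 9, 2], [12, 19, 0, 12, 14, 19, 15, 0], [-248, 1954, 2770, 89, -3]⟩)))) (.node 3 (.node 1 (.leaf ⟨8, 8, true, [5, 12, 6, 11, 19, 17, 12], [11, 19, 15, 18, 9, 17, 4, 3], [170, -1310, -1882, -75, 7]⟩) (.node 1 (.leaf ⟨8, 8, true, [12, 2, 13, 6, 15, 5, 19], [15, 11, 19, 17, 14, 18, 7], [-225, 1748, 2438, 94, -7]⟩) (.leaf ⟨8, 8, true, [16, 3, 6, 4, 19, 6, 19, 3], [12, 6, 15, 18, 8, 4, 8], [320, -2547, -3236, -123, 10]⟩))) (.node 1 (.leaf ⟨8, 8, true, [15, 0, 13, 9, 11, 7, 0], [0, 10, 12, 16, 10, 8, 15, 0], [-267, 2109, 2680, 104, -10]⟩) (.node 1 (.leaf ⟨8, 8, true, [16, 11, 18, 14, 10,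 19, 14], [19, 5, 11, 18, 14, 6, 2], [422, -4982, -5258, -102, -26]⟩) (.leaf ⟨8, 8, true, [14, 16, 13, 18, 11, 8, 0], [10, 16, 2, 6, 11, 13, 9], [-477, 5420, 5814, 121, 26]⟩)))))) (.node 11 (.node 5 (.node 2 (.node 1 (.leaf ⟨8, 8, true, [19, 12, 0, 9, 5, 11, 12, 5], [10, 16, 13, 16, 7, 19, 3], [-239, 2052, 2562, 88, 3]⟩) (.leaf ⟨8, 4, true, [5, 9, 15, 7, 5, 17, 0], [10, 3, 0, 16, 7, 5, 16, 3], [-796, 6662, 8660, 291, -12]⟩)) (.node 1 (.leaf ⟨4, 8, true, [8, 0, 13, 4, 10, 17, 14, 0], [0, 16, 4, 6, 14, 8, 4], [798, -6712, -8690, -291, 12]⟩) (.node 1 (.leaf ⟨8, 8, true, [15, 13, 7, 16, 6, 18, 0], [17, 12, 7, 4, 16, 9], [729, -6163, -7919, -278, 11]⟩) (.leaf ⟨8, 8, true, [14, 9, 13, 4, 19, 7, 4, 2], [2, 10, 4, 18, 10, 7, 14, 13], [621, -5293, -6809, -240, 11]⟩)))) (.node 3 (.node 1 (.leaf ⟨8, 8, true,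 [16, 18, 10, 15, 19, 7, 19], [4, 6, 13, 7, 17, 14, 9, 2], [557, -3710, -5448, -222, 7]⟩) (.node 1 (.leaf ⟨8, 8, true, [8, 10, 13, 18, 10, 6, 17, 15], [18, 6, 18, 14, 11, 19, 17], [-504, 3272, 4892, 203, -7]⟩) (.leaf ⟨8, 8, true, [6, 11, 8, 6, 15, 0, 17, 3], [7, 15, 8, 14, 12, 4, 3, 0], [-287, 2228, 3002, 120, -9]⟩))) (.node 1 (.leaf ⟨8, 8, true, [18, 10, 17, 7, 9, 19, 17, 15], [16, 14, 0, 2, 13, 5, 16, 18], [-1047, 8620, 11413, 394, -16]⟩) (.node 1 (.leaf ⟨8, 8, true, [19, 14, 9, 15, 7, 19, 5], [17, 18, 10, 16, 8, 12, 6, 9], [668, -5596, -7191, -239, 1]⟩) (.leaf ⟨8, 8, true, [6, 3, 4, 16, 13, 6, 5, 16], [4, 18, 6, 14, 8, 15, 18], [-723, 6034, 7747, 258, -1]⟩))))) (.node 6 (.node 3 (.node 1 (.leaf ⟨4, 8, true, [16, 4, 10, 8, 2, 17, 0], [14, 8, 4, 9, 19, 17, 14, 16], [163, -1012, -1883, -89, 19]⟩)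 (.node 1 (.leaf ⟨8, 4, true, [13, 4, 10, 13, 18, 5, 8, 4], [0, 16, 7, 0, 11, 5, 17], [-110, 574, 1327, 70, -19]⟩) (.leaf ⟨8, 8, true, [11, 12, 2, 6, 12, 4, 17, 11], [5, 9, 18, 6, 8, 6, 9, 3], [-161, 1422, 1322, 35, 9]⟩))) (.node 1 (.leaf ⟨8, 8, true, [17, 11, 2, 19, 6, 16, 5, 16], [6, 5, 16, 0, 15, 17, 12], [38, -378, -658, -31, 10]⟩) (.node 1 (.leaf ⟨8, 8, true, [11, 12, 14, 6, 0, 16, 8, 4], [16, 4, 17, 6, 4, 11, 13, 0], [15, -60, 102, 12, -10]⟩) (.leaf ⟨8, 8, true, [18, 5, 10, 12, 8, 12, 9], [19, 4, 7, 8, 13, 16], [92, -969, -1380, -47, 7]⟩)))) (.node 3 (.node 1 (.leaf ⟨8, 8, true, [16, 0, 17, 7, 11, 7, 4], [12, 8, 12, 9, 11, 4, 19], [-147, 1407, 1936, 66, -7]⟩) (.node 1 (.leaf ⟨8, 8, true, [7, 7, 2, 7, 18, 13, 6, 8], [13, 14, 3, 16, 7, 18, 6, 3], [5, 45, -60, -22, 4]⟩) (.leaf ⟨8, 8, true, [15,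 18, 2, 17, 15, 4, 9, 4], [19, 15, 8, 19, 4, 19, 13, 0], [152, -1538, -1926, -64, 1]⟩))) (.node 1 (.leaf ⟨8, 8, true, [8, 17, 8, 6, 8, 17, 3, 4], [19, 13, 0, 17, 7, 14, 12, 11], [-99, 1100, 1370, 45, -1]⟩) (.node 1 (.leaf ⟨8, 8, true, [4, 2, 15, 5, 19, 7, 14, 3], [18, 6, 14, 19, 4, 17, 9, 3], [-286, 2147, 3175, 122, -11]⟩) (.leaf ⟨8, 8, true, [13, 6, 17, 15, 3, 8, 15], [17, 7, 0, 18, 10, 13, 7, 9], [291, -2801, -3242, -93, 11]⟩)))))))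
noncomputable def dF360 : BT Fct := (.node 22 (.node 11 (.node 5 (.node 2 (.node 1 (.leaf ⟨8, 8, true, [11, 16, 0, 16, 6, 0, 17, 6], [14, 18, 15, 16, 6, 19, 3], [-238, 2363, 2686, 74, -11]⟩) (.leaf ⟨8, 8, true, [12, 11, 2, 7, 5, 18, 12, 16], [10, 7, 0, 15, 7, 17, 3, 15], [-280, 3658, 3851, 70, 22]⟩)) (.node 1 (.leaf ⟨8, 8, true, [16, 10, 0, 16, 2, 12, 19, 13], [9, 15, 7, 7, 2, 19, 0], [453, -3834, -4952, -157, -1]⟩) (.node 1 (.leaf ⟨8, 8, true, [18, 11, 5, 0, 4, 16, 15], [5, 0, 17, 6, 15, 7, 12, 3], [560, -4720, -6202, -217, 22]⟩) (.leaf ⟨8, 8, true, [7, 5, 19, 5, 18, 9, 12, 2], [16, 7, 3, 12, 17, 7, 4, 18], [252, -2435, -3026, -92, -1]⟩)))) (.node 3 (.node 1 (.leaf ⟨8, 8, true, [8, 4, 16, 8, 4, 19, 10, 2], [19, 0, 8, 14, 19, 17, 12, 0], [-307, 2873, 3582, 111, 1]⟩) (.node 1 (.leaf ⟨8, 8, true,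 [19, 14, 16, 18, 7, 18, 11, 2], [5, 17, 4, 6, 19, 10, 7, 15], [392, -3319, -4368, -157, 13]⟩) (.leaf ⟨8, 8, true, [2, 19, 11, 17, 12, 8], [14, 8, 5, 13, 6, 3, 17], [367, -3187, -3891, -117, -6]⟩))) (.node 1 (.leaf ⟨8, 8, true, [19, 0, 6, 18, 4, 11, 18, 2], [8, 16, 15, 5, 18, 3], [-422, 3625, 4447, 136, 6]⟩) (.node 1 (.leaf ⟨4, 8, true, [6, 13, 8, 4, 14, 7, 8, 2], [10, 7, 12, 11, 0, 10, 15, 2], [407, -3224, -4701, -178, 23]⟩) (.leaf ⟨8, 4, true, [15, 17, 6, 0, 19, 15, 8, 2], [12, 4, 14, 5, 17, 6, 13, 0], [-354, 2786, 4145, 159, -23]⟩))))) (.node 5 (.node 2 (.node 1 (.leaf ⟨8, 8, true, [8, 11, 4, 16, 18, 12, 17, 0], [7, 2, 6, 9, 0, 19, 6, 4], [205, -1705, -2059, -63, -3]⟩) (.leaf ⟨8, 8, true, [14, 2, 17, 6, 14, 11, 17, 3], [9, 14, 0, 4, 10, 5, 9, 7], [-260, 2143, 2615, 82, 3]⟩)) (.node 1 (.leaf ⟨8,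 4, true, [19, 12, 3, 13, 18, 9, 7, 16], [3, 15, 5, 10, 13, 10, 8, 5], [134, -1269, -1668, -49]⟩) (.node 1 (.leaf ⟨4, 8, true, [5, 3, 14, 18, 7, 18, 9, 3], [17, 6, 8, 10, 5, 11, 4, 3], [-140, 1419, 1807, 50, 1]⟩) (.leaf ⟨8, 8, true, [10, 17, 14, 18, 9, 17, 0, 2], [16, 2, 12, 6, 17, 15, 6, 2], [236, -2096, -2569, -91, 7]⟩)))) (.node 3 (.node 1 (.leaf ⟨8, 8, true, [9, 10, 16, 15, 18, 0, 17], [19, 7, 14, 7, 11, 8, 2, 0], [-291, 2534, 3125, 110, -7]⟩) (.node 1 (.leaf ⟨8, 8, true, [7, 15, 12, 0, 9, 18, 2], [10, 8, 10, 16, 19, 15, 11, 0], [189, -2450, -2397, -39, -10]⟩) (.leaf ⟨8, 8, true, [13, 8, 12, 19, 10, 7, 8], [16, 11, 4, 18, 2, 17, 0], [-136, 2012, 1841, 20, 10]⟩))) (.node 1 (.leaf ⟨8, 8, true, [13, 16, 11, 19, 16, 6, 12, 17], [17, 6, 2, 18, 4, 18, 10, 16], [101, -1594, -1498, -15, -11]⟩) (.node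 1 (.leaf ⟨8, 8, true, [10, 0, 10, 13, 6, 10, 6], [13, 18, 13, 16, 14, 7, 3], [657, -5291, -7003, -244, 14]⟩) (.leaf ⟨8, 8, true, [5, 11, 12, 5, 18, 12, 14, 2], [7, 11, 7, 12, 11, 0, 11], [-604, 4853, 6447, 225, -14]⟩)))))) (.node 11 (.node 5 (.node 2 (.node 1 (.leaf ⟨8, 8, true, [6, 14, 8, 19, 4, 19, 0], [11, 8, 3, 7, 17, 6, 14, 11], [-58, 338, 590, 38, -11]⟩) (.leaf ⟨8, 8, true, [9, 2, 4, 6, 15, 8, 17], [19, 4, 16, 11, 3, 6, 18, 3], [-162, 1408, 1840, 64, -7]⟩)) (.node 1 (.leaf ⟨8, 8, true, [12, 15, 18, 2, 15, 8, 6, 2], [8, 11, 17, 12, 11, 0, 19], [-349, 3402, 4003, 113, 1]⟩) (.node 1 (.leaf ⟨8, 8, true, [11, 15, 5, 7, 18, 6, 0], [11, 6, 8, 0, 14, 5, 9, 2], [402, -3840, -4559, -132, -1]⟩) (.leaf ⟨8, 8, true, [7, 8, 15, 8, 12, 16, 18, 2], [18, 6, 19, 0, 2, 10, 14, 2], [-335, 3535, 4332, 117, 6]⟩))))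 (.node 3 (.node 1 (.leaf ⟨8, 8, true, [17, 15, 6, 6, 15, 19, 13, 16], [7, 15, 2, 14, 12, 11, 16, 6], [92, -595, -1072, -45, 7]⟩) (.node 1 (.leaf ⟨8, 8, true, [18, 11, 0, 15, 18, 8, 11, 16], [19, 17, 0, 7, 10, 12, 4, 0], [-147, 1033, 1628, 64, -7]⟩) (.leaf ⟨8, 8, true, [8, 2, 0, 12, 6, 9, 17, 11], [17, 15, 11, 18, 10, 19, 13, 2], [-284, 2314, 2874, 91, 12]⟩))) (.node 1 (.leaf ⟨8, 8, true, [16, 3, 17, 15, 12, 11, 15, 2], [15, 19, 7, 5, 18, 15], [-112, 1823, 1385, 0, 25]⟩) (.node 1 (.leaf ⟨8, 8, true, [15, 0, 19, 7, 15, 16, 15, 0], [17, 9, 12, 3, 5, 13, 14], [-360, 3171, 3996, 120, 2]⟩) (.leaf ⟨8, 8, true, [0, 9, 15, 8, 7, 4, 16], [19, 8, 4, 8, 15, 16, 3], [20, 239, -137, -19, -5]⟩))))) (.node 6 (.node 3 (.node 1 (.leaf ⟨8, 8, true, [7, 12, 0, 7, 9, 5, 13, 6], [15, 12, 4, 15, 16, 5, 2], [281, -2583,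 -3037, -88, 10]⟩) (.node 1 (.leaf ⟨8, 8, true, [8, 4, 11, 13, 19, 6, 16, 0], [0, 2, 13, 16, 7, 17, 8, 4], [-95, 542, 673, 37, -12]⟩) (.leaf ⟨8, 8, true, [12, 4, 15, 0, 16, 18, 5, 0], [5, 7, 10, 15, 18, 15, 19, 0], [40, -104, -117, -18, 12]⟩))) (.node 1 (.leaf ⟨8, 8, true, [11, 17, 6, 4, 18, 8, 10], [19, 10, 0, 19, 14, 10, 19, 15], [-142, 1302, 1720, 69, -17]⟩) (.node 1 (.leaf ⟨8, 8, true, [14, 4, 10, 17, 11, 2, 13, 0], [18, 0, 12, 16, 5, 11, 12, 0], [186, -1515, -2030, -73, 8]⟩) (.leaf ⟨8, 8, true, [7, 14, 5, 11, 6, 19, 10], [15, 3, 19, 7, 3, 6, 13, 0], [-133, 1077, 1474, 54, -8]⟩)))) (.node 3 (.node 1 (.leaf ⟨8, 8, true, [19, 11, 15, 12, 6, 11, 7, 3], [18, 5, 2, 11, 7, 13, 14, 3], [-3, -11, 25, 3, -1]⟩) (.node 1 (.leaf ⟨8, 8, true, [12, 0, 8, 11, 4, 16, 6, 2], [12, 3, 6, 11, 5, 16, 7, 3], [159,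 -1232, -1690, -62, 14]⟩) (.leaf ⟨8, 8, true, [3, 6, 12, 4, 18, 5, 2], [13, 6, 13, 19, 17, 18, 14, 2], [27, 633, 274, -9, -10]⟩))) (.node 1 (.leaf ⟨8, 8, true, [8, 12, 16, 18, 11, 18, 12], [3, 4, 19, 5, 13, 7, 2], [-82, -195, 282, 28, 10]⟩) (.node 1 (.leaf ⟨8, 8, true, [13, 19, 17, 7, 15, 8, 5, 16], [7, 0, 15, 8, 17, 10, 17], [399, -3632, -4318, -129, 5]⟩) (.leaf ⟨8, 8, true, [9, 14, 0, 11, 17, 10, 2, 17, 0], [0, 7, 17, 9, 4, 7, 17, 0], [-121, 1156, 1322, 44, -2]⟩)))))))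
noncomputable def dF405 : BT Fct := (.node 22 (.node 11 (.node 5 (.node 2 (.node 1 (.leaf ⟨8, 8, true, [15, 12, 3, 19, 14, 11, 9, 12], [9, 15, 3, 12, 18, 10, 15, 17, 0], [66, -718, -766, -25, 2]⟩) (.leaf ⟨8, 8, true, [6, 6, 2, 6, 13, 10, 12, 19], [7, 14, 6, 16, 7, 17, 2, 15], [102, -827, -1156, -33, -1]⟩)) (.node 1 (.leaf ⟨8, 8, true, [9, 0, 14, 9, 2, 19, 5, 3], [6, 8, 12, 18, 5, 13, 7, 2], [67, -1638, -1183, 22, -39]⟩) (.node 1 (.leaf ⟨8, 5, true, [7, 14, 18, 3, 15, 5, 13, 3], [6, 0, 3, 6, 10, 6, 15], [398, -3582, -4306, -123, -8]⟩) (.leaf ⟨5, 8, true, [14, 0, 9, 16, 18, 11, 17, 3], [19, 16, 4, 7, 16, 6, 0, 3], [-423, 3766, 4539, 131, 8]⟩)))) (.node 3 (.node 1 (.leaf ⟨8, 4, true, [17, 6, 5, 16, 18, 17, 9, 17], [19, 7, 17, 9, 4, 10, 19], [-5, -78, -374, -28, 26]⟩) (.node 1 (.leaf ⟨4, 8, true, [17,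 5, 17, 5, 16, 19, 0], [4, 7, 5, 19, 7, 12, 10, 18], [7, 40, 356, 28, -26]⟩) (.leaf ⟨8, 8, true, [11, 7, 0, 4, 17, 6, 10, 13], [10, 6, 15, 5, 17, 0, 18, 2], [198, -1559, -2133, -89, 14]⟩))) (.node 1 (.leaf ⟨8, 8, true, [16, 14, 17, 7, 19, 0, 17, 0], [14, 12, 2, 17, 18, 15, 6, 11], [-253, 1997, 2689, 108, -14]⟩) (.node 1 (.leaf ⟨8, 8, true, [14, 16, 2, 6, 16], [11, 13, 7, 19, 5, 9, 11], [89, -736, -897, -28, -2]⟩) (.leaf ⟨8, 8, true, [5, 15, 12, 19, 11, 6, 4], [19, 7, 17, 0, 18, 8, 5], [355, -3226, -3884, -130, 6]⟩))))) (.node 5 (.node 2 (.node 1 (.leaf ⟨8, 8, true, [16, 18, 15, 9, 10, 16, 3], [17, 4, 8, 15, 6, 16, 18], [-410, 3664, 4440, 149, -6]⟩) (.leaf ⟨8, 8, true, [13, 0, 16, 4, 9, 16, 6, 2], [19, 6, 15, 9, 0, 18, 6, 0], [663, -5527, -7093, -260, 23]⟩)) (.node 1 (.leaf ⟨8, 8, true, [19, 13, 19,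 14, 19, 17, 9, 0], [10, 18, 4, 18, 11, 13, 19], [560, -3838, -6029, -259, 37]⟩) (.node 1 (.leaf ⟨8, 8, true, [0, 13, 6, 4, 9, 12, 15, 0], [8, 6, 15, 13, 4, 17, 4, 3], [-615, 4276, 6585, 278, -37]⟩) (.leaf ⟨8, 8, true, [0, 7, 16, 9, 11, 0, 19], [10, 16, 8, 11, 19, 13, 18], [-58, 432, 644, 18, 1]⟩)))) (.node 3 (.node 1 (.leaf ⟨8, 8, true, [10, 19, 4, 8, 19, 15, 17], [18, 0, 10, 8, 17, 6, 0], [111, -870, -1200, -37, -1]⟩) (.node 1 (.leaf ⟨8, 8, true, [2, 10, 19, 7, 15, 17], [17, 4, 12, 16, 2, 17, 6], [-32, 662, 227, -25, 18]⟩) (.leaf ⟨8, 8, true, [6, 16, 3, 19, 5, 18, 17], [16, 14, 6, 18, 11, 3], [85, -1100, -783, 6, -18]⟩))) (.node 1 (.leaf ⟨8, 8, true, [18, 0, 11, 2, 19, 17, 8, 2], [11, 0, 19, 5, 9, 11], [-429, 4062, 5029, 168, -13]⟩) (.node 1 (.leaf ⟨8, 8, true, [14, 10, 15, 9, 6, 18], [14, 6, 16,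 7, 19, 17, 9, 4], [-482, 4162, 5374, 202, -24]⟩) (.leaf ⟨8, 8, true, [13, 11, 14, 19, 6, 10, 7, 0], [17, 18, 5, 11, 18, 4, 3, 14], [-269, 2428, 3206, 110, -18]⟩)))))) (.node 11 (.node 5 (.node 2 (.node 1 (.leaf ⟨8, 8, true, [10, 19, 14, 18, 6, 15, 16], [17, 14, 19, 11, 17, 15, 6, 3], [-551, 4302, 6294, 247, -33]⟩) (.leaf ⟨8, 8, true, [15, 0, 11, 16, 18, 6, 8, 2], [17, 14, 7, 19, 15, 18, 11], [604, -4740, -6850, -266, 33]⟩)) (.node 1 (.leaf ⟨4, 8, true, [7, 4, 12, 16, 5, 19, 11, 3], [6, 4, 3, 7, 3, 7, 12, 10], [-503, 4452, 5984, 219, -29]⟩) (.node 1 (.leaf ⟨8, 4, true, [4, 11, 3, 9, 5, 9, 14, 11], [14, 11, 12, 0, 16, 6, 10, 3], [556, -4890, -6540, -238, 29]⟩) (.leaf ⟨4, 8, true, [4, 14, 8, 0, 5, 8, 16], [13, 3, 13, 9, 11, 19, 15], [-368, 3329, 4297, 146, -8]⟩)))) (.node 3 (.node 1 (.leaf ⟨8, 4, true,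 [4, 2, 4, 9, 10, 16, 11], [17, 9, 4, 0, 9, 15, 5], [421, -3767, -4853, -165, 8]⟩) (.node 1 (.leaf ⟨8, 8, true, [6, 9, 6, 4, 19, 12, 6, 3], [13, 6, 0, 5, 17, 15, 2], [-39, 651, 544, 22, -10]⟩) (.leaf ⟨8, 8, true, [10, 15, 0, 4, 19, 14, 16], [8, 7, 17, 4, 8, 6, 2], [-45, 419, 560, 25, -16]⟩))) (.node 1 (.leaf ⟨8, 8, true, [16, 10, 19, 17, 13, 10, 16, 0], [14, 16, 6, 10, 9, 3, 8], [-382, 3131, 4022, 142, -17]⟩) (.node 1 (.leaf ⟨8, 8, true, [6, 12, 0, 19, 12, 11, 5], [0, 17, 5, 13, 18, 9, 10, 4], [327, -2693, -3466, -123, 17]⟩) (.leaf ⟨8, 4, true, [3, 19, 15, 8, 4, 18, 6, 19], [14, 11, 4, 19, 7, 13, 4, 9], [-340, 2367, 3324, 140, -21]⟩))))) (.node 6 (.node 3 (.node 1 (.leaf ⟨4, 8, true, [7, 13, 3, 15, 8, 7, 15, 18], [18, 7, 19, 5, 9, 14, 18, 2], [336, -2217, -3142, -136, 21]⟩) (.node 1 (.leaf ⟨8, 8,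 true, [11, 8, 4, 18, 6, 13, 8, 3], [8, 7, 9, 16, 5, 18, 5], [-537, 3591, 5542, 228, -25]⟩) (.leaf ⟨8, 8, true, [10, 15, 3, 19, 2, 13, 7, 12], [12, 15, 4, 6, 11, 19, 13, 5], [590, -4029, -6098, -247, 25]⟩))) (.node 1 (.leaf ⟨8, 8, true, [6, 2, 19, 11, 6, 17, 5, 2], [15, 9, 10, 17, 10, 17], [797, -5745, -8169, -305, 16]⟩) (.node 1 (.leaf ⟨8, 8, true, [8, 2, 19, 14, 3, 19, 10], [0, 4, 11, 8, 17, 5, 8, 0], [-852, 6183, 8725, 324, -16]⟩) (.leaf ⟨8, 8, true, [14, 17, 5, 13, 16, 0, 15], [15, 11, 6, 5, 18, 12, 0, 14], [-104, 2531, 2330, 34, 6]⟩)))) (.node 3 (.node 1 (.leaf ⟨8, 8, true, [11, 14, 8, 10, 18], [6, 4, 18, 6, 18, 11, 16, 2], [-65, 881, 1173, 33]⟩) (.node 1 (.leaf ⟨8, 8, true, [18, 5, 0, 6, 15, 11, 14, 11], [19, 11, 9, 15, 10], [118, -1319, -1729, -52]⟩) (.leaf ⟨8, 8, true, [5, 7, 10, 18, 8, 12],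 [11, 9, 7, 5, 13, 15], [-75, 633, 925, 43, -16]⟩))) (.node 1 (.leaf ⟨8, 8, true, [11, 14, 3, 7, 8, 5, 3], [4, 11, 13, 16, 5, 16, 0, 2], [81, -1090, -1046, -5, -13]⟩) (.node 1 (.leaf ⟨8, 8, true, [15, 9, 17, 8, 6, 0, 16], [10, 2, 9, 6, 2, 15, 10], [-28, 652, 490, -14, 13]⟩) (.leaf ⟨8, 8, true, [13, 2, 7, 8, 16, 10, 7], [17, 15, 8, 16, 7, 12, 2, 12], [39, -1065, -590, -2, -1]⟩)))))))
noncomputable def dF450 : BT Fct := (.node 22 (.node 11 (.node 5 (.node 2 (.node 1 (.leaf ⟨8, 8, true, [16, 4, 13, 6, 9, 6, 15, 0], [6, 11, 17, 9, 6, 8, 3], [14, 627, 34, -17, 1]⟩) (.leaf ⟨8, 4, true, [9, 15, 16, 4, 14, 8, 10], [10, 9, 12, 11, 15, 7], [-165, 1289, 1640, 64, -11]⟩)) (.node 1 (.leaf ⟨8, 8, true, [10, 9, 7, 13, 8, 5, 0, 4], [19, 0, 7, 4, 9, 14, 8, 3], [258, -2388, -3128, -82, -16]⟩) (.node 1 (.leaf ⟨8, 8,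 true, [17, 15, 16, 18, 17, 7, 19], [5, 0, 4, 9, 12, 6, 8, 11], [-205, 1950, 2572, 63, 16]⟩) (.leaf ⟨8, 8, true, [9, 18, 12, 4, 9, 4, 11, 4], [18, 5, 9, 14, 9, 5, 6], [316, -2912, -3773, -104, -15]⟩)))) (.node 3 (.node 1 (.leaf ⟨8, 3, true, [8, 5, 19, 14, 18, 11, 4], [19, 2, 15, 4, 16, 11, 17, 2], [-88, 387, 748, 62, -24]⟩) (.node 1 (.leaf ⟨3, 8, true, [10, 13, 15, 13, 9, 13, 0], [5, 10, 19, 15, 18, 4, 9], [99, -541, -933, -67, 24]⟩) (.leaf ⟨8, 8, true, [17, 13, 18, 7, 15, 6, 3, 0], [17, 0, 10, 14, 7, 2, 10], [472, -4511, -5653, -160, 3]⟩))) (.node 1 (.leaf ⟨8, 6, true, [4, 19, 3, 9, 15, 9, 13, 10], [7, 8, 6, 10, 5, 8, 6, 3], [80, -1401, -1547, -21, -11]⟩) (.node 1 (.leaf ⟨6, 8, true, [13, 18, 0, 19, 14, 9, 10, 0], [14, 4, 2, 14, 11, 7, 18, 12], [-236, 2700, 3259, 78, 9]⟩) (.leaf ⟨8, 8, true, [10,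 15, 8, 7, 3, 19], [13, 3, 12, 10, 17, 6, 19, 0], [204, -2274, -2218, -21, -28]⟩))))) (.node 5 (.node 2 (.node 1 (.leaf ⟨8, 8, true, [9, 6, 9, 5, 9, 19, 6, 0], [18, 2, 6, 9, 14, 11], [-259, 2712, 2774, 40, 28]⟩) (.leaf ⟨8, 8, true, [15, 3, 5, 16, 7, 14], [0, 16, 8, 11, 19, 10, 15], [106, -964, -1200, -32]⟩)) (.node 1 (.leaf ⟨8, 4, true, [12, 7, 12, 18, 10, 16], [18, 15, 19, 12, 18, 12], [-242, 1858, 2579, 103, -13]⟩) (.node 1 (.leaf ⟨4, 8, true, [15, 8, 18, 4, 8, 10, 15], [17, 11, 19, 13, 6, 13], [236, -1720, -2452, -102, 14]⟩) (.leaf ⟨8, 8, true, [10, 5, 9, 7, 17, 7, 11, 2], [14, 3, 8, 12, 9, 6, 8, 4], [453, -4502, -5412, -139, -16]⟩)))) (.node 3 (.node 1 (.leaf ⟨8, 8, true, [14, 11, 0, 9, 5, 13, 8, 13], [18, 14, 5, 9, 2, 14, 7, 2], [-80, 1032, 1227, 9, 18]⟩) (.node 1 (.leaf ⟨4, 8, true, [14, 8,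 10, 12, 19, 11, 5, 2], [14, 0, 18, 10, 9, 14, 9, 3], [2, -193, 69, 13, -4]⟩) (.leaf ⟨8, 4, true, [4, 8, 6, 8, 5, 11, 18], [14, 17, 2, 18, 13, 11, 9, 15], [-57, 631, 487, 6, 4]⟩))) (.node 1 (.leaf ⟨8, 8, true, [7, 13, 3, 19, 17, 15, 6], [8, 7, 4, 12, 3, 4, 18, 13], [-358, 3502, 4362, 115, 16]⟩) (.node 1 (.leaf ⟨8, 8, true, [5, 16, 19, 17, 15, 16, 12], [16, 0, 16, 0, 13, 10], [-775, 8035, 9912, 271, 7]⟩) (.leaf ⟨8, 8, true, [10, 19, 6, 5, 17, 12, 0], [13, 17, 14, 16, 18, 17, 4], [720, -7597, -9356, -252, -7]⟩)))))) (.node 11 (.node 5 (.node 2 (.node 1 (.leaf ⟨8, 8, true, [17, 4, 17, 8, 17, 12, 4], [6, 13, 10, 4, 9, 7, 4, 3], [-31, 197, 388, 23, -8]⟩) (.leaf ⟨8, 8, true, [19, 15, 16, 11, 8, 5, 13, 2], [5, 13, 16, 9, 16, 5, 16], [84, -635, -944, -42, 8]⟩)) (.node 1 (.leaf ⟨8, 8, true, [16, 10, 6, 18,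 9, 17, 6, 0], [7, 13, 9, 6, 17, 3, 15, 0], [-145, 1619, 1885, 44, 7]⟩) (.node 1 (.leaf ⟨8, 6, true, [18, 12, 0, 17, 12, 6, 2], [6, 4, 8, 7, 13, 9, 12], [-312, 2587, 3860, 135, -13]⟩) (.leaf ⟨6, 8, true, [13, 10, 12, 16, 3, 15, 8], [3, 7, 13, 16, 0, 13, 19], [508, -4318, -6071, -205, 15]⟩)))) (.node 3 (.node 1 (.leaf ⟨8, 8, true, [12, 14, 2, 8, 13, 18, 11, 7], [9, 0, 18, 3, 6, 16, 8, 0], [-136, 1319, 1668, 44, -2]⟩) (.node 1 (.leaf ⟨8, 8, true, [18, 5, 19, 17, 11, 12, 19], [6, 14, 0, 19, 15, 12, 11, 6], [189, -1757, -2224, -63, 2]⟩) (.leaf ⟨8, 8, true, [12, 6, 8, 11, 6, 18, 7, 3], [10, 13, 18, 13, 6, 10, 14], [-42, 961, 749, -9, 8]⟩))) (.node 1 (.leaf ⟨8, 8, true, [7, 7, 19, 7, 15, 17, 12], [14, 0, 10, 2, 17, 13, 11, 0], [-13, -523, -193, 28, -8]⟩) (.node 1 (.leaf ⟨8, 6, true, [9, 15, 10, 19, 6,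 15], [17, 6, 10, 19, 2, 10, 4], [-191, 1562, 2038, 73, -6]⟩) (.leaf ⟨6, 8, true, [11, 19, 14, 5, 7, 12, 6], [14, 7, 18, 11, 14, 8], [388, -3276, -4226, -144, 9]⟩))))) (.node 6 (.node 3 (.node 1 (.leaf ⟨8, 8, true, [6, 8, 2, 4, 16, 15, 18, 13], [5, 9, 6, 4, 9, 5, 18], [-239, 2740, 3057, 85, -9]⟩) (.node 1 (.leaf ⟨8, 8, true, [16, 13, 7, 16, 10, 5, 11], [6, 16, 14, 13, 8, 5, 18, 2], [184, -2302, -2501, -66, 9]⟩) (.leaf ⟨8, 8, true, [8, 13, 4, 19, 7, 4, 10], [7, 15, 6, 16, 3, 16, 2], [-240, 2080, 2354, 77, -1]⟩))) (.node 1 (.leaf ⟨8, 8, true, [18, 14, 0, 16, 2, 14, 9, 17], [10, 16, 11, 4, 11, 9, 6, 2], [-294, 2856, 3484, 107, -1]⟩) (.node 1 (.leaf ⟨8, 8, true, [0, 6, 12, 11, 6, 9, 4], [11, 18, 7, 5, 13, 10, 12], [-208, 1774, 2124, 104, -23]⟩) (.leaf ⟨8, 8, true, [19, 6, 14, 13, 19, 4, 2, 0], [5, 8,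 7, 10, 13, 7, 0], [261, -2212, -2680, -123, 23]⟩)))) (.node 3 (.node 1 (.leaf ⟨8, 8, true, [5, 17, 0, 17, 11, 3, 17], [15, 0, 8, 16, 7, 5, 16, 0], [-59, 170, 422, 56, -21]⟩) (.node 1 (.leaf ⟨8, 8, true, [18, 4, 10, 8, 5, 19, 3], [15, 5, 18, 7, 11, 19, 15], [-402, 3680, 4430, 138, -7]⟩) (.leaf ⟨8, 8, true, [15, 19, 0, 5, 8, 11, 16, 14], [18, 10, 17, 18, 7, 7, 8], [455, -4118, -4986, -157, 7]⟩))) (.node 1 (.leaf ⟨8, 6, true, [2, 17, 7, 2, 6, 8, 12, 18], [19, 7, 19, 8, 5, 9, 7, 2], [-400, 3445, 4159, 128, -2]⟩) (.node 1 (.leaf ⟨6, 8, true, [15, 13, 6, 15, 16, 2, 6, 4], [19, 13, 9, 7, 3, 6, 16, 3], [222, -2100, -2313, -64, -1]⟩) (.leaf ⟨6, 6, true, [9, 10, 13, 17, 14, 18, 0, 3], [0, 18, 6, 14, 5, 12, 15], [352, -3036, -3880, -126, 6]⟩)))))))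
noncomputable def dF495 : BT Fct := (.node 22 (.node 11 (.node 5 (.node 2 (.node 1 (.leaf ⟨8, 8, true, [16, 3, 18, 12, 16, 9, 4], [18, 6, 10, 4, 10, 19, 0], [-115, 1391, 1704, 35, 4]⟩) (.leaf ⟨8, 8, true, [15, 17, 0, 7, 19, 7, 5, 16], [3, 19, 7, 14, 9, 14, 5], [-194, 1373, 2264, 54, 12]⟩)) (.node 1 (.leaf ⟨8, 8, true, [19, 10, 4, 8, 15, 9, 19, 3], [17, 4, 6, 18, 6, 0, 16, 14], [247, -1811, -2820, -73, -12]⟩) (.node 1 (.leaf ⟨8, 8, true, [8, 6, 17, 13, 18, 9], [15, 6, 8, 12, 6, 14, 11, 3], [-421, 3426, 4556, 157, -11]⟩) (.leaf ⟨8, 8, true, [17, 3, 11, 12, 4, 19, 16], [8, 19, 12, 16, 7, 9], [366, -2988, -4000, -138, 11]⟩)))) (.node 3 (.node 1 (.leaf ⟨8, 8, true, [6, 5, 0, 11, 13, 6, 9, 0], [10, 12, 3, 14, 11, 4, 18], [43, -1199, -884, -18, 9]⟩) (.node 1 (.leaf ⟨8, 8, true, [4, 16, 0, 10, 17, 18, 7,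 18], [3, 8, 10, 12, 7, 10, 6], [-446, 3267, 4748, 201, -27]⟩) (.leaf ⟨8, 8, true, [16, 6, 11, 9, 14, 5, 6], [7, 8, 11, 4, 17, 18, 11, 2], [-526, 4311, 5664, 194, -11]⟩))) (.node 1 (.leaf ⟨8, 8, true, [4, 0, 6, 16, 10, 15, 18, 0], [7, 4, 15, 8, 10, 7, 17], [471, -3873, -5108, -175, 11]⟩) (.node 1 (.leaf ⟨8, 8, true, [8, 7, 10, 17, 7, 16, 3], [9, 13, 4, 18, 9, 11, 2], [38, 91, 54, -12, -5]⟩) (.leaf ⟨8, 8, true, [14, 4, 19, 13, 10, 13, 8], [2, 14, 12, 4, 9, 5, 11], [-93, 347, 502, 31, 5]⟩))))) (.node 5 (.node 2 (.node 1 (.leaf ⟨8, 8, true, [0, 2, 5, 8, 19, 6, 14], [7, 16, 7, 9, 15, 6, 19, 4], [306, -2320, -3025, -115, 14]⟩) (.leaf ⟨8, 8, true, [14, 13, 0, 6, 8, 17, 14, 13], [15, 7, 18, 9, 4, 3, 0], [-361, 2758, 3581, 134, -14]⟩)) (.node 1 (.leaf ⟨8, 8, true, [9, 10, 19, 6, 4, 16, 13], [18, 12, 7, 9,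 15, 8, 16, 19], [595, -4446, -6177, -238, 27]⟩) (.node 1 (.leaf ⟨8, 8, true, [17, 4, 14, 3, 17, 12, 11, 2], [12, 17, 5, 7, 18, 11, 8], [-542, 4008, 5621, 219, -27]⟩) (.leaf ⟨8, 8, true, [18, 7, 16, 4, 9, 17, 7, 4], [16, 15, 8, 19, 14, 19, 0], [488, -3110, -4821, -222, 34]⟩)))) (.node 3 (.node 1 (.leaf ⟨8, 8, true, [18, 5, 15, 6, 4, 17, 11, 2], [12, 11, 17, 6, 0, 14, 17, 2], [349, -2836, -3769, -140, 15]⟩) (.node 1 (.leaf ⟨8, 8, true, [4, 0, 11, 13, 11, 17, 4, 3], [8, 13, 4, 17, 3, 16, 8, 0], [-393, 3645, 4885, 174, -22]⟩) (.leaf ⟨8, 8, true, [9, 19, 13, 7, 16, 0, 14, 18], [14, 7, 18, 15, 16, 8], [-1048, 7627, 10734, 406, -29]⟩))) (.node 1 (.leaf ⟨8, 8, true, [7, 10, 6, 15, 18, 4, 17], [10, 18, 4, 19, 15, 7, 17], [-224, 2055, 2511, 83, -12]⟩) (.node 1 (.leaf ⟨8, 8, true, [15, 9, 2, 13, 16, 15, 8,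 6], [16, 5, 19, 14, 7, 11, 6], [277, -2493, -3067, -102, 12]⟩) (.leaf ⟨8, 8, true, [10, 8, 6, 12, 4, 10, 8], [11, 15, 17, 2, 16, 7, 10], [85, -1131, -1032, -6, -3]⟩)))))) (.node 11 (.node 5 (.node 2 (.node 1 (.leaf ⟨8, 8, true, [13, 8, 16, 5, 8, 11], [4, 9, 7, 4, 14, 8, 4], [-32, 693, 476, -13, 3]⟩) (.leaf ⟨4, 8, true, [14, 11, 4, 10, 19, 6, 15], [10, 14, 0, 10, 17, 9, 15], [186, -1698, -2174, -63, -3]⟩)) (.node 1 (.leaf ⟨8, 4, true, [4, 0, 12, 4, 17, 10, 16], [14, 7, 18, 11, 5, 10, 15], [-133, 1260, 1618, 44, 3]⟩) (.node 1 (.leaf ⟨8, 8, true, [7, 10, 0, 17, 7, 8, 15], [8, 3, 4, 14, 10, 14, 19, 15], [-491, 3842, 5150, 193, -21]⟩) (.leaf ⟨8, 8, true, [13, 0, 12, 15, 6, 11, 19, 0], [14, 9, 6, 16, 0, 11, 6], [436, -3404, -4594, -174, 21]⟩)))) (.node 3 (.node 1 (.leaf ⟨8, 8, true, [2, 13, 8, 12, 4,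 6, 13], [7, 4, 9, 17, 10, 13, 16, 3], [160, -2155, -2351, -52, 3]⟩) (.node 1 (.leaf ⟨8, 8, true, [12, 15, 13, 7, 18, 15, 8, 0], [7, 5, 17, 11, 8, 12, 16], [-84, 825, 1212, 50, -19]⟩) (.leaf ⟨8, 8, true, [16, 6, 17, 13, 7, 19, 14], [11, 5, 19, 14, 8, 17, 0, 2], [29, -387, -656, -31, 19]⟩))) (.node 1 (.leaf ⟨8, 8, true, [10, 13, 18, 7, 19, 5, 13, 3], [0, 14, 19, 14, 8, 19, 0, 2], [534, -4896, -6354, -205, 8]⟩) (.node 1 (.leaf ⟨8, 8, true, [15, 4, 19, 15, 2, 13, 11, 0], [8, 13, 19, 16, 6, 19, 10, 4], [-137, 928, 897, 33, -3]⟩) (.leaf ⟨8, 8, true, [19, 7, 17, 8, 12, 9, 2, 0], [14, 7, 2, 19, 15, 12, 8, 5], [190, -1366, -1453, -52, 3]⟩))))) (.node 6 (.node 3 (.node 1 (.leaf ⟨8, 8, true, [15, 2, 6, 19, 14, 13, 16, 3], [5, 8, 2, 12, 14, 7, 19, 16], [-890, 7327, 9380, 323, -12]⟩) (.node 1 (.leaf ⟨8, 8, true,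 [13, 11, 5, 17, 7, 19, 12, 6], [6, 11, 0, 10, 14, 13, 16, 3], [-276, 1599, 2547, 121, -13]⟩) (.leaf ⟨8, 8, true, [14, 7, 5, 12, 16, 18, 13, 5], [12, 9, 11, 0, 17, 15, 12, 10], [221, -1161, -1991, -102, 13]⟩))) (.node 1 (.leaf ⟨8, 8, true, [8, 3, 5, 13, 8, 11, 17], [4, 0, 3, 15, 7, 19, 14, 13], [-159, 661, 971, 66, -7]⟩) (.node 1 (.leaf ⟨8, 8, true, [12, 15, 19, 17, 11, 19, 15, 0], [16, 5, 9, 6, 19, 15, 7, 10], [627, -6571, -7406, -188, -13]⟩) (.leaf ⟨8, 8, true, [0, 13, 7, 16, 13, 8, 12, 3], [2, 6, 10, 0, 14, 10, 16, 10], [-682, 7009, 7962, 207, 13]⟩)))) (.node 3 (.node 1 (.leaf ⟨8, 8, true, [2, 19, 4, 9, 10, 12, 17, 7], [16, 19, 0, 19, 10, 13, 10, 8], [289, -1919, -2623, -118, 24]⟩) (.node 1 (.leaf ⟨8, 8, true, [3, 17, 18, 17, 5, 18, 6, 4], [6, 17, 2, 7, 18, 15, 18, 6], [534, -3822, -5166, -216,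 14]⟩) (.leaf ⟨8, 8, true, [15, 18, 6, 10, 2, 11, 7], [16, 15, 13, 19, 6, 11, 16], [197, -609, -1526, -85, 4]⟩))) (.node 1 (.leaf ⟨8, 8, true, [18, 4, 9, 17, 9, 10, 6], [19, 8, 0, 14, 13, 9, 14, 11], [102, -202, -631, -42, -1]⟩) (.node 1 (.leaf ⟨8, 8, true, [5, 17, 4, 7, 3, 6, 19], [7, 11, 8, 16, 8, 5, 19], [-49, -236, 75, 23, 1]⟩) (.leaf ⟨8, 8, true, [12, 7, 14, 18, 3, 7, 2], [8, 19, 12, 15, 17, 7, 12], [372, -2284, -3552, -141, 5]⟩)))))))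
noncomputable def dF540 : BT Fct := (.node 22 (.node 11 (.node 5 (.node 2 (.node 1 (.leaf ⟨8, 8, true, [9, 7, 8, 13, 11, 18, 3], [13, 8, 13, 10, 12, 9, 3], [-319, 1846, 2996, 122, -5]⟩) (.leaf ⟨8, 8, true, [14, 6, 18, 6, 11, 3, 17, 0], [5, 3, 12, 6, 17, 14, 5, 2], [277, -2848, -3174, -92]⟩)) (.node 1 (.leaf ⟨8, 8, true, [3, 19, 15, 12, 3, 8, 11], [11, 2, 13, 19, 13, 5, 8, 4], [-224, 2410, 2618, 73]⟩) (.node 1 (.leaf ⟨8, 8, true, [18, 7, 18, 7, 2, 0, 2], [5, 3, 13, 16, 7, 17, 13], [-345, 3848, 4992, 124, 8]⟩) (.leaf ⟨8, 8, true, [12, 0, 19, 6, 15, 3, 7, 2], [3, 0, 3, 6, 19, 6, 19], [398, -4286, -5548, -143, -8]⟩)))) (.node 3 (.node 1 (.leaf ⟨8, 8, true, [8, 7, 7, 17, 6, 17, 3], [14, 11, 4, 15, 13, 7, 16, 19], [173, -495, -1112, -77, 13]⟩) (.node 1 (.leaf ⟨8, 8, true, [12, 0, 17, 11, 6, 15, 9, 0],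 [2, 16, 7, 16, 6, 6, 9], [-120, 57, 556, 58, -13]⟩) (.leaf ⟨8, 8, true, [15, 9, 5, 12, 16, 9, 0], [16, 4, 6, 8, 10, 3, 7, 3], [-299, 3088, 3544, 105, -12]⟩))) (.node 1 (.leaf ⟨8, 8, true, [9, 5, 10, 16, 0, 19, 10], [13, 5, 17, 11, 8, 14, 8, 3], [16, -72, -442, -11, -9]⟩) (.node 1 (.leaf ⟨8, 8, true, [17, 9, 2, 15, 7, 9, 4, 3], [11, 18, 0, 17, 11, 4, 8], [37, -366, -114, -8, 9]⟩) (.leaf ⟨8, 8, true, [6, 18, 2, 13, 14, 11, 7, 12], [8, 0, 8, 12, 14, 11, 9, 4], [564, -3521, -5321, -243, 41]⟩))))) (.node 5 (.node 2 (.node 1 (.leaf ⟨8, 8, true, [6, 10, 0, 18, 15, 19, 16, 18], [14, 5, 19, 7, 15, 12, 10, 2], [-621, 5310, 7301, 256, -19]⟩) (.leaf ⟨8, 8, true, [15, 10, 14, 17, 6, 0, 2], [12, 19, 10, 17, 9, 17, 13], [-117, 968, 1060, 48, -7]⟩)) (.node 1 (.leaf ⟨8, 8, true, [18, 5, 8, 7, 19, 14, 12], [5, 15,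 13, 14, 6, 0, 2], [62, -530, -504, -29, 7]⟩) (.node 1 (.leaf ⟨8, 8, true, [13, 15, 13, 15, 18, 14, 12, 2], [14, 11, 13, 6, 15, 5, 2], [-390, 3483, 4455, 131, 5]⟩) (.leaf ⟨8, 8, true, [14, 18, 6, 18, 0, 10, 5], [12, 4, 3, 13, 19, 5, 13, 16], [-974, 7975, 10321, 382, -36]⟩)))) (.node 3 (.node 1 (.leaf ⟨8, 8, true, [10, 7, 10, 17, 4, 16, 18], [4, 11, 0, 19, 7, 19, 15], [1027, -8413, -10877, -401, 36]⟩) (.node 1 (.leaf ⟨8, 8, true, [10, 2, 7, 11, 13, 6, 10, 4], [11, 6, 15, 19, 4, 19, 17, 0], [220, -1622, -2212, -81, 3]⟩) (.leaf ⟨8, 8, true, [19, 14, 17, 14, 10, 18, 4], [15, 0, 16, 13, 18, 14, 18], [-549, 4195, 5536, 207, -13]⟩))) (.node 1 (.leaf ⟨8, 8, true, [17, 2, 8, 17, 14, 7, 19, 3], [9, 14, 6, 18, 7, 17, 9, 15], [90, -915, -1003, -23, -16]⟩) (.node 1 (.leaf ⟨8, 8, true, [16, 3, 12, 9, 7, 17, 12],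 [9, 17, 0, 16, 5, 18, 10, 0], [717, -5961, -7649, -279, 23]⟩) (.leaf ⟨8, 8, true, [17, 6, 0, 4, 10, 12, 5], [7, 8, 13, 6, 15, 9], [-730, 7288, 8722, 251, 1]⟩)))))) (.node 11 (.node 5 (.node 2 (.node 1 (.leaf ⟨8, 8, true, [10, 14, 3, 17, 7, 12, 15, 3], [12, 18, 15, 12, 15, 6, 9], [-1262, 10405, 13763, 472, -18]⟩) (.leaf ⟨8, 8, true, [2, 16, 7, 15, 19, 13, 10, 0], [4, 17, 7, 13, 9, 3, 6, 0], [1315, -10843, -14319, -491, 18]⟩)) (.node 1 (.leaf ⟨8, 8, true, [17, 19, 16, 5, 16, 15, 13, 9], [12, 11, 7, 13, 4, 3, 0], [-2, 121, 106, -3, 12]⟩) (.node 1 (.leaf ⟨8, 8, true, [10, 9, 14, 7, 9, 11, 13], [15, 0, 14, 19, 12, 7, 12, 11], [-563, 4543, 6068, 216, -18]⟩) (.leaf ⟨8, 8, true, [6, 0, 15, 13, 4, 11, 12, 0], [9, 7, 4, 16, 14, 11, 8], [616, -4981, -6624, -235, 18]⟩)))) (.node 3 (.node 1 (.leaf ⟨8, 8, true,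 [11, 9, 14, 16, 18], [18, 6, 19, 8, 7, 14, 12, 3], [-193, 1593, 2086, 73, -11]⟩) (.node 1 (.leaf ⟨8, 8, true, [18, 6, 13, 17, 11, 19, 4, 3], [19, 17, 15, 8, 10], [246, -2031, -2642, -92, 11]⟩) (.leaf ⟨8, 8, true, [9, 4, 8, 6, 4, 18, 4, 3], [14, 9, 17, 7, 12, 0, 9], [-108, 1051, 1331, 35, 11]⟩))) (.node 1 (.leaf ⟨8, 8, true, [2, 10, 16, 7, 9, 15, 8, 0], [15, 8, 5, 19, 17, 12, 17], [-596, 4025, 6061, 262, -36]⟩) (.node 1 (.leaf ⟨8, 8, true, [6, 12, 14, 18, 10, 17, 12, 3], [12, 17, 2, 18, 9, 5, 8, 13], [77, -708, -983, -48, 19]⟩) (.leaf ⟨8, 8, true, [14, 6, 4, 14, 7, 16, 0, 17], [17, 10, 13, 19, 2, 14, 8], [2, 52, 35, -10, 16]⟩))))) (.node 6 (.node 3 (.node 1 (.leaf ⟨8, 8, true, [17, 7, 8, 15, 19, 14, 12, 2], [0, 10, 9, 6, 15, 9, 6, 4], [-416, 3599, 4451, 153, -21]⟩) (.node 1 (.leaf ⟨8, 8, true, [5,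 12, 8, 10, 7, 12, 3, 4], [15, 19, 5, 7, 13, 14, 10, 3], [469, -4037, -5007, -172, 21]⟩) (.leaf ⟨8, 8, true, [15, 13, 2, 6, 2, 10, 17, 6], [18, 11, 15, 19, 16, 18, 4, 0], [-163, 1312, 1747, 67, -17]⟩))) (.node 1 (.leaf ⟨8, 8, true, [12, 3, 19, 5, 16, 3, 6, 4], [3, 5, 13, 7, 8, 17, 15], [184, -1745, -2377, -78, 9]⟩) (.node 1 (.leaf ⟨8, 8, true, [8, 7, 19, 4, 10, 16, 5], [4, 10, 13, 11, 16, 18, 7, 2], [-220, 2684, 2672, 52, 1]⟩) (.leaf ⟨8, 8, true, [15, 3, 5, 16, 8, 17, 11, 3], [10, 4, 10, 15, 2, 13, 7], [273, -3122, -3228, -71, -1]⟩)))) (.node 3 (.node 1 (.leaf ⟨8, 8, true, [14, 11, 4, 14, 11, 15, 9, 18], [19, 10, 5, 17, 13, 16, 7, 11], [349, -3300, -4067, -126]⟩) (.node 1 (.leaf ⟨8, 8, true, [4, 9, 14, 10, 19, 0, 3], [17, 18, 6, 17, 14, 6, 11, 19], [292, -2206, -2956, -131, 18]⟩) (.leaf ⟨8, 8, true,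 [14, 18, 8, 6, 15, 17, 4], [2, 0, 18, 11, 15, 8, 5], [-347, 2644, 3512, 150, -18]⟩))) (.node 1 (.leaf ⟨8, 8, true, [6, 4, 17, 7, 11, 19, 5, 2], [9, 15, 18, 7, 17, 15, 10, 2], [-462, 3785, 5463, 165, -7]⟩) (.node 1 (.leaf ⟨8, 8, true, [18, 0, 15, 11, 16, 15, 7], [10, 8, 0, 17, 5, 2, 6], [228, -2208, -2499, -69, -7]⟩) (.leaf ⟨8, 8, true, [17, 4, 6, 12, 11, 0, 9, 3], [19, 12, 10, 19, 8, 4, 14], [-175, 1770, 1943, 50, 7]⟩)))))))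
noncomputable def dF585 : BT Fct := (.node 22 (.node 11 (.node 5 (.node 2 (.node 1 (.leaf ⟨8, 8, true, [18, 3, 18, 7, 16, 12, 14, 2], [13, 5, 3, 7, 10, 4, 16, 5], [72, -264, -485, -38, 17]⟩) (.leaf ⟨8, 8, true, [19, 4, 10, 8, 11, 16, 5], [18, 15, 17, 7, 5, 12, 19, 2], [-127, 702, 1041, 57, -17]⟩)) (.node 1 (.leaf ⟨8, 8, true, [18, 7, 10, 18, 4, 3, 7, 3], [4, 14, 10, 12, 19, 6, 13], [473, -2779, -4400, -217, 49]⟩) (.node 1 (.leaf ⟨8, 8, true, [18, 11, 13, 10, 13, 17, 3], [16, 4, 7, 17, 14, 2, 12, 18], [131, -1308, -1519, -33, -2]⟩) (.leaf ⟨8, 8, true, [18, 17, 0, 11, 5, 17, 15, 11], [15, 9, 15, 13, 17, 0, 9], [357, -3028, -3765, -130, 11]⟩)))) (.node 3 (.node 1 (.leaf ⟨8, 8, true, [7, 15, 16, 4, 16, 5, 3], [10, 7, 15, 19, 7, 16, 10, 2], [-412, 3466, 4321, 149, -11]⟩) (.node 1 (.leaf ⟨8, 8, true,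 [8, 11, 3, 8, 7, 17, 3, 16], [11, 2, 11, 7, 18, 7, 17, 2], [208, -1618, -2043, -77, 6]⟩) (.leaf ⟨8, 8, true, [2, 15, 2, 19, 17, 18, 2], [18, 11, 9, 13, 15, 10, 0], [501, -5520, -7029, -183, 5]⟩))) (.node 1 (.leaf ⟨8, 8, true, [6, 15, 19, 7, 19, 13, 9, 4], [3, 18, 18, 10, 16, 13, 3], [-556, 5958, 7585, 202, -5]⟩) (.node 1 (.leaf ⟨8, 8, true, [10, 14, 18, 0, 9, 19, 15], [4, 3, 12, 16, 18, 4, 6], [-573, 5103, 7142, 246, -13]⟩) (.leaf ⟨8, 8, true, [15, 9, 15, 6, 17, 9, 10], [16, 3, 11, 5, 12, 9, 12, 0], [-26, 691, 439, -13, 24]⟩))))) (.node 5 (.node 2 (.node 1 (.leaf ⟨8, 8, true, [6, 15, 3, 10, 19, 14, 17, 11], [11, 8, 16, 7, 14, 8, 14], [79, -1129, -995, -6, -24]⟩) (.leaf ⟨8, 8, true, [6, 5, 17, 7, 16, 0, 12, 2], [6, 16, 2, 7, 5, 17, 5, 18], [-250, 3578, 3407, 36, 25]⟩)) (.node 1 (.leaf ⟨8, 8, true,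 [3, 7, 13, 6, 17, 13, 9, 2], [8, 12, 5, 19, 12, 11, 18, 9], [302, -1330, -2589, -147, 40]⟩) (.node 1 (.leaf ⟨8, 8, true, [10, 2, 9, 15, 17, 10, 6, 0], [13, 6, 0, 14, 16, 7, 0, 12], [287, -2522, -3053, -108, 7]⟩) (.leaf ⟨8, 8, true, [9, 16, 2, 19, 15, 13, 7, 19], [11, 2, 18, 10, 13, 19, 5, 3], [-234, 2084, 2497, 89, -7]⟩)))) (.node 3 (.node 1 (.leaf ⟨8, 8, true, [16, 5, 7, 16, 5, 2, 6, 4], [11, 17, 0, 10, 4, 7, 19, 8], [408, -3647, -4604, -160, 14]⟩) (.node 1 (.leaf ⟨8, 8, true, [15, 8, 2, 8, 14, 9, 4, 14], [15, 3, 0, 15, 7, 7, 19, 6], [540, -4676, -6012, -222, 23]⟩) (.leaf ⟨8, 8, true, [7, 13, 18, 0, 16, 4], [9, 12, 10, 14, 6, 16, 5, 3], [836, -7026, -9129, -298, 4]⟩))) (.node 1 (.leaf ⟨8, 8, true, [13, 19, 2, 17, 4, 7, 19, 11], [5, 17, 0, 19, 12, 6], [-783, 6588, 8573, 279, -4]⟩) (.node 1 (.leaf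 ⟨8, 8, true, [12, 5, 2, 11, 6, 14, 18, 7], [10, 12, 19, 3, 14, 9, 6], [-212, 1260, 1955, 101, -15]⟩) (.leaf ⟨8, 8, true, [0, 14, 9, 7, 19, 14, 16, 18], [11, 0, 16, 5, 9, 14, 13, 3], [157, -822, -1399, -82, 15]⟩)))))) (.node 11 (.node 5 (.node 2 (.node 1 (.leaf ⟨8, 8, true, [13, 6, 5, 8, 13, 5], [15, 18, 5, 16, 6, 19, 7], [-346, 2926, 3581, 144, -32]⟩) (.leaf ⟨8, 8, true, [13, 9, 0, 14, 10, 18, 9, 7], [4, 12, 9, 4, 7, 12], [399, -3364, -4137, -163, 32]⟩)) (.node 1 (.leaf ⟨8, 8, true, [8, 4, 12, 11, 7, 14, 6, 2], [13, 7, 5, 17, 14, 6, 6], [-1130, 9557, 13120, 462, -33]⟩) (.node 1 (.leaf ⟨8, 8, true, [16, 10, 19, 7, 10, 2, 19], [10, 16, 8, 19, 15, 9, 11, 3], [1075, -9119, -12564, -443, 33]⟩) (.leaf ⟨8, 8, true, [19, 7, 0, 17, 18, 15, 13, 15], [12, 0, 17, 2, 14, 7, 17], [337, -3047, -3913, -127, 6]⟩))))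 (.node 3 (.node 1 (.leaf ⟨8, 8, true, [13, 15, 10, 16, 19, 0, 9], [16, 18, 6, 4, 19, 4, 8, 13], [-167, 155, 1044, 82, -9]⟩) (.node 1 (.leaf ⟨8, 8, true, [12, 5, 10, 16, 4, 6, 18, 2], [8, 0, 18, 17, 11, 14, 12], [220, -593, -1600, -101, 9]⟩) (.leaf ⟨8, 8, true, [17, 9, 6, 13, 14, 18, 11, 0], [8, 10, 8, 16, 15, 7, 19, 0], [58, -281, -329, -10]⟩))) (.node 1 (.leaf ⟨8, 8, true, [2, 0, 16, 5, 6, 14, 18, 3], [6, 13, 9, 17, 18, 14, 17, 0], [115, -1403, -1455, -57, 27]⟩) (.node 1 (.leaf ⟨8, 8, true, [13, 18, 2, 6, 19, 15, 7], [17, 0, 12, 7, 18, 9, 7, 4], [-170, 1841, 2011, 76, -27]⟩) (.leaf ⟨8, 8, true, [12, 5, 17, 6, 15, 4, 18], [12, 7, 19, 11, 7, 3, 5], [-97, 1393, 1224, 28, -5]⟩))))) (.node 6 (.node 3 (.node 1 (.leaf ⟨8, 8, true, [9, 7, 13, 15, 18, 11, 17], [5, 12, 14, 9, 0, 17, 9], [329, -1541, -2911,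 -135, 1]⟩) (.node 1 (.leaf ⟨8, 8, true, [19, 4, 8, 7, 18, 7, 15, 9], [18, 14, 18, 4, 6, 19, 10], [631, -3210, -5993, -269, 15]⟩) (.leaf ⟨8, 8, true, [18, 8, 14, 16, 10, 18, 6], [8, 14, 6, 19, 6, 9, 5, 18], [-578, 2772, 5437, 250, -15]⟩))) (.node 1 (.leaf ⟨8, 8, true, [9, 3, 6, 16, 11, 9, 6], [14, 11, 5, 14, 8, 0, 16, 11], [-651, 6536, 7550, 188, 20]⟩) (.node 1 (.leaf ⟨8, 8, true, [8, 16, 0, 19, 14, 9, 14, 11], [7, 8, 10, 17, 7, 12, 2], [596, -6098, -6994, -169, -20]⟩) (.leaf ⟨8, 8, true, [12, 19, 6, 12, 10, 12, 9, 11], [13, 11, 4, 9, 6, 6, 18], [290, -1665, -2781, -114, -11]⟩)))) (.node 3 (.node 1 (.leaf ⟨8, 8, true, [0, 7, 8, 7, 19, 6, 12, 19], [13, 4, 2, 6, 4, 17, 18, 7], [324, -3307, -3933, -123, 14]⟩) (.node 1 (.leaf ⟨8, 8, true, [11, 12, 4, 17, 5, 18, 0], [4, 9, 19, 7, 11, 6, 15], [516, -4443,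 -5739, -197, 14]⟩) (.leaf ⟨8, 8, true, [13, 18, 15, 13, 8, 13, 19], [10, 5, 6, 18, 6, 15, 6, 3], [-78, 931, 1048, 27, 2]⟩))) (.node 1 (.leaf ⟨8, 8, true, [3, 15, 11, 17, 7, 10, 2], [19, 5, 9, 5, 19, 0, 15], [216, -2434, -2822, -85, 14]⟩) (.node 1 (.leaf ⟨8, 8, true, [3, 15, 17, 15, 6, 19], [7, 3, 4, 15, 6, 17, 9, 3], [-131, 1030, 1391, 61, -9]⟩) (.leaf ⟨8, 8, true, [0, 17, 13, 14, 7, 0, 14], [13, 14, 13, 19, 5, 16, 4, 17], [832, -7302, -9356, -343, 39]⟩)))))))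
noncomputable def dF630 : BT Fct := (.node 22 (.node 11 (.node 5 (.node 2 (.node 1 (.leaf ⟨8, 8, true, [6, 6, 0, 7, 19, 12, 6, 3], [11, 5, 12, 18, 10, 19, 15], [511, -4562, -5304, -176, 6]⟩) (.leaf ⟨8, 8, true, [15, 19, 4, 0, 10, 17, 15, 5], [19, 9, 6, 12, 18, 13, 7], [296, -2709, -3462, -121, 1]⟩)) (.node 1 (.leaf ⟨8, 8, true, [6, 2, 17, 11, 9, 4, 9, 3], [4, 16, 0, 14, 5, 18, 2, 15], [-243, 2271, 2906, 102, -1]⟩) (.node 1 (.leaf ⟨8, 8, true, [17, 2, 14, 8, 17, 0, 9], [15, 8, 2, 4, 17, 4, 8, 19], [364, -2615, -3826, -180, 45]⟩) (.leaf ⟨8, 8, true, [12, 5, 10, 5, 9, 4, 11], [8, 0, 16, 9, 15, 3, 16], [-311, 2177, 3270, 161, -45]⟩)))) (.node 3 (.node 1 (.leaf ⟨8, 8, true, [4, 19, 7, 8, 3, 18, 11, 8], [5, 13, 8, 16, 5, 9, 4], [324, -3348, -3980, -119, 8]⟩) (.node 1 (.leaf ⟨8, 8, true, [10, 19, 12, 15,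 2, 12], [9, 3, 7, 19, 7, 13, 11], [860, -8761, -10423, -329, 37]⟩) (.leaf ⟨8, 8, true, [9, 0, 19, 11, 19, 17, 7, 0], [11, 2, 9, 4, 6, 19, 11], [356, -5588, -5484, -67, -35]⟩))) (.node 1 (.leaf ⟨8, 8, true, [19, 6, 13, 11, 15, 19, 16], [13, 11, 7, 11, 12, 4, 2, 10], [169, -1007, -1916, -80, 6]⟩) (.node 1 (.leaf ⟨8, 8, true, [3, 11, 5, 18, 14, 11], [18, 13, 8, 17, 14, 8, 6], [-224, 1445, 2472, 99, -6]⟩) (.leaf ⟨8, 8, true, [13, 16, 5, 9, 4, 7, 18], [13, 14, 7, 7, 17, 13, 3], [-1394, 12573, 15597, 521, -30]⟩))))) (.node 5 (.node 2 (.node 1 (.leaf ⟨8, 8, true, [0, 14, 5, 17, 5, 18, 13, 3], [17, 11, 13, 4, 16, 11, 19], [687, -5528, -7298, -235, -7]⟩) (.leaf ⟨8, 8, true, [7, 0, 15, 17, 4, 14, 18, 2], [4, 7, 11, 13, 19, 6, 4], [0, 978, 319, -15, 2]⟩)) (.node 1 (.leaf ⟨8, 8, true, [19, 4, 14, 5, 16, 4,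 18, 0], [16, 18, 7, 16, 18, 5, 3, 0], [57, -840, -670, -10, -4]⟩) (.node 1 (.leaf ⟨8, 8, true, [13, 2, 14, 6, 18, 2, 13], [14, 13, 0, 7, 12, 6, 12, 14], [96, -1353, -1380, -45, 14]⟩) (.leaf ⟨8, 8, true, [15, 18, 4, 17, 12, 17, 7, 3], [7, 17, 7, 14, 18, 8, 7, 18], [70, -1027, -1060, -35, 15]⟩)))) (.node 3 (.node 1 (.leaf ⟨8, 8, true, [15, 19, 11, 15, 13, 6, 16, 12], [19, 3, 4, 7, 8, 14, 13, 15], [-17, 589, 504, 16, -15]⟩) (.node 1 (.leaf ⟨8, 8, true, [5, 8, 16, 7, 11, 12, 14], [10, 9, 12, 9, 6, 13, 2], [-636, 3643, 6163, 271, -31]⟩) (.leaf ⟨8, 8, true, [12, 4, 8, 12, 7, 17, 4, 3], [14, 3, 17, 18, 5, 13, 15], [589, -6038, -6611, -184, -6]⟩))) (.node 1 (.leaf ⟨8, 8, true, [14, 13, 7, 19, 5, 16, 6], [16, 4, 8, 4, 19, 0, 11], [216, -1983, -2634, -101, 20]⟩) (.node 1 (.leaf ⟨8, 8, true, [10, 9, 14, 11,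 5, 10, 5, 3], [7, 17, 4, 18, 6, 12, 15], [-163, 1545, 2078, 82, -20]⟩) (.leaf ⟨8, 5, true, [15, 10, 9, 4, 18, 13, 14, 16], [17, 5, 8, 16, 10, 4, 7, 3], [-67, 53, 399, 37, -11]⟩)))))) (.node 11 (.node 5 (.node 2 (.node 1 (.leaf ⟨5, 8, true, [3, 6, 15, 11, 16, 3, 19, 0], [16, 14, 18, 5, 9, 14, 10, 4], [39, 50, -174, -24, 8]⟩) (.leaf ⟨8, 8, true, [9, 4, 10, 5, 7, 8, 16, 3], [4, 2, 6, 14, 5, 6, 18, 4], [-70, 1312, 1363, 2, 13]⟩)) (.node 1 (.leaf ⟨8, 8, true, [17, 7, 13, 16, 15, 0, 19, 7], [16, 2, 16, 6, 17, 13, 11], [439, -3940, -5064, -164, 9]⟩) (.node 1 (.leaf ⟨8, 8, true, [14, 17, 13, 18, 14, 12, 4, 2], [5, 8, 0, 14, 13, 3, 19, 17], [122, -1406, -1147, -28, 1]⟩) (.leaf ⟨8, 8, true, [17, 11, 0, 4, 17, 3, 17, 12], [7, 5, 17, 13, 14, 18, 3], [-247, 1269, 2327, 123, -20]⟩)))) (.node 3 (.node 1 (.leaf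 ⟨8, 8, true, [8, 12, 0, 8, 17, 18, 6, 8], [4, 10, 3, 5, 8, 15, 17], [-745, 6406, 8066, 275, -11]⟩) (.node 1 (.leaf ⟨8, 8, true, [7, 14, 18, 11, 2, 17, 6, 3], [4, 9, 12, 15, 10, 5, 17, 0], [475, -4531, -5584, -200, 21]⟩) (.leaf ⟨8, 8, true, [10, 7, 12, 7, 19, 16, 7, 0], [5, 18, 9, 6, 12, 9, 6], [534, -4460, -5713, -205, 14]⟩))) (.node 1 (.leaf ⟨8, 4, true, [3, 19, 8, 7, 11, 9], [13, 4, 8, 15, 12, 8, 15, 3], [-26, -277, 198, 27, -16]⟩) (.node 1 (.leaf ⟨4, 8, true, [10, 19, 5, 7, 2, 19, 15, 11], [8, 10, 6, 9, 18, 2], [23, 327, -165, -28, 17]⟩) (.leaf ⟨8, 8, true, [6, 8, 17, 0, 14, 17, 18, 0], [12, 18, 5, 18, 12, 10, 17, 4], [-654, 4821, 7108, 279, -31]⟩))))) (.node 6 (.node 3 (.node 1 (.leaf ⟨8, 8, true, [8, 10, 9, 12, 16, 7, 16], [11, 7, 2, 6, 17, 8, 5, 16, 0], [-898, 6709, 8913, 352, -47]⟩) (.node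 1 (.leaf ⟨8, 8, true, [11, 13, 8, 5, 19, 3, 6, 9], [18, 14, 18, 9, 11, 7, 12], [-152, 749, 1613, 81, -12]⟩) (.leaf ⟨8, 8, true, [7, 0, 12, 10, 19, 6, 8], [5, 13, 17, 15, 12, 10], [-337, 1832, 3360, 154, -38]⟩))) (.node 1 (.leaf ⟨8, 8, true, [6, 0, 18, 17, 18, 6, 19, 0], [9, 7, 18, 11, 13, 8, 2], [282, -1394, -2804, -135, 38]⟩) (.node 1 (.leaf ⟨8, 8, true, [15, 2, 17, 12, 0, 17, 2], [4, 7, 3, 15, 12, 11, 6, 2], [-779, 6322, 8105, 327, -63]⟩) (.leaf ⟨8, 8, true, [18, 5, 6, 12, 5, 12, 6, 3], [5, 15, 19, 6, 5, 17, 3], [832, -6760, -8661, -346, 63]⟩)))) (.node 3 (.node 1 (.leaf ⟨8, 8, true, [14, 12, 14, 6, 4, 11, 2], [18, 0, 17, 7, 13, 0, 17, 0], [-388, 2947, 4383, 189, -44]⟩) (.node 1 (.leaf ⟨8, 8, true, [3, 6, 4, 9, 7, 19, 11, 16], [19, 16, 2, 6, 10, 12, 14, 0], [439, -3468, -4709, -163, 12]⟩) (.leaf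 ⟨8, 8, true, [5, 12, 11, 7, 15, 3, 17, 2], [15, 9, 0, 16, 19, 6, 11, 7], [705, -6867, -8317, -242, -10]⟩))) (.node 1 (.leaf ⟨8, 8, true, [6, 14, 3, 18, 11, 5, 6, 18], [2, 6, 17, 0, 4, 19, 15, 0], [-760, 7305, 8873, 261, 10]⟩) (.node 1 (.leaf ⟨8, 8, true, [5, 2, 7, 13, 4, 8, 7, 3], [7, 14, 2, 6, 4, 7, 17, 18], [-457, 4074, 5037, 180, -26]⟩) (.leaf ⟨8, 8, true, [6, 18, 15, 6, 11, 6, 8], [4, 11, 7, 19, 13, 9, 3, 4], [143, -749, -1287, -68, 10]⟩)))))))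
noncomputable def dF675 : BT Fct := (.node 23 (.node 11 (.node 5 (.node 2 (.node 1 (.leaf ⟨8, 8, true, [8, 7, 13, 9, 5, 6, 14, 0], [18, 2, 19, 4, 14, 19, 7], [-198, 1187, 1843, 87, -10]⟩) (.leaf ⟨8, 4, true, [16, 13, 19, 7, 8, 17, 3], [16, 14, 13, 0, 17, 15, 10], [-1687, 13866, 18141, 627, -30]⟩)) (.node 1 (.leaf ⟨4, 8, true, [13, 5, 13, 11, 12, 7, 19, 8], [2, 16, 9, 6, 18, 12, 17], [1686, -13816, -18065, -625, 30]⟩) (.node 1 (.leaf ⟨8, 8, true, [18, 15, 0, 18, 11, 19, 13, 5], [6, 10, 6, 10, 0, 15, 0], [-1185, 10259, 12669, 450, -49]⟩) (.leaf ⟨8, 8, true, [7, 7, 4, 16, 6, 3, 6, 3], [9, 10, 19, 13, 5, 19, 17, 3], [-781, 8426, 9598, 242, 16]⟩)))) (.node 3 (.node 1 (.leaf ⟨8, 8, true, [11, 8, 10, 15, 12, 5, 0, 3], [9, 6, 18, 7, 16, 6, 17, 0], [726, -7988, -9042, -223, -16]⟩) (.node 1 (.leaf ⟨8, 8,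 true, [14, 3, 19, 10, 17, 9, 10, 2], [18, 7, 11, 13, 9, 15, 5, 2], [-164, 2038, 1917, 53, -3]⟩) (.leaf ⟨8, 8, true, [6, 13, 4, 18, 17, 7, 15, 5], [10, 14, 17, 18, 17, 4, 11, 3], [217, -2476, -2473, -72, 3]⟩))) (.node 1 (.leaf ⟨8, 8, true, [11, 13, 16, 4, 7, 16, 19, 0], [9, 11, 7, 13, 10, 18, 7, 0], [-134, 1543, 1992, 46, -3]⟩) (.node 1 (.leaf ⟨8, 8, true, [16, 0, 9, 16, 18, 10, 7, 2], [12, 14, 2, 7, 3, 6, 5, 13], [675, -8205, -8798, -179, -34]⟩) (.leaf ⟨8, 8, true, [18, 13, 6, 19, 13, 11, 6, 4], [16, 6, 12, 19, 6, 15, 6], [-270, 1985, 2519, 93, 5]⟩))))) (.node 6 (.node 3 (.node 1 (.leaf ⟨8, 8, true, [14, 16, 6, 10, 17, 0, 10, 2], [17, 3, 6, 16, 0, 9, 11, 0], [339, -1957, -2978, -127, 5]⟩) (.node 1 (.leaf ⟨8, 8, true, [19, 5, 13, 10, 4, 8, 6, 4], [19, 7, 3, 19, 17, 18], [-97, 995, 1167, 33, 1]⟩)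 (.leaf ⟨8, 8, true, [12, 15, 11, 2, 13, 6, 16], [7, 17, 4, 15, 3, 16, 4, 3], [175, -754, -1430, -70, -3]⟩))) (.node 1 (.leaf ⟨8, 8, true, [14, 16, 5, 18, 14, 17], [17, 7, 12, 4, 3, 14, 13], [-230, 1192, 1986, 89, 3]⟩) (.node 1 (.leaf ⟨8, 8, true, [6, 15, 10, 15, 16, 18, 4], [5, 19, 17, 14, 11, 14, 7], [232, -1691, -2323, -88, 6]⟩) (.leaf ⟨8, 8, true, [6, 10, 17, 5, 11, 6], [9, 4, 7, 15, 13, 4, 3], [384, -2335, -3706, -168, 11]⟩)))) (.node 3 (.node 1 (.leaf ⟨8, 8, true, [16, 8, 6, 14, 17, 7, 18, 3], [11, 13, 16, 4, 7, 2, 18], [-1259, 9845, 13096, 458, -6]⟩) (.node 1 (.leaf ⟨6, 6, true, [3, 7, 2, 18, 5, 18, 0], [14, 7, 0, 13], [-224, 1276, 1758, 78]⟩) (.leaf ⟨8, 8, true, [8, 6, 9, 0, 10, 15, 13, 2], [16, 2, 14, 12, 11, 13, 9], [-793, 5449, 7797, 324, -26]⟩))) (.node 1 (.leaf ⟨8, 8, true, [14, 17,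 3, 6, 12, 10, 12], [4, 6, 11, 8, 4, 16, 0, 2], [738, -5011, -7241, -305, 26]⟩) (.node 1 (.leaf ⟨8, 8, true, [2, 10, 16, 0, 18, 11, 13], [2, 0, 17, 14, 9, 16, 6, 4], [99, -1968, -1848, -23, -1]⟩) (.leaf ⟨8, 8, true, [19, 3, 4, 7, 15, 19, 15], [15, 16, 15, 18, 12, 19, 2], [-230, 1701, 2603, 122, -36]⟩)))))) (.node 11 (.node 5 (.node 2 (.node 1 (.leaf ⟨8, 8, true, [3, 16, 13, 19, 6, 13, 7], [10, 0, 10, 14, 10, 19, 14, 2], [1147, -9419, -12231, -483, 84]⟩) (.leaf ⟨8, 8, true, [3, 8, 5, 7, 18, 15, 8], [6, 12, 7, 18, 12, 17, 2], [-1094, 8981, 11675, 464, -84]⟩)) (.node 1 (.leaf ⟨8, 8, true, [19, 4, 16, 18, 10, 14, 9, 0], [14, 18, 8, 7, 11, 8, 19], [325, -2135, -3429, -158, 24]⟩) (.node 1 (.leaf ⟨8, 8, true, [18, 0, 11, 7, 14, 8, 6], [0, 10, 16, 6, 12, 2, 14], [1571, -11910, -16358, -619, 55]⟩) (.leaf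 ⟨8, 3, true, [14, 4, 15, 18, 5, 12, 4], [9, 10, 17, 0, 13, 4, 7], [953, -8009, -10578, -385, 33]⟩)))) (.node 3 (.node 1 (.leaf ⟨3, 8, true, [5, 18, 3, 15, 17, 13, 0], [5, 13, 4, 19, 14, 13, 5], [-957, 8069, 10613, 385, -33]⟩) (.node 1 (.leaf ⟨8, 8, true, [10, 5, 18, 13, 11, 0, 14, 0], [4, 10, 2, 18, 17, 8, 14, 6], [-819, 8461, 10236, 292, -10]⟩) (.leaf ⟨8, 5, true, [19, 14, 6, 15, 9, 14, 2], [7, 8, 11, 7, 18], [-662, 5266, 7162, 280, -42]⟩))) (.node 1 (.leaf ⟨5, 8, true, [6, 15, 12, 4, 19, 6, 19, 0], [3, 15, 8, 14, 7, 15, 18], [649, -5161, -6959, -273, 42]⟩) (.node 1 (.leaf ⟨8, 8, true, [19, 6, 15, 16, 18, 6, 3], [14, 4, 6, 19, 6, 19, 6, 3], [-345, 2707, 3488, 120, 5]⟩) (.leaf ⟨8, 8, true, [15, 7, 10, 4, 8, 4, 16], [9, 0, 19, 17, 14, 7, 18], [398, -3145, -4044, -139, -5]⟩))))) (.node 6 (.node 3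 (.node 1 (.leaf ⟨4, 8, true, [13, 0, 17, 4, 15, 16, 11], [9, 4, 0, 13, 16, 6, 6], [-517, 3758, 4840, 210, -46]⟩) (.node 1 (.leaf ⟨8, 4, true, [0, 15, 12, 0, 12, 16, 0], [10, 17, 14, 5, 16, 0, 12], [570, -4196, -5396, -229, 46]⟩) (.leaf ⟨8, 4, true, [14, 6, 10, 13, 7, 13, 4], [6, 5, 19, 10, 13, 18, 6, 3], [63, -1109, -939, -11, -8]⟩))) (.node 1 (.leaf ⟨4, 8, true, [4, 10, 17, 2, 14, 5, 10], [10, 4, 13, 15, 7, 9, 14], [-61, 1121, 997, 13, 8]⟩) (.node 1 (.leaf ⟨8, 4, true, [18, 10, 16, 19, 14, 8, 2], [14, 19, 5, 13, 3, 19, 7], [1278, -11249, -14309, -459, 4]⟩) (.leaf ⟨4, 8, true, [7, 7, 15, 5, 19, 17, 0], [7, 0, 15, 18, 17, 11, 19], [-1278, 11273, 14336, 458, -3]⟩)))) (.node 3 (.node 1 (.leaf ⟨8, 8, true, [18, 0, 14, 8, 16, 8, 19, 3], [7, 17, 13, 14, 3, 17, 5, 2], [6, -154, -118, 8, -7]⟩) (.node 1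 (.leaf ⟨8, 8, true, [13, 18, 13, 8, 4, 8, 4], [19, 15, 8, 16, 11, 16, 12], [-554, 4460, 5815, 211, -24]⟩) (.leaf ⟨8, 8, true, [12, 5, 9, 18, 6, 13, 18, 13], [2, 14, 12, 6, 4, 15, 7], [-709, 5652, 7527, 257, -8]⟩))) (.node 1 (.leaf ⟨8, 8, true, [11, 14, 19, 4, 2, 6, 8], [7, 0, 5, 19, 13, 5, 6, 4], [-405, 3318, 4905, 153, -1]⟩) (.node 1 (.leaf ⟨8, 8, true, [6, 17, 13, 14, 0, 15, 13, 2], [2, 4, 8, 4, 7, 16, 3], [-526, 4119, 5557, 196, -26]⟩) (.leaf ⟨8, 8, true, [10, 7, 4, 17, 6, 19, 8, 10], [15, 16, 18, 6, 17, 18, 14, 0], [579, -4557, -6113, -215, 26]⟩)))))))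
noncomputable def dF721 : BT Fct := (.node 22 (.node 11 (.node 5 (.node 2 (.node 1 (.leaf ⟨8, 8, true, [12, 10, 18, 14, 5, 19, 17, 3], [7, 0, 5, 12, 10, 5, 19], [-150, 1627, 1895, 62, -10]⟩) (.leaf ⟨8, 8, true, [2, 19, 6, 13, 7, 16, 18], [19, 10, 8, 5, 7, 10, 14, 19], [-446, 3999, 5223, 159, -3]⟩)) (.node 1 (.leaf ⟨8, 8, true, [10, 15, 5, 19, 5, 19, 13], [5, 0, 9, 12, 17, 5, 7], [-396, 2888, 4505, 150, -1]⟩) (.node 1 (.leaf ⟨8, 8, true, [3, 8, 13, 5, 17, 0, 11, 0], [11, 12, 0, 18, 4, 18, 0, 7], [-341, 2051, 3298, 149]⟩) (.leaf ⟨8, 8, true, [4, 8, 13, 4, 8, 12, 16, 2], [0, 10, 0, 16, 14, 4, 9, 2], [394, -2489, -3854, -168]⟩)))) (.node 3 (.node 1 (.leaf ⟨8, 8, true, [6, 18, 13, 5, 8, 7, 3], [9, 13, 18, 14, 9, 6, 11], [90, -843, -1268, -47, 14]⟩) (.node 1 (.leaf ⟨8, 8, true, [11, 8, 17, 8, 15, 18,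 4, 3], [11, 18, 10, 9, 16, 9, 0], [-215, 2578, 2925, 77, 3]⟩) (.leaf ⟨8, 8, true, [8, 14, 18, 13, 7, 8, 15, 0], [3, 14, 8, 7, 15, 6, 19], [-698, 6093, 8116, 269, -21]⟩))) (.node 1 (.leaf ⟨8, 8, true, [2, 13, 10, 17, 11, 19, 7], [9, 4, 19, 10, 17, 11, 9, 0], [751, -6531, -8672, -288, 21]⟩) (.node 1 (.leaf ⟨8, 8, true, [14, 13, 5, 7, 18, 6, 2], [11, 12, 11, 12, 4, 9, 2, 0], [-804, 7713, 9947, 276, 35]⟩) (.leaf ⟨8, 8, true, [19, 13, 11, 19, 16, 19, 5], [9, 7, 8, 5, 3, 15, 5, 3], [-148, 1054, 1567, 66, -8]⟩))))) (.node 5 (.node 2 (.node 1 (.leaf ⟨8, 8, true, [10, 2, 17, 7, 8, 19, 6], [19, 0, 10, 19, 17, 11, 8], [-298, 2318, 3174, 141, -14]⟩) (.leaf ⟨8, 8, true, [6, 10, 7, 18, 5, 9, 4, 3], [5, 11, 0, 17, 12, 4, 3, 6], [366, -2363, -3124, -129, 14]⟩)) (.node 1 (.leaf ⟨8, 8, true, [16, 11, 9, 15, 16, 11,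 2], [17, 8, 10, 17, 0, 15, 12, 0], [-1075, 8367, 11048, 414, -38]⟩) (.node 1 (.leaf ⟨8, 8, true, [5, 19, 5, 19, 7, 8, 15, 0], [4, 0, 7, 13, 19, 10, 17], [1128, -8805, -11604, -433, 38]⟩) (.leaf ⟨8, 8, true, [15, 5, 7, 8, 5, 18, 12, 3], [10, 7, 15, 19, 6, 13, 8, 2], [-753, 6817, 8519, 265, -4]⟩)))) (.node 3 (.node 1 (.leaf ⟨8, 4, true, [6, 15, 7, 8, 0, 17, 6, 4], [15, 7, 5, 11, 14, 8, 10], [-373, 3210, 4263, 150, -15]⟩) (.node 1 (.leaf ⟨4, 8, true, [3, 15, 16, 6, 13, 17, 14, 3], [7, 4, 18, 5, 13, 11, 9, 0], [373, -3186, -4236, -151, 16]⟩) (.leaf ⟨8, 8, true, [17, 9, 7, 4, 9, 16, 18, 3], [14, 13, 6, 18, 10, 18, 7], [1160, -9174, -12396, -439, 19]⟩))) (.node 1 (.leaf ⟨8, 8, true, [12, 14, 3, 16, 11, 12, 16, 10], [8, 17, 4, 18, 14, 17, 13, 0], [875, -7113, -8896, -303, 10]⟩) (.node 1 (.leaf ⟨8, 8, true,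 [15, 5, 17, 0, 11, 5, 11], [15, 12, 15, 0, 18, 6, 10, 3], [-930, 7551, 9452, 322, -10]⟩) (.leaf ⟨8, 8, true, [4, 2, 5, 9, 10, 6, 18], [16, 9, 17, 11, 12, 15, 16], [-217, 525, 1473, 101, -5]⟩)))))) (.node 11 (.node 5 (.node 2 (.node 1 (.leaf ⟨8, 8, true, [4, 18, 0, 15, 2, 13, 14, 9], [17, 7, 15, 19, 4, 9, 14, 13], [-104, 1492, 1546, 17, 33]⟩) (.leaf ⟨8, 8, true, [13, 8, 10, 13, 18, 14, 11], [15, 17, 8, 4, 19, 8, 14, 2], [188, -2009, -2325, -60, -17]⟩)) (.node 1 (.leaf ⟨8, 8, true, [17, 7, 10, 14, 7, 13, 5, 3], [17, 10, 14, 10, 14, 10, 0], [-531, 4935, 5518, 178, -7]⟩) (.node 1 (.leaf ⟨8, 5, true, [6, 11, 3, 7, 3, 14, 13], [18, 3, 17, 14, 11, 17, 13, 0], [-136, 917, 1313, 62, -11]⟩) (.leaf ⟨5, 8, true, [0, 17, 10, 9, 17, 12, 8, 0], [12, 15, 2, 6, 2, 10, 7], [228, -1597, -2261, -98, 14]⟩)))) (.node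 3 (.node 1 (.leaf ⟨8, 5, true, [11, 3, 6, 5, 9, 4, 14, 19], [18, 3, 16, 6, 16, 0, 13, 0], [187, -952, -1643, -77, 3]⟩) (.node 1 (.leaf ⟨5, 8, true, [9, 10, 13, 5, 19, 13], [13, 6, 0, 14, 0, 15, 6, 10], [-83, 167, 492, 34]⟩) (.leaf ⟨5, 8, true, [19, 6, 6, 19, 6, 8, 17], [9, 16, 18, 6, 17, 14, 0, 4], [205, -1449, -2041, -87, 12]⟩))) (.node 1 (.leaf ⟨8, 8, true, [0, 10, 19, 2, 14, 13, 4, 0], [0, 15, 17, 11, 8, 14, 8], [963, -7653, -10124, -391, 38]⟩) (.node 1 (.leaf ⟨8, 8, true, [19, 14, 18, 9, 11, 7, 2, 0], [4, 0, 7, 19, 0, 19, 5, 3], [319, -2466, -3260, -125, 18]⟩) (.leaf ⟨8, 8, true, [7, 14, 13, 19, 5, 0, 15], [8, 14, 19, 10, 7, 9, 18, 2], [-266, 2028, 2704, 106, -18]⟩))))) (.node 6 (.node 3 (.node 1 (.leaf ⟨8, 8, true, [9, 14, 9, 11, 18, 15, 11, 2], [19, 15, 7, 16, 19, 13, 8, 3], [-852, 7118, 9384,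 331, -31]⟩) (.node 1 (.leaf ⟨5, 8, true, [16, 6, 11, 9, 15, 7, 16], [15, 2, 6, 4, 17, 11, 6, 2], [-358, 3494, 5006, 158, -5]⟩) (.leaf ⟨8, 5, true, [19, 0, 12, 11, 5, 13, 10, 2], [4, 18, 5, 6, 14, 7, 11, 3], [85, -1240, -1138, 8, -36]⟩))) (.node 1 (.leaf ⟨5, 8, true, [10, 13, 15, 3, 17, 13, 9], [5, 8, 0, 5, 18, 17, 5, 18], [-56, 1085, 886, -21, 39]⟩) (.node 1 (.leaf ⟨8, 8, true, [5, 13, 15, 4, 8, 12, 5, 0], [14, 10, 4, 10, 13, 9, 0, 2], [592, -5801, -6566, -203, 3]⟩) (.leaf ⟨8, 8, true, [9, 5, 10, 14, 10, 16, 18], [15, 8, 15, 12, 19, 17, 13, 0], [-647, 6239, 7122, 222, -3]⟩)))) (.node 3 (.node 1 (.leaf ⟨8, 8, true, [17, 5, 9, 18, 5, 13, 7, 2], [8, 18, 6, 19, 15, 7, 17], [-45, 968, 1220, 30, -13]⟩) (.node 1 (.leaf ⟨8, 8, true, [11, 7, 15, 7, 17, 0, 14], [8, 11, 2, 7, 12, 4, 17, 5], [464, -4569, -5831,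 -141, -20]⟩) (.leaf ⟨8, 8, true, [10, 4, 10, 14, 17, 10, 17, 3], [14, 5, 9, 5, 17, 5, 10], [392, -3062, -4293, -167, 28]⟩))) (.node 1 (.leaf ⟨8, 8, true, [8, 4, 18, 11, 15, 13, 14, 2], [7, 14, 11, 17, 10, 16, 0, 2], [-339, 2624, 3737, 148, -28]⟩) (.node 1 (.leaf ⟨8, 8, true, [3, 17, 0, 17, 12, 3, 19], [13, 0, 5, 16, 19, 16, 9, 0], [148, -2750, -2834, -65, 18]⟩) (.leaf ⟨6, 6, true, [12, 9, 10, 7, 4, 17, 5, 3], [18, 13, 19, 13, 7, 9, 7], [1458, -11079, -15152, -559, 44]⟩)))))))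
noncomputable def dF766 : BT Fct := (.node 22 (.node 11 (.node 5 (.node 2 (.node 1 (.leaf ⟨8, 8, true, [17, 14, 19, 14, 19, 13, 16, 3], [18, 7, 8, 4, 19, 12, 9, 2], [-578, 3716, 5643, 229, -21]⟩) (.leaf ⟨8, 8, true, [16, 7, 11, 12, 9, 3, 19], [14, 19, 0, 17, 8, 15, 9, 4], [186, -1392, -2105, -94, 11]⟩)) (.node 1 (.leaf ⟨8, 8, true, [5, 12, 0, 12, 4, 16, 18, 15], [6, 4, 19, 5, 6, 12, 16], [-820, 7388, 9172, 293, -23]⟩) (.node 1 (.leaf ⟨8, 8, true, [6, 18, 18, 2, 15, 0], [15, 5, 2, 6, 17, 9, 6, 3], [1757, -13536, -18331, -677, 58]⟩) (.leaf ⟨8, 8, true, [15, 8, 15, 8, 5, 16, 19, 3], [0, 14, 3, 18, 18, 7], [-1704, 13098, 17775, 658, -58]⟩)))) (.node 3 (.node 1 (.leaf ⟨8, 8, true, [6, 3, 19, 5, 8, 6, 18], [2, 6, 4, 8, 7, 10, 4, 0], [188, -1396, -2130, -94, 10]⟩) (.node 1 (.leaf ⟨8, 8, true, [13, 6, 4,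 19, 17, 6, 13, 3], [9, 15, 9, 5, 7, 10, 0, 2], [-1017, 8344, 11277, 403, -37]⟩) (.leaf ⟨8, 8, true, [15, 6, 9, 6, 17, 18, 10, 4], [10, 18, 7, 18, 6, 11, 16, 2], [962, -7906, -10721, -384, 37]⟩))) (.node 1 (.leaf ⟨8, 8, true, [19, 14, 3, 16, 5, 13, 8, 2], [17, 6, 18, 15, 12, 6, 6, 0], [1791, -13325, -18846, -717, 62]⟩) (.node 1 (.leaf ⟨8, 8, true, [18, 9, 7, 18, 15, 18, 18], [13, 14, 0, 19, 14, 7, 14, 5], [-1738, 12887, 18290, 698, -62]⟩) (.leaf ⟨8, 8, true, [15, 0, 15, 3, 17, 4, 9], [7, 15, 0, 14, 8, 6, 16, 19], [-767, 7278, 9300, 295, -21]⟩))))) (.node 5 (.node 2 (.node 1 (.leaf ⟨5, 8, true, [11, 7, 12, 7, 14, 18, 6], [10, 2, 8, 0, 15, 11, 16, 2], [74, -265, -486, -46, 25]⟩) (.leaf ⟨8, 8, true, [6, 16, 4, 11, 2, 13, 4, 2], [17, 4, 18, 15, 13, 10, 12], [-144, 736, 1706, 65, -1]⟩)) (.node 1 (.leaf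 ⟨8, 8, true, [0, 7, 4, 16, 11, 9, 3], [15, 19, 13, 14, 11, 17, 9, 2], [197, -1174, -2262, -84, 1]⟩) (.node 1 (.leaf ⟨8, 8, true, [8, 10, 7, 12, 18, 13, 5, 0], [10, 8, 14, 6, 14, 9, 19], [96, -895, -1096, -32, -1]⟩) (.leaf ⟨8, 8, true, [0, 10, 0, 12, 17, 15, 19, 5], [10, 12, 10, 15, 13, 19, 13, 0], [-667, 4949, 6916, 266, -29]⟩)))) (.node 3 (.node 1 (.leaf ⟨8, 8, true, [7, 7, 17, 8, 7, 11, 13, 0], [17, 0, 14, 18, 5, 17, 8, 0], [51, 491, -443, -67, 29]⟩) (.node 1 (.leaf ⟨8, 8, true, [7, 15, 16, 6, 12, 5, 7, 2], [5, 2, 8, 14, 7, 18, 11, 2], [425, -3387, -4642, -172, 10]⟩) (.leaf ⟨8, 8, true, [4, 10, 14, 18, 4, 17, 13], [2, 12, 14, 16, 15, 18], [-799, 5872, 7887, 350, -41]⟩))) (.node 1 (.leaf ⟨8, 8, true, [2, 12, 7, 17, 5, 2, 12, 0], [15, 2, 5, 13, 7, 19, 11, 3], [-151, 1002, 1337, 74, -17]⟩) (.node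 1 (.leaf ⟨8, 8, true, [0, 7, 9, 11, 17, 14, 11], [12, 2, 19, 17, 11, 4, 17, 0], [560, -4933, -6157, -218, 10]⟩) (.leaf ⟨8, 8, true, [8, 15, 13, 6, 4, 19, 13], [11, 18, 17, 18, 4, 10, 3], [769, -6956, -8902, -292, 15]⟩)))))) (.node 11 (.node 5 (.node 2 (.node 1 (.leaf ⟨8, 8, true, [10, 5, 16, 15, 8, 17, 0, 2], [6, 2, 9, 15, 8, 11, 16], [417, -7154, -6760, -74, -49]⟩) (.leaf ⟨8, 8, true, [15, 6, 12, 16, 2, 15, 7, 4], [5, 7, 19, 17, 5, 17, 19], [153, -1187, -1676, -90, 20]⟩)) (.node 1 (.leaf ⟨6, 6, true, [6, 18, 7, 10, 3, 7, 10], [7, 14, 5, 16, 3, 18, 9, 10], [-308, 2495, 3274, 110, -6]⟩) (.node 1 (.leaf ⟨3, 9, true, [3, 0, 3], [], []⟩) (.leaf ⟨9, 9, false, [14, 10, 0, 5, 7, 10, 15, 4], [], [-72, 553, 723, 24]⟩)))) (.node 3 (.node 1 (.leaf ⟨9, 8, true, [10, 8, 5, 8, 16, 2, 12, 7], [18, 9, 11, 14, 7,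 12, 4, 0], [43, -199, -345, -14]⟩) (.node 1 (.leaf ⟨8, 9, true, [19, 6, 14, 11, 17, 18, 13], [19, 4, 3, 17, 11, 4, 17, 7], [10, -239, -211, -5]⟩) (.leaf ⟨9, 4, true, [16, 10, 17, 11, 3, 16, 13], [11, 6, 14, 7, 18, 9, 2, 0], [22, 144, 11, -17, 8]⟩))) (.node 1 (.leaf ⟨4, 9, true, [6, 3, 0, 15, 13, 7, 8, 12], [12, 17, 2, 10, 16, 11, 17], [-22, -120, 16, 16, -7]⟩) (.node 1 (.leaf ⟨9, 9, false, [12, 8, 15, 8, 6, 13, 0, 3], [], [-2, 54, 42, -1, 1]⟩) (.leaf ⟨9, 8, true, [18, 12, 4, 10, 19, 10, 9], [8, 16, 8, 11, 4, 18, 6, 4], [320, -2943, -3610, -113, 1]⟩))))) (.node 6 (.node 3 (.node 1 (.leaf ⟨8, 9, true, [9, 5, 8, 17, 9, 15, 9], [8, 11, 18, 11, 5, 13, 19], [-267, 2505, 3054, 94, -1]⟩) (.node 1 (.leaf ⟨9, 6, true, [17, 11, 14, 8, 10, 6, 12, 3], [9, 16, 18, 7, 12, 11, 6], [1, -10, -17, -1]⟩) (.leaf ⟨6,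 9, true, [4, 16, 0, 7, 15, 11, 12, 9], [7, 5, 14, 9, 12, 11, 4, 3], [-44, 442, 516, 14]⟩))) (.node 1 (.leaf ⟨9, 5, true, [9, 0, 15, 13, 9, 13, 18, 2], [19, 17, 0, 15, 4, 19, 5, 19], [-26, 245, 265, 7]⟩) (.node 1 (.leaf ⟨5, 9, true, [4, 15, 2, 11, 4, 17, 5, 7], [7, 2, 11, 17, 9, 14, 6, 4], [208, -1712, -2342, -80, 3]⟩) (.leaf ⟨9, 8, true, [11, 12, 19, 4, 7, 8, 16, 2], [13, 16, 15, 6, 18, 0, 18], [67, -455, -627, -22]⟩)))) (.node 3 (.node 1 (.leaf ⟨9, 9, true, [15, 10, 5, 8, 11, 19, 7], [17, 10, 19, 4, 16, 3], [82, -672, -872, -29]⟩) (.node 1 (.leaf ⟨9, 8, true, [12, 10, 4, 11, 2, 12], [8, 6, 14, 4, 6, 14, 18, 2], [399, -3428, -4299, -140, 2]⟩) (.leaf ⟨9, 8, true, [0, 7, 10, 9, 17, 0, 15], [13, 7, 14, 18, 12, 8, 3, 4], [318, -2774, -3521, -116, 2]⟩))) (.node 1 (.leaf ⟨8, 9, true, [4, 2, 6, 16, 10,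 8, 16], [14, 0, 16, 8, 11, 6, 0], [-373, 3212, 4077, 135, -2]⟩) (.node 1 (.leaf ⟨9, 4, true, [18, 10, 6, 13, 0, 17, 12], [5, 0, 11, 18, 11, 6, 10], [-89, 1030, 1219, 23, 8]⟩) (.leaf ⟨4, 9, true, [17, 18, 12, 19, 6, 5, 18], [13, 16, 0, 12, 7, 11, 19], [88, -980, -1143, -21, -8]⟩)))))))
noncomputable def dF811 : BT Fct := (.node 22 (.node 11 (.node 5 (.node 2 (.node 1 (.leaf ⟨9, 4, true, [15, 10, 2, 9, 17, 6, 10, 15], [4, 10, 6, 8, 3, 14, 12], [-22, 210, 231, 6]⟩) (.leaf ⟨4, 9, true, [0, 15, 5, 9, 16, 10, 15, 7], [14, 11, 7, 16, 8, 5, 3, 14], [21, -172, -167, -4]⟩)) (.node 1 (.leaf ⟨9, 8, true, [12, 15, 5, 13, 10, 17, 2, 15], [11, 4, 7, 16, 5, 19, 4, 3], [-989, 8315, 10923, 396, -33]⟩) (.node 1 (.leaf ⟨9, 9, true, [6, 18, 10, 18, 4, 15, 2], [5, 11, 15, 16, 10, 17, 2], [111, -936, -1209, -38, -1]⟩)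 (.leaf ⟨9, 8, true, [19, 7, 16, 11, 12, 17, 13], [12, 3, 8, 6, 17, 7, 11, 2], [450, -3965, -4916, -158, 2]⟩)))) (.node 3 (.node 1 (.leaf ⟨8, 9, true, [9, 0, 7, 5, 16, 0, 18, 0], [17, 8, 12, 10, 17, 6, 18], [-505, 4403, 5472, 177, -2]⟩) (.node 1 (.leaf ⟨9, 5, true, [10, 13, 6, 4, 14, 10, 18], [0, 19, 5, 2, 18, 11, 19, 3], [167, -1730, -2029, -48, -8]⟩) (.leaf ⟨5, 9, true, [16, 9, 11, 5, 11, 5, 18], [17, 8, 0, 15, 19, 15, 5], [-273, 2515, 3180, 91, 5]⟩))) (.node 1 (.leaf ⟨9, 9, true, [6, 2, 9, 11, 18, 4, 14], [15, 16, 4, 19, 4, 18, 0, 17], [-11, 63, 82, 3]⟩) (.node 1 (.leaf ⟨9, 9, true, [4, 17, 2, 13, 15, 6, 12], [15, 18, 15, 13, 0, 18, 7, 0], [13, -117, -183, -7]⟩) (.leaf ⟨9, 8, true, [14, 13, 8, 7, 14, 5, 18], [9, 0, 3, 14, 13, 6, 8, 0], [115, -1220, -1297, -27, -6]⟩))))) (.node 5 (.node 2 (.node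 1 (.leaf ⟨8, 9, true, [5, 19, 3, 6, 8, 4, 10, 5], [19, 4, 15, 6, 9, 12, 15], [-62, 782, 741, 8, 6]⟩) (.leaf ⟨9, 8, true, [11, 14, 16, 19, 3, 6, 17], [2, 16, 18, 17, 4, 17, 0], [236, -1994, -2526, -77, 4]⟩)) (.node 1 (.leaf ⟨8, 9, true, [16, 3, 16, 6, 17, 11, 0, 2], [16, 7, 9, 19, 12, 17, 2], [-291, 2432, 3082, 96, -4]⟩) (.node 1 (.leaf ⟨8, 9, true, [14, 18, 15, 4, 6, 19, 11, 3], [8, 6, 14, 13, 9, 4, 8, 2], [89, -1335, -1419, -32, 10]⟩) (.leaf ⟨9, 8, true, [8, 7, 7, 16, 6, 18, 14, 0], [6, 18, 5, 8, 4, 8, 19, 12], [-18, 782, 696, 8, -10]⟩)))) (.node 3 (.node 1 (.leaf ⟨9, 9, false, [14, 6, 0, 17, 14, 13, 5, 17, 2], [], [1717, -14501, -18772, -669, 49]⟩) (.node 1 (.leaf ⟨8, 9, true, [7, 13, 11, 18, 9, 0], [3, 14, 0, 16, 0, 12, 0], [109, -487, -1507, -89, 30]⟩) (.leaf ⟨9, 8, true, [12, 0, 12, 14, 0,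 17, 11, 0], [0, 8, 19, 10, 12, 6], [-36, -120, 742, 66, -31]⟩))) (.node 1 (.leaf ⟨9, 9, false, [3, 19, 7, 4, 19, 12, 14], [], [331, -2453, -4067, -167, 28]⟩) (.node 1 (.leaf ⟨9, 9, true, [8, 7, 3, 14, 16, 7, 3], [5, 19, 6, 8, 4, 0, 7, 2], [33, -258, -342, -11, -1]⟩) (.leaf ⟨8, 9, true, [18, 17, 8, 15, 0, 11, 0], [10, 8, 12, 15, 19, 8, 14], [-411, 3430, 4490, 154, -10]⟩)))))) (.node 11 (.node 5 (.node 2 (.node 1 (.leaf ⟨9, 8, true, [15, 7, 7, 15, 0, 9, 10, 17], [12, 3, 15, 9, 11, 16, 19], [2127, -17931, -23262, -823, 59]⟩) (.leaf ⟨9, 8, true, [18, 7, 11, 19, 13, 19, 12], [7, 0, 6, 4, 10, 5, 19, 3], [2154, -18086, -23548, -834, 59]⟩)) (.node 1 (.leaf ⟨8, 9, true, [12, 5, 19, 12, 17, 6, 18, 2], [13, 18, 12, 18, 10, 6, 19], [-2101, 17648, 22992, 815, -59]⟩) (.node 1 (.leaf ⟨6, 9, true, [14, 3, 8, 16,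 4, 19, 5, 17], [4, 0, 12, 6, 15, 11, 13, 2], [-520, 3928, 5458, 216, -17]⟩) (.leaf ⟨9, 6, true, [7, 8, 5, 18, 12, 10, 9, 3], [13, 0, 18, 5, 16, 8, 15, 19], [2236, -18429, -24230, -885, 66]⟩)))) (.node 3 (.node 1 (.leaf ⟨8, 9, true, [17, 12, 3, 4, 9, 7, 15, 8], [0, 10, 2, 17, 18, 9, 4], [-1198, 9223, 12698, 485, -44]⟩) (.node 1 (.leaf ⟨9, 8, true, [12, 7, 8, 0, 13, 14, 11, 2], [15, 5, 18, 18, 4, 7, 12, 2], [-779, 7178, 9418, 327, -33]⟩) (.leaf ⟨9, 9, true, [19, 13, 0, 18, 7, 3, 4, 7], [7, 8, 11, 19, 4, 2], [416, -3197, -5047, -195, 25]⟩))) (.node 1 (.leaf ⟨8, 9, true, [15, 9, 0, 14, 3, 8, 12, 15], [13, 8, 0, 14, 18, 2, 14], [-60, 545, 741, 20, -4]⟩) (.node 1 (.leaf ⟨9, 8, true, [0, 16, 18, 6, 18, 14, 6], [17, 18, 14, 5, 16, 2, 17, 3], [133, -1152, -1506, -43, 3]⟩) (.leaf ⟨8, 9, true, [0, 5, 19, 13,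 7, 8, 5, 0], [8, 6, 16, 12, 0, 19, 10], [1480, -11359, -15435, -553, 30]⟩))))) (.node 6 (.node 3 (.node 1 (.leaf ⟨9, 8, true, [19, 17, 11, 16, 5, 10, 0], [0, 4, 9, 6, 12, 18, 4, 0], [-1150, 8906, 11368, 386, -2]⟩) (.node 1 (.leaf ⟨8, 9, true, [10, 19, 17, 14, 3, 19, 11], [0, 14, 10, 15, 17, 2, 16, 2], [642, -5879, -7671, -257, 20]⟩) (.leaf ⟨9, 8, true, [19, 10, 9, 6, 19, 16, 3, 14], [10, 18, 2, 15, 16, 18, 11], [1074, -8622, -11101, -412, 29]⟩))) (.node 1 (.leaf ⟨8, 9, true, [4, 14, 17, 14, 6, 15, 4, 2], [10, 12, 7, 9, 6, 18, 11], [-175, 1404, 1947, 73, -5]⟩) (.node 1 (.leaf ⟨9, 8, true, [4, 6, 14, 12, 3, 14, 13], [8, 3, 5, 7, 15, 16, 15, 5], [-1802, 14997, 20169, 739, -72]⟩) (.leaf ⟨8, 9, true, [0, 10, 13, 17, 0, 7, 10, 4], [6, 9, 14, 19, 13, 16, 11], [1828, -15250, -19918, -698, 36]⟩)))) (.node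 3 (.node 1 (.leaf ⟨8, 9, true, [9, 10, 0, 4, 10, 12, 6, 16, 2], [12, 7, 16, 5, 7, 9, 18], [-282, 2200, 3155, 114, -10]⟩) (.node 1 (.leaf ⟨9, 8, true, [5, 15, 19, 13, 11, 0, 3], [7, 10, 2, 7, 16, 5, 13, 9, 4], [353, -2753, -3878, -138, 10]⟩) (.leaf ⟨9, 9, true, [13, 0, 18, 14, 12, 14, 13, 2], [12, 0, 16, 4, 6, 14, 12, 3], [15, -136, -191, -6, -1]⟩))) (.node 1 (.leaf ⟨8, 9, true, [16, 3, 14, 6, 10, 9, 13, 0], [17, 10, 6, 17, 7, 17, 14], [-53, 627, 636, 22, -3]⟩) (.node 1 (.leaf ⟨9, 8, true, [15, 6, 17, 5, 3, 17, 12], [10, 0, 14, 5, 3, 17, 11, 0], [-1924, 15774, 21480, 790, -74]⟩) (.leaf ⟨8, 9, true, [16, 8, 15, 18, 10, 13, 9, 3], [11, 8, 5, 18, 14, 11, 12, 2], [1001, -8220, -11052, -413, 40]⟩)))))))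
noncomputable def dF856 : BT Fct := (.node 22 (.node 11 (.node 5 (.node 2 (.node 1 (.leaf ⟨9, 8, true, [9, 15, 19, 10, 5, 18, 6, 2], [16, 3, 9, 17, 4, 17, 18, 3], [-930, 7667, 10329, 389, -40]⟩) (.leaf ⟨8, 9, true, [2, 9, 16, 14, 6, 19, 0], [11, 6, 8, 10, 19, 5, 6, 4], [-125, 830, 1302, 77, -24]⟩)) (.node 1 (.leaf ⟨9, 8, true, [19, 16, 6, 2, 6, 10, 12, 0], [0, 18, 7, 15, 17, 8, 3], [-1262, 11218, 13403, 425, 3]⟩) (.node 1 (.leaf ⟨8, 9, true, [16, 7, 0, 12, 6, 5, 12, 6], [0, 14, 7, 19, 0, 19, 13, 0], [498, -4423, -5693, -184, 8]⟩) (.leaf ⟨9, 8, true, [15, 8, 10, 6, 19, 17, 14, 0], [7, 9, 0, 9, 16, 9, 11, 17], [-2216, 18924, 24465, 853, -57]⟩)))) (.node 3 (.node 1 (.leaf ⟨8, 9, true, [16, 4, 8, 2, 15, 8, 16, 3], [12, 2, 15, 9, 4, 15, 19, 2], [1320, -11233, -14517, -519, 53]⟩) (.node 1 (.leaf ⟨9, 8,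 true, [8, 5, 16, 18, 13, 15, 8], [7, 4, 11, 7, 8, 17, 12, 3], [468, -3821, -4978, -174, -4]⟩) (.leaf ⟨8, 9, true, [12, 11, 0, 12, 18, 6, 16, 10], [10, 19, 13, 3, 8, 13, 14], [-76, 300, 496, 60, -26]⟩))) (.node 1 (.leaf ⟨9, 8, true, [8, 5, 13, 3, 8, 5, 10], [14, 5, 7, 15, 2, 11, 14, 7], [77, -354, -538, -59, 25]⟩) (.node 1 (.leaf ⟨8, 9, true, [18, 5, 0, 16, 15, 7, 17, 10], [10, 17, 9, 15, 11, 16, 6, 2], [-119, 1218, 1418, 50, -3]⟩) (.leaf ⟨9, 8, true, [19, 9, 7, 18, 6, 16, 0], [10, 5, 0, 5, 19, 8, 7, 17], [190, -1771, -2141, -74, 3]⟩))))) (.node 5 (.node 2 (.node 1 (.leaf ⟨8, 9, true, [15, 19, 17, 8, 15, 9, 16, 3], [2, 18, 0, 16, 11, 18, 5, 18], [-228, 2213, 2542, 63, 11]⟩) (.leaf ⟨9, 8, true, [16, 9, 7, 9, 2, 17], [11, 18, 2, 15, 7, 10, 16, 19], [2016, -17267, -22037, -756, 38]⟩)) (.node 1 (.leaf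 ⟨8, 9, true, [18, 7, 12, 16, 4, 17, 2], [0, 4, 14, 7, 8, 15], [164, 92, -956, -80, -5]⟩) (.node 1 (.leaf ⟨9, 8, true, [17, 0, 3, 14, 16, 11, 12, 9], [3, 16, 5, 17, 13, 6, 19], [238, -3098, -3834, -111, 33]⟩) (.leaf ⟨8, 9, true, [4, 9, 19, 15, 6, 5, 18, 0], [4, 3, 4, 16, 3, 19, 17], [122, -1018, -1466, -44, -5]⟩)))) (.node 3 (.node 1 (.leaf ⟨9, 8, true, [4, 9, 10, 19, 12, 6, 3, 4], [8, 3, 4, 10, 6, 8, 13, 14], [208, -1435, -2601, -123, 33]⟩) (.node 1 (.leaf ⟨8, 9, true, [11, 5, 10, 5, 11, 13, 15, 3], [10, 6, 5, 9, 14, 13, 2], [1371, -11298, -14894, -560, 50]⟩) (.leaf ⟨8, 9, true, [5, 17, 12, 0, 11, 6, 18], [9, 15, 2, 16, 3, 8], [2740, -23138, -30112, -1078, 81]⟩))) (.node 1 (.leaf ⟨9, 8, true, [0, 11, 15, 8, 10, 17, 7, 4], [19, 7, 10, 0, 13, 16, 4], [-2338, 20132, 25322, 887, -53]⟩) (.node 1 (.leaf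 ⟨8, 9, true, [4, 7, 10, 4, 9, 7, 13, 0], [3, 0, 14, 9, 6, 13, 15], [852, -6038, -8670, -344, 23]⟩) (.leaf ⟨9, 8, true, [2, 12, 6, 17, 0, 18, 3], [12, 19, 11, 8, 17, 5, 13, 0], [-851, 5984, 8628, 345, -24]⟩)))))) (.node 11 (.node 5 (.node 2 (.node 1 (.leaf ⟨9, 9, true, [19, 6, 16, 12, 0, 7, 17], [0, 12, 4, 18, 5, 12, 14], [-296, 2208, 3747, 157, -30]⟩) (.leaf ⟨8, 9, true, [14, 0, 8, 6, 12, 4, 19, 0], [5, 0, 17, 4, 17, 4, 9, 4], [76, -1144, -862, -6, -18]⟩)) (.node 1 (.leaf ⟨9, 8, true, [13, 16, 0, 12, 19, 15, 11, 18], [11, 5, 7, 10, 9, 14, 19, 0], [-1794, 15645, 19634, 675, -31]⟩) (.node 1 (.leaf ⟨8, 9, true, [19, 11, 6, 13, 11, 8, 0], [9, 12, 2, 15, 16, 5, 19, 4], [-541, 4525, 6014, 209, -11]⟩) (.leaf ⟨9, 8, true, [11, 15, 2, 13, 11, 8, 17], [19, 7, 15, 16, 19, 6, 14], [-1436, 11876, 16102, 603,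 -66]⟩)))) (.node 3 (.node 1 (.leaf ⟨8, 9, true, [0, 15, 8, 2, 15, 10, 3], [14, 2, 6, 12, 17, 4, 3], [-535, 4780, 5808, 181, 13]⟩) (.node 1 (.leaf ⟨9, 8, true, [14, 6, 8, 19, 8, 13, 5], [2, 11, 14, 7, 0, 14, 0], [536, -4834, -5850, -180, -14]⟩) (.leaf ⟨8, 9, true, [8, 6, 0, 17, 6, 15, 5], [0, 12, 9, 11, 14, 17, 7, 4], [-22, 564, 238, -18, 25]⟩))) (.node 1 (.leaf ⟨9, 8, true, [15, 18, 10, 16, 19, 5, 16], [4, 14, 7, 16, 0, 7, 9], [1738, -15065, -19010, -651, 24]⟩) (.node 1 (.leaf ⟨8, 9, true, [7, 12, 14, 8, 10, 18, 9], [7, 2, 7, 11, 6, 9, 6, 4], [1, 80, -131, -9, 3]⟩) (.leaf ⟨9, 8, true, [15, 10, 12, 10, 15, 8, 7], [13, 8, 0, 9, 6, 15, 19], [1787, -15134, -19364, -684, 46]⟩))))) (.node 6 (.node 3 (.node 1 (.leaf ⟨8, 9, true, [16, 9, 4, 16, 11, 3, 0], [19, 3, 17, 4, 16, 5, 8, 0], [-593, 5223, 6616,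 226, -15]⟩) (.node 1 (.leaf ⟨9, 8, true, [18, 2, 17, 18, 6, 8, 5, 0], [0, 2, 10, 17, 5, 8, 17], [-1053, 8725, 11433, 419, -34]⟩) (.leaf ⟨8, 9, true, [16, 4, 16, 11, 5, 17, 19], [15, 13, 0, 17, 4, 15, 2], [-49, 331, 261, 5, 4]⟩))) (.node 1 (.leaf ⟨9, 8, true, [7, 19, 0, 2, 14, 6, 19, 7], [10, 8, 15, 18, 15, 4, 8], [-2000, 16623, 22578, 831, -81]⟩) (.node 1 (.leaf ⟨8, 9, true, [14, 19, 4, 18, 14, 4, 19], [8, 4, 13, 14, 16, 10, 8, 3], [-323, 2717, 3569, 114, -6]⟩) (.leaf ⟨9, 8, true, [7, 0, 14, 13, 16, 6, 9, 2], [18, 5, 15, 19, 5, 18, 15], [396, -3324, -4334, -137, 5]⟩)))) (.node 3 (.node 1 (.leaf ⟨8, 9, true, [17, 7, 16, 18, 0, 16, 7], [14, 2, 16, 7, 3, 5, 7], [-1117, 8556, 11376, 427, -38]⟩) (.node 1 (.leaf ⟨9, 8, true, [4, 10, 9, 6, 2, 18, 13], [6, 17, 0, 19, 17, 6, 16], [2833, -23057, -30148, -1096,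 87]⟩) (.leaf ⟨9, 9, true, [14, 5, 8, 13, 11, 9, 3], [13, 18, 12, 10, 12, 18, 0], [219, -2582, -2221, -46, -13]⟩))) (.node 1 (.leaf ⟨8, 9, true, [6, 14, 0, 8, 15, 8, 10, 12], [5, 7, 16, 13, 11, 7, 19, 2], [-709, 5940, 7707, 263, -14]⟩) (.node 1 (.leaf ⟨9, 8, true, [10, 6, 13, 15, 0, 9, 14], [9, 15, 19, 5, 6, 15, 13, 0], [-937, 8008, 10342, 382, -35]⟩) (.leaf ⟨8, 9, true, [6, 8, 14, 9, 0, 16, 6, 4], [4, 11, 18, 6, 12, 14, 3], [-316, 1968, 2777, 144, -23]⟩)))))))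
noncomputable def dF901 : BT Fct := (.node 22 (.node 11 (.node 5 (.node 2 (.node 1 (.leaf ⟨9, 8, true, [8, 0, 5, 13, 4, 8, 19, 0], [10, 18, 4, 14, 9, 14, 5, 3], [2104, -17022, -22272, -837, 72]⟩) (.leaf ⟨8, 9, true, [15, 0, 17, 9, 15, 8, 0], [10, 6, 0, 17, 5, 13, 19, 8], [-918, 7461, 9895, 350, -28]⟩)) (.node 1 (.leaf ⟨9, 8, true, [9, 11, 19, 14, 17, 18, 2], [0, 9, 14, 8, 16, 0, 14], [989, -8014, -10618, -374, 28]⟩) (.node 1 (.leaf ⟨8, 9, true, [5, 8, 19, 16, 9, 11, 2], [12, 7, 9, 7, 14, 16, 0, 2], [375, -3565, -4372, -118, -4]⟩) (.leaf ⟨9, 8, true, [13, 4, 18, 11, 12, 6, 3], [3, 10, 8, 17, 18, 9, 4], [1341, -10936, -14400, -551, 53]⟩)))) (.node 3 (.node 1 (.leaf ⟨8, 9, true, [7, 14, 13, 7, 17, 9, 3], [19, 7, 4, 15, 8, 12, 7, 12], [-339, 3540, 3637, 76, 17]⟩) (.node 1 (.leaf ⟨9, 8, true, [4, 7,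 5, 9, 11, 4, 19, 2], [12, 2, 16, 6, 12, 15, 6], [412, -4147, -4402, -99, -18]⟩) (.leaf ⟨9, 8, true, [3, 6, 9, 19, 4, 9, 11, 19], [14, 13, 0, 16, 3, 16, 6, 19], [-3270, 26665, 35559, 1290, -94]⟩))) (.node 1 (.leaf ⟨8, 9, true, [15, 17, 6, 12, 19, 12, 16], [18, 10, 8, 5, 18, 8, 7, 2], [3215, -26227, -35003, -1271, 94]⟩) (.node 1 (.leaf ⟨8, 9, true, [10, 6, 4, 8, 7, 13, 4, 0], [11, 8, 6, 16, 0, 19, 16, 6], [-576, 5340, 6206, 173, 14]⟩) (.leaf ⟨9, 8, true, [9, 6, 5, 18, 18, 2], [18, 10, 0, 6, 11, 17, 6, 8], [316, -3440, -2862, -30, -42]⟩))))) (.node 5 (.node 2 (.node 1 (.leaf ⟨9, 8, true, [18, 4, 19, 6, 13, 6, 18, 2], [7, 16, 0, 16, 19, 14, 12], [770, -7251, -8888, -261, -11]⟩) (.leaf ⟨8, 9, true, [11, 4, 15, 17, 13, 11, 18], [13, 2, 6, 18, 17, 4, 10, 4], [-717, 6813, 8332, 242, 11]⟩)) (.node 1 (.leaf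 ⟨9, 8, true, [6, 6, 3, 4, 9, 5, 9, 14], [12, 10, 6, 9, 14, 5, 19, 12], [-1634, 14138, 17894, 628, -42]⟩) (.node 1 (.leaf ⟨8, 9, true, [17, 18, 0, 17, 3, 19, 5, 9], [19, 5, 18, 13, 7, 9, 4, 0], [1687, -14576, -18450, -647, 42]⟩) (.leaf ⟨9, 8, true, [12, 7, 14, 4, 11, 0, 14], [13, 18, 10, 6, 18, 6, 5], [-117, 275, 1645, 98, -28]⟩)))) (.node 3 (.node 1 (.leaf ⟨9, 8, true, [9, 14, 18, 0, 11, 6, 0], [15, 19, 0, 13, 8, 14, 7, 14], [-2387, 20314, 26742, 954, -84]⟩) (.node 1 (.leaf ⟨9, 9, true, [14, 17, 4, 8, 10, 8, 16, 18], [15, 2, 17, 6, 14, 5, 16, 3], [2126, -18404, -23528, -800, 43]⟩) (.leaf ⟨9, 8, true, [13, 16, 13, 19, 14, 18, 9, 4], [18, 5, 13, 10, 12, 14, 11, 2], [-1921, 16615, 20646, 711, -32]⟩))) (.node 1 (.leaf ⟨9, 8, true, [19, 13, 7, 13, 5, 6, 5], [0, 16, 0, 8, 19, 17, 5, 17], [682, -6036,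 -7943, -236, -33]⟩) (.node 1 (.leaf ⟨8, 9, true, [14, 7, 17, 19, 6, 17, 4], [4, 7, 14, 4, 6, 12, 18], [-629, 5598, 7387, 217, 33]⟩) (.leaf ⟨9, 8, true, [7, 7, 0, 13, 7, 9, 5, 17], [13, 8, 17, 13, 0, 13, 8], [-2005, 18716, 23072, 745, -26]⟩)))))) (.node 11 (.node 5 (.node 2 (.node 1 (.leaf ⟨8, 9, true, [13, 11, 17, 6, 19, 15, 16, 2], [16, 4, 8, 2, 15, 5, 8, 2], [1950, -18278, -22516, -726, 26]⟩) (.leaf ⟨9, 8, true, [8, 19, 12, 11, 6, 13, 9], [6, 0, 4, 17, 13, 10, 14], [-2706, 24143, 31576, 1042, -19]⟩)) (.node 1 (.leaf ⟨8, 9, true, [17, 11, 8, 5, 6, 19, 10], [8, 12, 7, 10, 13, 18, 9], [2759, -24581, -32132, -1061, 19]⟩) (.node 1 (.leaf ⟨9, 8, true, [3, 17, 13, 18, 6, 19, 3, 4], [15, 16, 18, 17, 7, 12, 16], [1018, -11336, -12717, -299, -36]⟩) (.leaf ⟨9, 9, true, [11, 8, 15, 18, 2, 0], [11, 18, 15,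 17, 11, 7, 5], [-345, 2966, 3249, 100, 8]⟩)))) (.node 3 (.node 1 (.leaf ⟨8, 9, true, [3, 8, 0, 12, 10, 7, 16, 3], [14, 0, 4, 8, 19, 7, 7, 9], [1870, -15716, -20515, -676, 9]⟩) (.node 1 (.leaf ⟨9, 8, true, [10, 12, 3, 14, 11, 16, 11, 0], [4, 14, 11, 7, 2, 11, 13, 0], [-1468, 12710, 15725, 485, 19]⟩) (.leaf ⟨9, 8, true, [16, 5, 10, 5, 19, 16, 11], [3, 4, 18, 0, 14, 9, 6, 0], [1, -945, 149, 47, -12]⟩))) (.node 1 (.leaf ⟨8, 9, true, [4, 18, 8, 7, 4, 17, 13], [10, 17, 18, 4, 11, 4, 17], [-56, 1383, 407, -28, 12]⟩) (.node 1 (.leaf ⟨9, 8, true, [9, 19, 7, 11, 18, 12, 11], [7, 0, 15, 5, 10, 15, 9, 2], [221, -1933, -1925, -55, 7]⟩) (.leaf ⟨8, 9, true, [9, 0, 11, 17, 4, 7, 11, 2], [10, 13, 19, 10, 6, 18, 8], [-276, 2371, 2481, 74, -7]⟩))))) (.node 6 (.node 3 (.node 1 (.leaf ⟨9, 7, true, [16, 8, 19, 7, 9,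 16, 9], [12, 16, 4, 18, 7, 7, 4], [496, -6590, -7454, -167]⟩) (.node 1 (.leaf ⟨7, 9, true, [15, 11, 6, 17, 3, 15, 9, 4], [11, 7, 14, 5, 19, 17, 8], [-496, 6402, 7266, 166, -2]⟩) (.leaf ⟨9, 8, true, [16, 0, 16, 15, 5, 13, 8], [2, 19, 16, 4, 3, 17, 2], [171, -2154, -2854, -63, -7]⟩))) (.node 1 (.leaf ⟨8, 9, true, [6, 18, 9, 7, 5, 12, 16, 2], [18, 4, 6, 12, 16, 3, 17], [-118, 1716, 2298, 44, 7]⟩) (.node 1 (.leaf ⟨9, 8, true, [8, 15, 7, 19, 17, 14, 11, 2], [6, 12, 6, 15, 9, 14, 0], [-1519, 13458, 17401, 608, -38]⟩) (.leaf ⟨8, 9, true, [19, 0, 11, 7, 17, 12, 11, 0], [12, 17, 9, 7, 9, 0, 15, 0], [1464, -13020, -16845, -589, 38]⟩)))) (.node 3 (.node 1 (.leaf ⟨9, 8, true, [9, 12, 19, 16, 18, 2], [13, 4, 0, 5, 16, 11, 16, 2], [-1989, 16947, 22979, 838, -79]⟩) (.node 1 (.leaf ⟨8, 9, true, [17, 2, 18, 7, 11,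 0, 11], [2, 5, 10, 8, 16, 8], [1934, -16509, -22423, -819, 79]⟩) (.leaf ⟨8, 9, true, [14, 8, 12, 15, 10, 17, 3, 15], [16, 0, 18, 3, 8, 14, 8, 2], [32, -1054, -828, 3, -14]⟩))) (.node 1 (.leaf ⟨8, 9, true, [0, 13, 9, 4, 15, 7, 18, 0], [15, 18, 17, 0, 13, 16, 15], [-235, 1043, 1671, 112, -23]⟩) (.node 1 (.leaf ⟨9, 8, true, [0, 16, 12, 2, 15, 7, 17], [10, 5, 16, 15, 9, 11, 12, 3], [-1483, 13458, 17101, 557, -26]⟩) (.leaf ⟨4, 9, true, [5, 16, 0, 17, 10, 16], [14, 4, 16, 6, 4, 14, 10, 2], [2094, -17618, -23495, -854, 78]⟩)))))))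
noncomputable def dF946 : BT Fct := (.node 22 (.node 11 (.node 5 (.node 2 (.node 1 (.leaf ⟨9, 4, true, [5, 8, 16, 2, 19, 11], [17, 11, 16, 0, 17, 4], [-1692, 14612, 18705, 663, -50]⟩) (.leaf ⟨4, 9, true, [9, 0, 19, 4, 10, 14, 16, 0], [15, 2, 14, 13, 7, 19, 15, 0], [-116, 773, 1111, 62, -17]⟩)) (.node 1 (.leaf ⟨9, 4, true, [19, 4, 16, 18, 12, 11, 16, 2], [15, 12, 6, 4, 19, 13, 4, 2], [117, -827, -1153, -61, 16]⟩) (.node 1 (.leaf ⟨8, 9, true, [11, 0, 15, 16, 5, 13, 9], [6, 4, 10, 8, 0, 12, 6, 2], [35, 70, -261, -5, -17]⟩) (.leaf ⟨9, 8, true, [7, 19, 7, 13, 7, 17, 0, 2], [8, 12, 4, 17, 14, 0, 10], [1753, -15124, -19234, -688, 66]⟩)))) (.node 3 (.node 1 (.leaf ⟨8, 9, true, [19, 8, 7, 16, 12, 15, 8, 4], [7, 11, 2, 13, 17, 6, 14, 16], [-538, 4759, 5786, 193, -23]⟩) (.node 1 (.leaf ⟨9, 8, true, [16, 8,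 16, 18, 14, 7], [4, 19, 12, 14, 4, 9, 7, 4], [940, -7765, -10576, -384, 51]⟩) (.leaf ⟨9, 9, true, [17, 18, 2, 17, 7, 15, 2, 0], [13, 3, 14, 8, 11, 16], [-2, 109, 131, 2]⟩))) (.node 1 (.leaf ⟨9, 8, true, [5, 10, 12, 11, 7, 19, 6, 9], [18, 4, 11, 17, 4, 16, 18, 4], [2213, -18846, -24314, -850, 61]⟩) (.node 1 (.leaf ⟨9, 9, true, [5, 6, 10, 15, 13, 5, 6, 2], [16, 10, 5, 19, 8, 6, 2], [-32, 360, 864, 39, -9]⟩) (.leaf ⟨9, 9, true, [12, 8, 11, 3, 6, 16, 12], [10, 18, 0, 11, 19, 5, 19, 15], [-603, 5570, 6464, 205, -4]⟩))))) (.node 5 (.node 2 (.node 1 (.leaf ⟨8, 9, true, [3, 15, 11, 13, 4, 3, 8], [6, 4, 11, 7, 5, 13, 14], [-20, -34, 43, -8, 12]⟩) (.leaf ⟨9, 8, true, [7, 16, 6, 12, 14, 18, 0, 15], [9, 11, 2, 12, 10, 14, 2], [-1295, 11529, 13939, 486, -33]⟩)) (.node 1 (.leaf ⟨9, 8, true, [10, 9, 6, 12, 18,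 7, 11], [15, 18, 18, 6, 15, 4, 0], [1815, -15904, -19582, -655, 8]⟩) (.node 1 (.leaf ⟨8, 9, true, [6, 0, 8, 6, 16, 5, 11, 0], [10, 6, 19, 13, 7, 8, 11], [-1762, 15466, 19026, 636, -8]⟩) (.leaf ⟨8, 9, true, [17, 5, 2, 17, 7, 8, 0], [15, 0, 10, 4, 6, 15, 3], [7, -448, -225, 10, -12]⟩)))) (.node 3 (.node 1 (.leaf ⟨9, 8, true, [7, 4, 16, 18, 9, 5, 19, 0], [0, 9, 6, 16, 3, 4, 16], [-1322, 11943, 14207, 468, -9]⟩) (.node 1 (.leaf ⟨8, 9, true, [11, 15, 12, 11, 6, 18, 9, 0], [17, 14, 3, 17, 7, 15, 12, 6], [-413, 3443, 3895, 149, -21]⟩) (.leaf ⟨9, 8, true, [8, 4, 16, 15, 9, 12, 0], [9, 4, 15, 6, 18, 10, 6, 4], [486, -4050, -4660, -172, 20]⟩))) (.node 1 (.leaf ⟨8, 9, true, [10, 6, 3, 16, 11, 15, 8, 16], [4, 8, 15, 6, 6, 19, 3], [-913, 7979, 10109, 360, -35]⟩) (.node 1 (.leaf ⟨9, 8, true, [0, 10, 19, 6, 8,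 14, 5, 3], [16, 9, 2, 17, 15, 5, 17, 6], [1315, -10985, -14899, -551, 63]⟩) (.leaf ⟨4, 9, true, [6, 10, 15, 7, 13, 0, 17, 2], [10, 5, 6, 18, 6, 17, 7, 2], [-74, 237, 475, 34, -8]⟩)))))) (.node 11 (.node 5 (.node 2 (.node 1 (.leaf ⟨9, 4, true, [15, 9, 19, 6, 13, 2], [17, 5, 8, 17, 6, 3, 5, 2], [476, -3243, -5265, -225, 36]⟩) (.leaf ⟨9, 9, true, [16, 18, 14, 4, 8, 2, 0], [12, 0, 16, 10, 8, 11, 8, 4], [1791, -15206, -19599, -705, 56]⟩)) (.node 1 (.leaf ⟨9, 9, true, [16, 4, 15, 6, 14, 2, 16, 3], [11, 0, 6, 10, 19, 0, 17], [-3, 152, 104, 12, -7]⟩) (.node 1 (.leaf ⟨9, 8, true, [3, 15, 0, 9, 11, 19, 15], [13, 2, 18, 10, 19, 16, 10], [-2079, 17193, 22989, 833, -70]⟩) (.leaf ⟨8, 9, true, [6, 8, 5, 15, 7, 19, 15, 7], [14, 18, 10, 8, 0, 14, 2], [2132, -17631, -23545, -852, 70]⟩)))) (.node 3 (.node 1 (.leaf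 ⟨9, 6, true, [9, 18, 7, 9, 13, 18, 6, 11], [18, 8, 0, 10, 16, 10, 13, 2], [87, -857, -1064, -10, -16]⟩) (.node 1 (.leaf ⟨6, 9, true, [0, 14, 5, 6, 16, 13, 4], [14, 17, 5, 19, 14, 19, 15, 0], [-245, 2122, 2730, 69, 12]⟩) (.leaf ⟨9, 8, true, [10, 17, 10, 14, 13, 9, 2], [18, 7, 11, 9, 6, 19, 12, 11], [-432, 4234, 5318, 177, -25]⟩))) (.node 1 (.leaf ⟨8, 9, true, [13, 7, 9, 11, 17, 11, 3, 4], [3, 8, 12, 15, 11, 16, 11], [485, -4672, -5874, -196, 25]⟩) (.node 1 (.leaf ⟨9, 8, true, [16, 14, 0, 6, 4, 17, 4, 18], [4, 3, 6, 13, 15, 7, 7, 4], [1683, -13502, -17734, -629, 44]⟩) (.leaf ⟨8, 9, true, [5, 16, 18, 6, 14, 17, 10], [9, 7, 13, 16, 6, 13, 19, 3], [-1738, 13940, 18290, 648, -44]⟩))))) (.node 6 (.node 3 (.node 1 (.leaf ⟨4, 9, true, [13, 18, 15, 0, 7, 9, 6, 2], [10, 5, 8, 4, 17, 13, 10, 2], [759, -5824,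 -9200, -376, 63]⟩) (.node 1 (.leaf ⟨9, 4, true, [9, 7, 15, 9, 18, 2, 0], [7, 14, 7, 8, 10, 6, 10, 0], [-758, 5770, 9158, 377, -64]⟩) (.leaf ⟨9, 8, true, [6, 12, 15, 16, 18, 17, 10, 0], [14, 11, 19, 16, 6, 8, 19], [-1861, 16595, 20373, 722, -89]⟩))) (.node 1 (.leaf ⟨8, 9, true, [7, 3, 16, 4, 6, 4, 6], [12, 10, 2, 6, 18, 14, 13, 7], [1914, -17033, -20929, -741, 89]⟩) (.node 1 (.leaf ⟨9, 8, true, [9, 14, 6, 2, 11, 16, 0], [0, 4, 17, 7, 9, 16, 7, 3], [810, -6037, -8026, -303, 14]⟩) (.leaf ⟨8, 9, true, [6, 5, 6, 16, 15, 7, 17], [0, 17, 10, 3, 7, 15, 8], [-757, 5599, 7470, 284, -14]⟩)))) (.node 3 (.node 1 (.leaf ⟨9, 9, true, [13, 3, 12, 6, 10, 9, 17], [12, 14, 6, 14, 2, 17, 15, 2], [-58, 173, 1046, 53, -14]⟩) (.node 1 (.leaf ⟨8, 9, true, [6, 0, 19, 4, 7, 17, 14], [14, 16, 5, 8, 16, 2, 16, 9], [1781, -14349,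 -19673, -741, 76]⟩) (.leaf ⟨9, 8, true, [0, 4, 10, 14, 19, 15, 4], [15, 16, 6, 5, 18, 0, 7], [-1710, 13796, 18950, 717, -76]⟩))) (.node 1 (.leaf ⟨9, 8, true, [10, 17, 0, 19, 12, 8, 6, 4], [16, 6, 6, 6, 10, 8], [4139, -34666, -44562, -1573, 106]⟩) (.node 1 (.leaf ⟨8, 9, true, [11, 0, 11, 12, 6, 3, 6], [9, 5, 10, 4, 16, 6, 19, 0], [-4194, 35104, 45118, 1592, -106]⟩) (.leaf ⟨8, 9, true, [10, 15, 0, 19, 6, 18, 6, 9], [13, 8, 10, 15, 7, 5, 2], [-319, 3814, 3761, 71, 13]⟩)))))))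
noncomputable def dF991 : BT Fct := (.node 22 (.node 11 (.node 5 (.node 2 (.node 1 (.leaf ⟨9, 8, true, [10, 0, 19, 6, 17, 6, 6], [13, 11, 6, 13, 17, 11, 18, 12], [721, -6820, -8551, -262, 15]⟩) (.leaf ⟨8, 9, true, [19, 2, 12, 14, 18, 15, 19], [10, 2, 15, 13, 15, 11, 15], [-319, 3323, 3609, 97, -2]⟩)) (.node 1 (.leaf ⟨9, 8, true, [12, 10, 4, 10, 4, 19, 16, 0], [18, 14, 19, 15, 13, 3, 18], [-1327, 10625, 14440, 548, -47]⟩) (.node 1 (.leaf ⟨8, 9, true, [8, 12, 18, 10, 6, 14, 17], [8, 13, 15, 8, 15, 17, 6, 3], [-148, 1669, 815, 29, 13]⟩) (.leaf ⟨9, 8, true, [17, 11, 12, 3, 8, 10, 13], [16, 15, 7, 11, 19, 13, 9], [-112, 231, 2529, 114, -41]⟩)))) (.node 3 (.node 1 (.leaf ⟨9, 9, true, [8, 12, 8, 7, 15, 9, 3, 4], [11, 6, 18, 14, 0, 9, 14, 0], [3231, -25710, -34367, -1276, 110]⟩) (.node 1 (.leaf ⟨9, 8, true,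 [11, 5, 15, 6, 18, 8, 7, 4], [12, 15, 0, 16, 13, 16, 18], [2216, -18193, -24109, -867, 67]⟩) (.leaf ⟨9, 8, true, [11, 8, 10, 7, 16, 6, 3, 6], [0, 9, 16, 9, 5, 8, 10], [-1863, 15479, 19649, 683, -25]⟩))) (.node 1 (.leaf ⟨8, 9, true, [8, 6, 2, 6, 4, 3, 17, 9], [2, 6, 0, 16, 8, 15, 6, 2], [-119, 1150, 1348, 41, -3]⟩) (.node 1 (.leaf ⟨9, 8, true, [14, 8, 14, 11, 3, 19, 14, 0], [9, 11, 19, 14, 16, 13, 6, 0], [190, -1703, -2071, -65, 3]⟩) (.leaf ⟨8, 9, true, [17, 5, 16, 8, 4, 14, 10, 3], [16, 11, 4, 6, 17, 6, 17], [-142, 1477, 1626, 43, 1]⟩))))) (.node 5 (.node 2 (.node 1 (.leaf ⟨9, 8, true, [18, 11, 14, 18, 14, 12, 5], [13, 0, 8, 11, 8, 14, 7, 3], [-118, 423, 1718, 100, -29]⟩) (.leaf ⟨9, 9, true, [5, 6, 8, 10, 16, 18, 14, 3], [7, 12, 2, 11, 17, 7, 11, 13], [-1827, 15224, 19837, 710, -52]⟩)) (.node 1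 (.leaf ⟨9, 9, true, [16, 11, 17, 10, 8, 19, 11, 0], [19, 6, 5, 16, 8, 5, 9, 5], [1762, -15080, -19418, -685, 48]⟩) (.node 1 (.leaf ⟨6, 9, true, [8, 13, 4, 10, 13, 18, 13, 0], [8, 0, 18, 17, 6, 15, 11, 0], [295, -2606, -3268, -110, 6]⟩) (.leaf ⟨9, 6, true, [4, 14, 0, 18, 11, 16, 11, 5], [9, 4, 14, 8, 7, 16, 11, 0], [1493, -12448, -16227, -583, 43]⟩)))) (.node 3 (.node 1 (.leaf ⟨8, 9, true, [19, 0, 16, 11, 7, 15, 13], [15, 13, 15, 19, 16, 10], [76, -1486, -1341, -27, 6]⟩) (.node 1 (.leaf ⟨9, 8, true, [5, 7, 12, 10, 12, 10, 19], [12, 14, 6, 10, 17, 0, 18], [1640, -13015, -17431, -642, 43]⟩) (.leaf ⟨9, 8, true, [10, 18, 15, 7, 13], [10, 6, 18, 2, 12, 6, 18, 2], [1531, -13758, -17090, -563, 30]⟩))) (.node 1 (.leaf ⟨9, 8, true, [5, 16, 10, 13, 8, 11, 19, 7], [11, 18, 7, 19, 17, 9, 15], [-1087, 8467, 12345,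 504, -65]⟩) (.node 1 (.leaf ⟨9, 8, true, [15, 18, 14, 2, 6, 13], [15, 0, 2, 7, 19, 11, 5, 18], [515, -5331, -6297, -181, 13]⟩) (.leaf ⟨8, 9, true, [16, 13, 16, 6, 19, 16, 15, 2], [12, 7, 3, 15, 19, 14], [-570, 5769, 6853, 200, -13]⟩)))))) (.node 11 (.node 5 (.node 2 (.node 1 (.leaf ⟨9, 8, true, [12, 7, 13, 6, 15, 10, 8], [3, 19, 14, 19, 4, 11, 4], [-1556, 14513, 18693, 617, -30]⟩) (.leaf ⟨8, 9, true, [7, 2, 13, 16, 6, 10, 18], [9, 11, 14, 7, 12, 6, 13], [1501, -14075, -18137, -598, 30]⟩)) (.node 1 (.leaf ⟨9, 8, true, [0, 8, 14, 10, 6, 16, 2], [11, 14, 12, 0, 9, 5, 6, 4], [-1261, 11675, 12678, 412, -2]⟩) (.node 1 (.leaf ⟨8, 9, true, [19, 3, 16, 5, 10, 5], [3, 17, 6, 12, 5, 9, 0], [1206, -11237, -12122, -393, 2]⟩) (.leaf ⟨9, 8, true, [13, 7, 14, 19, 13, 18, 8, 4], [14, 10, 16, 3, 16, 3, 8, 0], [2092,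 -18589, -23390, -808, 63]⟩)))) (.node 3 (.node 1 (.leaf ⟨8, 9, true, [11, 6, 13, 6, 5, 11, 12], [15, 19, 6, 10, 17, 18, 7, 0], [-2039, 18151, 22834, 789, -63]⟩) (.node 1 (.leaf ⟨8, 9, true, [16, 0, 12, 17, 7, 19, 2, 0], [6, 19, 8, 4, 16, 13, 6], [20, -470, -559, 2, -11]⟩) (.leaf ⟨9, 8, true, [14, 3, 13, 19, 0, 14, 18], [16, 13, 19, 6, 5, 8, 17, 3], [-19, 416, 517, -1, 10]⟩))) (.node 1 (.leaf ⟨8, 9, true, [12, 2, 7, 12, 14, 18, 18, 3], [5, 19, 13, 9, 5, 11, 14, 11], [-37, 1420, 854, -11, 7]⟩) (.node 1 (.leaf ⟨9, 8, true, [8, 13, 6, 10, 9, 2, 15, 2], [2, 18, 18, 15, 13, 6, 9, 3], [-1350, 10628, 13851, 513, -28]⟩) (.leaf ⟨8, 9, true, [6, 17, 11, 7, 12, 11, 5], [7, 16, 15, 9, 5, 19, 6, 0], [-55, -226, 98, 36, -14]⟩))))) (.node 6 (.node 3 (.node 1 (.leaf ⟨9, 8, true, [2, 18, 9, 15, 8, 15, 13, 2], [4,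 10, 13, 6, 10, 16, 7], [-1663, 14727, 18674, 633, -35]⟩) (.node 1 (.leaf ⟨9, 9, true, [18, 15, 11, 6, 4, 16, 15, 3], [9, 2, 9, 10, 7, 19, 7, 0], [-116, 1020, 1373, 44]⟩) (.leaf ⟨9, 9, true, [12, 17, 3, 6, 14, 13, 11], [4, 6, 18, 14, 5, 12, 0], [209, -2274, -1526, -50, -14]⟩))) (.node 1 (.leaf ⟨9, 8, true, [6, 9, 5, 13, 10, 15], [13, 5, 2, 6, 19, 16, 14, 13], [3027, -24647, -32803, -1207, 110]⟩) (.node 1 (.leaf ⟨8, 9, true, [16, 10, 3, 7, 18, 4, 17, 5], [14, 11, 12, 4, 8, 7], [-2974, 24209, 32247, 1188, -110]⟩) (.leaf ⟨8, 9, true, [11, 17, 12, 14, 3, 18, 5], [6, 14, 0, 16, 18, 0, 16], [-579, 3936, 6116, 293, -55]⟩)))) (.node 3 (.node 1 (.leaf ⟨9, 8, true, [5, 0, 7, 10, 8, 15, 9], [4, 19, 2, 15, 13, 16, 10], [-1398, 12465, 16000, 519, -22]⟩) (.node 1 (.leaf ⟨9, 9, true, [13, 7, 2, 10, 13, 9, 6, 0],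 [7, 17, 15, 7, 17, 12], [-1946, 17188, 21125, 719, -36]⟩) (.leaf ⟨9, 4, true, [5, 13, 11, 18, 14], [6, 0, 14, 13, 7, 14, 12, 3], [-5271, 45122, 57300, 1999, -122]⟩))) (.node 1 (.leaf ⟨4, 9, true, [6, 6, 6, 8, 11, 19, 7], [15, 19, 10, 12, 4], [5270, -45084, -57236, -1997, 122]⟩) (.node 1 (.leaf ⟨9, 9, true, [17, 10, 12, 16, 10, 13, 8, 3], [19, 10, 6, 2, 16, 7, 4, 16], [-419, 3615, 4035, 122, 9]⟩) (.leaf ⟨9, 9, true, [6, 14, 6, 0, 19, 5, 6, 17], [13, 5, 2, 6, 15], [68, -302, -1343, -77, 28]⟩)))))))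
noncomputable def dF1036 : BT Fct := (.node 23 (.node 11 (.node 5 (.node 2 (.node 1 (.leaf ⟨8, 9, true, [0, 18, 6, 15, 12, 5, 11, 8], [14, 17, 3, 8, 19, 7, 12, 8], [1755, -14686, -19049, -684, 50]⟩) (.leaf ⟨4, 9, true, [14, 3, 16, 11, 18, 13, 6, 2], [5, 13, 15, 7, 4, 18, 12, 2], [-3303, 27839, 36048, 1293, -99]⟩)) (.node 1 (.leaf ⟨9, 9, true, [6, 4, 6, 19, 5, 10, 13, 3], [6, 8, 17, 6, 6, 8, 12, 3], [-2095, 18096, 23161, 793, -44]⟩) (.node 1 (.leaf ⟨8, 9, true, [12, 8, 3, 7, 15, 8, 0], [6, 13, 8, 5, 10, 12, 6, 4], [-100, 1392, 1278, 3, 13]⟩) (.leaf ⟨9, 8, true, [18, 18, 10, 7, 16, 9, 6], [10, 17, 7, 10, 17, 2, 0], [-1949, 15562, 21561, 833, -90]⟩)))) (.node 3 (.node 1 (.leaf ⟨9, 8, true, [8, 10, 14, 0, 17, 7, 8, 0], [6, 6, 19, 6, 18, 12, 19], [-1420, 12267, 15825, 570, -50]⟩) (.node 1 (.leaf ⟨9,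 9, true, [19, 6, 12, 9, 7, 13, 14], [8, 5, 17, 14, 18, 9, 10, 2], [3639, -32014, -38865, -1324, 50]⟩) (.leaf ⟨9, 8, true, [7, 16, 4, 8, 0, 13, 7, 2], [10, 5, 19, 11, 19, 5, 16], [6105, -51204, -67827, -2444, 203]⟩))) (.node 1 (.leaf ⟨8, 9, true, [13, 8, 17, 13, 10, 19, 11, 2], [15, 5, 0, 7, 9, 5, 17, 6], [-6052, 50766, 67271, 2425, -203]⟩) (.node 1 (.leaf ⟨9, 9, true, [6, 3, 7, 16, 8, 7, 8, 3], [15, 11, 9, 4, 11, 0, 2], [-1807, 15237, 20346, 735, -53]⟩) (.leaf ⟨9, 8, true, [3, 11, 15, 9, 14, 0, 2], [6, 4, 18, 7, 7, 4, 19, 3], [-2539, 19589, 28620, 1132, -146]⟩))))) (.node 6 (.node 3 (.node 1 (.leaf ⟨8, 9, true, [16, 3, 13, 18, 11, 5, 18, 0], [3, 0, 15, 8, 14, 10, 2], [2484, -19151, -28064, -1113, 146]⟩) (.node 1 (.leaf ⟨9, 8, true, [7, 4, 8, 14, 18, 18, 0], [12, 7, 15, 17, 11, 13, 16, 2], [-4037,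 33613, 44360, 1607, -126]⟩) (.leaf ⟨9, 8, true, [7, 7, 2, 11, 6, 18, 14], [18, 9, 14, 6, 10, 12, 0], [175, -864, -1390, -60, -6]⟩))) (.node 1 (.leaf ⟨8, 9, true, [3, 7, 12, 6, 10, 4, 11], [15, 19, 7, 10, 3, 6, 6], [-230, 1302, 1946, 79, 6]⟩) (.node 1 (.leaf ⟨4, 9, true, [0, 14, 5, 12, 10, 5, 8], [12, 15, 7, 16, 19, 2, 16, 3], [69, -436, -694, -6, -15]⟩) (.leaf ⟨9, 4, true, [9, 4, 15, 3, 18, 6, 10, 3], [9, 4, 11, 13, 4, 15, 0], [261, -2017, -3373, -161, 43]⟩)))) (.node 3 (.node 1 (.leaf ⟨9, 9, true, [14, 9, 19, 15, 16, 18, 14], [7, 15, 3, 16, 8, 7, 18, 3], [-2935, 24316, 31979, 1188, -116]⟩) (.node 1 (.leaf ⟨9, 8, true, [0, 13, 3, 17, 4, 19, 11, 6], [11, 12, 0, 14, 17, 9, 4, 17], [14, 702, 457, -30, 19]⟩) (.leaf ⟨8, 9, true, [12, 4, 18, 5, 17, 14, 10, 4], [7, 10, 18, 5, 16, 2, 12, 0], [39, -1140,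 -1013, 11, -19]⟩))) (.node 1 (.leaf ⟨9, 7, true, [7, 8, 7, 18, 5, 7, 13, 2], [19, 13, 10, 7, 12, 19, 6, 3], [-489, 4255, 6236, 209, -13]⟩) (.node 1 (.leaf ⟨7, 9, true, [19, 15, 0, 13, 4, 18, 5, 16], [8, 3, 6, 4, 19, 6, 9, 6], [257, -2495, -3730, -122, 10]⟩) (.leaf ⟨9, 8, true, [7, 5, 3, 4, 7, 17, 4, 18], [19, 4, 16, 14, 7, 18, 9, 3], [7729, -64022, -84202, -3023, 234]⟩)))))) (.node 11 (.node 5 (.node 2 (.node 1 (.leaf ⟨8, 9, true, [9, 11, 17, 0, 16, 8, 6], [19, 5, 16, 6, 0, 14, 8, 2], [-7784, 64460, 84758, 3042, -234]⟩) (.leaf ⟨9, 8, true, [6, 12, 11, 4, 17, 8, 2], [4, 17, 7, 19, 5, 17, 12, 2], [682, -5019, -5577, -201, 15]⟩)) (.node 1 (.leaf ⟨8, 9, true, [11, 13, 8, 10, 16, 18, 12, 0], [7, 0, 16, 5, 10, 13, 7], [-629, 4581, 5021, 182, -15]⟩) (.node 1 (.leaf ⟨9, 9, true, [6, 3, 4, 19, 14, 4, 16],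 [18, 4, 11, 8, 15, 6, 15], [-1695, 14366, 18592, 662, -49]⟩) (.leaf ⟨9, 9, true, [6, 5, 9, 4, 16, 8, 4, 0], [17, 10, 12, 0, 12, 15, 7, 0], [1944, -16004, -21563, -796, 77]⟩)))) (.node 3 (.node 1 (.leaf ⟨9, 9, true, [13, 4, 19, 17, 14, 6, 10], [19, 5, 14, 7, 12, 6, 6, 2], [-1505, 12372, 16052, 546, -30]⟩) (.node 1 (.leaf ⟨9, 9, true, [6, 12, 6, 19, 13, 10, 17, 3], [19, 7, 16, 15, 2, 6, 10, 3], [-14, -292, 23, 24, -12]⟩) (.leaf ⟨9, 9, true, [15, 12, 18, 12, 4, 16, 13, 3], [19, 9, 7, 9, 7, 14, 9, 2], [-292, 3341, 3781, 103, -14]⟩))) (.node 1 (.leaf ⟨8, 9, true, [12, 4, 14, 16, 6, 16, 9, 3], [8, 2, 16, 11, 6, 19, 5], [-384, 3374, 4389, 136, 17]⟩) (.node 1 (.leaf ⟨9, 8, true, [3, 4, 19, 15, 6, 17, 10], [2, 15, 6, 15, 12, 4, 15, 13], [124, -1474, -1045, 7, -45]⟩) (.leaf ⟨7, 9, true, [11, 9, 13, 8, 14,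 6, 17, 0], [5, 18, 8, 7, 8, 15, 10, 2], [-2088, 20492, 25090, 783, -43]⟩))))) (.node 6 (.node 3 (.node 1 (.leaf ⟨9, 7, true, [2, 6, 17, 13, 16, 15, 9], [8, 0, 12, 14, 9, 7, 12, 0], [1756, -18039, -21023, -616, 15]⟩) (.node 1 (.leaf ⟨4, 9, true, [3, 8, 12, 16, 18, 4, 19, 4], [14, 0, 9, 6, 11, 4, 18], [-2563, 20455, 27423, 1028, -94]⟩) (.leaf ⟨9, 9, true, [13, 3, 16, 7, 14, 11, 16], [16, 7, 15, 5, 17, 14, 9, 3], [4153, -36333, -46453, -1600, 111]⟩))) (.node 1 (.leaf ⟨9, 9, true, [18, 4, 17, 11, 18, 4, 8, 0], [17, 10, 15, 6, 17, 2, 12], [-4080, 35726, 45688, 1577, -112]⟩) (.node 1 (.leaf ⟨9, 9, true, [6, 9, 6, 8, 10, 14, 17, 3], [18, 6, 15, 11, 18, 15, 8, 4], [-73, 597, 750, 22, 1]⟩) (.leaf ⟨4, 9, true, [14, 11, 3, 8, 5, 11, 5, 8], [2, 17, 6, 16, 7, 5, 10, 3], [1102, -8354, -12711, -487, 58]⟩)))) (.node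 3 (.node 1 (.leaf ⟨9, 4, true, [5, 19, 6, 4, 9, 2], [14, 2, 6, 17, 11, 17, 0, 16], [-2748, 22302, 30760, 1132, -107]⟩) (.node 1 (.leaf ⟨7, 9, true, [7, 17, 18, 15, 18, 15, 10], [19, 11, 19, 14, 9, 6, 4], [1973, -15409, -21374, -801, 61]⟩) (.leaf ⟨9, 7, true, [6, 2, 15, 6, 19, 6, 10], [11, 14, 19, 14, 19, 16, 6], [-3691, 29910, 40146, 1470, -110]⟩))) (.node 1 (.leaf ⟨9, 9, true, [14, 16, 10, 9, 17, 18, 0], [19, 2, 17, 5, 8, 4, 9, 2], [-651, 4403, 7087, 290, -25]⟩) (.node 1 (.leaf ⟨6, 9, true, [16, 9, 6, 10, 0, 17, 10, 15], [18, 4, 8, 7, 10, 6, 13, 3], [-2636, 22631, 28040, 953, -30]⟩) (.leaf ⟨9, 6, true, [19, 4, 11, 8, 11, 19, 3, 4], [7, 2, 6, 14, 13, 18, 6, 0], [2304, -20178, -23973, -786, 2]⟩)))))))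
noncomputable def dF1082 : BT Fct := (.node 22 (.node 11 (.node 5 (.node 2 (.node 1 (.leaf ⟨9, 9, true, [18, 18, 5, 18, 7, 10, 12], [13, 17, 4, 8, 10, 16, 11, 0], [-5084, 43350, 56248, 2011, -141]⟩) (.leaf ⟨9, 9, true, [3, 14, 0, 6, 16, 14, 11, 15], [8, 5, 18, 7, 19, 11, 5, 0], [-1357, 11658, 15239, 519, -44]⟩)) (.node 1 (.leaf ⟨9, 9, true, [4, 16, 2, 7, 5, 8, 12, 6], [7, 2, 13, 11, 7, 14, 0], [-179, 1623, 2440, 106, -27]⟩) (.node 1 (.leaf ⟨6, 6, true, [0, 12, 19, 14, 6, 19, 3], [6, 19, 15, 13, 0, 19, 17], [233, -1942, -2513, -87, 4]⟩) (.leaf ⟨9, 9, true, [4, 7, 4, 19, 5, 6, 8], [8, 13, 4, 10, 18, 8, 0], [-1454, 13012, 16350, 572, -45]⟩)))) (.node 3 (.node 1 (.leaf ⟨9, 9, true, [13, 5, 18, 6, 10, 5, 19, 0], [12, 6, 5, 17, 15, 19, 6, 0], [1768, -14940, -19340, -686, 48]⟩) (.node 1 (.leaf ⟨9, 9, true,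 [19, 14, 13, 11, 0, 15, 13, 3], [9, 0, 17, 19, 16, 5, 17], [1293, -10244, -13343, -424, 11]⟩) (.leaf ⟨4, 10, true, [11, 3, 0], [], []⟩))) (.node 1 (.leaf ⟨10, 10, false, [9, 3, 7, 15, 7, 17, 9, 4], [], [6, -184, -127, 3, -3]⟩) (.node 1 (.leaf ⟨10, 8, true, [19, 6, 16, 7, 17, 10, 13, 2], [7, 18, 11, 15, 19, 10, 15, 3], [-19, 897, 522, -19, 16]⟩) (.leaf ⟨10, 8, true, [14, 4, 9, 12, 16, 0, 16, 2], [18, 8, 0, 19, 7, 14], [-53, 883, 784, 12, 6]⟩))))) (.node 5 (.node 2 (.node 1 (.leaf ⟨10, 10, false, [14, 5, 7, 10, 14, 7, 13, 2], [], [-20, 454, 300, -12, 10]⟩) (.leaf ⟨10, 8, true, [10, 8, 16, 8, 4, 18, 16], [2, 15, 6, 13, 7, 4, 19, 2], [-1255, 10763, 13988, 470, -14]⟩)) (.node 1 (.leaf ⟨10, 9, true, [7, 5, 7, 15, 9, 12, 9], [12, 6, 8, 15, 16, 12, 15], [757, -5804, -9269, -384, 66]⟩) (.node 1 (.leaf ⟨9,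 10, true, [8, 5, 6, 18, 0, 16, 4, 3], [12, 5, 9, 10, 12, 6, 12], [-1017, 7704, 12613, 527, -94]⟩) (.leaf ⟨10, 8, true, [4, 12, 6, 17, 4, 7, 4], [16, 18, 7, 19, 16, 10, 12, 2], [354, -2488, -3361, -126, 11]⟩)))) (.node 3 (.node 1 (.leaf ⟨8, 10, true, [12, 8, 15, 4, 18, 6, 17], [11, 9, 14, 7, 9, 7, 4], [-301, 2050, 2805, 107, -11]⟩) (.node 1 (.leaf ⟨10, 8, true, [0, 6, 15, 12, 6, 15, 2], [15, 11, 4, 18, 12, 10, 13, 6], [-283, 2211, 3069, 130, -23]⟩) (.leaf ⟨10, 8, true, [14, 3, 6, 19, 11, 8, 15, 3], [10, 16, 12, 14, 19, 14, 12], [-503, 5454, 6435, 153, 9]⟩))) (.node 1 (.leaf ⟨8, 10, true, [4, 13, 9, 5, 17, 13, 3], [14, 3, 10, 6, 18, 14, 10, 4], [556, -5892, -6991, -172, -9]⟩) (.node 1 (.leaf ⟨10, 8, true, [13, 15, 9, 15, 6, 10, 5, 2], [13, 7, 3, 6, 18, 8, 15, 11], [889, -7869, -9898, -314, 6]⟩) (.leaf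 ⟨8, 10, true, [13, 19, 16, 18, 2, 14, 6], [18, 6, 3, 14, 3, 6, 6, 16], [-944, 8307, 10454, 333, -6]⟩)))))) (.node 11 (.node 5 (.node 2 (.node 1 (.leaf ⟨10, 8, true, [0, 5, 12, 11, 17, 15, 0], [8, 11, 18, 17, 7, 17, 3], [584, -4327, -6190, -232, 19]⟩) (.leaf ⟨10, 10, false, [10, 7, 8, 11, 17, 12], [], [-549, 4798, 6165, 194, -3]⟩)) (.node 1 (.leaf ⟨10, 8, true, [16, 9, 3, 15, 7, 18, 17, 9], [6, 18, 6, 12, 18, 0, 16, 0], [605, -5389, -6761, -198, -8]⟩) (.node 1 (.leaf ⟨8, 10, true, [19, 4, 8, 15, 0, 10, 13, 0], [10, 16, 7, 5, 8, 13, 19, 4], [-660, 5827, 7317, 217, 8]⟩) (.leaf ⟨10, 8, true, [5, 18, 3, 16, 9, 5, 9], [8, 16, 4, 12, 2, 12, 14, 9], [709, -6179, -7791, -250, 3]⟩)))) (.node 3 (.node 1 (.leaf ⟨10, 10, false, [4, 18, 5, 9, 12, 17], [], [-463, 4566, 5549, 162, 8]⟩) (.node 1 (.leaf ⟨10, 8, true,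 [10, 9, 4, 9, 14, 5, 16, 2], [4, 19, 14, 5, 7, 14, 6], [1456, -12113, -15878, -550, 27]⟩) (.leaf ⟨8, 10, true, [14, 10, 19, 4, 9, 12, 14, 2], [19, 16, 5, 9, 14, 19, 4, 2], [-1403, 11675, 15322, 531, -27]⟩))) (.node 1 (.leaf ⟨10, 8, true, [4, 17, 13, 19, 15, 8, 19], [10, 13, 0, 17, 7, 9, 5, 18], [104, -539, -729, -47, 7]⟩) (.node 1 (.leaf ⟨8, 10, true, [15, 12, 3, 18, 6, 11, 18, 18], [18, 9, 14, 18, 12, 16, 5], [-51, 101, 173, 28, -7]⟩) (.leaf ⟨10, 9, true, [16, 2, 7, 19, 0, 17, 14], [11, 0, 17, 0, 13, 14, 18, 2], [1795, -15244, -20052, -691, 39]⟩))))) (.node 6 (.node 3 (.node 1 (.leaf ⟨9, 10, true, [10, 6, 9, 6, 17, 10, 19, 3], [15, 16, 0, 18, 6, 3, 17], [-2055, 17144, 23396, 834, -67]⟩) (.node 1 (.leaf ⟨10, 10, true, [9, 12, 15, 19, 12, 4, 19, 0], [4, 14, 3, 9, 13, 15, 11, 16], [609, -5673, -6965,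 -197, -7]⟩) (.leaf ⟨8, 10, true, [18, 6, 12, 17, 12, 3, 14, 2], [6, 0, 17, 11, 15, 7, 11, 3], [29, -493, -597, -2, -8]⟩))) (.node 1 (.leaf ⟨10, 8, true, [15, 10, 15, 12, 2, 12, 7, 3], [5, 10, 12, 17, 6, 0, 7, 3], [-1022, 9403, 12011, 370, 3]⟩) (.node 1 (.leaf ⟨9, 10, true, [10, 19, 6, 15, 11, 17, 7, 4], [14, 3, 17, 18, 6, 6, 10], [2636, -21016, -28165, -1053, 94]⟩) (.leaf ⟨9, 10, true, [18, 18, 12, 2, 15, 2], [2, 6, 12, 19, 4, 18, 7], [326, -3492, -3465, -62, -23]⟩)))) (.node 3 (.node 1 (.leaf ⟨10, 9, true, [8, 10, 7, 15, 6, 0, 17], [15, 10, 12, 0, 7, 3], [124, -706, -1830, -106, 21]⟩) (.node 1 (.leaf ⟨9, 10, true, [10, 0, 16, 14, 5, 11, 7, 4], [18, 9, 14, 9, 0, 16, 7, 0], [-641, 5022, 8058, 336, -63]⟩) (.leaf ⟨10, 9, true, [17, 9, 14, 8, 0, 14, 11, 2], [5, 6, 19, 6, 2, 16, 5, 3], [85, -40, -1766,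 -145, 63]⟩))) (.node 1 (.leaf ⟨8, 10, true, [8, 2, 6, 8, 14, 13, 15, 7], [11, 19, 10, 14, 16, 4, 10], [-389, 3298, 4181, 138, -3]⟩) (.node 1 (.leaf ⟨10, 8, true, [19, 12, 14, 19, 12, 14, 7, 4], [6, 14, 12, 15, 9, 7, 7, 0], [322, -3520, -3865, -94, -18]⟩) (.leaf ⟨8, 10, true, [15, 10, 2, 15, 9, 11, 6, 17], [16, 4, 6, 9, 13, 11, 9, 3], [156, -2485, -2297, -24, -16]⟩)))))))
noncomputable def dF1127 : BT Fct := (.node 22 (.node 11 (.node 5 (.node 2 (.node 1 (.leaf ⟨10, 8, true, [10, 13, 17, 6, 15, 11, 17, 3], [17, 0, 13, 4, 10, 12, 6, 0], [1510, -12363, -16498, -546, 15]⟩) (.leaf ⟨8, 10, true, [9, 0, 18, 14, 13, 6, 14, 3], [2, 6, 19, 14, 18, 12, 10], [173, -952, -1498, -74, 16]⟩)) (.node 1 (.leaf ⟨10, 8, true, [0, 17, 9, 14, 9, 11], [8, 11, 13, 16, 9, 4, 19, 3], [944, -9098, -11132, -302, -20]⟩) (.node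 1 (.leaf ⟨8, 10, true, [4, 11, 13, 18, 10, 13, 0], [12, 19, 6, 17, 12, 18, 6], [694, -6766, -7789, -221, -9]⟩) (.leaf ⟨10, 8, true, [7, 17, 0, 18, 6, 19, 6, 13], [0, 12, 11, 19, 12, 10, 5], [-1256, 11932, 14208, 409, 12]⟩)))) (.node 3 (.node 1 (.leaf ⟨10, 8, true, [10, 14, 19, 7, 13, 8, 0], [14, 7, 7, 18, 7, 10, 4, 3], [-2239, 20172, 24921, 844, -71]⟩) (.node 1 (.leaf ⟨8, 10, true, [19, 11, 19, 11, 16, 4, 10], [0, 9, 12, 6, 18, 15, 11], [2184, -19734, -24365, -825, 71]⟩) (.leaf ⟨10, 6, true, [7, 8, 15, 16, 4, 0, 2], [5, 10, 12, 4, 17, 3, 4], [-962, 8110, 11109, 391, -24]⟩))) (.node 1 (.leaf ⟨6, 10, true, [18, 10, 12, 15, 0, 16, 4], [12, 4, 18, 3, 8, 16, 3], [958, -7995, -11003, -388, 24]⟩) (.node 1 (.leaf ⟨10, 9, true, [7, 3, 19, 12, 11, 6, 15], [6, 2, 15, 18, 8, 7, 11, 2], [512, -4358, -6002, -207,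 19]⟩) (.leaf ⟨9, 10, true, [6, 19, 12, 4, 17, 7, 2, 11], [14, 7, 10, 13, 18, 2, 6], [-439, 3751, 5237, 184, -20]⟩))))) (.node 5 (.node 2 (.node 1 (.leaf ⟨10, 9, true, [9, 4, 7, 3, 4, 6, 14], [14, 18, 13, 10, 15, 8, 10], [-1437, 13801, 17178, 544, -25]⟩) (.leaf ⟨8, 10, true, [13, 6, 19, 4, 3, 14, 5], [18, 9, 18, 5, 16, 6, 17, 2], [1081, -9914, -12143, -408, 36]⟩)) (.node 1 (.leaf ⟨10, 8, true, [7, 18, 15, 5, 10, 17, 8], [4, 15, 11, 13, 6, 19, 3], [-1062, 9460, 11843, 420, -46]⟩) (.node 1 (.leaf ⟨6, 10, true, [12, 6, 15, 9, 0, 16, 4, 2], [19, 7, 15, 8, 14, 19, 8, 4], [-243, 1627, 2127, 94, -7]⟩) (.leaf ⟨10, 6, true, [14, 9, 6, 16, 10, 0, 10], [11, 12, 5, 12, 9, 11, 19, 11], [805, -6695, -8465, -279, 3]⟩)))) (.node 3 (.node 1 (.leaf ⟨10, 10, true, [18, 8, 2, 13, 19, 10, 4, 7], [18, 7, 14, 6, 14, 16,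 15], [42, 219, -248, -28, 5]⟩) (.node 1 (.leaf ⟨10, 10, true, [13, 14, 17, 4, 15, 7, 17, 2], [13, 4, 18, 14, 5, 13, 19, 3], [-198, 1818, 2198, 53, 5]⟩) (.leaf ⟨10, 10, true, [10, 16, 18, 6, 15, 4, 16, 2], [14, 16, 13, 11, 19, 11, 8], [-3720, 33259, 41826, 1319, -16]⟩))) (.node 1 (.leaf ⟨10, 10, true, [18, 0, 10, 7, 18, 8, 5, 0], [11, 13, 18, 13, 14, 8, 4], [-797, 3219, 6982, 457, -129]⟩) (.node 1 (.leaf ⟨10, 10, true, [14, 7, 16, 19, 2, 14, 7], [12, 2, 10, 13, 14, 19, 14, 2], [2514, -21961, -30329, -1041, 71]⟩) (.leaf ⟨10, 10, true, [11, 0, 17, 14, 6, 10, 5, 2], [19, 6, 13, 6, 10, 6, 15], [213, -2169, -1987, -31, -22]⟩)))))) (.node 11 (.node 5 (.node 2 (.node 1 (.leaf ⟨6, 10, true, [7, 18, 15, 7, 10, 6, 2], [12, 14, 16, 3, 7, 16, 5], [158, 324, -1829, -159, 67]⟩) (.leaf ⟨10, 6, true, [9, 3, 8, 15,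 12, 15, 9, 0], [3, 7, 11, 6, 14, 19, 6], [-73, -556, 1213, 127, -56]⟩)) (.node 1 (.leaf ⟨10, 10, true, [17, 5, 8, 17, 18, 9], [11, 7, 17, 19, 12, 7, 14], [-6408, 52724, 69398, 2549, -211]⟩) (.node 1 (.leaf ⟨7, 10, true, [11, 18, 6, 4, 9, 10, 19], [5, 15, 7, 17, 7, 18, 0], [2390, -18782, -28465, -1065, 94]⟩) (.leaf ⟨10, 7, true, [16, 8, 6, 13, 11, 13, 16, 2], [18, 11, 8, 5, 7, 19, 10], [-2377, 18512, 28292, 1074, -101]⟩)))) (.node 3 (.node 1 (.leaf ⟨10, 10, true, [18, 18, 15, 18, 14, 8, 16], [4, 14, 9, 6, 18, 8, 15, 0], [961, -8790, -10366, -279, -24]⟩) (.node 1 (.leaf ⟨10, 10, true, [18, 14, 3, 8, 17, 15, 17, 7], [6, 9, 12, 11, 17, 18, 12, 3], [247, 1642, -1223, -276, 135]⟩) (.leaf ⟨4, 11, true, [17, 3, 17, 0, 9, 17, 7, 0], [], []⟩))) (.node 1 (.leaf ⟨11, 11, false, [11, 14, 0, 14, 5, 13, 8, 6],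 [], [-2, 64, 55, -1, 1]⟩) (.node 1 (.leaf ⟨11, 8, true, [6, 17, 4, 18, 7, 19, 14, 0], [8, 12, 11, 3, 6, 17, 8, 4], [24, 287, -245, -31, 17]⟩) (.leaf ⟨8, 11, true, [17, 4, 10, 12, 4, 10, 16], [6, 5, 7, 9, 0, 15, 16, 7], [29, -725, -311, 12, -17]⟩))))) (.node 6 (.node 3 (.node 1 (.leaf ⟨11, 9, true, [16, 19, 5, 10, 0, 17, 7], [16, 14, 5, 16, 11, 14, 8, 3], [2102, -17848, -23716, -855, 76]⟩) (.node 1 (.leaf ⟨9, 11, true, [14, 7, 14, 16, 0, 18, 9, 3], [6, 16, 0, 11, 4, 18, 17], [-1772, 15395, 19649, 688, -48]⟩) (.leaf ⟨11, 8, true, [13, 4, 18, 13, 10, 16, 6, 3], [5, 8, 10, 17, 4, 3, 15, 0], [-505, 4431, 5909, 216, -29]⟩))) (.node 1 (.leaf ⟨8, 11, true, [17, 5, 8, 6, 10, 0, 17, 10], [8, 6, 16, 7, 10, 0, 13, 0], [558, -4869, -6465, -235, 29]⟩) (.node 1 (.leaf ⟨11, 8, true, [5, 9, 11, 19, 15, 8, 5], [2,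 17, 5, 8, 0, 16, 11, 14], [271, -2240, -2863, -108, 12]⟩) (.leaf ⟨8, 11, true, [14, 12, 6, 3, 19, 12], [4, 9, 14, 18, 10, 8, 4], [-326, 2678, 3419, 127, -12]⟩)))) (.node 3 (.node 1 (.leaf ⟨11, 8, true, [12, 4, 9, 5, 12, 4, 9], [9, 16, 9, 6, 18, 2, 15, 8], [163, -1037, -1915, -89, 18]⟩) (.node 1 (.leaf ⟨11, 8, true, [3, 18, 4, 17, 15, 11, 3], [0, 19, 0, 15, 6, 12, 14, 17], [8, -370, -97, 11, -5]⟩) (.leaf ⟨8, 11, true, [12, 3, 8, 17, 14, 16, 12, 0], [2, 10, 14, 16, 5, 19, 2], [45, -68, -459, -30, 5]⟩))) (.node 1 (.leaf ⟨11, 8, true, [17, 0, 14, 16, 4, 19, 10], [9, 15, 8, 12, 11, 0, 11, 0], [-140, 1409, 1776, 50]⟩) (.node 1 (.leaf ⟨8, 11, true, [2, 15, 9, 7, 12, 18], [11, 18, 5, 17, 15, 0, 16], [193, -1847, -2332, -69]⟩) (.leaf ⟨11, 8, true, [9, 2, 18, 12, 4, 16, 3], [3, 14, 3, 7, 16, 7, 13], [478,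 -4078, -5312, -179, 12]⟩)))))))
noncomputable def dF1172 : BT Fct := (.node 22 (.node 11 (.node 5 (.node 2 (.node 1 (.leaf ⟨11, 9, true, [6, 6, 8, 4, 8, 2, 12], [9, 15, 0, 10, 4, 6, 15, 17], [756, -5827, -9227, -376, 62]⟩) (.leaf ⟨9, 11, true, [17, 3, 17, 0, 10, 16, 6, 4], [13, 3, 9, 5, 9, 7, 7], [-1088, 8280, 13294, 543, -90]⟩)) (.node 1 (.leaf ⟨11, 8, true, [14, 3, 8, 17, 18, 10, 15, 0], [7, 15, 4, 19, 0, 16, 0, 11], [242, -1888, -2620, -104, 13]⟩) (.node 1 (.leaf ⟨8, 11, true, [11, 5, 6, 15, 9, 0, 13, 0], [8, 2, 4, 19, 17, 9, 11, 0], [-189, 1450, 2064, 85, -13]⟩) (.leaf ⟨11, 4, true, [4, 8, 3, 19, 10, 12, 19, 13], [13, 3, 10, 5, 19, 16, 6, 0], [-38, 370, 453, 27, -10]⟩)))) (.node 3 (.node 1 (.leaf ⟨4, 11, true, [6, 0, 16, 10, 7, 9, 3, 0], [12, 18, 13, 11, 18, 13, 11, 2], [38, -370, -450, -28,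 11]⟩) (.node 1 (.leaf ⟨11, 4, true, [6, 5, 11, 12, 16, 15, 2], [0, 4, 10, 15, 8, 10, 18, 0], [23, -350, -356, -1, -6]⟩) (.leaf ⟨11, 11, false, [19, 14, 0, 15, 8, 19, 6, 14], [], [-61, 748, 843, 28, -4]⟩))) (.node 1 (.leaf ⟨11, 8, true, [13, 5, 17, 11, 19, 7, 16], [7, 7, 16, 10, 8, 10, 13], [1689, -13934, -18202, -627, 29]⟩) (.node 1 (.leaf ⟨11, 8, true, [10, 0, 16, 7, 15, 9, 4, 2], [18, 9, 2, 17, 4, 17, 0, 17], [185, -1857, -2153, -60, -2]⟩) (.leaf ⟨8, 11, true, [4, 8, 0, 8, 7, 8, 5, 16], [16, 0, 8, 14, 17, 10, 7, 4], [-240, 2295, 2709, 79, 2]⟩))))) (.node 5 (.node 2 (.node 1 (.leaf ⟨11, 8, true, [12, 19, 5, 16, 8, 17, 12], [0, 16, 19, 5, 19, 11], [379, -3366, -4402, -153, 15]⟩) (.leaf ⟨8, 11, true, [16, 7, 17, 15, 7, 0, 4], [13, 16, 9, 17, 4, 18, 13], [-326, 2928, 3846, 134, -15]⟩)) (.node 1 (.leaf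 ⟨11, 8, true, [2, 6, 9, 16, 4, 19, 17, 12], [13, 3, 5, 19, 7, 15, 6], [227, -1874, -2447, -87, 7]⟩) (.node 1 (.leaf ⟨8, 11, true, [16, 18, 4, 8, 2, 14, 10, 4], [4, 9, 19, 11, 17, 18, 10, 2], [-174, 1436, 1891, 68, -7]⟩) (.leaf ⟨11, 8, true, [9, 7, 17, 18, 14, 7, 14], [18, 17, 13, 6, 12, 17], [531, -4425, -5697, -182, -10]⟩)))) (.node 3 (.node 1 (.leaf ⟨8, 11, true, [18, 12, 2, 15, 7, 16, 2], [15, 6, 15, 19, 16, 6, 8], [-586, 4863, 6253, 201, 10]⟩) (.node 1 (.leaf ⟨11, 4, true, [10, 13, 0, 7, 10, 8, 17, 5], [3, 19, 10, 7, 12, 19], [1528, -12738, -16565, -572, 29]⟩) (.leaf ⟨4, 11, true, [19, 6, 0, 15, 18, 5, 7, 0], [15, 6, 11, 16, 11, 4, 19, 0], [-1529, 12776, 16629, 574, -29]⟩))) (.node 1 (.leaf ⟨11, 8, true, [17, 0, 11, 17, 7, 16, 18, 3], [10, 7, 10, 0, 5, 12, 16], [27, -450, -561, -7, -13]⟩) (.node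 1 (.leaf ⟨11, 8, true, [4, 8, 14, 9, 0, 17, 2], [11, 0, 13, 6, 16, 14, 9, 2], [-305, -133, 2119, 161, -21]⟩) (.leaf ⟨8, 11, true, [6, 19, 6, 12, 18, 0, 7], [8, 14, 10, 17, 10, 17, 0], [250, 571, -1563, -142, 21]⟩)))))) (.node 11 (.node 5 (.node 2 (.node 1 (.leaf ⟨11, 10, true, [16, 4, 13, 19, 13, 4, 19, 0], [10, 17, 3, 7, 11, 9, 16, 4], [534, -5752, -6679, -167, -7]⟩) (.leaf ⟨10, 11, true, [3, 6, 0, 17, 0, 16, 0, 9], [10, 8, 12, 14, 19, 0, 17, 2], [-455, 5704, 6190, 132, 21]⟩)) (.node 1 (.leaf ⟨11, 8, true, [11, 4, 15, 19, 16, 0], [11, 12, 18, 7, 17, 14, 16], [-3613, 28589, 39218, 1464, -128]⟩) (.node 1 (.leaf ⟨11, 8, true, [17, 15, 0, 3, 5, 19, 11, 6], [16, 11, 3, 7, 17, 8, 14, 0], [-4170, 36294, 43791, 1510, -70]⟩) (.leaf ⟨11, 11, false, [9, 4, 19, 6, 13, 14, 6, 0], [], [4755, -41149, -50035,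 -1711, 60]⟩)))) (.node 3 (.node 1 (.leaf ⟨11, 8, true, [19, 15, 7, 12, 15, 11, 14, 2], [11, 0, 4, 8, 6, 16, 18], [-4742, 40915, 49957, 1714, -63]⟩) (.node 1 (.leaf ⟨8, 11, true, [9, 7, 0, 17, 7, 10, 13, 17], [8, 6, 8, 4, 19, 4, 0, 12], [4795, -41353, -50513, -1733, 63]⟩) (.leaf ⟨11, 8, true, [19, 2, 6, 9, 12, 19, 6], [5, 10, 8, 19, 15, 19, 16], [218, -1992, -2496, -69, 4]⟩))) (.node 1 (.leaf ⟨8, 11, true, [6, 12, 14, 4, 19, 2, 6], [7, 18, 13, 8, 7, 3, 18], [-165, 1554, 1940, 50, -4]⟩) (.node 1 (.leaf ⟨11, 8, true, [7, 0, 5, 11, 4, 15, 8, 4], [16, 6, 4, 14, 8, 0, 5, 16], [30, -922, -829, 2, -16]⟩) (.leaf ⟨8, 11, true, [16, 0, 7, 5, 13, 7, 19, 0], [8, 2, 18, 12, 10, 13, 16, 0], [-85, 1360, 1385, 17, 16]⟩))))) (.node 6 (.node 3 (.node 1 (.leaf ⟨11, 8, true, [17, 8, 19, 7, 16, 18, 0, 2], [16, 8, 12,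 19, 16, 18, 0], [-4926, 42179, 51782, 1789, -73]⟩) (.node 1 (.leaf ⟨8, 11, true, [15, 2, 8, 12, 11, 6, 11], [13, 10, 6, 3, 17, 11, 6, 3], [4871, -41741, -51226, -1770, 73]⟩) (.leaf ⟨11, 8, true, [6, 18, 11, 9, 14, 17], [18, 3, 15, 18, 11, 16, 15, 3], [477, -4104, -5362, -181, 11]⟩))) (.node 1 (.leaf ⟨11, 11, false, [8, 4, 8, 10, 0, 19, 16, 0], [], [1266, -10264, -13389, -465, 18]⟩) (.node 1 (.leaf ⟨11, 9, true, [6, 8, 11, 18, 10, 3, 5], [16, 2, 19, 16, 10, 17, 11, 3], [-2571, 22984, 25809, 850, -1]⟩) (.leaf ⟨9, 11, true, [18, 13, 7, 16, 18, 11], [4, 2, 11, 19, 10, 9, 7], [2239, -20531, -21742, -683, -27]⟩)))) (.node 3 (.node 1 (.leaf ⟨11, 8, true, [3, 6, 19, 5, 16, 19, 6], [9, 11, 6, 15, 9, 12, 8, 2], [-2437, 19668, 25825, 902, -38]⟩) (.node 1 (.leaf ⟨11, 11, false, [9, 11, 2, 18, 5, 9, 11, 12],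 [], [1932, -15228, -19906, -686, 9]⟩) (.leaf ⟨11, 8, true, [11, 13, 5, 9, 7, 2], [4, 15, 0, 17, 4, 19, 2, 16], [-2901, 23132, 29464, 1007, -4]⟩))) (.node 1 (.leaf ⟨8, 11, true, [18, 10, 7, 17, 18, 9, 7], [3, 6, 8, 14, 4, 10], [2846, -22694, -28908, -988, 4]⟩) (.node 1 (.leaf ⟨11, 8, true, [12, 2, 15, 11, 17, 11, 0, 3], [10, 16, 8, 4, 18, 6, 15, 3], [-2327, 18741, 24865, 857, -18]⟩) (.leaf ⟨8, 11, true, [6, 9, 5, 7, 15, 12], [2, 0, 10, 16, 10, 14, 9, 3], [2380, -19179, -25421, -876, 18]⟩)))))))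
noncomputable def dF1217 : BT Fct := (.node 22 (.node 11 (.node 5 (.node 2 (.node 1 (.leaf ⟨11, 9, true, [13, 7, 12, 4, 7, 15, 2], [4, 6, 4, 19, 8, 12, 4, 0], [960, -7264, -9822, -375, 29]⟩) (.leaf ⟨9, 11, true, [8, 4, 11, 17, 5, 12, 16, 3], [3, 14, 6, 5, 13, 6, 12], [-889, 6711, 9099, 351, -29]⟩)) (.node 1 (.leaf ⟨11, 8, true, [8, 5, 2, 10, 19, 11, 9], [14, 3, 13, 14, 8, 5, 10], [-898, 7001, 9232, 320, -8]⟩) (.node 1 (.leaf ⟨8, 11, true, [2, 10, 4, 10, 9, 19, 3], [8, 10, 18, 11, 14, 19, 8], [843, -6563, -8676, -301, 8]⟩) (.leaf ⟨8, 11, true, [12, 17, 7, 19, 13, 6, 16], [3, 17, 18, 15, 5, 7, 11], [-742, 6296, 8148, 270, -11]⟩)))) (.node 3 (.node 1 (.leaf ⟨11, 8, true, [14, 9, 13, 6, 19, 12, 5], [17, 7, 12, 18, 6, 16, 13], [1409, -11324, -14720, -490, 1]⟩) (.node 1 (.leaf ⟨8, 11, true, [0, 9, 16,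 2, 6, 16, 7, 0], [13, 10, 0, 10, 9, 6, 10, 16, 3], [-220, 1940, 2495, 70, 19]⟩) (.leaf ⟨11, 8, true, [9, 7, 17, 9, 17, 9, 7, 3], [8, 0, 19, 10, 9, 17, 8, 0], [-2979, 23552, 30800, 1081, -46]⟩))) (.node 1 (.leaf ⟨8, 11, true, [11, 6, 17, 14, 18, 13, 2], [6, 10, 7, 18, 14, 16, 5, 2], [-1787, 13794, 18734, 701, -60]⟩) (.node 1 (.leaf ⟨11, 8, true, [10, 8, 14, 12, 4, 17, 11], [8, 3, 19, 15, 16, 7, 10], [4986, -39350, -52084, -1851, 86]⟩) (.leaf ⟨11, 11, true, [5, 17, 6, 14, 16, 6, 18], [14, 17, 3, 18, 6, 18, 4], [97, -943, -1143, -36, 3]⟩))))) (.node 5 (.node 2 (.node 1 (.leaf ⟨8, 11, true, [10, 14, 2, 0, 14, 18, 9, 5], [3, 5, 16, 6, 15, 6, 12, 3], [-700, 6227, 7912, 239, 13]⟩) (.leaf ⟨8, 11, true, [17, 4, 15, 6, 10, 6, 8, 2], [12, 16, 4, 13, 8, 10, 18, 9], [206, -872, -1255, -61, -17]⟩)) (.node 1 (.leaf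 ⟨11, 8, true, [9, 6, 18, 6, 15, 8, 17, 3], [7, 0, 7, 11, 7, 14, 5, 16], [-1471, 11072, 14589, 527, -2]⟩) (.node 1 (.leaf ⟨7, 11, true, [16, 0, 6, 16, 4, 14, 17, 2], [11, 12, 16, 8, 2, 14, 8], [30, -66, -155, -7, -4]⟩) (.leaf ⟨11, 7, true, [7, 0, 5, 16, 11, 18, 14, 0], [11, 5, 2, 5, 17, 7, 0, 17], [-29, 2, 100, 8, 3]⟩)))) (.node 3 (.node 1 (.leaf ⟨11, 8, true, [7, 16, 6, 3, 16, 4, 2], [0, 13, 18, 10, 16, 12, 0], [500, -1404, -5464, -195, -14]⟩) (.node 1 (.leaf ⟨8, 11, true, [0, 7, 11, 13, 6, 16, 9, 0], [0, 17, 7, 14, 8, 3, 8, 0], [3633, -28733, -39388, -1455, 116]⟩) (.leaf ⟨11, 8, true, [5, 3, 9, 4, 18, 6, 16], [12, 0, 19, 15, 9, 10, 9, 0], [-8389, 69882, 89423, 3166, -176]⟩))) (.node 1 (.leaf ⟨8, 11, true, [14, 3, 17, 11, 5, 11], [5, 3, 6, 18, 6, 15, 13], [178, -2019, -2150, -37, -15]⟩) (.node 1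 (.leaf ⟨11, 8, true, [14, 3, 7, 15, 12, 14, 9], [10, 4, 10, 16, 2, 15], [1089, -8309, -11294, -427, 32]⟩) (.leaf ⟨11, 11, true, [17, 3, 15, 6, 8, 6, 13, 2], [14, 2, 8, 7, 14, 9, 17, 2], [484, -4925, -6085, -220, 30]⟩)))))) (.node 11 (.node 5 (.node 2 (.node 1 (.leaf ⟨8, 11, true, [8, 16, 2, 15, 12, 7, 4], [6, 16, 6, 12, 10, 16, 0], [-2251, 19792, 26286, 931, -110]⟩) (.leaf ⟨11, 8, true, [18, 7, 15, 17, 12, 17, 2], [5, 6, 13, 14, 3, 17, 9], [4245, -35832, -47090, -1644, 122]⟩)) (.node 1 (.leaf ⟨8, 11, true, [11, 16, 2, 14, 8, 5, 7, 10], [13, 10, 12, 10, 14, 17], [204, -1989, -2369, -71, 5]⟩) (.node 1 (.leaf ⟨11, 8, true, [11, 13, 18, 11, 12, 2, 0], [12, 19, 3, 14, 11, 12, 8, 12], [-1471, 12253, 15758, 536, -23]⟩) (.leaf ⟨8, 11, true, [8, 5, 11, 4, 10, 6, 19], [12, 16, 10, 2, 17, 4, 8, 4], [235, -1981,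 -2343, -88, 18]⟩)))) (.node 3 (.node 1 (.leaf ⟨11, 8, true, [16, 4, 9, 15, 19, 4, 16, 2], [18, 6, 13, 4, 10, 4, 9], [1030, -8283, -11046, -377]⟩) (.node 1 (.leaf ⟨8, 11, true, [16, 0, 7, 17, 10, 16, 8], [4, 18, 2, 12, 14, 17, 6, 18], [308, -2267, -3667, -189, 70]⟩) (.leaf ⟨11, 8, true, [17, 9, 14, 4, 3, 17, 8], [9, 17, 11, 16, 6, 0, 17], [2889, -23225, -29628, -962, -43]⟩))) (.node 1 (.leaf ⟨9, 11, true, [18, 15, 5, 18, 11, 6, 4], [19, 6, 8, 6, 3, 19, 6, 19], [-1965, 16454, 21776, 794, -64]⟩) (.node 1 (.leaf ⟨11, 9, true, [11, 6, 18, 5, 8, 13, 7, 4], [5, 7, 10, 19, 4, 14, 19], [-2789, 24631, 28204, 918, 3]⟩) (.leaf ⟨9, 11, true, [19, 14, 3, 19, 6, 15, 3], [15, 7, 14, 17, 6, 4, 2], [-1544, 12519, 16780, 629, -69]⟩))))) (.node 6 (.node 3 (.node 1 (.leaf ⟨11, 9, true, [4, 7, 18, 11, 8, 13, 6, 4], [2,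 14, 7, 18, 2, 15, 18], [2209, -17483, -23297, -850, 60]⟩) (.node 1 (.leaf ⟨8, 11, true, [19, 6, 16, 11, 7, 14, 18, 0], [15, 9, 4, 17, 18, 13, 6], [-138, 1168, 1622, 68, -13]⟩) (.leaf ⟨11, 8, true, [7, 19, 6, 12, 17, 7, 14, 0], [6, 4, 12, 15, 16, 11, 13, 2], [3337, -26724, -34972, -1218, 39]⟩))) (.node 1 (.leaf ⟨11, 11, true, [18, 17, 7, 18, 0, 17, 7], [16, 4, 7, 3, 4, 15, 13, 18], [-1754, 13471, 17730, 625, 6]⟩) (.node 1 (.leaf ⟨11, 11, true, [6, 10, 0, 14, 6, 15, 9], [8, 2, 11, 6, 11, 13, 10, 4], [-2915, 23385, 29928, 1014, -3]⟩) (.leaf ⟨8, 11, true, [19, 6, 17, 18, 11, 16, 6, 0], [6, 6, 15, 7, 11, 7, 8, 0], [-563, 4800, 5957, 201, -15]⟩)))) (.node 3 (.node 1 (.leaf ⟨11, 8, true, [11, 13, 14, 3, 16, 13, 6, 2], [10, 5, 8, 13, 18, 9, 12, 14], [-4132, 35601, 43235, 1482, -41]⟩) (.node 1 (.leaf ⟨11,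 11, true, [9, 4, 0, 8, 16, 11, 7, 14], [5, 16, 4, 16, 2, 17, 10], [145, -1725, -2346, -71, 9]⟩) (.leaf ⟨8, 11, true, [17, 9, 5, 7, 18, 9, 0, 10], [18, 7, 17, 0, 14, 7, 13], [-360, 2899, 3689, 127, -1]⟩))) (.node 1 (.leaf ⟨11, 8, true, [8, 14, 7, 5, 17, 12], [12, 6, 6, 14, 9, 17, 7, 0], [1627, -13227, -17133, -591, 18]⟩) (.node 1 (.leaf ⟨8, 11, true, [17, 0, 17, 11, 18, 10, 17, 3], [14, 3, 18, 7, 5, 19, 13], [3093, -24501, -32175, -1123, 35]⟩) (.leaf ⟨11, 8, true, [8, 5, 12, 3, 15, 13, 9, 0], [8, 7, 17, 6, 12, 18, 6, 0], [-6292, 49993, 65470, 2274, -62]⟩)))))))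
noncomputable def dF1262 : BT Fct := (.node 22 (.node 11 (.node 5 (.node 2 (.node 1 (.leaf ⟨8, 11, true, [19, 14, 9, 18, 0, 9, 14], [0, 17, 4, 11, 13, 2, 17, 3], [-792, 4599, 7737, 329, -19]⟩) (.leaf ⟨11, 8, true, [7, 16, 13, 18, 8, 11, 9, 0], [15, 8, 0, 19, 8, 15, 18], [-2698, 26286, 28909, 917, -23]⟩)) (.node 1 (.leaf ⟨8, 11, true, [14, 3, 12, 19, 11, 16, 6, 3], [7, 14, 19, 15, 7, 5, 13, 11], [-5, -278, -236, 12, -9]⟩) (.node 1 (.leaf ⟨11, 8, true, [11, 9, 14, 19, 10, 17, 9, 3], [7, 4, 8, 4, 19, 14, 16, 3], [65, -470, -607, -40, 13]⟩) (.leaf ⟨11, 11, true, [7, 0, 12, 11, 4, 8, 16, 3], [12, 14, 18, 13, 4, 16, 6, 2], [-4306, 40291, 45207, 1525, -65]⟩)))) (.node 3 (.node 1 (.leaf ⟨11, 11, true, [0, 16, 4, 15, 11, 0, 14], [15, 16, 7, 13, 19, 6, 14, 2], [1582, -13959, -17713, -548, -18]⟩) (.node 1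 (.leaf ⟨8, 11, true, [18, 15, 13, 14, 13, 18, 7, 0], [15, 13, 15, 0, 15, 9, 17, 0], [776, -8126, -9623, -303, 37]⟩) (.leaf ⟨11, 8, true, [10, 0, 8, 4, 14, 7, 19], [8, 5, 10, 0, 4, 16, 6, 3], [-3973, 33554, 42863, 1455, -65]⟩))) (.node 1 (.leaf ⟨9, 11, true, [16, 4, 19, 12, 2, 16, 8], [6, 16, 19, 6, 16, 15, 12, 0], [-2847, 23248, 32508, 1222, -139]⟩) (.node 1 (.leaf ⟨11, 9, true, [6, 6, 0, 6, 19, 7, 17, 11], [9, 17, 9, 3, 18, 5, 17], [4839, -39224, -53257, -1936, 152]⟩) (.leaf ⟨8, 11, true, [10, 5, 16, 11, 18, 12, 8, 3], [3, 17, 5, 18, 4, 9, 6, 11], [544, -5319, -6617, -222, 12]⟩))))) (.node 5 (.node 2 (.node 1 (.leaf ⟨11, 8, true, [12, 3, 17, 5, 12, 14, 10], [19, 2, 8, 6, 17, 6, 14, 0], [-2416, 19799, 25680, 880, -17]⟩) (.leaf ⟨9, 11, true, [10, 19, 2, 18, 4, 16, 18, 13], [0, 2, 4, 6, 19, 15, 10,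 0], [-1902, 14105, 19895, 776, -61]⟩)) (.node 1 (.leaf ⟨11, 9, true, [2, 17, 7, 12, 5, 19, 16, 7], [18, 0, 19, 5, 19, 8, 14, 0], [1962, -14853, -20738, -804, 65]⟩) (.node 1 (.leaf ⟨8, 11, true, [16, 6, 18, 15, 16, 11, 5, 3], [18, 7, 18, 8, 7, 5, 18], [-350, 1958, 3046, 126, -3]⟩) (.leaf ⟨11, 8, true, [13, 6, 18, 11, 12, 16, 15, 2], [17, 3, 13, 14, 7, 17, 15, 3], [-1583, 13270, 16860, 560, -6]⟩)))) (.node 3 (.node 1 (.leaf ⟨8, 11, true, [17, 12, 17, 7, 3, 14, 9], [15, 11, 16, 4, 19, 17, 3], [-739, 6220, 8575, 303, -32]⟩) (.node 1 (.leaf ⟨11, 8, true, [11, 6, 8, 14, 8, 5, 16, 0], [8, 15, 2, 6, 16, 13, 16], [2672, -21512, -28536, -988, 40]⟩) (.leaf ⟨8, 11, true, [19, 6, 5, 19, 12, 10, 3, 4], [6, 9, 15, 17, 6, 14, 17, 2], [-463, 3182, 4936, 193, -29]⟩))) (.node 1 (.leaf ⟨11, 8, true, [6, 3, 0, 12, 10,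 16, 18, 6], [2, 0, 14, 7, 10, 15, 17, 3], [1728, -13446, -18325, -658, 47]⟩) (.node 1 (.leaf ⟨8, 11, true, [2, 10, 19, 12, 6, 17, 0, 4], [5, 18, 5, 18, 7, 10, 19, 3], [865, -9587, -10478, -250, -33]⟩) (.leaf ⟨11, 8, true, [19, 2, 16, 7, 14, 9, 4], [5, 0, 16, 7, 13, 18, 11, 3], [400, -677, -2911, -215, 51]⟩)))))) (.node 11 (.node 5 (.node 2 (.node 1 (.leaf ⟨8, 11, true, [3, 8, 19, 10, 15, 8, 15], [17, 11, 6, 10, 2, 18, 10], [362, -3795, -4069, -112, -2]⟩) (.leaf ⟨11, 8, true, [11, 18, 6, 6, 19, 14, 8, 3], [14, 9, 14, 11, 18, 9, 2], [-1568, 13311, 16615, 549, -12]⟩)) (.node 1 (.leaf ⟨11, 11, true, [17, 6, 4, 14, 8, 7, 15], [6, 2, 18, 11, 16, 6, 8, 3], [-1316, 9952, 13611, 507, -48]⟩) (.node 1 (.leaf ⟨8, 11, true, [19, 7, 12, 4, 8, 15, 7, 4], [8, 6, 6, 18, 4, 9, 10, 4], [647, -6009, -6623, -168, -56]⟩)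 (.leaf ⟨11, 8, true, [0, 7, 0, 15, 18, 15, 5, 9], [8, 16, 6, 5, 12, 6, 18, 3], [-1314, 10973, 13140, 389, 65]⟩)))) (.node 3 (.node 1 (.leaf ⟨11, 11, true, [2, 15, 8, 6, 8, 14, 16], [6, 16, 9, 5, 6, 19, 4], [769, -6960, -8902, -292, 15]⟩) (.node 1 (.leaf ⟨10, 11, true, [11, 19, 11, 13, 7, 18, 14], [6, 18, 3, 16, 9, 4, 16, 0], [2357, -21358, -26551, -826, -5]⟩) (.leaf ⟨11, 10, true, [0, 16, 18, 14, 16, 14], [15, 19, 6, 12, 10, 18, 10], [-1092, 11094, 13162, 361, 23]⟩))) (.node 1 (.leaf ⟨11, 11, true, [3, 7, 12, 8, 17, 0], [4, 0, 11, 6, 14, 6, 4], [-3889, 30614, 42342, 1566, -149]⟩) (.node 1 (.leaf ⟨8, 11, true, [6, 12, 3, 19, 5, 18, 13, 2], [18, 7, 9, 6, 9, 4, 7, 2], [-1367, 11224, 14855, 546, -39]⟩) (.leaf ⟨11, 8, true, [13, 17, 6, 5, 13, 8, 4, 0], [9, 10, 0, 4, 19, 6, 14, 19], [1368, -11288, -14910,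 -545, 38]⟩))))) (.node 6 (.node 3 (.node 1 (.leaf ⟨11, 11, true, [15, 0, 14, 7, 15, 7, 12, 3], [14, 16, 4, 19, 2, 11, 16, 0], [-5094, 44197, 53975, 1807, -37]⟩) (.node 1 (.leaf ⟨8, 11, true, [13, 17, 11, 7, 15, 19, 7, 3], [0, 14, 6, 17, 10, 8, 0], [-504, 3524, 5952, 238, -46]⟩) (.leaf ⟨11, 8, true, [5, 2, 6, 8, 6, 16, 3], [15, 11, 18, 15, 13, 4, 18, 2], [566, -4336, -6850, -265, 49]⟩))) (.node 1 (.leaf ⟨11, 4, true, [19, 13, 4, 17, 7, 5], [3, 4, 15, 11, 5, 18, 0], [-1406, 12906, 14744, 432, 32]⟩) (.node 1 (.leaf ⟨4, 11, true, [7, 16, 19, 13, 6, 18, 11], [4, 6, 16, 5, 12, 18], [1406, -12882, -14717, -433, -31]⟩) (.leaf ⟨11, 8, true, [0, 12, 11, 13, 7, 14, 12, 2], [10, 4, 18, 11, 8, 13, 7], [-1074, 9172, 11310, 370, -1]⟩)))) (.node 3 (.node 1 (.leaf ⟨11, 8, true, [7, 12, 4, 18, 12, 10, 7, 11], [10,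 0, 5, 16, 3, 14, 6, 4], [423, -1682, -3688, -188, 23]⟩) (.node 1 (.leaf ⟨8, 11, true, [16, 3, 18, 7, 15, 11, 16], [8, 4, 15, 3, 6, 14, 11, 2], [-478, 2120, 4244, 207, -23]⟩) (.leaf ⟨11, 6, true, [9, 11, 5, 16, 8, 0, 12, 18], [18, 0, 19, 16, 4, 14, 6, 2], [603, -4931, -6379, -257, 41]⟩))) (.node 1 (.leaf ⟨6, 11, true, [17, 2, 13, 16, 7, 4, 14], [19, 13, 0, 9, 17, 4, 10, 8], [-703, 5622, 7483, 300, -44]⟩) (.node 1 (.leaf ⟨11, 11, true, [2, 16, 4, 6, 4, 15, 11], [6, 19, 16, 6, 13, 15, 9], [-2814, 22998, 28926, 1006, -28]⟩) (.leaf ⟨11, 11, true, [16, 6, 12, 7, 19, 13, 6], [9, 12, 3, 16, 4, 8, 17, 8], [-136, 675, -127, 12, 25]⟩)))))))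
noncomputable def dF1307 : BT Fct := (.node 22 (.node 11 (.node 5 (.node 2 (.node 1 (.leaf ⟨11, 11, true, [10, 14, 19, 6, 19, 13], [7, 12, 18, 6, 13, 7, 17], [1401, -10939, -13262, -477, -7]⟩) (.leaf ⟨11, 11, true, [11, 12, 5, 12, 8, 7, 3], [12, 3, 4, 17, 15, 17, 12], [-3952, 32007, 42123, 1492, -83]⟩)) (.node 1 (.leaf ⟨10, 11, true, [8, 19, 10, 5, 8, 19, 2], [9, 17, 2, 0, 19, 6, 15, 17], [-427, 1768, 2813, 128, 22]⟩) (.node 1 (.leaf ⟨11, 10, true, [12, 7, 18, 9, 11, 19, 4, 2], [11, 0, 16, 12, 0, 17, 8], [-4329, 39381, 47222, 1583, -82]⟩) (.leaf ⟨8, 11, true, [13, 15, 19, 7, 19, 14, 17, 3], [7, 3, 12, 14, 7, 17, 8, 4], [-239, 2237, 2623, 80, -9]⟩)))) (.node 3 (.node 1 (.leaf ⟨11, 8, true, [14, 5, 16, 5, 19, 14, 9, 4], [15, 5, 7, 18, 7, 8, 12, 11], [-967, 7279, 9923, 357, -5]⟩) (.node 1 (.leaf ⟨11,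 11, true, [3, 4, 10, 14, 8, 3, 4], [13, 15, 8, 16, 10, 18, 4], [610, -3536, -5887, -260, 36]⟩) (.leaf ⟨11, 8, true, [16, 11, 17, 14, 7, 18, 4], [13, 2, 17, 7, 11, 17, 18, 0], [513, -5127, -6053, -195, 23]⟩))) (.node 1 (.leaf ⟨11, 10, true, [16, 0, 11, 12, 7, 17, 6], [14, 19, 10, 4, 7, 15, 16, 3], [-2436, 23504, 24323, 674, 77]⟩) (.node 1 (.leaf ⟨10, 11, true, [4, 10, 6, 10, 19, 10, 5], [7, 16, 6, 13, 10, 0, 17], [3004, -28756, -30788, -856, -84]⟩) (.leaf ⟨11, 11, true, [8, 4, 15, 7, 10, 16, 18], [2, 6, 19, 14, 0, 15, 5], [1430, -11642, -15226, -525, 19]⟩))))) (.node 5 (.node 2 (.node 1 (.leaf ⟨11, 10, true, [17, 2, 8, 12, 4, 15, 7, 2], [16, 10, 17, 7, 7, 9, 17, 3], [-3842, 33183, 39720, 1358, -42]⟩) (.leaf ⟨10, 11, true, [15, 7, 8, 15, 2, 18, 4], [9, 5, 13, 8, 4, 16, 4, 0], [3855, -33453, -39893,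 -1349, 35]⟩)) (.node 1 (.leaf ⟨8, 11, true, [12, 4, 14, 13, 6, 18, 17, 0], [4, 18, 0, 12, 16, 4, 11], [247, -2917, -2626, -19, -39]⟩) (.node 1 (.leaf ⟨11, 8, true, [0, 9, 7, 7, 18, 14, 9, 4], [4, 15, 9, 10, 19, 7, 7, 2], [1686, -12375, -17335, -666, 47]⟩) (.leaf ⟨11, 8, true, [0, 16, 7, 16, 10, 7, 0], [16, 4, 18, 7, 16, 9, 14], [-4238, 36548, 44016, 1500, -27]⟩)))) (.node 3 (.node 1 (.leaf ⟨8, 11, true, [6, 8, 18, 4, 17, 7, 8, 0], [0, 6, 11, 17, 6, 17, 0], [4183, -36110, -43460, -1481, 27]⟩) (.node 1 (.leaf ⟨11, 11, true, [0, 13, 6, 11, 5, 8, 4, 16], [17, 5, 9, 4, 10, 7, 12, 0], [171, -1529, -1877, -45, -13]⟩) (.leaf ⟨11, 11, true, [15, 19, 0, 17, 4, 19], [9, 13, 16, 5, 18, 4, 0], [-1056, 9151, 10995, 345, 5]⟩))) (.node 1 (.leaf ⟨8, 11, true, [7, 15, 5, 9, 14, 0, 17, 3], [2, 14, 7, 17, 15, 19, 2],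 [-568, 4201, 6109, 247, -32]⟩) (.node 1 (.leaf ⟨11, 8, true, [17, 9, 4, 19, 5, 12, 6, 14], [16, 10, 6, 0, 5, 18, 5, 3], [-4186, 36884, 43871, 1465, -29]⟩) (.leaf ⟨11, 11, true, [6, 18, 4, 12, 10, 14, 19, 7], [16, 10, 7, 17, 7, 4, 10, 0], [-1504, 11598, 16034, 601, -50]⟩)))))) (.node 11 (.node 5 (.node 2 (.node 1 (.leaf ⟨4, 11, true, [8, 6, 0, 7, 18, 0, 10, 3], [15, 5, 7, 19, 16, 6, 12, 0], [-718, 5297, 8654, 372, -70]⟩) (.leaf ⟨11, 4, true, [2, 11, 6, 15, 6, 15, 10], [16, 4, 16, 2, 10, 7, 11, 0], [778, -6045, -9497, -400, 74]⟩)) (.node 1 (.leaf ⟨11, 11, true, [4, 17, 2, 12, 14, 18, 0], [19, 10, 19, 11, 9, 17, 11, 0], [6296, -50374, -67932, -2455, 163]⟩) (.node 1 (.leaf ⟨9, 11, true, [7, 10, 0, 5, 17, 6, 13, 7], [18, 14, 5, 16, 18, 5, 6, 17], [-2276, 18667, 24248, 842, -27]⟩) (.leaf ⟨11, 9, true,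 [8, 7, 19, 17, 15, 10, 3, 4], [6, 12, 7, 16, 4, 0, 11, 6], [2277, -18731, -24303, -841, 26]⟩)))) (.node 3 (.node 1 (.leaf ⟨11, 11, true, [6, 4, 7, 18, 9, 12, 6, 4], [17, 13, 9, 17, 6, 3, 6], [-9310, 77384, 98132, 3417, -152]⟩) (.node 1 (.leaf ⟨6, 11, true, [13, 17, 4, 8, 11, 17, 0, 14], [9, 16, 14, 11, 7, 13, 2], [-463, 3983, 5137, 162, 10]⟩) (.leaf ⟨11, 6, true, [9, 4, 17, 14, 18, 14, 10, 2], [7, 18, 2, 14, 6, 17, 11, 15], [-1470, 11245, 14769, 524, -19]⟩))) (.node 1 (.leaf ⟨11, 9, true, [9, 14, 9, 19, 2, 13], [6, 8, 7, 3, 7, 8, 7, 0], [-4545, 35720, 48266, 1710, -70]⟩) (.node 1 (.leaf ⟨9, 11, true, [18, 12, 18, 11, 9, 5, 9], [12, 3, 18, 8, 15, 8], [2827, -21219, -29494, -1041, 21]⟩) (.leaf ⟨11, 7, true, [2, 5, 18, 15, 18, 11, 2], [7, 2, 6, 9, 6, 12, 11, 0], [295, -3851, -4164, -83, -6]⟩))))) (.node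 6 (.node 3 (.node 1 (.leaf ⟨7, 11, true, [15, 18, 7, 18, 7, 19, 6], [3, 10, 19, 14, 19, 4, 3], [-305, 4013, 4417, 94, 3]⟩) (.node 1 (.leaf ⟨11, 11, true, [9, 0, 5, 13, 10, 13, 16], [7, 11, 0, 19, 0, 16, 11], [0, 168, 107, -3, 2]⟩) (.leaf ⟨11, 11, true, [12, 16, 0, 9, 16, 18, 11, 15], [17, 2, 8, 17, 18, 17, 6], [34, -316, -369, -28, 12]⟩))) (.node 1 (.leaf ⟨11, 11, true, [10, 3, 17, 11, 7, 9, 19, 2], [5, 8, 19, 7, 17, 4, 11, 0], [7348, -70391, -77098, -2585, 111]⟩) (.node 1 (.leaf ⟨11, 11, true, [4, 7, 19, 11, 7, 10, 17, 3], [6, 4, 9, 2, 17, 7, 8], [1206, -16142, -12065, -353, 26]⟩) (.leaf ⟨11, 11, true, [2, 6, 16, 8, 4, 18, 9, 3], [19, 4, 13, 7, 16, 4, 6, 2], [-228, 1685, 2578, 122, -37]⟩)))) (.node 3 (.node 1 (.leaf ⟨11, 11, true, [9, 2, 18, 11, 12, 16, 4], [12, 14, 6, 18, 10, 13, 17, 11], [-6293,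 55061, 67822, 2294, -90]⟩) (.node 1 (.leaf ⟨11, 11, true, [11, 12, 19, 7, 19, 13, 16, 3], [6, 3, 0, 18, 5, 13, 6, 13], [-301, 856, 2024, 134, -26]⟩) (.leaf ⟨11, 11, true, [6, 4, 12, 10, 2, 11, 7, 4], [19, 4, 6, 12, 15, 11, 14], [-1031, 9823, 11996, 343, 15]⟩))) (.node 1 (.leaf ⟨11, 11, true, [11, 14, 19, 6, 5, 17, 3], [8, 4, 2, 13, 9, 10, 12, 16], [-474, 4762, 5651, 153, 14]⟩) (.node 1 (.leaf ⟨11, 11, true, [5, 6, 13, 0, 7, 19, 17, 3], [12, 6, 14, 11, 16, 4, 15, 2], [993, -8920, -11432, -369, 5]⟩) (.leaf ⟨4, 12, true, [0, 3, 19, 3], [], []⟩)))))))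
noncomputable def dF1352 : BT Fct := (.node 22 (.node 11 (.node 5 (.node 2 (.node 1 (.leaf ⟨12, 12, false, [14, 5, 18, 4, 19, 17, 9], [], [-2, 118, 129, 1, 1]⟩) (.leaf ⟨12, 8, true, [16, 2, 19, 5, 12, 18, 6, 3], [17, 8, 7, 5, 18, 5, 8, 3], [-25, 292, 346, -3, 7]⟩)) (.node 1 (.leaf ⟨8, 12, true, [6, 5, 18, 9, 4, 18, 18], [19, 15, 3, 11, 6, 18, 8, 15], [78, -730, -902, -16, -7]⟩) (.node 1 (.leaf ⟨12, 4, true, [13, 19, 10, 5, 16, 2, 15, 0], [18, 6, 9, 19, 11, 8, 10], [-47, 307, 456, 30, -10]⟩) (.leaf ⟨4, 12, true, [19, 4, 15, 19, 11, 6, 8], [19, 7, 18, 15, 6, 18, 10, 3], [38, -45, -199, -27, 11]⟩)))) (.node 3 (.node 1 (.leaf ⟨12, 9, true, [7, 16, 9, 15, 7, 12, 2], [11, 4, 7, 16, 3, 8, 6], [-3298, 27650, 35858, 1292, -101]⟩) (.node 1 (.leaf ⟨9, 12, true, [0, 18, 14, 18, 5, 12, 2], [9, 3, 6, 14, 8, 17,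 6], [3628, -30103, -39925, -1459, 129]⟩) (.leaf ⟨12, 8, true, [0, 9, 4, 8, 17], [16, 19, 6, 4, 11, 15, 13, 17], [382, -3500, -4581, -157, 15]⟩))) (.node 1 (.leaf ⟨12, 9, true, [8, 19, 12, 18, 4, 15, 9], [18, 11, 9, 15, 9, 12, 4, 0], [-72, 86, 302, 33, -10]⟩) (.node 1 (.leaf ⟨9, 12, true, [9, 14, 16, 0, 10, 16, 7, 0], [8, 14, 5, 19, 13, 18, 9], [474, -3092, -5092, -224, 38]⟩) (.leaf ⟨12, 10, true, [18, 10, 12, 0, 3], [7, 3, 6, 15, 10, 19, 11, 2], [6, -159, -149, -2, -1]⟩))))) (.node 5 (.node 2 (.node 1 (.leaf ⟨10, 12, true, [3, 6, 15, 17, 6, 6, 11], [19, 16, 4, 17, 0], [13, -295, -151, 14, -9]⟩) (.leaf ⟨12, 11, true, [11, 7, 18, 2, 12, 19, 5], [2, 17, 3, 7, 10, 15, 16], [6, -161, -155, -2, -1]⟩)) (.node 1 (.leaf ⟨11, 12, true, [4, 18, 4, 18, 11, 19, 5, 8], [4, 18, 13, 3, 19, 6, 10], [1259, -10103,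 -13234, -463, 19]⟩) (.node 1 (.leaf ⟨12, 8, true, [12, 2, 6, 18, 12, 8, 6, 2], [19, 17, 4, 16, 3, 17, 13], [-4, -78, -66, 12, -11]⟩) (.leaf ⟨8, 12, true, [6, 18, 0, 9, 6, 16], [5, 3, 14, 6, 19, 7, 9, 3], [57, -360, -490, -31, 11]⟩)))) (.node 3 (.node 1 (.leaf ⟨12, 8, true, [13, 9, 7, 13, 4, 7, 19, 3], [17, 0, 10, 7, 16, 5, 16], [163, -1152, -2088, -93, 18]⟩) (.node 1 (.leaf ⟨8, 12, true, [8, 17, 11, 7, 11, 7, 4], [19, 7, 8, 16, 10, 13, 9, 4], [-218, 1590, 2644, 112, -18]⟩) (.leaf ⟨12, 8, true, [7, 15, 11, 12, 3, 14, 9], [14, 5, 15, 13, 6, 13, 9], [860, -7631, -9639, -316, 13]⟩))) (.node 1 (.leaf ⟨8, 12, true, [14, 5, 13, 18, 2, 17, 5, 0], [8, 15, 2, 13, 10, 14, 6], [-807, 7193, 9083, 297, -13]⟩) (.node 1 (.leaf ⟨12, 8, true, [2, 6, 14, 8, 13, 8, 5, 2], [15, 13, 3, 17, 4, 11, 12, 7], [7, -340, -271,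 22, -21]⟩) (.leaf ⟨8, 12, true, [7, 3, 6, 15, 11, 5, 19, 0], [3, 4, 9, 12, 9, 15, 7, 3], [-62, 778, 827, -3, 21]⟩)))))) (.node 11 (.node 5 (.node 2 (.node 1 (.leaf ⟨12, 9, true, [6, 4, 14, 7, 8, 19, 10, 0], [6, 2, 6, 4, 15, 9, 15, 0], [18, -270, 35, 22, -28]⟩) (.leaf ⟨9, 12, true, [7, 12, 16, 18, 6, 15, 12, 3], [11, 7, 19, 15, 4, 8, 16, 2], [-1333, 11765, 13947, 456, 7]⟩)) (.node 1 (.leaf ⟨12, 11, true, [17, 13, 18, 7, 7, 19, 6, 2], [11, 13, 2, 13, 4, 15, 13, 7], [1173, -10352, -12361, -367, -43]⟩) (.node 1 (.leaf ⟨12, 12, false, [3, 0, 18, 12, 10, 5, 6], [], [-501, 5232, 5696, 144, 33]⟩) (.leaf ⟨12, 8, true, [13, 15, 6, 4, 19, 6, 17, 3], [8, 16, 2, 14, 10, 12, 15, 8], [183, -1600, -2164, -52, -19]⟩)))) (.node 3 (.node 1 (.leaf ⟨8, 12, true, [19, 10, 7, 17, 18, 10, 6, 16], [9, 6, 2, 10, 8, 6, 15,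 13], [-238, 2038, 2720, 71, 19]⟩) (.node 1 (.leaf ⟨12, 6, true, [10, 5, 17, 15, 8, 0, 15, 7], [9, 4, 7, 4, 19, 6, 11, 2], [1435, -11887, -15007, -512, 15]⟩) (.leaf ⟨6, 12, true, [7, 7, 15, 6, 12, 18, 12], [6, 14, 0, 9, 14, 16, 4, 11], [-1595, 13284, 16802, 573, -18]⟩))) (.node 1 (.leaf ⟨12, 8, true, [12, 2, 13, 11, 9, 6, 16, 2], [16, 18, 10, 15, 5, 9, 12, 3], [-163, 3112, 2641, 5, 55]⟩) (.node 1 (.leaf ⟨8, 12, true, [15, 5, 8, 17, 9, 14, 0], [3, 17, 7, 8, 10, 12, 9, 3], [108, -2674, -2085, 14, -55]⟩) (.leaf ⟨12, 12, true, [19, 13, 11, 5, 12, 18], [7, 14, 2, 17, 7, 15, 7, 0], [4286, -35241, -47399, -1746, 163]⟩))))) (.node 6 (.node 3 (.node 1 (.leaf ⟨12, 12, true, [0, 2, 13, 14, 16, 18], [8, 17, 14, 0, 19, 6, 19, 0], [1935, -18469, -21698, -614, -64]⟩) (.node 1 (.leaf ⟨12, 8, true, [18, 13, 10, 13,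 9, 17, 14], [8, 12, 11, 5, 17, 2, 16, 3], [294, -5260, -4560, -33, -46]⟩) (.leaf ⟨12, 8, true, [0, 17, 7, 18, 12, 11, 8, 4], [11, 8, 14, 13, 6, 8, 14, 2], [-68, -11, 1115, 66, -27]⟩))) (.node 1 (.leaf ⟨8, 12, true, [3, 8, 14, 19, 17, 15, 13], [6, 2, 19, 5, 12, 6, 10, 3], [13, 449, -559, -47, 27]⟩) (.node 1 (.leaf ⟨12, 8, true, [7, 19, 3, 9, 6, 17, 15, 7], [17, 18, 11, 15, 16, 7, 7], [991, -10327, -11307, -273, -78]⟩) (.leaf ⟨12, 8, true, [18, 6, 19, 15, 7, 11], [4, 18, 0, 10, 18, 15, 13, 9], [771, -8127, -9076, -224, -40]⟩)))) (.node 3 (.node 1 (.leaf ⟨12, 12, true, [12, 16, 18, 15, 7, 16, 12], [13, 3, 17, 9, 12, 16, 8], [-401, 4504, 4611, 98, 39]⟩) (.node 1 (.leaf ⟨12, 8, true, [11, 3, 12, 8, 10, 5, 10], [16, 10, 18, 0, 19, 6, 19], [2684, -23459, -29456, -968, -5]⟩) (.leaf ⟨8, 12, true, [10, 14,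 10, 19, 15, 7, 2, 16], [11, 4, 11, 18, 2, 6, 0], [-2631, 23021, 28900, 949, 5]⟩))) (.node 1 (.leaf ⟨12, 8, true, [19, 4, 9, 6, 5, 19, 11], [12, 3, 4, 17, 11, 5, 3], [-609, 5754, 6730, 207, 17]⟩) (.node 1 (.leaf ⟨12, 10, true, [19, 10, 17, 6, 19, 0], [17, 15, 3, 19, 17, 14, 7, 3], [-103, 631, 968, 33, 1]⟩) (.leaf ⟨10, 12, true, [11, 13, 6, 3, 15, 13, 15, 3], [0, 18, 7, 16, 11, 18], [565, -5197, -6517, -195, -9]⟩)))))))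
noncomputable def dF1397 : BT Fct := (.node 23 (.node 11 (.node 5 (.node 2 (.node 1 (.leaf ⟨12, 8, true, [2, 13, 8, 7, 14, 13, 0], [5, 16, 6, 18, 7, 17, 13], [1152, -11647, -13255, -375, -37]⟩) (.leaf ⟨8, 12, true, [14, 0, 14, 7, 15, 2, 13], [0, 12, 15, 6, 9, 12, 3], [-1207, 12085, 13811, 394, 37]⟩)) (.node 1 (.leaf ⟨12, 8, true, [10, 2, 17, 6, 8, 13, 8, 2], [0, 5, 7, 15, 8, 16, 9, 4], [-272, 3295, 3042, 62, 24]⟩) (.node 1 (.leaf ⟨12, 8, true, [7, 9, 15, 4, 18, 6, 14, 0], [7, 18, 0, 16, 2, 6], [367, -2948, -3704, -121, 6]⟩) (.leaf ⟨8, 12, true, [7, 17, 6, 13, 3, 14, 12], [16, 11, 12, 5, 11, 8, 4, 0], [-422, 3386, 4260, 140, -6]⟩)))) (.node 3 (.node 1 (.leaf ⟨12, 8, true, [18, 8, 10, 13, 11, 12, 16], [7, 19, 8, 7, 13, 19, 5], [430, -3653, -4842, -162, 3]⟩) (.node 1 (.leaf ⟨12, 11, true, [6, 0, 16,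 11, 16, 4, 2], [15, 16, 11, 8, 13, 10, 16, 0], [-441, 637, 4821, 188, 8]⟩) (.leaf ⟨11, 12, true, [13, 16, 9, 12, 4, 17, 3, 0], [3, 5, 17, 10, 17, 0, 7], [-4313, 40448, 45159, 1524, -69]⟩))) (.node 1 (.leaf ⟨12, 8, true, [13, 16, 0, 15, 17, 12, 11, 19], [3, 7, 10, 15, 11, 12, 9], [576, -5477, -6249, -199, -10]⟩) (.node 1 (.leaf ⟨8, 12, true, [7, 3, 16, 7, 15, 8, 16], [4, 7, 14, 17, 4, 16, 13, 3], [-631, 5915, 6805, 218, 10]⟩) (.leaf ⟨12, 12, true, [16, 4, 6, 19, 7, 17, 12, 3], [12, 5, 12, 0, 13, 19, 7, 0], [45, -254, -402, -28, 8]⟩))))) (.node 6 (.node 3 (.node 1 (.leaf ⟨12, 11, true, [13, 17, 6, 19, 8, 14, 12, 3], [2, 18, 11, 13, 19, 10], [3154, -30764, -32633, -934, -102]⟩) (.node 1 (.leaf ⟨11, 12, true, [9, 4, 19, 7, 12, 18, 8], [8, 19, 4, 14, 17, 6, 10, 19], [-3094, 30016, 31790, 906, 106]⟩)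 (.leaf ⟨12, 8, true, [9, 14, 3, 7, 16, 2, 17, 6], [11, 17, 2, 5, 17, 13, 14, 4], [12, -2004, -689, 87, -94]⟩))) (.node 1 (.leaf ⟨8, 12, true, [2, 16, 0, 10, 5, 9, 11, 13], [16, 3, 13, 10, 5, 19, 7, 3], [41, 1566, 133, -106, 94]⟩) (.node 1 (.leaf ⟨12, 8, true, [14, 12, 14, 17, 11, 18, 5], [10, 16, 14, 5, 13, 10, 6, 0], [573, -5920, -7081, -180, -34]⟩) (.leaf ⟨8, 12, true, [6, 2, 9, 14, 17, 4, 19], [4, 19, 10, 16, 15, 13, 15], [-628, 6358, 7637, 199, 34]⟩)))) (.node 3 (.node 1 (.leaf ⟨12, 8, true, [4, 17, 10, 9, 14, 17, 2], [9, 14, 17, 0, 17, 10, 6, 2], [2027, -16506, -24054, -915, 130]⟩) (.node 1 (.leaf ⟨8, 12, true, [16, 8, 15, 0, 16, 11, 18, 2], [11, 5, 12, 2, 11, 16, 5], [-2082, 16944, 24610, 934, -130]⟩) (.leaf ⟨12, 11, true, [18, 8, 19, 11, 12, 14, 12], [14, 7, 12, 7, 9, 5, 16, 0], [-1177, 8941,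 14062, 570, -92]⟩))) (.node 1 (.leaf ⟨11, 12, true, [5, 15, 18, 11, 0, 13], [13, 15, 13, 10, 8, 19, 8], [1237, -9689, -14905, -598, 96]⟩) (.node 1 (.leaf ⟨12, 8, true, [13, 3, 10, 16, 4, 17, 11], [13, 10, 8, 13, 18, 17, 7, 3], [201, -1768, -1918, -35, -28]⟩) (.leaf ⟨8, 12, true, [10, 2, 0, 18, 5, 16, 6, 17], [10, 16, 5, 18, 8, 12, 4], [-256, 2206, 2474, 54, 28]⟩)))))) (.node 11 (.node 5 (.node 2 (.node 1 (.leaf ⟨12, 8, true, [12, 9, 14, 9, 5, 8, 14, 3], [11, 6, 0, 17, 18, 14, 10], [7786, -65402, -82538, -2718]⟩) (.leaf ⟨12, 8, true, [6, 19, 7, 18, 9, 0, 13], [12, 2, 17, 7, 8, 7, 17], [1975, -17504, -21952, -707, -3]⟩)) (.node 1 (.leaf ⟨12, 8, true, [19, 7, 18, 6, 8, 15, 8, 2], [10, 7, 19, 12, 8, 5, 17, 3], [306, -3180, -3073, -61, -37]⟩) (.node 1 (.leaf ⟨8, 12, true, [7, 9, 2, 10, 9, 6, 15, 18],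 [19, 13, 0, 13, 6, 14, 11, 17], [-361, 3618, 3629, 80, 37]⟩) (.leaf ⟨12, 12, true, [14, 10, 17, 13, 11, 9, 19, 0], [9, 10, 6, 10, 9, 19, 2], [1089, -12686, -13440, -288, -106]⟩)))) (.node 3 (.node 1 (.leaf ⟨12, 12, true, [17, 4, 8, 17, 5, 7, 11], [6, 9, 14, 19, 16, 8, 17, 2], [-587, 7336, 7615, 143, 72]⟩) (.node 1 (.leaf ⟨12, 8, true, [7, 3, 19, 11, 16, 8, 15], [14, 12, 11, 12, 7, 18, 11], [976, -10281, -11282, -292, -57]⟩) (.leaf ⟨12, 8, true, [6, 4, 18, 0, 11, 16, 6, 2], [3, 4, 11, 18, 10, 14, 17, 0], [-331, 2890, 3804, 132, -2]⟩))) (.node 1 (.leaf ⟨12, 8, true, [9, 12, 4, 6, 16, 19, 0], [4, 0, 6, 8, 10, 16, 8, 4], [28, 276, 15, -26, 9]⟩) (.node 1 (.leaf ⟨12, 12, true, [6, 17, 7, 0, 14, 13, 11], [5, 7, 10, 4, 18, 11, 15, 3], [1039, -10661, -11992, -311, -63]⟩) (.leaf ⟨12, 8, true, [11, 7, 2, 16,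 15, 18, 15, 13], [19, 11, 13, 6, 4, 15, 19, 2], [58, -1942, -1551, 10, -39]⟩))))) (.node 6 (.node 3 (.node 1 (.leaf ⟨8, 12, true, [10, 12, 4, 7, 17, 6, 18], [17, 2, 17, 15, 8, 7, 17, 3], [-113, 2380, 2107, 9, 39]⟩) (.node 1 (.leaf ⟨12, 8, true, [10, 15, 2, 13, 10, 6, 9, 5], [15, 19, 14, 10, 0, 19, 17, 6], [-765, 8643, 8812, 185, 77]⟩) (.leaf ⟨12, 8, true, [0, 7, 8, 10, 4, 19, 17, 2], [4, 9, 6, 18, 7, 8, 19, 2], [2175, -17917, -23545, -819, 38]⟩))) (.node 1 (.leaf ⟨8, 12, true, [5, 11, 7, 15, 16, 18, 2, 0], [9, 5, 6, 15, 13, 4, 10, 0], [-2230, 18355, 24101, 838, -38]⟩) (.node 1 (.leaf ⟨12, 8, true, [10, 14, 16, 8, 3, 7, 18, 0], [15, 3, 8, 19, 6, 17, 0], [1142, -11194, -12956, -344, -80]⟩) (.leaf ⟨8, 12, true, [6, 19, 4, 17, 7, 13, 10, 6], [9, 13, 0, 19, 12, 7, 17, 2], [-1089, 10756, 12400, 325, 80]⟩))))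 (.node 3 (.node 1 (.leaf ⟨12, 8, true, [9, 14, 6, 8, 17, 15, 12], [19, 6, 0, 17, 13, 4, 7], [1228, -12241, -13858, -366, -75]⟩) (.node 1 (.leaf ⟨8, 12, true, [12, 14, 11, 0, 16, 19, 15, 0], [15, 10, 5, 9, 11, 16, 4], [-1175, 11803, 13302, 347, 75]⟩) (.leaf ⟨12, 12, true, [13, 15, 3, 16, 8, 14, 13], [19, 17, 3, 16, 4, 16, 9, 18], [-60, -824, 450, 96, -61]⟩))) (.node 1 (.leaf ⟨12, 8, true, [18, 5, 17, 6, 13, 19, 14, 0], [13, 2, 4, 17, 7, 3, 19, 0], [-620, 4906, 6557, 248, -30]⟩) (.node 1 (.leaf ⟨8, 12, true, [18, 11, 5, 18, 13, 16, 7], [12, 19, 4, 11, 13, 6, 11, 0], [565, -4468, -6001, -229, 30]⟩) (.leaf ⟨12, 8, true, [15, 9, 12, 0, 12, 16, 9], [6, 5, 16, 15, 19, 5, 8], [460, -3931, -5112, -157, -3]⟩)))))))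
noncomputable def dF1443 : BT Fct := (.node 22 (.node 11 (.node 5 (.node 2 (.node 1 (.leaf ⟨12, 8, true, [13, 8, 5, 17, 12, 9, 4, 3], [12, 2, 6, 18, 7, 11, 0, 3], [-353, 4824, 4623, 84, 27]⟩) (.leaf ⟨12, 9, true, [13, 5, 2, 9, 5, 12, 10, 14], [16, 3, 16, 7, 8, 14, 16, 3], [979, -9578, -10223, -282, -57]⟩)) (.node 1 (.leaf ⟨9, 12, true, [5, 6, 14, 17, 8, 5, 19], [17, 14, 19, 12, 8, 14, 8, 0], [-2366, 21626, 24928, 784, 36]⟩) (.node 1 (.leaf ⟨12, 8, true, [13, 11, 6, 11, 0, 19, 4], [9, 0, 10, 18, 4, 19, 15, 0], [1088, -9786, -11782, -374, -8]⟩) (.leaf ⟨8, 12, true, [10, 12, 0, 19, 7, 9, 2, 14], [5, 18, 0, 10, 7, 10, 12], [-1143, 10224, 12338, 393, 8]⟩)))) (.node 3 (.node 1 (.leaf ⟨8, 12, true, [18, 18, 4, 10, 13, 5, 19, 4], [19, 4, 0, 18, 10, 7, 17, 9], [14, -350, -76, 10, -8]⟩) (.node 1 (.leaf ⟨12,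 8, true, [6, 15, 17, 9, 6, 16, 3, 0], [5, 18, 4, 12, 11, 5, 18, 18], [488, -5000, -5749, -155, -26]⟩) (.leaf ⟨8, 12, true, [16, 5, 16, 4, 18, 3, 8, 0], [10, 16, 10, 17, 13, 6, 19, 3], [5884, -47354, -62017, -2158, 81]⟩))) (.node 1 (.leaf ⟨8, 12, true, [8, 4, 10, 16, 9, 14, 19], [6, 9, 12, 11, 17, 4, 10], [-1771, 15720, 18893, 620, -11]⟩) (.node 1 (.leaf ⟨12, 8, true, [6, 5, 17, 4, 14, 0], [11, 8, 6, 3, 6, 16, 2], [2774, -26302, -30414, -909, -56]⟩) (.leaf ⟨8, 12, true, [13, 10, 13, 16, 0, 17, 3], [8, 6, 10, 5, 8, 17, 10, 3], [-68, 2, 704, 49, -18]⟩))))) (.node 5 (.node 2 (.node 1 (.leaf ⟨12, 8, true, [12, 19, 6, 11, 9, 15, 12], [2, 16, 0, 17, 12, 11, 12], [568, -5234, -6400, -193, -15]⟩) (.leaf ⟨12, 12, true, [10, 17, 0, 10, 16, 13, 16, 15], [4, 19, 15, 9, 7, 13, 18], [761, -7855, -9037, -239, -38]⟩))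 (.node 1 (.leaf ⟨9, 12, true, [4, 7, 12, 10, 14, 19, 6], [17, 7, 14, 6, 10, 19, 16, 3], [-4262, 37255, 45901, 1565, -75]⟩) (.node 1 (.leaf ⟨9, 12, true, [19, 0, 8, 17, 9, 7, 5], [13, 14, 5, 9, 15, 7, 18], [-387, 4711, 5897, 155, 11]⟩) (.leaf ⟨12, 9, true, [16, 10, 5, 18, 17, 6, 5, 9], [4, 6, 8, 16, 9, 0, 18], [1390, -15293, -17418, -444, -78]⟩)))) (.node 3 (.node 1 (.leaf ⟨8, 12, true, [19, 15, 11, 9, 15, 18, 6, 2], [10, 13, 14, 11, 7, 18, 6, 2], [453, -4116, -5424, -202, 35]⟩) (.node 1 (.leaf ⟨12, 8, true, [17, 14, 18, 13, 10, 9, 7, 2], [15, 6, 12, 16, 15, 7, 18, 0], [-452, 3998, 5295, 201, -36]⟩) (.leaf ⟨8, 12, true, [9, 6, 19, 15, 13, 7, 13], [18, 15, 8, 17, 14, 18, 7], [54, -299, -408, -30, 11]⟩))) (.node 1 (.leaf ⟨12, 8, true, [6, 3, 16, 7, 8, 10, 0, 4], [12, 6, 12, 14, 18, 7, 8], [-53, 181,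 279, 29, -12]⟩) (.node 1 (.leaf ⟨8, 12, true, [4, 16, 0, 18, 8, 4, 18, 12], [17, 6, 12, 7, 10, 4, 18, 11], [-1087, 10115, 13206, 413, -8]⟩) (.leaf ⟨12, 8, true, [5, 2, 17, 4, 17, 11, 18, 3], [13, 19, 5, 9, 19, 0, 17, 5], [1088, -10233, -13335, -414, 7]⟩)))))) (.node 11 (.node 5 (.node 2 (.node 1 (.leaf ⟨12, 8, true, [3, 4, 6, 14, 18, 4, 19, 2], [7, 8, 5, 13, 6, 12, 4, 2], [-653, 4825, 6605, 273, -42]⟩) (.leaf ⟨8, 12, true, [9, 16, 18, 5, 7, 10, 2], [16, 0, 10, 16, 4, 8, 3], [-388, 2873, 4122, 145, 4]⟩)) (.node 1 (.leaf ⟨12, 8, true, [2, 5, 9, 7, 17, 12, 3], [5, 3, 6, 4, 19, 17, 8], [888, -8105, -9818, -289, -37]⟩) (.node 1 (.leaf ⟨8, 12, true, [17, 9, 2, 13, 10, 14, 18], [14, 16, 14, 18, 15, 13, 15], [-497, 3262, 5124, 214, -42]⟩) (.leaf ⟨12, 8, true, [19, 10, 19, 0, 15, 11, 9, 0], [19, 15, 11,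 12, 3, 8, 16], [-504, 7084, 6139, 73, 107]⟩)))) (.node 3 (.node 1 (.leaf ⟨8, 12, true, [6, 0, 17, 11, 5, 6, 6], [10, 8, 19, 15, 7, 8, 17], [-864, 7187, 9769, 336, -22]⟩) (.node 1 (.leaf ⟨12, 8, true, [3, 17, 0, 18, 4, 10, 5], [7, 7, 4, 10, 16, 0, 7], [865, -7305, -9898, -337, 21]⟩) (.leaf ⟨9, 12, true, [15, 2, 6, 15, 7, 5, 19], [7, 12, 19, 12, 4, 17, 9, 3], [446, -4159, -2498, -75, -23]⟩))) (.node 1 (.leaf ⟨11, 12, true, [13, 6, 16, 14, 7, 13, 16], [17, 9, 11, 18, 14, 8, 14], [-3179, 29834, 33954, 1105, -24]⟩) (.node 1 (.leaf ⟨12, 11, true, [11, 5, 18, 6, 14, 19, 7], [17, 12, 6, 15, 17, 7, 12], [4182, -40416, -45475, -1394, -43]⟩) (.leaf ⟨8, 12, true, [6, 12, 19, 12, 10, 5, 17, 2], [16, 8, 5, 14, 6, 8, 15, 19], [-277, 2493, 3161, 91, 19]⟩))))) (.node 6 (.node 3 (.node 1 (.leaf ⟨12, 8, true, [14,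 2, 11, 13, 15, 7, 8], [6, 11, 3, 7, 15, 13, 9, 0], [278, -2611, -3290, -92, -20]⟩) (.node 1 (.leaf ⟨9, 12, true, [19, 7, 17, 4, 14, 9, 7, 3], [19, 7, 16, 18, 13, 19, 17], [120, -1802, -1444, 6, -28]⟩) (.leaf ⟨12, 9, true, [7, 14, 19, 12, 5, 16, 4, 3], [6, 14, 19, 5, 6, 13, 9, 4], [-119, 1684, 1315, -7, 27]⟩))) (.node 1 (.leaf ⟨8, 12, true, [5, 9, 10, 17, 8, 7, 13], [10, 2, 16, 11, 0, 11, 18], [-337, 2966, 3689, 119, -2]⟩) (.node 1 (.leaf ⟨12, 8, true, [13, 3, 15, 13, 18, 7, 14], [12, 6, 9, 16, 11, 8, 4], [837, -8198, -9385, -263, -31]⟩) (.leaf ⟨12, 12, true, [13, 7, 12, 6, 14, 16, 11, 2], [8, 13, 0, 5, 10, 14, 6, 19], [-541, 5396, 5993, 173, 22]⟩)))) (.node 3 (.node 1 (.leaf ⟨8, 12, true, [6, 13, 10, 12, 14, 19, 5], [8, 3, 7, 13, 8, 4, 16, 2], [-5968, 49564, 65060, 2379, -200]⟩) (.node 1 (.leaf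 ⟨9, 12, true, [11, 17, 2, 16, 12, 6, 17], [17, 4, 18, 6, 16, 14, 16, 2], [-4888, 40038, 52792, 1918, -152]⟩) (.leaf ⟨12, 9, true, [7, 2, 13, 10, 17, 5, 16, 6], [16, 7, 13, 17, 3, 16, 10], [5891, -50620, -64313, -2207, 85]⟩))) (.node 1 (.leaf ⟨10, 12, true, [0, 11, 17, 7, 15, 16, 13, 0], [11, 9, 2, 4, 8, 11, 6, 17], [1431, -12788, -16023, -511, 8]⟩) (.node 1 (.leaf ⟨12, 10, true, [19, 0, 18, 5, 8, 12, 9], [19, 0, 7, 19, 6, 16, 18, 0], [-1933, 18020, 21719, 655, 25]⟩) (.leaf ⟨8, 12, true, [17, 9, 4, 17, 9, 10, 12, 19, 0], [4, 10, 8, 16, 7, 0, 14], [262, -1741, -2624, -90, -12]⟩)))))))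
noncomputable def dF1488 : BT Fct := (.node 22 (.node 11 (.node 5 (.node 2 (.node 1 (.leaf ⟨12, 8, true, [13, 10, 19, 12, 14, 11, 8, 2], [19, 17, 0, 17, 13, 10, 19, 4, 0], [242, -3727, -3330, -56, -23]⟩) (.leaf ⟨8, 12, true, [14, 6, 17, 6, 14, 18, 11, 3], [7, 16, 0, 15, 10, 17, 11, 3], [-211, 1762, 2140, 72, 4]⟩)) (.node 1 (.leaf ⟨12, 8, true, [16, 3, 18, 6, 8, 6, 8, 3], [14, 0, 14, 0, 17, 7, 7, 4], [1214, -12344, -13661, -361, -71]⟩) (.node 1 (.leaf ⟨8, 12, true, [14, 5, 16, 8, 11, 2, 17], [5, 16, 4, 16, 13, 19, 6], [-2118, 18318, 23443, 820, -43]⟩) (.leaf ⟨12, 8, true, [14, 3, 8, 4, 19, 14, 0, 2], [16, 3, 10, 9, 17, 4, 15], [2622, -23786, -29397, -966, 8]⟩)))) (.node 3 (.node 1 (.leaf ⟨9, 12, true, [9, 17, 0, 12, 10, 12, 19, 10], [12, 15, 8, 2, 10, 16, 11], [1780, -13662, -18866, -731, 102]⟩)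 (.node 1 (.leaf ⟨12, 9, true, [14, 6, 5, 2, 17, 6, 4], [12, 5, 9, 6, 15, 9, 18, 14], [-1276, 8194, 12912, 585, -137]⟩) (.leaf ⟨11, 12, true, [19, 0, 16, 5, 13, 14, 7], [10, 7, 11, 7, 10, 3, 15], [-2811, 22484, 29338, 1003, -16]⟩))) (.node 1 (.leaf ⟨12, 11, true, [5, 13, 18, 14, 4, 15, 2], [17, 14, 9, 4, 3, 15, 13], [4315, -38298, -46555, -1436, -84]⟩) (.node 1 (.leaf ⟨8, 12, true, [16, 6, 14, 17, 15, 8, 6], [7, 16, 10, 19, 7, 13, 0], [-87, -577, 126, 65, -16]⟩) (.leaf ⟨12, 8, true, [12, 15, 8, 10, 12, 9, 3], [16, 13, 10, 17, 14, 6, 4], [-411, 5573, 5312, 77, 47]⟩))))) (.node 5 (.node 2 (.node 1 (.leaf ⟨4, 12, true, [15, 10, 17, 18, 15, 13, 3], [14, 8, 7, 15, 3, 7, 10], [184, -1153, -2093, -86, 13]⟩) (.leaf ⟨8, 12, true, [8, 10, 14, 16, 18, 5, 8], [17, 4, 8, 15, 17, 4, 2], [318, -3477, -3978, -102,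 2]⟩)) (.node 1 (.leaf ⟨12, 8, true, [13, 10, 0, 16, 19, 15, 13, 16], [9, 4, 19, 17, 15, 11, 9], [-1319, 13823, 15241, 389, 63]⟩) (.node 1 (.leaf ⟨8, 12, true, [15, 11, 2, 8, 14, 18, 0, 18], [11, 9, 0, 9, 15, 17, 5, 10], [-233, 2079, 2766, 84, 9]⟩) (.leaf ⟨12, 8, true, [5, 19, 6, 4, 15, 7, 14, 0], [5, 10, 4, 10, 6, 16, 3, 17], [-269, 3153, 2930, 60, 24]⟩)))) (.node 3 (.node 1 (.leaf ⟨12, 12, true, [7, 9, 14, 6, 15, 19, 12, 2], [10, 5, 9, 14, 11, 3, 6, 2], [690, -6688, -8145, -235, -22]⟩) (.node 1 (.leaf ⟨10, 12, true, [15, 11, 4, 16, 6, 12, 3], [9, 4, 15, 7, 15, 16, 11, 3], [-623, 4562, 6444, 263, -36]⟩) (.leaf ⟨12, 10, true, [0, 10, 18, 13, 4, 7, 19, 2], [2, 13, 7, 17, 5, 10, 14], [1125, -9912, -12269, -408, 2]⟩))) (.node 1 (.leaf ⟨8, 12, true, [5, 19, 15, 6, 18, 13, 10], [18, 17, 0, 10, 14, 16,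 11, 18], [-165, 1066, 1088, 54, -10]⟩) (.node 1 (.leaf ⟨12, 8, true, [4, 18, 13, 18, 10, 14], [11, 12, 19, 7, 14, 18, 4], [-337, 4166, 4608, 90, 43]⟩) (.leaf ⟨8, 12, true, [4, 6, 19, 11, 6, 9, 12], [6, 0, 7, 19, 17, 5, 7, 3], [903, -7565, -9644, -309, 2]⟩)))))) (.node 11 (.node 5 (.node 2 (.node 1 (.leaf ⟨12, 8, true, [8, 7, 16, 6, 19, 4, 7], [13, 8, 7, 10, 18, 7, 5], [-902, 7447, 9515, 308, -3]⟩) (.leaf ⟨12, 8, true, [11, 15, 16, 4, 9, 18], [11, 6, 3, 13, 4, 18, 5, 6], [2391, -28939, -28961, -538, -280]⟩)) (.node 1 (.leaf ⟨8, 12, true, [15, 0, 2, 13, 10, 12, 18, 2], [2, 18, 4, 17, 9, 4, 19], [697, -5113, -7066, -242, -6]⟩) (.node 1 (.leaf ⟨12, 8, true, [7, 13, 15, 7, 17, 11, 0], [11, 0, 5, 11, 18, 11, 14, 2], [-696, 4995, 6937, 241, 5]⟩) (.leaf ⟨8, 12, true, [11, 5, 6, 8, 17, 4, 17, 2], [19, 0,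 18, 17, 7, 14, 18], [298, -2640, -3484, -127, 18]⟩)))) (.node 3 (.node 1 (.leaf ⟨12, 8, true, [6, 3, 12, 0, 17, 4, 14], [3, 16, 5, 16, 9, 7, 4, 10], [-800, 7872, 9180, 271, 15]⟩) (.node 1 (.leaf ⟨8, 12, true, [8, 16, 10, 18, 15, 0, 4], [16, 3, 4, 7, 16, 7, 8, 4], [-160, 768, 1992, 94, -5]⟩) (.leaf ⟨9, 12, true, [12, 10, 4, 6, 18, 4, 19, 10, 3], [8, 5, 8, 15, 12, 6, 18, 3], [-1492, 12427, 16021, 605, -71]⟩))) (.node 1 (.leaf ⟨12, 9, true, [10, 2, 7, 12, 17, 4, 16, 3], [4, 17, 0, 13, 10, 4, 7, 12, 0], [2493, -22891, -27413, -893, 5]⟩) (.node 1 (.leaf ⟨8, 12, true, [13, 16, 6, 19, 17, 6, 15, 0], [7, 7, 13, 15, 11, 12, 19], [-474, 3209, 4699, 202, -31]⟩) (.leaf ⟨12, 8, true, [8, 5, 17, 0, 3, 5, 13], [19, 3, 6, 2, 15, 18, 15, 11], [1477, -13791, -16220, -491, -36]⟩))))) (.node 6 (.node 3 (.node 1 (.leaf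 ⟨8, 12, true, [19, 15, 11, 7, 18, 7, 7, 9], [8, 7, 2, 16, 0, 11, 8], [-724, 4999, 7165, 298, -26]⟩) (.node 1 (.leaf ⟨12, 8, true, [19, 10, 6, 4, 16, 2, 6, 11], [15, 12, 0, 14, 19, 13, 10, 4], [725, -5117, -7294, -299, 25]⟩) (.leaf ⟨5, 12, true, [18, 11, 12, 7, 18, 15, 18], [2, 14, 0, 18, 15, 13, 17, 14], [-1383, 11787, 15290, 516, -16]⟩))) (.node 1 (.leaf ⟨12, 5, true, [15, 0, 17, 7, 0, 12, 4, 0], [19, 14, 19, 6, 13, 10, 19], [2386, -22369, -26811, -805, -51]⟩) (.node 1 (.leaf ⟨8, 12, true, [15, 2, 7, 15, 8, 12, 18, 2], [2, 17, 14, 19, 12, 4], [395, -3783, -4326, -106, -14]⟩) (.leaf ⟨12, 8, true, [3, 4, 19, 5, 16, 8, 19, 3], [14, 2, 8, 12, 4, 16, 7, 0], [107, -1567, -1499, -39, -20]⟩)))) (.node 3 (.node 1 (.leaf ⟨12, 12, true, [13, 18, 3, 13, 9, 4, 6, 15], [19, 17, 6, 16, 10, 16, 9, 2], [1478, -14143,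 -16852, -498, -47]⟩) (.node 1 (.leaf ⟨12, 12, true, [12, 18, 0, 17, 11, 14, 6, 4], [14, 7, 5, 8, 12, 2, 19, 12], [-976, 8793, 11027, 353, 13]⟩) (.leaf ⟨12, 12, true, [17, 2, 12, 0, 18, 7, 18, 6], [16, 18, 15, 19, 6, 16, 4, 2], [-614, 6199, 6337, 141, 78]⟩))) (.node 1 (.leaf ⟨12, 12, true, [2, 15, 7, 4, 16, 13, 6], [7, 19, 6, 19, 0, 13, 3, 16], [1116, -11549, -12162, -286, -112]⟩) (.node 1 (.leaf ⟨8, 12, true, [0, 16, 10, 12, 19, 11, 9], [8, 10, 0, 13, 19, 5, 6, 2], [309, -3507, -3650, -55, -31]⟩) (.leaf ⟨12, 8, true, [11, 18, 15, 19, 12, 6, 17], [8, 10, 18, 13, 11, 17, 0], [-811, 8739, 9346, 199, 64]⟩)))))))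
noncomputable def dF1533 : BT Fct := (.node 22 (.node 11 (.node 5 (.node 2 (.node 1 (.leaf ⟨11, 12, true, [18, 14, 10, 6, 19, 7, 0], [9, 6, 14, 11, 15, 16, 6], [5312, -42323, -55158, -1908, 28]⟩) (.leaf ⟨12, 11, true, [14, 16, 4, 19, 11, 7, 9, 4], [8, 2, 18, 6, 12, 5, 19], [-4812, 37091, 49462, 1764, -61]⟩)) (.node 1 (.leaf ⟨8, 12, true, [19, 7, 12, 10, 18, 13, 19, 0], [13, 4, 3, 12, 19, 6, 4, 10], [-246, 2901, 3501, 119, -22]⟩) (.node 1 (.leaf ⟨12, 8, true, [11, 12, 0, 12, 14, 11, 15], [5, 18, 3, 15, 16, 5, 17, 0], [1249, -13483, -15022, -408, -45]⟩) (.leaf ⟨10, 12, true, [13, 9, 16, 18, 15, 16, 18, 0], [4, 7, 9, 14, 0, 17], [1922, -16255, -21160, -676, 16]⟩)))) (.node 3 (.node 1 (.leaf ⟨12, 10, true, [0, 10, 8, 6, 18, 6, 3], [15, 16, 6, 10, 7, 7, 19, 12], [-1418, 10787, 15206, 530, -51]⟩) (.node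 1 (.leaf ⟨12, 8, true, [17, 6, 17, 5, 2, 18, 13, 2], [8, 0, 13, 15, 13, 11, 15, 0], [238, -152, -1680, -142, 51]⟩) (.leaf ⟨8, 12, true, [2, 17, 3, 6, 13, 15], [9, 0, 14, 12, 10, 15, 16, 0], [-293, 590, 2236, 161, -51]⟩))) (.node 1 (.leaf ⟨8, 12, true, [15, 10, 3, 6, 2, 19, 7, 14], [17, 0, 16, 19, 6, 10, 17, 2], [-1908, 18503, 21449, 627, 35]⟩) (.node 1 (.leaf ⟨12, 8, true, [6, 2, 19, 5, 3, 5, 19, 0], [12, 17, 6, 19, 10, 14, 10, 0], [907, -8157, -10186, -340, 30]⟩) (.leaf ⟨12, 12, true, [10, 8, 13, 7, 11, 18, 11, 2], [15, 10, 18, 15, 6, 15, 13], [1353, -13847, -15237, -388, -79]⟩))))) (.node 5 (.node 2 (.node 1 (.leaf ⟨12, 12, true, [12, 6, 8, 17, 9, 2, 19], [15, 4, 17, 15, 8, 4, 11, 0], [-1352, 13729, 15108, 387, 78]⟩) (.leaf ⟨10, 12, true, [12, 4, 18, 7, 12, 11, 17], [17, 5, 8, 17, 9, 0, 7, 2],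 [-1121, 11285, 13443, 409, -12]⟩)) (.node 1 (.leaf ⟨12, 10, true, [9, 10, 19, 15, 12, 9, 4], [15, 4, 16, 5, 19, 9, 15], [1623, -16635, -19268, -554, -22]⟩) (.node 1 (.leaf ⟨8, 12, true, [6, 9, 19, 11, 7, 13, 5], [5, 18, 4, 17, 3, 8, 19], [633, -6409, -7488, -224, 11]⟩) (.leaf ⟨12, 8, true, [6, 16, 6, 11, 9, 6, 3, 0], [14, 4, 6, 10, 18, 8, 7], [-133, 1177, 1792, 80, -44]⟩)))) (.node 3 (.node 1 (.leaf ⟨8, 12, true, [14, 7, 4, 19, 13, 19, 3, 4], [18, 8, 6, 4, 17, 14, 10, 4], [264, -2288, -3048, -120, 17]⟩) (.node 1 (.leaf ⟨12, 8, true, [16, 4, 8, 5, 18, 10, 8], [9, 10, 7, 7, 19, 0, 3, 15], [238, -3062, -2777, -25, -51]⟩) (.leaf ⟨12, 12, true, [13, 0, 7, 12, 15, 18, 11], [2, 19, 12, 7, 19, 14, 13, 0], [-5387, 46540, 59084, 2039, -102]⟩))) (.node 1 (.leaf ⟨12, 12, true, [8, 4, 19, 5, 18, 15], [13, 4,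 16, 18, 9, 7, 4], [6390, -57122, -70605, -2328, 35]⟩) (.node 1 (.leaf ⟨8, 12, true, [18, 5, 6, 17, 11, 17, 3, 0], [8, 19, 15, 18, 2, 13, 7, 0], [-197, 1312, 2245, 87, -12]⟩) (.leaf ⟨12, 12, true, [16, 18, 14, 16, 3, 16], [9, 6, 3, 0, 15, 9, 19, 15], [-4164, 34266, 46102, 1694, -157]⟩)))))) (.node 11 (.node 5 (.node 2 (.node 1 (.leaf ⟨12, 12, true, [5, 10, 15, 11, 6, 14, 0], [18, 6, 2, 15, 16, 6, 16, 14], [3, -62, -65, 0, -1]⟩) (.leaf ⟨12, 10, true, [14, 5, 7, 2, 16, 9, 5], [5, 0, 18, 5, 17, 10, 7, 0], [-541, 5336, 5922, 170, 22]⟩)) (.node 1 (.leaf ⟨12, 12, true, [16, 11, 4, 19, 16, 6, 12, 18], [19, 6, 16, 13, 10, 8, 17], [4268, -36058, -47306, -1678, 133]⟩) (.node 1 (.leaf ⟨12, 8, true, [7, 7, 16, 8, 14, 0, 7, 0], [14, 11, 7, 9, 14, 18], [-543, 3513, 4714, 235, -61]⟩) (.leaf ⟨8, 12, true, [9, 4,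 10, 7, 12, 9, 15], [10, 4, 9, 14, 10, 15, 7, 3], [488, -3075, -4158, -216, 61]⟩)))) (.node 3 (.node 1 (.leaf ⟨12, 12, true, [17, 0, 10, 15, 13, 9, 3, 4], [16, 12, 3, 14, 6, 8, 7], [268, -2770, -3461, -92, 3]⟩) (.node 1 (.leaf ⟨9, 12, true, [5, 7, 5, 13, 11, 5, 17, 2], [7, 2, 6, 13, 15, 4, 2], [2021, -19094, -22223, -671, -41]⟩) (.leaf ⟨12, 9, true, [14, 4, 18, 3, 4], [6, 4, 18, 13, 19, 0, 17, 2], [-1521, 13862, 16527, 527, 8]⟩))) (.node 1 (.leaf ⟨9, 12, true, [17, 7, 13, 16, 14, 10, 0], [9, 6, 8, 2, 16, 0, 17], [-802, 7094, 9726, 320, -20]⟩) (.node 1 (.leaf ⟨12, 9, true, [18, 15, 7, 3, 17, 15, 18], [0, 11, 15, 17, 12, 6, 16], [1807, -17794, -21376, -610, -48]⟩) (.leaf ⟨9, 12, true, [10, 19, 2, 6, 5, 13, 11, 16], [12, 6, 2, 10, 17, 5, 17, 12], [3220, -26213, -35187, -1329, 135]⟩))))) (.node 6 (.node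 3 (.node 1 (.leaf ⟨12, 9, true, [8, 14, 12, 3, 6, 16, 7, 2], [9, 7, 15, 3, 7, 19, 15, 2], [-2217, 15631, 23666, 1040, -202]⟩) (.node 1 (.leaf ⟨12, 12, true, [9, 19, 17, 6, 10, 13, 17], [17, 0, 14, 11, 18, 7, 3, 4], [6229, -52110, -66448, -2404, 213]⟩) (.leaf ⟨12, 8, true, [2, 16, 13, 7, 18, 5, 2], [18, 12, 0, 16, 11, 2], [-5809, 48771, 64470, 2336, -212]⟩))) (.node 1 (.leaf ⟨8, 12, true, [19, 5, 11, 7, 19, 7, 0], [3, 4, 19, 6, 12, 17, 3], [5754, -48333, -63914, -2317, 212]⟩) (.node 1 (.leaf ⟨12, 12, true, [9, 3, 17, 2, 15, 16, 9, 0], [18, 9, 6, 5, 18, 17, 5, 3], [-8640, 69491, 94725, 3555, -373]⟩) (.leaf ⟨12, 8, true, [8, 6, 6, 17, 4, 7, 12, 2], [14, 2, 5, 7, 16, 4, 3, 4], [-3939, 31403, 41515, 1619, -211]⟩)))) (.node 3 (.node 1 (.leaf ⟨8, 12, true, [6, 0, 9, 10, 15, 5, 19], [15, 2, 13, 19, 10,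 4, 18, 3], [3992, -31841, -42071, -1638, 211]⟩) (.node 1 (.leaf ⟨5, 12, true, [9, 0, 10, 8, 14, 13, 9, 2], [18, 8, 4, 14, 8, 19, 2, 15], [-231, 2514, 3093, 85, -1]⟩) (.leaf ⟨12, 5, true, [6, 10, 5, 18, 8, 15, 6, 3], [3, 8, 12, 15, 9, 11, 6, 3], [733, -7864, -8918, -230, -33]⟩))) (.node 1 (.leaf ⟨11, 12, true, [10, 4, 16, 9, 5, 9, 19], [19, 5, 14, 17, 12, 10, 19, 0], [3505, -26937, -36312, -1302, 66]⟩) (.node 1 (.leaf ⟨12, 11, true, [4, 14, 11, 5, 8, 7, 3, 4], [18, 8, 4, 8, 17, 5, 11], [-3504, 26819, 36183, 1301, -67]⟩) (.leaf ⟨8, 12, true, [9, 15, 0, 6, 13, 8, 17, 14], [12, 14, 3, 18, 15, 6, 14, 5], [196, -1077, -1710, -77, 9]⟩)))))))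
noncomputable def dF1578 : BT Fct := (.node 22 (.node 11 (.node 5 (.node 2 (.node 1 (.leaf ⟨12, 8, true, [15, 11, 12, 15, 18, 11, 14, 3], [14, 16, 0, 14, 7, 15, 7, 18], [308, -4391, -4244, -69, -44]⟩) (.leaf ⟨6, 12, true, [12, 19, 6, 17, 18, 11, 16, 19], [6, 15, 6, 5, 7, 14], [-496, 5393, 6395, 203, -32]⟩)) (.node 1 (.leaf ⟨12, 6, true, [4, 3, 16, 9, 7, 17, 11, 3], [18, 17, 10, 19, 16, 7, 18, 13], [-4, -279, -828, -60, 64]⟩) (.node 1 (.leaf ⟨12, 8, true, [6, 14, 2, 12, 6, 11, 7], [11, 7, 16, 3, 19, 6, 12, 2], [-1466, 14552, 17023, 468, 45]⟩) (.leaf ⟨12, 11, true, [14, 12, 15, 0, 9, 11, 16, 19], [13, 18, 0, 3, 15, 6, 16, 18], [6958, -63475, -76552, -2450, 3]⟩)))) (.node 3 (.node 1 (.leaf ⟨11, 12, true, [4, 18, 18, 6, 19, 12, 14], [6, 16, 9, 11, 0, 16, 7, 12], [-5693, 53211, 63163, 1985, 15]⟩) (.node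 1 (.leaf ⟨12, 12, true, [7, 3, 7, 14, 17, 6, 4, 2], [9, 0, 16, 7, 17, 0, 7], [-1420, 14889, 16229, 435, 79]⟩) (.leaf ⟨12, 12, true, [6, 12, 6, 8, 13, 7, 0], [4, 10, 16, 4, 2, 10, 7], [1157, -10594, -11585, -404, 16]⟩))) (.node 1 (.leaf ⟨12, 8, true, [17, 6, 12, 0, 13, 16], [2, 8, 16, 11, 16, 6, 3], [-3542, 34343, 38309, 1186, 3]⟩) (.node 1 (.leaf ⟨8, 12, true, [17, 9, 0, 9, 7, 11, 6, 11], [17, 12, 0, 13, 7, 16], [3595, -34781, -38865, -1205, -3]⟩) (.leaf ⟨12, 8, true, [5, 2, 12, 16, 19, 15, 8], [8, 15, 0, 10, 2, 10, 9, 7], [781, -8338, -9770, -247, -36]⟩))))) (.node 5 (.node 2 (.node 1 (.leaf ⟨12, 11, true, [6, 3, 5, 16, 18, 11, 6, 11], [6, 10, 4, 17, 9, 14, 18, 11], [-720, 9632, 8920, 185, 20]⟩) (.leaf ⟨11, 12, true, [17, 4, 8, 12, 5, 12, 0, 3], [10, 7, 10, 19, 17, 4, 9, 0], [-5302, 41781, 54504,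 1991, -98]⟩)) (.node 1 (.leaf ⟨12, 11, true, [5, 11, 5, 12, 18, 5, 7, 0], [16, 2, 16, 18, 17, 4, 14], [154, -4484, -2435, 169, -201]⟩) (.node 1 (.leaf ⟨11, 12, true, [15, 8, 6, 17, 12, 11, 0, 3], [8, 2, 4, 19, 13, 4, 10, 4], [-4849, 44885, 51627, 1514, 145]⟩) (.leaf ⟨9, 12, true, [8, 10, 15, 5, 13, 18, 13], [6, 2, 4, 18, 4, 6, 18, 0], [-1342, 12635, 15307, 485, -17]⟩)))) (.node 3 (.node 1 (.leaf ⟨12, 9, true, [11, 6, 14, 5, 16, 11, 5, 3], [9, 19, 11, 12, 16, 10, 8], [842, -7521, -9740, -342, 49]⟩) (.node 1 (.leaf ⟨12, 8, true, [14, 9, 0, 3, 17, 4, 8, 17], [4, 16, 4, 9, 11, 18, 4, 9], [-1561, 17368, 15230, 389, 34]⟩) (.leaf ⟨8, 12, true, [9, 4, 13, 9, 10, 9, 13], [16, 9, 0, 15, 12, 15, 19, 15], [1614, -17806, -15786, -408, -34]⟩))) (.node 1 (.leaf ⟨12, 8, true, [4, 2, 10, 15, 12, 8, 11, 2], [10,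 3, 0, 15, 12, 4, 17, 6], [1274, -11808, -14827, -446, -5]⟩) (.node 1 (.leaf ⟨8, 12, true, [12, 11, 18, 6, 9, 7, 3, 0], [4, 3, 18, 8, 11, 5, 11, 2], [-1221, 11370, 14271, 427, 5]⟩) (.leaf ⟨12, 9, true, [0, 13, 4, 10, 16, 4, 11, 0], [9, 6, 17, 18, 7, 8, 0, 3], [-6651, 60527, 73375, 2375, 17]⟩)))))) (.node 11 (.node 5 (.node 2 (.node 1 (.leaf ⟨9, 12, true, [9, 3, 15, 12, 14, 16, 12, 0], [0, 10, 5, 17, 11, 5, 12, 0], [6319, -58074, -69308, -2208, -45]⟩) (.leaf ⟨8, 12, true, [7, 3, 7, 14, 19, 14, 10, 3], [9, 6, 17, 19, 6, 16, 9, 0], [-948, 9819, 11085, 293, 23]⟩)) (.node 1 (.leaf ⟨12, 8, true, [9, 2, 18, 4, 11, 5, 13], [2, 11, 9, 7, 14, 13, 11, 3], [448, -4705, -5518, -150, 9]⟩) (.node 1 (.leaf ⟨12, 9, true, [4, 10, 8, 14, 2, 17, 7, 2], [7, 0, 4, 14, 9, 6, 15, 2], [-868, 8178, 9286, 283, 7]⟩) (.leaf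 ⟨9, 12, true, [8, 13, 6, 12, 11, 15, 3, 0], [8, 3, 4, 11, 13, 11, 19, 2], [1198, -10631, -13353, -450, 21]⟩)))) (.node 3 (.node 1 (.leaf ⟨12, 8, true, [17, 15, 8, 14, 8, 4, 19, 12], [9, 6, 13, 18, 6, 9, 13, 5], [-1639, 8558, 17770, 917, -248]⟩) (.node 1 (.leaf ⟨8, 12, true, [15, 17, 6, 17, 2, 0], [13, 18, 5, 9, 15, 9, 14, 16], [1584, -8120, -17214, -898, 248]⟩) (.leaf ⟨12, 12, true, [5, 6, 2, 11, 12, 4, 7, 17], [16, 9, 2, 16, 4, 19, 14, 6], [50, -1183, -677, 36, -44]⟩))) (.node 1 (.leaf ⟨8, 12, true, [11, 6, 13, 2, 11, 7, 17], [8, 19, 10, 12, 19, 4, 11], [1543, -15596, -17719, -448, -87]⟩) (.node 1 (.leaf ⟨12, 8, true, [19, 14, 12, 8, 14, 6, 6, 3], [16, 6, 10, 8, 3, 7, 10], [-2043, 20710, 23286, 591, 119]⟩) (.leaf ⟨12, 12, true, [8, 4, 11, 14, 18, 14], [14, 7, 10, 8, 10, 5, 19], [-7770, 65204, 84402,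 3047, -271]⟩))))) (.node 6 (.node 3 (.node 1 (.leaf ⟨12, 12, true, [11, 14, 16, 4, 14, 17, 12], [18, 5, 19, 10, 16, 10, 3], [2334, -17600, -25625, -1065, 197]⟩) (.node 1 (.leaf ⟨12, 12, true, [17, 7, 18, 14, 7, 3, 14, 0], [2, 0, 4, 19, 17, 7, 16], [591, -5969, -7074, -190, -28]⟩) (.leaf ⟨12, 12, true, [6, 5, 8, 5, 12, 6], [5, 9, 12, 19, 6, 4, 7], [-7370, 60813, 79902, 2949, -309]⟩))) (.node 1 (.leaf ⟨11, 12, true, [6, 9, 6, 10, 8, 3, 4], [8, 4, 15, 8, 18, 9, 14], [-3723, 31377, 39922, 1316, -13]⟩) (.node 1 (.leaf ⟨12, 11, true, [15, 3, 8, 5, 12, 15, 18, 3], [5, 2, 9, 11, 7, 8, 7], [3223, -26263, -34355, -1173, 45]⟩) (.leaf ⟨12, 6, true, [0, 7, 19, 15, 12, 5, 11, 3], [12, 18, 14, 19, 11, 7, 15], [1566, -15226, -18061, -537, -37]⟩)))) (.node 3 (.node 1 (.leaf ⟨6, 12, true, [4, 19, 16, 19, 12, 7, 17,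 0], [11, 0, 18, 10, 18, 7, 10, 0], [-1522, 14679, 17456, 521, 37]⟩) (.node 1 (.leaf ⟨4, 13, true, [11, 5, 19, 15, 6, 13, 7, 4], [], []⟩) (.leaf ⟨13, 13, false, [4, 14, 9, 14, 9, 5], [], [1, -61, -76, -3, 1]⟩))) (.node 1 (.leaf ⟨13, 8, true, [16, 5, 14, 17, 6, 13, 15], [7, 15, 8, 17, 11, 8, 3, 4], [90, -658, -964, -39, 5]⟩) (.node 1 (.leaf ⟨13, 9, true, [2, 16, 12, 11, 13, 9], [17, 3, 12, 19, 14, 11, 4, 3], [764, -5922, -9268, -375, 61]⟩) (.leaf ⟨9, 13, true, [13, 9, 15, 6, 13, 17, 2, 0], [8, 12, 10, 13, 17, 3], [-693, 5369, 8545, 351, -61]⟩)))))))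
noncomputable def dF1623 : BT Fct := (.node 22 (.node 11 (.node 5 (.node 2 (.node 1 (.leaf ⟨13, 12, true, [8, 7, 5, 16, 4, 3, 15, 2], [16, 3, 6, 12, 10, 14, 13, 2], [38, -55, -217, -27, 10]⟩) (.leaf ⟨12, 13, true, [17, 18, 14, 10, 13, 14, 6], [10, 7, 2, 0, 17, 4, 6, 9], [464, -5295, -5608, -118, -44]⟩)) (.node 1 (.leaf ⟨13, 13, false, [14, 13, 18, 14, 18, 15, 2], [], [1002, -10453, -11383, -288, -66]⟩) (.node 1 (.leaf ⟨13, 8, true, [17, 15, 12, 18, 11, 12, 16], [0, 4, 19, 17, 9, 10, 7], [0, -266, -213, 0, -1]⟩) (.leaf ⟨8, 13, true, [12, 7, 3, 7, 10, 18, 18], [17, 13, 10, 19, 13, 14, 16], [-55, 704, 769, 19, 1]⟩)))) (.node 3 (.node 1 (.leaf ⟨13, 8, true, [15, 0, 16, 4, 15, 0, 4, 2], [14, 18, 4, 17, 15, 17, 3], [168, -1444, -1838, -69, 11]⟩) (.node 1 (.leaf ⟨8, 13, true, [13, 0, 9, 7, 13, 4, 7], [14,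 17, 10, 9, 6, 12, 0, 2], [-115, 1006, 1282, 50, -11]⟩) (.leaf ⟨13, 4, true, [5, 3, 19, 11, 6, 13, 10, 0], [5, 9, 10, 7, 3, 19, 14], [-10, 142, 154, 3]⟩))) (.node 1 (.leaf ⟨4, 13, true, [7, 7, 19, 14, 0, 19, 17], [4, 2, 11, 7, 10, 18, 4, 0], [9, -80, -66, -1]⟩) (.node 1 (.leaf ⟨13, 13, true, [15, 10, 19, 4, 15, 8, 10, 2], [12, 16, 18, 7, 14, 18, 15, 5], [11, -157, -140, 0, -2]⟩) (.leaf ⟨13, 6, true, [18, 18, 0, 14, 3, 7, 12, 7], [7, 12, 7, 14, 5, 7, 0], [-937, 9955, 10815, 274, 64]⟩))))) (.node 5 (.node 2 (.node 1 (.leaf ⟨6, 13, true, [7, 19, 3, 5, 7, 14, 11, 16], [7, 18, 11, 14, 12, 11, 16, 0], [1133, -11686, -13026, -344, -62]⟩) (.leaf ⟨13, 10, true, [11, 8, 4, 19, 5, 3, 7, 15], [17, 11, 15, 8, 6, 17, 8, 4], [3, -73, -60, 0, -1]⟩)) (.node 1 (.leaf ⟨10, 13, true, [17, 8, 14, 9, 11, 13, 15], [12,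 7, 0, 16, 11, 18, 11, 7], [1094, -9523, -12270, -388, 7]⟩) (.node 1 (.leaf ⟨13, 13, true, [14, 7, 16, 10, 7, 19, 5], [14, 0, 15, 12, 8, 7, 13, 2], [-990, 10338, 11285, 287, 65]⟩) (.leaf ⟨13, 13, true, [10, 8, 13, 7, 19, 12, 15, 2], [14, 11, 9, 18, 11, 15, 5], [-14, 176, 174, 4]⟩)))) (.node 3 (.node 1 (.leaf ⟨13, 13, true, [6, 11, 9, 17, 6, 6, 10, 3], [16, 14, 3, 17, 15, 18, 18], [0, -11, -32, 0, -1]⟩) (.node 1 (.leaf ⟨13, 8, true, [9, 10, 7, 19, 4, 17, 14], [8, 0, 16, 7, 15, 17, 7], [178, -1649, -1959, -60]⟩) (.leaf ⟨13, 6, true, [11, 14, 12, 10, 5, 10, 4], [16, 13, 18, 6, 19, 5, 9], [-1064, 11201, 12217, 310, 66]⟩))) (.node 1 (.leaf ⟨6, 13, true, [3, 6, 13, 6, 17, 5, 13, 2], [6, 17, 4, 17, 11, 9, 4], [1062, -11218, -12240, -309, -67]⟩) (.node 1 (.leaf ⟨13, 5, true, [19, 3, 5, 9, 12, 11, 16], [10,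 14, 0, 11, 18, 12, 19, 12], [155, -1475, -1815, -45, -8]⟩) (.leaf ⟨5, 13, true, [4, 8, 14, 4, 11, 8, 3], [17, 10, 13, 8, 4, 2, 18], [-51, 557, 629, 7, 8]⟩)))))) (.node 11 (.node 5 (.node 2 (.node 1 (.leaf ⟨13, 13, true, [0, 10, 16, 10, 17, 13, 11, 0], [0, 4, 10, 16, 15, 9, 14, 0], [4, -107, -122, -3]⟩) (.leaf ⟨13, 6, true, [10, 4, 9, 5, 9, 15, 18], [14, 5, 17, 6, 12, 7, 13, 0], [-60, 719, 799, 18, 2]⟩)) (.node 1 (.leaf ⟨6, 13, true, [0, 16, 9, 13, 11, 16, 5], [14, 3, 17, 13, 19, 5, 13], [146, -1698, -1903, -47, -2]⟩) (.node 1 (.leaf ⟨13, 5, true, [15, 13, 17, 14, 7, 12, 18], [6, 2, 8, 5, 19, 5, 9, 0], [-491, 6925, 6449, 91, 78]⟩) (.leaf ⟨5, 13, true, [19, 11, 12, 17, 4, 8, 10], [19, 13, 6, 15, 16, 12, 14], [415, -6428, -5585, -56, -81]⟩)))) (.node 3 (.node 1 (.leaf ⟨13, 8, true, [8, 2, 4, 11, 6,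 11, 6], [18, 14, 9, 13, 10, 17, 10], [-957, 9961, 10971, 282, 68]⟩) (.node 1 (.leaf ⟨8, 13, true, [17, 4, 9, 2, 15, 7, 4], [7, 10, 7, 10, 5, 7, 0], [902, -9523, -10415, -263, -68]⟩) (.leaf ⟨13, 8, true, [11, 9, 19, 12, 9, 13, 4], [7, 8, 7, 13, 10, 6, 18, 9], [-166, 1314, 1962, 78, -11]⟩))) (.node 1 (.leaf ⟨13, 9, true, [12, 19, 14, 11, 6, 14, 9, 2], [5, 10, 13, 6, 5, 12], [-93, 4228, 2238, -63, 71]⟩) (.node 1 (.leaf ⟨9, 13, true, [3, 14, 11, 6, 18, 14, 3], [19, 6, 4, 17, 14, 4, 2, 0], [495, -7234, -7028, -128, -43]⟩) (.leaf ⟨13, 9, true, [10, 3, 4, 18, 11, 18, 18], [7, 13, 4, 19, 4, 8, 3, 14], [-217, 2375, 2255, 36, 16]⟩))))) (.node 6 (.node 3 (.node 1 (.leaf ⟨9, 13, true, [9, 0, 13, 10, 16, 8, 15, 2], [18, 18, 10, 19, 5, 2, 11], [218, -2429, -2297, -35, -17]⟩) (.node 1 (.leaf ⟨13, 9, true, [19,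 5, 18, 15, 4, 15, 9, 2], [15, 4, 15, 3, 19, 5, 9, 3], [-3410, 29784, 37253, 1263, -27]⟩) (.leaf ⟨9, 13, true, [11, 15, 7, 13, 18, 16, 19], [14, 11, 12, 9, 15, 8, 11, 0], [3481, -30337, -37976, -1287, 27]⟩))) (.node 1 (.leaf ⟨13, 8, true, [19, 10, 2, 14, 16, 9, 15, 18], [17, 18, 4, 19, 0, 19, 13], [-713, 9284, 9249, 154, 117]⟩) (.node 1 (.leaf ⟨8, 13, true, [9, 19, 6, 6, 14, 10], [11, 18, 3, 11, 18, 13, 11, 4], [766, -9722, -9805, -173, -117]⟩) (.leaf ⟨13, 8, true, [11, 0, 16, 6, 2, 17, 6, 3], [14, 6, 4, 14, 9, 3], [-4013, 41865, 46168, 1146, 261]⟩)))) (.node 3 (.node 1 (.leaf ⟨13, 12, true, [6, 17, 4, 19, 6, 13, 15, 12], [8, 19, 6, 4, 10, 5, 11], [-389, 3055, 3799, 157, -27]⟩) (.node 1 (.leaf ⟨12, 13, true, [9, 3, 7, 17, 6, 17, 14, 3], [13, 10, 0, 13, 14, 9, 6, 11], [891, -8405, -9624, -302, -7]⟩)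 (.leaf ⟨13, 8, true, [6, 14, 6, 5, 19, 11, 0], [5, 0, 16, 7, 15, 6, 11], [-3355, 27859, 37046, 1384, -143]⟩))) (.node 1 (.leaf ⟨13, 8, true, [12, 5, 8, 0, 11, 16, 6], [4, 11, 17, 5, 18, 14, 4], [1689, -14335, -18575, -600, 5]⟩) (.node 1 (.leaf ⟨8, 13, true, [11, 3, 0, 17, 4, 15, 11], [7, 17, 14, 0, 18, 18, 3], [-1636, 13897, 18019, 581, -5]⟩) (.leaf ⟨13, 12, true, [4, 6, 4, 8, 5, 16, 2], [12, 3, 19, 13, 6, 13, 8, 4], [179, 182, -991, -114, 52]⟩)))))))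
noncomputable def dF1668 : BT Fct := (.node 22 (.node 11 (.node 5 (.node 2 (.node 1 (.leaf ⟨12, 13, true, [11, 17, 7, 15, 13, 18, 16], [13, 14, 19, 0, 12, 14, 10], [824, -10764, -10530, -175, -119]⟩) (.leaf ⟨13, 8, true, [8, 14, 11, 5, 19, 16, 5, 0], [14, 17, 18, 5, 7, 18], [470, -3830, -5098, -179, 13]⟩)) (.node 1 (.leaf ⟨8, 13, true, [13, 19, 10, 6, 15, 7, 19, 0], [18, 6, 9, 14, 18, 14, 18, 3], [-417, 3392, 4542, 160, -13]⟩) (.node 1 (.leaf ⟨13, 8, true, [8, 7, 7, 17, 6, 3, 15, 5], [5, 3, 18, 11, 17, 13, 7], [-4226, 34370, 45339, 1659, -123]⟩) (.leaf ⟨13, 11, true, [6, 13, 11, 5, 17, 13, 19], [17, 9, 14, 5, 2, 6, 4], [-563, 4037, 6920, 315, -69]⟩)))) (.node 3 (.node 1 (.leaf ⟨11, 13, true, [17, 4, 7, 17, 18, 12, 6, 3], [18, 12, 16, 4, 10, 12, 7], [2496, -19329, -26881, -1000, 77]⟩) (.node 1 (.leaf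 ⟨13, 8, true, [14, 5, 9, 0, 17, 2, 15], [9, 12, 14, 18, 5, 18, 13, 0], [-836, 9107, 9774, 231, 60]⟩) (.leaf ⟨13, 13, true, [15, 19, 5, 16, 18, 0, 3], [15, 11, 2, 19, 7, 17, 0, 11], [17, -295, -284, -3, -2]⟩))) (.node 1 (.leaf ⟨13, 8, true, [10, 12, 11, 19, 4, 15, 17], [18, 8, 11, 19, 4, 8, 5], [-1096, 8884, 12174, 461, -59]⟩) (.node 1 (.leaf ⟨8, 13, true, [4, 3, 16, 9, 13, 2, 19], [16, 14, 5, 18, 10, 13, 11], [1149, -9322, -12730, -480, 59]⟩) (.leaf ⟨13, 8, true, [18, 7, 12, 19, 7, 16, 2, 10], [10, 15, 5, 13, 16, 4, 18, 7], [-951, 9113, 9918, 283, 26]⟩))))) (.node 5 (.node 2 (.node 1 (.leaf ⟨8, 13, true, [12, 5, 19, 4, 11, 8, 12, 3], [16, 0, 7, 10, 17, 15, 12, 4], [896, -8675, -9362, -264, -26]⟩) (.leaf ⟨13, 13, true, [5, 7, 8, 15, 19, 4, 17, 3], [19, 8, 15, 5, 17, 5, 13], [12, -143, -215, -6, -1]⟩))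 (.node 1 (.leaf ⟨13, 8, true, [2, 17, 12, 6, 19, 4, 19], [8, 10, 16, 7, 12, 10, 6, 2], [-1786, 17758, 20556, 564, 67]⟩) (.node 1 (.leaf ⟨8, 13, true, [8, 19, 4, 16, 8, 4, 19], [18, 5, 18, 7, 13, 16, 3], [1731, -17320, -20000, -545, -67]⟩) (.leaf ⟨13, 8, true, [5, 16, 19, 16, 8, 4], [10, 8, 12, 14, 13, 7, 4], [-369, 3386, 4283, 147, -10]⟩)))) (.node 3 (.node 1 (.leaf ⟨13, 9, true, [8, 13, 6, 11, 19, 7, 10, 13], [17, 10, 16, 13, 0, 9, 7], [-457, 3549, 3679, 136, -17]⟩) (.node 1 (.leaf ⟨9, 13, true, [6, 11, 7, 15, 18, 10, 9, 4], [12, 19, 4, 19, 15, 18, 6, 4], [-1261, 10952, 15093, 533, -32]⟩) (.leaf ⟨13, 8, true, [10, 8, 4, 9, 13, 4, 8, 19], [12, 8, 6, 16, 4, 8, 10], [-853, 9316, 9606, 211, 94]⟩))) (.node 1 (.leaf ⟨8, 13, true, [18, 4, 6, 15, 5, 17, 10], [9, 11, 12, 4, 10, 5, 8, 0], [906, -9754, -10162,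 -230, -94]⟩) (.node 1 (.leaf ⟨13, 10, true, [0, 16, 11, 0, 11, 8, 14], [12, 10, 2, 6, 15, 18, 11, 5], [-263, 3285, 2484, 34, 69]⟩) (.leaf ⟨10, 13, true, [13, 5, 8, 12, 6, 19, 4, 0], [15, 9, 10, 0, 10, 17, 0], [825, -8353, -8822, -219, -73]⟩)))))) (.node 11 (.node 5 (.node 2 (.node 1 (.leaf ⟨13, 4, true, [18, 3, 8, 12, 15, 17, 6], [11, 17, 4, 18, 0, 17, 9], [-721, 8376, 7717, 149, 84]⟩) (.leaf ⟨4, 13, true, [6, 4, 0, 9, 5, 8], [7, 16, 14, 13, 9, 2, 19], [720, -8338, -7653, -147, -84]⟩)) (.node 1 (.leaf ⟨13, 8, true, [10, 0, 15, 13, 2, 14, 13], [18, 15, 9, 13, 10, 14, 9], [-655, 6862, 7068, 166, 73]⟩) (.node 1 (.leaf ⟨8, 13, true, [15, 13, 7, 16, 10, 19, 14, 3], [12, 0, 13, 11, 8, 5, 9], [600, -6424, -6512, -147, -73]⟩) (.leaf ⟨13, 8, true, [15, 18, 13, 4, 19, 15, 11, 3], [5, 18, 2, 4, 6, 12, 18,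 6], [-146, 1440, 1958, 39, 24]⟩)))) (.node 3 (.node 1 (.leaf ⟨8, 13, true, [18, 17, 15, 0, 9, 14, 0], [10, 9, 19, 4, 7, 8, 7, 2], [199, -1878, -2514, -58, -24]⟩) (.node 1 (.leaf ⟨13, 8, true, [19, 4, 7, 4, 7, 14, 7], [6, 9, 13, 14, 18, 6, 11, 2], [334, -2886, -3668, -110, -3]⟩) (.leaf ⟨13, 4, true, [17, 10, 16, 14, 18, 13, 6, 2], [13, 14, 8, 10, 5, 16, 0, 10], [-91, 521, 825, 60, -21]⟩))) (.node 1 (.leaf ⟨4, 13, true, [0, 19, 0, 10, 9, 17, 18, 9], [16, 11, 17, 11, 7, 7, 18, 0], [90, -483, -761, -58, 21]⟩) (.node 1 (.leaf ⟨13, 9, true, [7, 12, 15, 19, 0, 14, 18], [4, 7, 14, 6, 13, 2, 6], [964, -4864, -9970, -517, 129]⟩) (.leaf ⟨9, 13, true, [3, 18, 11, 5, 16, 18, 7, 0], [19, 15, 0, 18, 14, 13, 6], [752, -9637, -8802, -152, -80]⟩))))) (.node 6 (.node 3 (.node 1 (.leaf ⟨13, 8, true, [5, 14, 7, 15,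 0, 11, 3], [14, 16, 3, 15, 13, 4, 7, 4], [-969, 10297, 10978, 275, 65]⟩) (.node 1 (.leaf ⟨8, 13, true, [18, 16, 4, 16, 18, 5, 19, 3], [14, 18, 8, 14, 16, 9, 3], [914, -9859, -10422, -256, -65]⟩) (.leaf ⟨13, 11, true, [12, 0, 17, 8, 7, 11, 19, 2], [16, 7, 11, 0, 16, 15, 6], [241, -2759, -2207, -33, -36]⟩))) (.node 1 (.leaf ⟨11, 13, true, [6, 5, 3, 13, 8, 7, 18, 11], [6, 3, 4, 10, 18, 7, 15, 2], [-6263, 54172, 65631, 2209, -42]⟩) (.node 1 (.leaf ⟨13, 11, true, [9, 7, 4, 11, 19, 17, 8, 4], [17, 6, 11, 8, 14, 19, 13, 2], [-2041, 17023, 22682, 798, -44]⟩) (.leaf ⟨11, 13, true, [18, 4, 8, 14, 18, 15, 5, 2], [6, 11, 4, 11, 18, 10, 17, 5], [-2713, 24062, 27298, 914, -17]⟩)))) (.node 3 (.node 1 (.leaf ⟨13, 12, true, [4, 8, 0, 10, 5, 17, 11, 7], [13, 11, 15, 17, 2, 12], [-370, 5008, 4400, 51, 82]⟩) (.node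 1 (.leaf ⟨12, 13, true, [13, 0, 19, 5, 11, 18, 11, 3], [11, 9, 12, 9, 10, 19, 4, 0], [870, -10240, -10096, -195, -115]⟩) (.leaf ⟨13, 9, true, [7, 19, 10, 7, 18, 12, 6, 0], [16, 7, 2, 11, 7, 11, 17, 4], [-863, 9256, 9878, 252, 57]⟩))) (.node 1 (.leaf ⟨9, 13, true, [14, 19, 4, 19, 14, 19, 8, 13], [8, 12, 7, 19, 13, 16, 0, 11], [936, -9863, -10643, -275, -58]⟩) (.node 1 (.leaf ⟨13, 13, true, [6, 16, 9, 19, 11, 13, 17], [12, 19, 11, 7, 15, 8, 17, 3], [662, -3799, -7044, -359, 109]⟩) (.leaf ⟨13, 8, true, [11, 7, 8, 7, 7, 8, 5, 3], [19, 12, 7, 14, 12, 0, 13, 15], [427, -4835, -6772, -219, 51]⟩)))))))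
noncomputable def dF1713 : BT Fct := (.node 22 (.node 11 (.node 5 (.node 2 (.node 1 (.leaf ⟨8, 13, true, [17, 0, 3, 15, 16, 7, 14, 0], [10, 13, 2, 6, 6, 9, 6, 10], [-374, 4397, 6216, 200, -51]⟩) (.leaf ⟨13, 8, true, [10, 7, 19, 4, 18, 14, 3], [10, 19, 2, 16, 2, 19, 17, 8, 0], [-551, 4213, 6214, 260, -45]⟩)) (.node 1 (.leaf ⟨8, 13, true, [6, 19, 2, 6, 16, 6, 16, 5], [2, 15, 19, 5, 18, 6, 11], [604, -4651, -6770, -279, 45]⟩) (.node 1 (.leaf ⟨13, 8, true, [19, 14, 17, 14, 13, 7, 8, 3], [15, 13, 0, 9, 6, 19, 12], [-834, 9386, 9443, 199, 83]⟩) (.leaf ⟨8, 13, true, [12, 6, 8, 13, 7, 7, 19], [13, 8, 3, 17, 5, 6, 17, 8], [887, -9824, -9999, -218, -83]⟩)))) (.node 3 (.node 1 (.leaf ⟨13, 8, true, [2, 19, 12, 11, 15, 7, 12, 0], [6, 2, 16, 5, 8, 12, 3, 4], [-7345, 62938, 78864, 2563, 28]⟩) (.node 1 (.leaf ⟨8,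 13, true, [18, 14, 6, 18, 15, 17, 10], [0, 13, 6, 14, 10, 13, 18, 3], [7398, -63376, -79420, -2582, -28]⟩) (.leaf ⟨13, 8, true, [8, 4, 15, 12, 6, 13, 3], [4, 11, 0, 10, 16, 6, 18, 11], [42, 217, 229, 9, -16]⟩))) (.node 1 (.leaf ⟨8, 13, true, [12, 11, 13, 7, 16, 2, 19, 0], [2, 12, 7, 13, 14, 5, 9], [11, -655, -785, -28, 16]⟩) (.node 1 (.leaf ⟨13, 8, true, [0, 15, 19, 4, 19, 16, 18, 2], [15, 11, 3, 4, 7, 11, 18, 14], [234, -1864, -2429, -80, 2]⟩) (.leaf ⟨8, 13, true, [16, 3, 15, 7, 9, 2, 15], [9, 0, 12, 6, 11, 18, 14, 0], [-289, 2302, 2985, 99, -2]⟩))))) (.node 5 (.node 2 (.node 1 (.leaf ⟨13, 8, true, [12, 11, 13, 6, 9, 12, 14], [15, 4, 14, 7, 15, 0, 15], [-755, 9751, 8124, 99, 120]⟩) (.leaf ⟨13, 8, true, [6, 12, 17, 18, 15, 7, 12], [5, 18, 10, 17, 15, 4, 11, 0], [-714, 5655, 7386, 306, -64]⟩)) (.node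 1 (.leaf ⟨13, 8, true, [8, 16, 18, 13, 19, 17, 5], [10, 6, 19, 15, 4, 6, 6, 0], [-684, 9570, 9332, 168, 74]⟩) (.node 1 (.leaf ⟨8, 13, true, [16, 4, 11, 15, 11, 17], [4, 16, 18, 12, 19, 17, 9], [737, -10008, -9888, -187, -74]⟩) (.leaf ⟨13, 9, true, [7, 16, 19, 5, 11, 7, 16, 0], [15, 6, 9, 16, 19, 14, 4, 0], [-1101, 11381, 12611, 347, 44]⟩)))) (.node 3 (.node 1 (.leaf ⟨13, 8, true, [12, 5, 0, 11, 5, 11, 18, 12], [3, 17, 10, 8, 15, 11, 19, 3], [317, -2559, -3179, -98, -14]⟩) (.node 1 (.leaf ⟨13, 12, true, [7, 9, 0, 14, 11, 13, 15, 8], [16, 15, 6, 2, 15, 7, 9, 3], [202, -2214, -2134, -54, -9]⟩) (.leaf ⟨12, 13, true, [2, 10, 7, 19, 15, 6, 4], [12, 4, 6, 4, 19, 6, 12, 3], [801, -8368, -9387, -235, -58]⟩))) (.node 1 (.leaf ⟨13, 8, true, [0, 18, 6, 8, 4, 11, 15], [5, 18, 6, 15, 4, 19, 14], [-165, 1628,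 1910, 53, -1]⟩) (.node 1 (.leaf ⟨13, 9, true, [13, 4, 15, 12, 9, 4, 6], [16, 4, 7, 11, 18, 11, 9], [-2577, 24968, 28991, 884, 23]⟩) (.leaf ⟨9, 13, true, [15, 12, 8, 15, 5, 9, 6, 0], [7, 5, 8, 13, 14, 5, 12], [1190, -12920, -14286, -382, -44]⟩)))))) (.node 11 (.node 5 (.node 2 (.node 1 (.leaf ⟨13, 8, true, [4, 10, 0, 15, 19, 13, 5, 16], [16, 10, 5, 17, 0, 9, 4], [-790, 8136, 8791, 202, 82]⟩) (.leaf ⟨8, 13, true, [4, 9, 16, 18, 15, 6, 19], [12, 6, 3, 17, 18, 5, 17, 9], [735, -7698, -8235, -183, -82]⟩)) (.node 1 (.leaf ⟨13, 9, true, [15, 8, 14, 0, 17, 11, 14, 2], [11, 15, 6, 15, 19, 12, 10], [1214, -6888, -12678, -604, 130]⟩) (.node 1 (.leaf ⟨9, 13, true, [9, 5, 11, 5, 13, 10, 19, 2], [15, 7, 0, 11, 19, 13, 11, 6], [-2860, 20836, 30727, 1249, -179]⟩) (.leaf ⟨13, 8, true, [8, 5, 12, 6, 4, 17, 18, 0],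 [14, 4, 11, 12, 7, 19, 11, 2], [137, -1134, -1648, -48, -11]⟩)))) (.node 3 (.node 1 (.leaf ⟨13, 9, true, [10, 16, 2, 15, 19, 12, 10, 7], [2, 18, 4, 8, 12], [2188, -17444, -24803, -931, 123]⟩) (.node 1 (.leaf ⟨9, 13, true, [15, 12, 11, 4, 15, 6, 4], [13, 6, 4, 12, 19, 2, 12, 11], [-1786, 14438, 20013, 740, -95]⟩) (.leaf ⟨13, 8, true, [17, 5, 13, 16, 10, 8, 15, 3], [14, 8, 3, 6, 10, 13, 10, 14], [46, -864, -400, -14, 6]⟩))) (.node 1 (.leaf ⟨13, 8, true, [11, 9, 15, 12, 15, 3, 16], [13, 6, 0, 15, 6, 2, 6, 19], [42, -167, -658, -20, -10]⟩) (.node 1 (.leaf ⟨13, 8, true, [18, 10, 4, 7, 10, 14, 0], [18, 7, 8, 0, 9, 16, 5, 18], [-1928, 20531, 22084, 545, 135]⟩) (.leaf ⟨13, 8, true, [16, 13, 16, 10, 19, 16, 9, 0], [9, 11, 14, 19, 11, 0, 9, 4], [-4018, 36718, 44198, 1426, 4]⟩))))) (.node 6 (.node 3 (.node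 1 (.leaf ⟨8, 13, true, [3, 4, 14, 16, 6, 18, 7, 4], [12, 14, 3, 19, 13, 10, 17, 9], [4071, -37156, -44754, -1445, -4]⟩) (.node 1 (.leaf ⟨13, 4, true, [12, 11, 17, 12, 0, 16, 8, 2], [10, 7, 3, 10, 15, 5, 19, 17], [10, -235, -217, -4, -1]⟩) (.leaf ⟨4, 13, true, [6, 8, 0, 10, 7, 18, 2, 16], [11, 7, 0, 10, 6, 14, 18, 14], [-17, 423, 417, 8, 1]⟩))) (.node 1 (.leaf ⟨13, 8, true, [0, 15, 17, 10, 7, 17, 8], [12, 4, 8, 14, 9, 0, 10, 0], [145, -1833, -1668, 10, -39]⟩) (.node 1 (.leaf ⟨8, 13, true, [4, 6, 3, 11, 5, 17, 13, 10], [9, 16, 6, 11, 16, 14, 0], [-92, 1395, 1112, -29, 39]⟩) (.leaf ⟨13, 8, true, [16, 19, 4, 6, 9, 16, 2], [13, 10, 12, 4, 18, 9, 2, 14], [-4494, 36440, 47745, 1736, -121]⟩)))) (.node 3 (.node 1 (.leaf ⟨8, 13, true, [10, 14, 12, 16, 6, 18, 0], [8, 7, 14, 0, 17, 10, 0], [4547, -36878, -48301,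 -1755, 121]⟩) (.node 1 (.leaf ⟨13, 8, true, [14, 10, 14, 18, 15, 11, 18, 3], [12, 7, 5, 16, 15, 18, 6, 13], [715, -6051, -7927, -283, 30]⟩) (.leaf ⟨8, 13, true, [15, 8, 0, 16, 0, 15, 2], [11, 14, 8, 15, 12, 5, 3, 5], [-662, 5613, 7371, 264, -30]⟩))) (.node 1 (.leaf ⟨13, 10, true, [5, 10, 0, 4, 9, 4, 18], [12, 17, 13, 19, 6, 10, 3], [-2417, 22886, 27170, 806, 51]⟩) (.node 1 (.leaf ⟨10, 13, true, [4, 9, 7, 18, 6, 17], [19, 5, 8, 5, 0, 11, 4], [3508, -32298, -39373, -1197, -42]⟩) (.leaf ⟨13, 8, true, [14, 2, 18, 11, 12, 0, 17], [18, 4, 9, 5, 11, 9, 6], [-258, 2457, 2568, 41, 26]⟩)))))))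
noncomputable def dF1758 : BT Fct := (.node 22 (.node 11 (.node 5 (.node 2 (.node 1 (.leaf ⟨8, 13, true, [14, 18, 8, 11, 5, 8, 5], [16, 0, 13, 10, 16, 5, 2], [311, -2895, -3124, -60, -26]⟩) (.leaf ⟨13, 13, true, [8, 10, 18, 12, 4, 19, 15], [0, 16, 11, 15, 16, 9, 4], [-1105, 11141, 12445, 328, 64]⟩)) (.node 1 (.leaf ⟨13, 8, true, [16, 9, 13, 11, 8, 14, 0], [15, 0, 19, 4, 15, 6, 4], [859, -7224, -9292, -319, 15]⟩) (.node 1 (.leaf ⟨8, 13, true, [19, 6, 2, 6, 10, 16, 7], [13, 5, 17, 6, 12, 2, 17], [-806, 6786, 8736, 300, -15]⟩) (.leaf ⟨13, 13, true, [10, 17, 11, 5, 3, 0, 17, 0], [18, 9, 6, 9, 19, 11, 19, 0], [-1103, 11143, 12393, 334, 54]⟩)))) (.node 3 (.node 1 (.leaf ⟨13, 8, true, [9, 5, 10, 5, 16, 15, 9], [8, 4, 11, 2, 19, 15, 3], [-708, 9178, 8882, 162, 80]⟩) (.node 1 (.leaf ⟨8, 13, true, [9, 17,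 6, 10, 12, 11, 0, 14], [11, 8, 13, 8, 4, 10, 17], [653, -8740, -8326, -143, -80]⟩) (.leaf ⟨13, 8, true, [3, 10, 14, 13, 10, 12, 0], [18, 17, 0, 14, 9, 4, 7], [1263, -10368, -13195, -470, 2]⟩))) (.node 1 (.leaf ⟨8, 13, true, [10, 13, 11, 6, 19, 11, 7], [0, 13, 11, 12, 15, 11, 2], [-1210, 9930, 12639, 451, -2]⟩) (.node 1 (.leaf ⟨13, 5, true, [7, 0, 7, 17, 11, 19, 14], [15, 8, 18, 5, 16, 9, 14, 2], [-818, 8367, 8991, 233, 57]⟩) (.leaf ⟨5, 13, true, [15, 5, 16, 6, 4, 16, 10, 0], [15, 18, 10, 16, 6, 8, 2], [739, -7818, -8100, -198, -60]⟩))))) (.node 5 (.node 2 (.node 1 (.leaf ⟨13, 8, true, [10, 0, 18, 3, 17, 11, 12], [13, 10, 0, 15, 19, 15, 10], [6849, -55470, -70385, -2506, 134]⟩) (.leaf ⟨13, 8, true, [14, 4, 15, 8, 11, 7, 8], [11, 18, 13, 16, 14, 11, 8, 4], [-637, 5062, 6698, 265, -35]⟩)) (.node 1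 (.leaf ⟨13, 8, true, [9, 16, 19, 13], [14, 0, 17, 6, 9, 7, 16], [-525, 6128, 6324, 134, 74]⟩) (.node 1 (.leaf ⟨8, 13, true, [16, 4, 10, 6, 10, 4, 17, 2], [12, 18, 17, 8], [578, -6566, -6880, -153, -74]⟩) (.leaf ⟨13, 12, true, [7, 16, 9, 3, 16, 4], [15, 13, 6, 3, 7, 19, 13], [256, -1811, -2647, -84, -15]⟩)))) (.node 3 (.node 1 (.leaf ⟨12, 13, true, [7, 13, 15, 7, 13, 4, 15, 2], [5, 17, 12, 2, 17, 6], [-255, 1693, 2518, 83, 14]⟩) (.node 1 (.leaf ⟨13, 8, true, [0, 13, 16, 5, 18, 4, 16, 0], [12, 14, 11, 12, 7, 18, 15, 2], [-7330, 61080, 76470, 2630, -68]⟩) (.leaf ⟨8, 13, true, [14, 13, 2, 17, 4, 10, 8, 13], [0, 17, 5, 19, 4, 17, 12, 0], [7275, -60642, -75914, -2611, 68]⟩))) (.node 1 (.leaf ⟨13, 8, true, [8, 12, 6, 0, 13, 10, 19], [18, 15, 17, 11, 12, 4, 15], [-961, 9678, 10836, 307, 52]⟩) (.node 1 (.leaf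 ⟨13, 8, true, [0, 10, 4, 15, 19, 16, 9], [7, 2, 18, 10, 9, 12, 0], [2330, -15892, -25733, -1096, 193]⟩) (.leaf ⟨8, 13, true, [12, 3, 14, 10, 9, 7, 16, 0], [8, 17, 18, 14, 5, 11, 0], [-2385, 16330, 26289, 1115, -193]⟩)))))) (.node 11 (.node 5 (.node 2 (.node 1 (.leaf ⟨13, 12, true, [2, 15, 13, 10, 19, 16, 18, 2], [16, 0, 16, 10, 7, 12, 5, 2], [-1316, 12439, 14593, 420, 36]⟩) (.leaf ⟨13, 12, true, [11, 13, 0, 9, 14, 3, 18, 18], [18, 2, 9, 6, 11, 6, 18], [-858, 7872, 9221, 294, -1]⟩)) (.node 1 (.leaf ⟨13, 8, true, [7, 17, 15, 4, 9, 2, 17], [9, 7, 18, 5, 10, 17], [-1738, 18771, 20027, 484, 133]⟩) (.node 1 (.leaf ⟨8, 13, true, [6, 13, 6, 14, 8, 15, 10, 3], [16, 3, 8, 12, 5, 16, 6], [1683, -18333, -19471, -465, -133]⟩) (.leaf ⟨13, 9, true, [6, 2, 19, 17, 4, 16, 14, 3], [14, 4, 15, 8, 6, 16, 8, 0], [-1144,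 12088, 13345, 344, 67]⟩)))) (.node 3 (.node 1 (.leaf ⟨9, 13, true, [3, 14, 18, 6, 2, 19, 4], [17, 2, 19, 10, 17, 13, 4, 0], [-833, 4313, 8771, 468, -144]⟩) (.node 1 (.leaf ⟨13, 13, true, [5, 7, 17, 10, 12, 2, 16, 0], [7, 18, 10, 13, 18, 12, 0, 2], [-1132, 11507, 12860, 352, 43]⟩) (.leaf ⟨13, 8, true, [18, 6, 12, 3, 16, 9, 14, 0], [12, 10, 7, 8, 11, 9, 7, 0], [-2642, 24737, 29679, 920, 24]⟩))) (.node 1 (.leaf ⟨8, 13, true, [17, 13, 8, 0, 13, 0], [14, 11, 18, 4, 15, 17, 5, 0], [2587, -24299, -29123, -901, -24]⟩) (.node 1 (.leaf ⟨13, 8, true, [11, 19, 7, 10, 18, 12, 4], [5, 10, 12, 16, 3, 15], [-13, -296, -196, 16, -8]⟩) (.leaf ⟨13, 13, true, [17, 5, 8, 5, 19, 16, 18, 2], [16, 19, 17, 15, 12, 4, 10], [26, 610, 322, -23, 10]⟩))))) (.node 6 (.node 3 (.node 1 (.leaf ⟨13, 12, true, [14, 18, 7, 10, 12,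 14, 9, 13], [3, 12, 15, 11, 13, 4, 3], [630, -5845, -5449, -186, -4]⟩) (.node 1 (.leaf ⟨12, 13, true, [2, 14, 11, 13, 6, 10, 2], [18, 4, 18, 7, 19, 17, 9, 2], [-1128, 10841, 10887, 328, 35]⟩) (.leaf ⟨13, 8, true, [18, 18, 2, 13, 7, 17, 10], [16, 0, 9, 16, 6, 12, 15, 3], [-629, 7379, 7410, 150, 75]⟩))) (.node 1 (.leaf ⟨8, 13, true, [5, 13, 4, 8, 0, 19, 6, 3], [4, 7, 9, 4, 3, 18, 11], [682, -7817, -7966, -169, -75]⟩) (.node 1 (.leaf ⟨13, 8, true, [8, 10, 18, 4, 8, 17, 7, 3], [9, 14, 2, 18, 10, 14, 6, 5], [-679, 7732, 7892, 176, 70]⟩) (.leaf ⟨8, 13, true, [13, 18, 7, 4, 8, 14, 18], [7, 7, 12, 17, 18, 11, 14, 2], [624, -7294, -7336, -157, -70]⟩)))) (.node 3 (.node 1 (.leaf ⟨13, 8, true, [12, 8, 17, 15, 0, 17, 18, 0], [11, 15, 16, 5, 18, 11, 16, 3], [-462, 5263, 4859, 78, 89]⟩) (.node 1 (.leaf ⟨8, 13,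 true, [9, 14, 0, 8, 13, 8, 11, 6], [9, 5, 7, 14, 4, 8, 4, 0], [515, -5701, -5415, -97, -89]⟩) (.leaf ⟨13, 9, true, [16, 13, 8, 0, 5, 8, 15, 6], [9, 15, 18, 0, 10, 18, 15], [-973, 10051, 10944, 280, 64]⟩))) (.node 1 (.leaf ⟨13, 8, true, [16, 10, 16, 19, 15, 13, 9], [17, 12, 11, 6, 15, 5, 10, 3], [-1076, 11359, 12554, 314, 78]⟩) (.node 1 (.leaf ⟨8, 13, true, [16, 0, 15, 12, 10, 16, 11, 0], [8, 12, 14, 18, 17, 11, 17], [1021, -10921, -11998, -295, -78]⟩) (.leaf ⟨13, 13, true, [7, 2, 4, 10, 7, 9, 19, 2], [5, 17, 2, 17, 0, 15, 3], [-15, 225, 250, 7, -1]⟩)))))))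
noncomputable def dF1803 : BT Fct := (.node 22 (.node 11 (.node 5 (.node 2 (.node 1 (.leaf ⟨13, 8, true, [16, 18, 6, 17, 2, 19, 17, 0], [15, 18, 14, 17, 4, 10], [-538, 4747, 6383, 248, -41]⟩) (.leaf ⟨13, 9, true, [17, 0, 18, 14, 5, 7, 14], [16, 15, 9, 10, 18, 5, 2], [-505, 5997, 5683, 120, 61]⟩)) (.node 1 (.leaf ⟨13, 6, true, [16, 0, 17, 15, 4, 11, 6], [15, 4, 14, 11, 18, 4, 18, 2], [-1737, 16922, 19933, 595, 32]⟩) (.node 1 (.leaf ⟨6, 13, true, [16, 10, 16, 10, 9, 0, 19], [7, 10, 12, 5, 16, 0, 17], [2024, -19308, -23048, -702, -26]⟩) (.leaf ⟨13, 13, true, [16, 5, 11, 0, 17, 18, 17], [3, 5, 19, 15, 7, 17, 14], [4970, -40629, -53488, -1930, 133]⟩)))) (.node 3 (.node 1 (.leaf ⟨13, 8, true, [5, 13, 8, 15, 2, 13, 10], [13, 15, 6, 16, 19, 6, 4, 10], [-255, 2150, 3453, 124, -19]⟩) (.node 1 (.leaf ⟨8, 13,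 true, [4, 8, 7, 3, 16, 6, 19, 0], [11, 12, 3, 14, 9, 12, 4], [200, -1712, -2897, -105, 19]⟩) (.leaf ⟨13, 4, true, [0, 16, 4, 12, 14, 11, 18, 9], [7, 13, 2, 17, 10, 13, 10, 8], [-5592, 48227, 60353, 2030, -44]⟩))) (.node 1 (.leaf ⟨13, 8, true, [13, 19, 10, 17, 8, 15, 3], [11, 3, 13, 16, 9, 5, 8, 3], [1627, -13127, -18064, -717, 138]⟩) (.node 1 (.leaf ⟨8, 13, true, [5, 16, 5, 18, 4, 19, 17], [15, 11, 0, 12, 16, 7, 14], [-1682, 13565, 18620, 736, -138]⟩) (.leaf ⟨13, 8, true, [12, 4, 18, 9, 3, 14, 6, 3], [14, 7, 12, 16, 10, 18, 4, 0], [-110, 852, 1152, 48, -9]⟩))))) (.node 5 (.node 2 (.node 1 (.leaf ⟨8, 13, true, [17, 8, 7, 7, 16, 10, 13, 0], [0, 7, 14, 5, 11, 6, 16, 3], [163, -1290, -1708, -67, 9]⟩) (.leaf ⟨13, 10, true, [19, 6, 6, 12, 18, 4, 18], [15, 4, 6, 16, 9, 5, 19, 3], [660, -4568, -6600, -286,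 44]⟩)) (.node 1 (.leaf ⟨10, 13, true, [17, 9, 17, 2, 6, 15, 7, 2], [19, 5, 16, 13, 18, 9, 17], [-118, -46, 562, 89, -38]⟩) (.node 1 (.leaf ⟨13, 8, true, [0, 6, 5, 17, 2, 19, 0], [12, 0, 9, 17, 14, 0, 16], [-931, 10105, 10691, 263, 55]⟩) (.leaf ⟨13, 8, true, [9, 0, 5, 19, 5, 16, 6, 0], [14, 6, 10, 5, 17, 2, 15], [-1149, 11872, 13354, 405, 14]⟩)))) (.node 3 (.node 1 (.leaf ⟨13, 8, true, [4, 3, 9, 16, 6, 16, 6], [9, 6, 9, 13, 18, 6, 8, 4], [-1116, 11751, 12965, 326, 71]⟩) (.node 1 (.leaf ⟨8, 13, true, [19, 3, 17, 5, 7, 8, 10, 4], [7, 17, 7, 17, 8, 11, 2], [1169, -12189, -13521, -345, -71]⟩) (.leaf ⟨13, 8, true, [10, 2, 7, 17, 5, 9, 12], [14, 16, 9, 11, 0, 15, 2], [135, -1390, -1488, -46, -1]⟩))) (.node 1 (.leaf ⟨8, 13, true, [17, 4, 19, 6, 19, 15, 0, 2], [13, 8, 4, 16, 6, 5, 3], [-82, 952, 932, 27,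 1]⟩) (.node 1 (.leaf ⟨13, 8, true, [6, 12, 2, 15, 7, 10, 8, 11], [17, 7, 17, 6, 13, 11, 0, 3], [-692, 7573, 7802, 175, 69]⟩) (.leaf ⟨8, 13, true, [18, 10, 17, 2, 14, 0, 10], [12, 17, 0, 13, 19, 4, 15, 7], [745, -8011, -8358, -194, -69]⟩)))))) (.node 11 (.node 5 (.node 2 (.node 1 (.leaf ⟨13, 8, true, [17, 8, 0, 11, 16, 6, 3, 4], [10, 4, 16, 10, 7, 12], [3359, -25577, -36599, -1453, 214]⟩) (.leaf ⟨8, 13, true, [16, 18, 3, 10, 12, 16, 7, 8], [6, 10, 18, 14, 5, 11, 18, 3], [-3306, 25139, 36043, 1434, -214]⟩)) (.node 1 (.leaf ⟨13, 8, true, [15, 5, 12, 9, 0, 11, 9], [11, 0, 19, 4, 18, 5, 7, 3], [575, -5351, -6506, -208, -5]⟩) (.node 1 (.leaf ⟨8, 13, true, [13, 14, 5, 17, 11, 2, 6], [8, 10, 6, 9, 3, 4, 14], [-522, 4913, 5950, 189, 5]⟩) (.leaf ⟨13, 10, true, [9, 6, 16, 14, 10], [4, 6, 4, 9, 11, 4, 18, 3],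 [219, -378, -2093, -171, 104]⟩)))) (.node 3 (.node 1 (.leaf ⟨10, 13, true, [17, 6, 16, 14, 16, 10, 17, 2], [11, 15, 17, 7, 8], [-695, 5312, 7896, 327, -90]⟩) (.node 1 (.leaf ⟨13, 6, true, [7, 9, 4, 18, 8, 0, 19, 16], [10, 2, 13, 11, 16, 6, 18, 0], [-50, 422, 460, 24, -12]⟩) (.leaf ⟨6, 13, true, [16, 3, 10, 5, 19, 4, 19, 0], [17, 18, 0, 9, 19, 5, 8, 6], [-134, 1153, 1598, 46, 9]⟩))) (.node 1 (.leaf ⟨13, 8, true, [8, 3, 8, 13, 6, 10, 17, 3], [5, 11, 0, 13, 16, 6, 5, 19], [-642, 7538, 7416, 146, 80]⟩) (.node 1 (.leaf ⟨8, 13, true, [14, 19, 7, 4, 16, 10, 7], [5, 13, 19, 15, 7, 10, 8, 2], [587, -7100, -6860, -127, -80]⟩) (.leaf ⟨13, 4, true, [17, 6, 4, 8, 2, 17, 9], [15, 2, 18, 13, 19, 7, 14], [545, -4165, -6250, -266, 48]⟩))))) (.node 6 (.node 3 (.node 1 (.leaf ⟨4, 13, true, [19, 2, 15, 18, 7, 17, 7,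 4], [8, 16, 7, 0, 5, 7, 16], [-548, 4265, 6359, 267, -47]⟩) (.node 1 (.leaf ⟨13, 12, true, [13, 10, 9, 13, 18, 7, 18], [11, 18, 6, 10, 16, 2, 19, 5], [118, 1043, -619, -108, 78]⟩) (.leaf ⟨12, 13, true, [9, 4, 16, 9, 6, 6, 8], [19, 6, 19, 12, 8, 11, 12], [-616, 3953, 6057, 250, -47]⟩))) (.node 1 (.leaf ⟨13, 8, true, [0, 11, 5, 6, 14, 8, 16, 10], [4, 14, 7, 19, 0, 19, 0, 2], [-1545, 14511, 17087, 527, 35]⟩) (.node 1 (.leaf ⟨13, 8, true, [17, 8, 17, 8, 10, 17, 18], [7, 0, 14, 9, 0, 3], [376, -3163, -4210, -144, 12]⟩) (.leaf ⟨8, 13, true, [3, 18, 6, 9, 17, 3, 7], [6, 0, 14, 5, 17, 5], [4317, -34910, -46192, -1719, 143]⟩)))) (.node 3 (.node 1 (.leaf ⟨13, 8, true, [16, 7, 8, 14, 18, 8, 7, 16], [6, 2, 16, 8, 7, 19, 2], [-5322, 45485, 57727, 2013, -79]⟩) (.node 1 (.leaf ⟨8, 13, true, [2, 0, 15, 9, 6, 8,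 2], [17, 14, 9, 7, 9, 15, 8, 0], [-871, 6995, 9837, 380, -53]⟩) (.leaf ⟨13, 8, true, [4, 3, 19, 10, 15, 7, 18, 0], [3, 9, 7, 8, 14, 0, 3], [-134, 3580, 1698, -86, 117]⟩))) (.node 1 (.leaf ⟨13, 8, true, [13, 8, 5, 9, 17, 13, 2, 15], [4, 0, 4, 19, 6, 17, 10, 2], [-1564, 14230, 18083, 587, 4]⟩) (.node 1 (.leaf ⟨13, 8, true, [4, 3, 5, 19, 15, 6, 4, 0], [17, 13, 5, 6, 18, 9, 0], [1433, -13989, -15975, -457, -50]⟩) (.leaf ⟨13, 13, true, [8, 0, 2, 9, 12, 4, 19, 16], [6, 0, 14, 7, 11, 12, 2], [98, 1602, -862, -174, 118]⟩)))))))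
noncomputable def dF1848 : BT Fct := (.node 22 (.node 11 (.node 5 (.node 2 (.node 1 (.leaf ⟨13, 13, true, [15, 11, 2, 14, 8, 10, 9, 7], [17, 4, 2, 6, 8, 10, 4, 16], [-1018, 10665, 11687, 270, 85]⟩) (.leaf ⟨13, 8, true, [14, 8, 11, 7, 9, 12, 18], [8, 14, 8, 6, 15, 19, 7, 9], [-767, 8225, 8831, 218, 63]⟩)) (.node 1 (.leaf ⟨13, 9, true, [14, 19, 10, 2, 16, 4, 16], [2, 13, 16, 5, 12, 4, 16, 0], [-401, 6284, 6652, 128, 3]⟩) (.node 1 (.leaf ⟨9, 13, true, [11, 18, 8, 2, 19, 11, 17], [17, 5, 17, 5, 3, 18, 15], [402, -6338, -6694, -127, -4]⟩) (.leaf ⟨13, 8, true, [14, 4, 14, 7, 18, 0, 15], [12, 15, 0, 16, 4, 9, 15, 3], [-699, 7164, 7361, 196, 50]⟩)))) (.node 3 (.node 1 (.leaf ⟨13, 8, true, [18, 17, 11, 19, 14, 10, 13, 0], [12, 6, 18, 14, 7, 7, 14, 2], [1889, -23489, -23000, -388, -248]⟩) (.node 1 (.leaf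 ⟨8, 13, true, [11, 2, 7, 17, 13, 19, 7], [15, 9, 19, 11, 12, 6, 17, 2], [-1944, 23927, 23556, 407, 248]⟩) (.leaf ⟨13, 13, true, [19, 16, 2, 14, 16, 0, 17, 7], [15, 0, 9, 5, 16, 14, 6, 10], [-992, 10319, 11238, 288, 63]⟩))) (.node 1 (.leaf ⟨13, 8, true, [6, 14, 16, 18, 13, 11, 19, 13], [18, 5, 16, 15, 7, 11, 16], [802, -6782, -8750, -290, 9]⟩) (.node 1 (.leaf ⟨8, 13, true, [18, 2, 15, 11, 14, 19, 0], [12, 18, 10, 12, 19, 17, 15, 7], [-857, 7220, 9306, 309, -9]⟩) (.leaf ⟨13, 12, true, [9, 5, 9, 4, 19, 14, 0, 2], [14, 8, 6, 9, 17, 11, 14], [-1879, 19367, 20253, 614, 4]⟩))))) (.node 5 (.node 2 (.node 1 (.leaf ⟨12, 13, true, [8, 4, 9, 10, 17, 3, 16], [18, 9, 0, 17, 3, 16, 13, 8], [1880, -19485, -20382, -615, -5]⟩) (.leaf ⟨13, 8, true, [6, 5, 19, 2, 15, 12], [7, 10, 14, 7, 9, 17, 14, 0], [-51, 434, 436,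 32, -13]⟩)) (.node 1 (.leaf ⟨8, 13, true, [16, 6, 5, 8, 15, 19, 10, 7], [13, 14, 3, 18, 4, 7], [104, -872, -992, -51, 13]⟩) (.node 1 (.leaf ⟨13, 8, true, [12, 18, 0, 17, 10, 8, 17, 15], [19, 4, 6, 12, 7, 4, 14, 2], [-4236, 36109, 46139, 1568, -79]⟩) (.leaf ⟨13, 9, true, [7, 2, 8, 5, 19, 11, 13, 3], [9, 13, 15, 6, 12, 16, 18], [-1146, 11591, 13144, 380, 38]⟩)))) (.node 3 (.node 1 (.leaf ⟨9, 13, true, [18, 11, 7, 8, 17, 18, 15, 0], [7, 9, 16, 9, 0, 9, 11, 0], [-831, 4810, 8972, 432, -115]⟩) (.node 1 (.leaf ⟨13, 13, true, [18, 11, 4, 18, 2, 12, 17, 12], [10, 7, 3, 18, 6, 10, 16, 2], [3543, -32390, -41092, -1375, 59]⟩) (.leaf ⟨13, 13, true, [2, 19, 14, 16, 13, 7, 2], [13, 8, 7, 8, 0, 9, 14, 4], [-4546, 42843, 52475, 1663, 7]⟩))) (.node 1 (.leaf ⟨13, 8, true, [10, 12, 14, 12, 11, 13, 16, 2], [8, 4, 0,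 13, 5, 7, 12, 7], [409, -860, -4287, -287, 117]⟩) (.node 1 (.leaf ⟨13, 8, true, [11, 3, 6, 14, 19, 14, 0, 2], [6, 18, 2, 6, 16, 15, 0, 4], [-1617, 15401, 17642, 546, 41]⟩) (.leaf ⟨8, 13, true, [6, 2, 0, 8, 16, 18, 4, 7], [11, 6, 5, 7, 11, 18, 12, 3], [1670, -15839, -18198, -565, -41]⟩)))))) (.node 11 (.node 5 (.node 2 (.node 1 (.leaf ⟨13, 8, true, [11, 8, 14, 5, 8, 7, 4], [13, 8, 13, 3, 15, 13, 19, 14], [-1852, 17808, 21290, 650, 22]⟩) (.leaf ⟨8, 13, true, [14, 17, 0, 16, 0, 13, 11, 5], [5, 6, 9, 4, 15, 9, 10], [1905, -18246, -21846, -669, -22]⟩)) (.node 1 (.leaf ⟨13, 9, true, [17, 9, 14, 0, 7, 16, 11, 2], [14, 17, 0, 14, 9, 4, 10], [146, -1453, -1794, -43, -8]⟩) (.node 1 (.leaf ⟨13, 8, true, [6, 18, 13, 6, 15, 18, 13, 3], [10, 4, 16, 7, 12, 16, 18, 0], [-792, 8794, 9346, 217, 62]⟩) (.leaf ⟨13,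 8, true, [16, 6, 5, 11, 7, 18, 7, 13], [12, 11, 19, 15, 7, 15, 11, 2], [814, -6866, -8813, -287, 6]⟩)))) (.node 3 (.node 1 (.leaf ⟨8, 13, true, [4, 10, 7, 18, 6, 14, 18], [19, 7, 2, 6, 6, 16, 9, 12], [-869, 7304, 9369, 306, -6]⟩) (.node 1 (.leaf ⟨13, 9, true, [19, 14, 17, 15, 6, 18, 12], [19, 4, 16, 15, 11, 19, 16, 2], [63, -312, -730, -38, 2]⟩) (.leaf ⟨9, 13, true, [0, 3, 7, 8, 17, 10, 12], [7, 4, 18, 15, 13, 18, 9], [10, -295, -35, 15, -3]⟩))) (.node 1 (.leaf ⟨13, 12, true, [11, 0, 18, 15, 7, 3, 14], [6, 9, 2, 19, 17, 6, 18, 12], [-4204, 38364, 46666, 1504, -11]⟩) (.node 1 (.leaf ⟨12, 13, true, [17, 9, 10, 9, 0, 9, 15], [8, 15, 11, 15, 13, 4, 3], [4706, -43714, -52491, -1649, -23]⟩) (.leaf ⟨13, 9, true, [18, 12, 4, 6, 17, 11, 13, 19], [7, 5, 16, 4, 14, 19, 4, 0], [-1022, 10824, 11738, 298, 63]⟩)))))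 (.node 6 (.node 3 (.node 1 (.leaf ⟨13, 8, true, [18, 2, 7, 15, 16, 8, 10], [16, 19, 4, 18, 14, 0], [276, -2980, -3295, -100, 11]⟩) (.node 1 (.leaf ⟨8, 13, true, [7, 16, 2, 12, 19, 7, 12, 14], [11, 9, 17, 14, 6, 3, 19], [-331, 3418, 3851, 119, -11]⟩) (.leaf ⟨13, 4, true, [18, 12, 7, 16, 12, 3, 18], [15, 19, 13, 19, 12, 17, 5], [-578, 5872, 5888, 115, 74]⟩))) (.node 1 (.leaf ⟨4, 13, true, [19, 8, 15, 11, 7, 4, 15], [19, 2, 13, 17, 6, 13, 19], [574, -5796, -5806, -113, -74]⟩) (.node 1 (.leaf ⟨13, 13, true, [7, 12, 18, 10, 13, 10, 18], [7, 7, 19, 7, 17, 4, 18, 3], [-133, 1069, 1371, 8, 34]⟩) (.leaf ⟨13, 13, true, [7, 7, 16, 4, 6, 18, 9, 2], [19, 11, 12, 11, 19, 13, 6], [-871, 9445, 10088, 283, 31]⟩)))) (.node 3 (.node 1 (.leaf ⟨13, 11, true, [4, 10, 15, 17, 9, 0, 17, 0], [16, 4, 16, 4, 17, 7, 13, 3],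 [2719, -24829, -28683, -991, 66]⟩) (.node 1 (.leaf ⟨11, 13, true, [16, 3, 19, 17, 6, 16], [18, 6, 10, 19, 15, 0, 9, 4], [-3386, 29793, 35200, 1212, -57]⟩) (.leaf ⟨13, 8, true, [11, 6, 13, 7, 5, 19, 10, 2], [12, 0, 7, 14, 18, 10, 17, 3], [-1149, 11947, 13127, 354, 56]⟩))) (.node 1 (.leaf ⟨8, 13, true, [4, 10, 16, 10, 4, 8, 2], [14, 8, 4, 18, 4, 17, 12, 2], [1202, -12385, -13683, -373, -56]⟩) (.node 1 (.leaf ⟨13, 4, true, [19, 17, 15, 18, 17, 7, 8], [5, 19, 4, 19, 12, 6, 3, 5], [-1719, 12501, 17510, 668, -53]⟩) (.leaf ⟨4, 13, true, [13, 0, 13, 10, 0, 17, 14, 0], [9, 6, 16, 19, 14, 16, 18], [1719, -12501, -17507, -669, 54]⟩)))))))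
noncomputable def dF1893 : BT Fct := (.node 22 (.node 11 (.node 5 (.node 2 (.node 1 (.leaf ⟨13, 8, true, [10, 16, 7, 19, 12, 7, 18, 0], [11, 5, 2, 13, 18, 6, 9, 6], [-1302, 13072, 14596, 401, 50]⟩) (.leaf ⟨8, 13, true, [16, 12, 10, 12, 18, 10, 17], [6, 4, 10, 13, 11, 19, 8, 2], [1247, -12634, -14040, -382, -50]⟩)) (.node 1 (.leaf ⟨13, 11, true, [8, 4, 16, 4, 8, 16, 6, 0], [13, 4, 6, 17, 3, 8, 16], [-1496, 14793, 17053, 477, 45]⟩) (.node 1 (.leaf ⟨11, 13, true, [18, 3, 17, 18, 5, 17, 10, 2], [12, 3, 19, 17, 14, 3, 16, 0], [-4526, 36620, 46371, 1699, -123]⟩) (.leaf ⟨13, 8, true, [9, 2, 13, 15, 6, 10, 8, 2], [15, 9, 15, 12, 10, 19, 6], [-334, 1944, 3755, 181, -32]⟩)))) (.node 3 (.node 1 (.leaf ⟨8, 13, true, [12, 8, 15, 9, 14, 5], [6, 12, 14, 18, 8, 11, 18, 3], [387, -2382, -4311, -200, 32]⟩) (.node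 1 (.leaf ⟨13, 8, true, [18, 2, 0, 16, 12, 6, 8, 3], [7, 19, 16, 14, 19, 17, 9, 4], [802, -6474, -8500, -291, 12]⟩) (.leaf ⟨13, 13, true, [17, 4, 18, 9, 10, 16, 9, 2], [13, 17, 15, 17, 8, 14, 2], [-3455, 27430, 38627, 1438, -132]⟩))) (.node 1 (.leaf ⟨13, 13, true, [4, 7, 12, 11, 0, 19], [4, 0, 7, 17, 4, 10, 19, 0], [2451, -16916, -27168, -1147, 197]⟩) (.node 1 (.leaf ⟨13, 6, true, [15, 8, 10, 8, 17, 11, 7, 4], [12, 3, 15, 8, 4, 11, 17], [-6, -252, -49, 17, -10]⟩) (.leaf ⟨6, 13, true, [11, 13, 19, 13, 6, 19, 8], [6, 9, 19, 6, 19, 7, 19, 3], [116, -483, -1035, -59, 13]⟩))))) (.node 5 (.node 2 (.node 1 (.leaf ⟨13, 9, true, [19, 16, 2, 7, 14, 6, 16, 12], [5, 3, 8, 13, 18, 12, 8, 2], [-2871, 25705, 32120, 1067, -16]⟩) (.leaf ⟨9, 13, true, [19, 5, 19, 14, 13, 5, 9, 3], [14, 6, 14, 8, 6, 14, 11, 2], [2539,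 -23252, -28053, -900, -12]⟩)) (.node 1 (.leaf ⟨13, 8, true, [0, 18, 4, 18, 11, 5, 19], [3, 16, 10, 8, 16, 9, 0], [-369, 3431, 4371, 149, -10]⟩) (.node 1 (.leaf ⟨13, 8, true, [12, 7, 17, 15, 9, 2, 15], [16, 2, 15, 12, 16, 8, 5], [-489, 6065, 5765, 105, 71]⟩) (.leaf ⟨13, 8, true, [5, 2, 13, 10, 13, 6, 14, 2], [7, 10, 13, 4, 19, 2, 6], [-753, 8332, 8962, 220, 38]⟩)))) (.node 3 (.node 1 (.leaf ⟨8, 13, true, [16, 9, 12, 6, 18, 18], [16, 5, 8, 2, 12, 10, 17, 2], [806, -8770, -9518, -239, -38]⟩) (.node 1 (.leaf ⟨13, 4, true, [7, 10, 13, 19, 12, 18, 3], [8, 11, 17, 18, 6, 18, 16, 2], [-1013, 10546, 11457, 289, 65]⟩) (.leaf ⟨4, 13, true, [17, 6, 12, 16, 18, 10, 6, 3], [5, 3, 6, 10, 9, 13, 9], [1012, -10484, -11369, -287, -65]⟩))) (.node 1 (.leaf ⟨13, 13, true, [4, 14, 16, 8, 2, 6, 16, 0], [9, 0, 9, 0, 11,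 17, 6], [999, -9263, -10189, -311, -13]⟩) (.node 1 (.leaf ⟨13, 8, true, [4, 7, 12, 6, 14, 8, 6, 3], [6, 6, 19, 14, 4, 8, 2], [906, -8052, -10094, -338, 29]⟩) (.leaf ⟨8, 13, true, [6, 18, 8, 4, 3, 14, 6], [7, 19, 15, 8, 19, 14, 5, 2], [-853, 7614, 9538, 319, -29]⟩)))))) (.node 11 (.node 5 (.node 2 (.node 1 (.leaf ⟨13, 8, true, [14, 9, 4, 16, 12, 2, 0], [3, 8, 0, 14, 16, 4, 11, 3], [-397, 5707, 4812, 27, 106]⟩) (.leaf ⟨13, 9, true, [13, 6, 6, 10, 17, 7, 19, 14], [0, 17, 6, 0, 17, 11, 15], [-1034, 11452, 12259, 287, 72]⟩)) (.node 1 (.leaf ⟨9, 13, true, [9, 12, 18, 4, 9, 6], [10, 9, 4, 19, 14, 9, 6, 8], [1035, -11506, -12301, -286, -73]⟩) (.node 1 (.leaf ⟨13, 9, true, [6, 8, 2, 13, 17, 11, 13, 4], [2, 18, 0, 13, 19, 4, 2], [715, -4587, -7046, -285, 3]⟩) (.leaf ⟨13, 8, true, [10, 7, 13, 3, 19, 14, 10,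 0], [13, 0, 14, 17, 10, 19, 16, 2], [-1885, 15580, 21971, 829, -80]⟩)))) (.node 3 (.node 1 (.leaf ⟨13, 5, true, [4, 7, 4, 17, 6, 2, 11], [5, 9, 4, 14, 17, 5, 13, 19], [-806, 8554, 9121, 232, 57]⟩) (.node 1 (.leaf ⟨5, 13, true, [18, 4, 18, 17, 5, 9, 15, 3], [10, 3, 7, 16, 5, 6, 5], [793, -8449, -8918, -225, -57]⟩) (.leaf ⟨13, 8, true, [13, 11, 2, 19, 7, 16, 10, 14], [5, 8, 11, 0, 9, 4, 6], [797, -6659, -8697, -290, 10]⟩))) (.node 1 (.leaf ⟨8, 13, true, [14, 7, 3, 6, 6, 17, 7, 16], [10, 6, 9, 14, 17, 6, 16, 0], [-852, 7097, 9253, 309, -10]⟩) (.node 1 (.leaf ⟨13, 8, true, [17, 5, 9, 11, 5, 8, 17, 2], [10, 16, 7, 18, 11, 19, 13, 3], [-1057, 11072, 12174, 320, 64]⟩) (.leaf ⟨13, 13, true, [18, 18, 7, 2, 16, 6], [18, 15, 18, 6, 19, 16, 8, 4], [1526, -15081, -17798, -505, -50]⟩))))) (.node 6 (.node 3 (.node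 1 (.leaf ⟨13, 8, true, [18, 13, 4, 16, 4, 19, 8, 10], [5, 9, 18, 11, 13, 10, 15], [-2164, 17614, 22798, 842, -68]⟩) (.node 1 (.leaf ⟨13, 13, true, [8, 7, 16, 2, 10, 17, 7], [16, 4, 17, 6, 17, 10, 18, 0], [-248, 1898, 3416, 120, -12]⟩) (.leaf ⟨13, 13, true, [9, 15, 18, 12, 7, 8, 11, 3], [6, 11, 0, 10, 14, 8, 19, 2], [-95, 689, 962, 61, -21]⟩))) (.node 1 (.leaf ⟨9, 13, true, [7, 7, 18, 12, 11, 12, 7], [9, 11, 0, 13, 15, 6, 2], [2300, -18396, -23945, -885, 67]⟩) (.node 1 (.leaf ⟨13, 13, true, [12, 5, 18, 8, 10, 9, 16, 0], [14, 10, 15, 13, 7, 9, 4], [-1089, 10940, 12173, 348, 44]⟩) (.leaf ⟨13, 13, true, [6, 12, 6, 18, 7, 14, 16, 2], [9, 15, 18, 15, 7, 5, 17, 3], [-2090, 22104, 26625, 774, 3]⟩)))) (.node 3 (.node 1 (.leaf ⟨13, 8, true, [7, 9, 0, 9, 17, 3, 7, 18], [12, 4, 3, 16, 6, 13, 6, 8], [-6306,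 53895, 67688, 2331, -106]⟩) (.node 1 (.leaf ⟨8, 13, true, [3, 19, 17, 10, 12, 18, 0], [5, 16, 7, 18, 7, 16, 4, 11], [-602, 4643, 4992, 168, -9]⟩) (.leaf ⟨13, 8, true, [6, 3, 4, 16, 6, 11, 16, 5], [0, 19, 13, 11, 16, 18, 2], [-401, 5810, 6391, 120, 75]⟩))) (.node 1 (.leaf ⟨8, 13, true, [11, 13, 18, 9, 4, 7, 15], [14, 16, 0, 13, 19, 15, 4, 2], [-747, 6391, 8225, 269, -10]⟩) (.node 1 (.leaf ⟨13, 8, true, [0, 18, 7, 15, 7, 8, 0], [14, 6, 5, 8, 19, 12, 10], [745, -6330, -8149, -266, 9]⟩) (.leaf ⟨13, 8, true, [0, 18, 12, 6, 16, 19, 7], [17, 2, 19, 6, 13, 10, 9, 4], [1802, -23079, -22340, -333, -269]⟩)))))))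
noncomputable def dF1938 : BT Fct := (.node 22 (.node 11 (.node 5 (.node 2 (.node 1 (.leaf ⟨8, 13, true, [13, 6, 13, 9, 10, 17], [6, 18, 17, 7, 13, 19, 0], [-1749, 22641, 21784, 314, 269]⟩) (.leaf ⟨8, 13, true, [8, 0, 2, 11, 12, 19, 10, 5], [9, 13, 6, 10, 18, 14, 9], [-7, 383, 223, -16, 13]⟩)) (.node 1 (.leaf ⟨13, 8, true, [12, 4, 17, 0, 4, 11, 8], [4, 11, 3, 13, 5, 7, 4, 9], [-997, 10131, 11236, 307, 52]⟩) (.node 1 (.leaf ⟨4, 13, true, [7, 5, 10, 5, 19, 17], [6, 9, 19, 7, 11, 16, 6, 4], [2, 2, 33, 2, -1]⟩) (.leaf ⟨13, 4, true, [7, 17, 0, 3, 5, 11, 6, 17], [16, 18, 4, 11, 4, 6], [-4, 59, 43, 1]⟩)))) (.node 3 (.node 1 (.leaf ⟨8, 13, true, [18, 8, 6, 0, 7, 17, 4, 2], [4, 15, 6, 17, 13, 5, 3], [470, -3895, -5464, -205, 37]⟩) (.node 1 (.leaf ⟨13, 8, true, [5, 16, 9, 11, 19, 11, 3], [19, 7, 5, 19, 6,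 3, 7, 3], [-472, 3956, 5540, 208, -38]⟩) (.leaf ⟨8, 13, true, [10, 3, 10, 17, 6, 18, 14], [7, 7, 12, 9, 10, 15, 19, 2], [-1198, 11101, 13509, 402, 34]⟩))) (.node 1 (.leaf ⟨13, 8, true, [7, 3, 4, 6, 16, 7, 11], [15, 19, 7, 16, 11, 2, 11], [1196, -11040, -13433, -399, -35]⟩) (.node 1 (.leaf ⟨8, 13, true, [13, 19, 8, 5, 10, 15, 12, 0], [16, 2, 19, 15, 4, 16, 6, 4], [-484, 4729, 5246, 119, 25]⟩) (.leaf ⟨13, 8, true, [18, 10, 7, 11, 8, 17, 10, 3], [12, 15, 6, 17, 10, 0, 9, 6], [-521, 5846, 6289, 175, 39]⟩))))) (.node 5 (.node 2 (.node 1 (.leaf ⟨9, 13, true, [4, 0, 6, 14, 10, 14, 18], [14, 9, 7, 17, 6, 14, 4], [-362, 2981, 3974, 130, -6]⟩) (.leaf ⟨13, 9, true, [0, 13, 11, 13, 5, 9, 3], [6, 9, 17, 7, 19, 14, 2], [-641, 7472, 7409, 158, 72]⟩)) (.node 1 (.leaf ⟨13, 13, true, [9, 5, 12, 8, 12, 6, 11, 3],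 [12, 2, 17, 6, 15, 17, 13], [712, -4145, -7527, -305, 60]⟩) (.node 1 (.leaf ⟨13, 13, true, [19, 16, 11, 18, 18, 14], [12, 6, 4, 10, 4, 7, 10, 2], [-1715, 14598, 18910, 593, 6]⟩) (.leaf ⟨8, 13, true, [7, 19, 4, 16, 15, 6, 19, 2], [3, 15, 13, 8, 14, 11, 2], [1928, -16926, -20420, -696, 25]⟩)))) (.node 3 (.node 1 (.leaf ⟨13, 8, true, [19, 0, 14, 6, 14, 19, 0, 3], [3, 18, 7, 14, 17, 5, 18, 6], [-2931, 27379, 31803, 984, 41]⟩) (.node 1 (.leaf ⟨8, 13, true, [9, 10, 13, 17, 15, 7, 13], [8, 0, 13, 4, 19, 15, 8, 0], [551, -4656, -6030, -203, 4]⟩) (.leaf ⟨13, 8, true, [10, 0, 17, 14, 7, 7, 10, 4], [14, 4, 10, 15, 11, 16, 8], [-553, 4717, 6106, 206, -5]⟩))) (.node 1 (.leaf ⟨13, 13, true, [6, 0, 16, 8, 6, 3, 19], [9, 5, 7, 16, 0, 16, 4], [-3529, 32535, 38294, 1160, 61]⟩) (.node 1 (.leaf ⟨9, 13, true, [16, 4,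 11, 8, 19, 0, 10, 0], [6, 11, 13, 6, 4, 10, 0], [816, -8977, -10907, -297, 8]⟩) (.leaf ⟨9, 13, true, [15, 13, 2, 19, 12, 6, 14, 10], [13, 11, 19, 12, 14, 12, 4, 0], [6, 322, 234, -11, 8]⟩)))))) (.node 11 (.node 5 (.node 2 (.node 1 (.leaf ⟨13, 9, true, [10, 0, 4, 8, 15, 8, 16, 4], [17, 7, 12, 3, 19, 17, 11, 3], [-8, -261, -158, 14, -9]⟩) (.leaf ⟨10, 13, true, [17, 19, 14, 7, 10, 5], [11, 3, 18, 7, 8, 12, 15, 2], [-15, 362, 332, 2, 2]⟩)) (.node 1 (.leaf ⟨13, 10, true, [5, 19, 0, 9, 18, 2], [4, 11, 6, 15, 18, 16], [13, -301, -256, 1, -3]⟩) (.node 1 (.leaf ⟨6, 13, true, [2, 12, 18, 14, 2, 13, 14], [5, 8, 15, 7, 4, 6, 2], [-1708, 15992, 19700, 614, 22]⟩) (.leaf ⟨8, 13, true, [19, 8, 17, 6, 10, 3, 5, 2], [17, 3, 13, 16, 5, 19, 13], [-377, 4458, 6242, 200, -51]⟩)))) (.node 3 (.node 1 (.leaf ⟨13, 8, true,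 [13, 14, 10, 15, 11, 13, 14, 0], [3, 4, 2, 11, 7, 16, 9, 18], [-628, 6117, 5293, 94, 115]⟩) (.node 1 (.leaf ⟨9, 13, true, [14, 4, 11, 6, 5, 7, 13, 0], [18, 7, 17, 18, 12, 19, 17], [-1548, 14386, 17160, 542, -4]⟩) (.leaf ⟨13, 9, true, [4, 6, 16, 15, 11, 14, 11], [7, 12, 19, 5, 7, 11, 17, 2], [545, -3933, -5777, -254, 70]⟩))) (.node 1 (.leaf ⟨4, 13, true, [8, 10, 3, 8, 7, 19, 7], [8, 5, 12, 16, 7, 9, 4, 0], [-4, 541, 650, 19, -4]⟩) (.node 1 (.leaf ⟨13, 4, true, [17, 11, 9, 17, 0, 9, 14, 0], [18, 9, 5, 18, 11, 17, 15], [-999, 9912, 10733, 269, 70]⟩) (.leaf ⟨4, 13, true, [17, 14, 2, 13, 9, 12, 11], [14, 9, 2, 15, 11, 13, 16], [961, -9847, -10745, -270, -68]⟩))))) (.node 6 (.node 3 (.node 1 (.leaf ⟨13, 4, true, [19, 5, 17, 7, 18, 18, 7, 3], [10, 13, 8, 12, 3, 15, 16], [-1965, 20361, 22204, 561, 133]⟩)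 (.node 1 (.leaf ⟨8, 13, true, [5, 6, 17, 5, 6, 9, 17, 0], [12, 0, 16, 6, 9, 7, 17, 0], [-804, 7682, 9288, 281, 5]⟩) (.leaf ⟨13, 8, true, [10, 2, 9, 15, 18, 6, 3, 4], [17, 7, 4, 15, 11, 13, 5, 3], [-201, 2893, 2247, 13, 59]⟩))) (.node 1 (.leaf ⟨8, 13, true, [15, 8, 0, 12, 16, 9, 14, 2], [8, 12, 18, 13, 19, 16, 15], [166, -871, -1352, -78, 12]⟩) (.node 1 (.leaf ⟨13, 13, true, [13, 8, 0, 17, 11, 7, 19, 3], [13, 9, 4, 19, 3, 6, 3], [-2754, 23359, 29359, 971, 11]⟩) (.leaf ⟨13, 13, true, [17, 13, 9, 17, 5, 2, 18], [16, 7, 7, 12, 11, 14, 7, 3], [1751, -12906, -17976, -683, 55]⟩)))) (.node 3 (.node 1 (.leaf ⟨8, 13, true, [6, 2, 8, 11, 6, 8, 6, 4], [19, 3, 0, 8, 4, 17, 15, 19], [13, -310, -448, -15, -3]⟩) (.node 1 (.leaf ⟨13, 8, true, [14, 3, 15, 16, 15, 7, 19], [0, 9, 13, 10, 12, 15, 7, 0], [-1018, 10885,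 11983, 309, 67]⟩) (.leaf ⟨8, 13, true, [14, 19, 14, 8, 11, 0, 19], [4, 17, 5, 19, 15, 18, 4, 2], [58, -452, -582, -26, -3]⟩))) (.node 1 (.leaf ⟨13, 8, true, [12, 11, 6, 18, 8, 15, 17, 4], [13, 4, 15, 6, 12, 7, 3], [-1306, 14033, 14363, 305, 142]⟩) (.node 1 (.leaf ⟨13, 13, true, [10, 15, 0, 6, 16, 5, 0, 18], [18, 7, 16, 11, 0, 18, 18], [-8, 72, 17, 1, -3]⟩) (.leaf ⟨13, 13, true, [7, 18, 6, 12, 17, 14, 11, 4], [19, 3, 0, 9, 4, 9, 14, 11], [6, -11, 59, 2, 2]⟩)))))))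
noncomputable def dF1983 : BT Fct := (.node 22 (.node 11 (.node 5 (.node 2 (.node 1 (.leaf ⟨13, 13, true, [4, 0, 11, 13, 18, 5, 0], [15, 0, 7, 17, 6, 6, 18], [-7609, 69446, 83420, 2611, 88]⟩) (.leaf ⟨13, 13, true, [7, 3, 9, 13, 6, 9, 19], [12, 3, 14, 7, 8, 3, 0], [6605, -58932, -71961, -2320, -23]⟩)) (.node 1 (.leaf ⟨8, 13, true, [10, 8, 5, 17, 13, 19, 3], [9, 4, 9, 7, 9, 6, 14, 2], [-1536, 14105, 17406, 550, -10]⟩) (.node 1 (.leaf ⟨13, 8, true, [10, 0, 8, 6, 15, 19, 15, 2], [2, 18, 12, 16, 4, 9, 11], [533, -3652, -6023, -262, 76]⟩) (.leaf ⟨8, 13, true, [6, 4, 15, 7, 0, 17, 2], [14, 17, 14, 18, 11, 13], [-510, 4795, 6642, 224, -13]⟩)))) (.node 3 (.node 1 (.leaf ⟨11, 13, true, [3, 8, 16, 7, 12, 4, 7], [16, 7, 14, 18, 8, 5, 18, 0], [-612, 5085, 5283, 131, 59]⟩) (.node 1 (.leaf ⟨13, 11, true, [19,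 15, 17, 0, 17, 5, 16, 3], [6, 5, 13, 6, 17, 9, 2], [-391, 5368, 6100, 157, 7]⟩) (.leaf ⟨13, 8, true, [7, 0, 10, 6, 17, 7, 9, 2], [12, 18, 4, 13, 10, 0, 19, 6], [-3888, 37215, 42572, 1257, 107]⟩))) (.node 1 (.leaf ⟨8, 13, true, [7, 4, 18, 13, 6, 12, 18], [10, 5, 11, 17, 11, 6, 18, 2], [3941, -37653, -43128, -1276, -107]⟩) (.node 1 (.leaf ⟨8, 13, true, [14, 16, 2, 17, 13, 0, 18], [7, 17, 0, 9, 6, 8, 14, 0], [-136, 1290, 1634, 44, -2]⟩) (.leaf ⟨13, 8, true, [5, 18, 5, 17, 8, 14, 16, 5], [19, 0, 12, 16, 3, 17, 15], [-867, 9163, 9749, 244, 68]⟩))))) (.node 5 (.node 2 (.node 1 (.leaf ⟨13, 8, true, [12, 16, 8, 6, 10, 18, 11, 3], [11, 12, 18, 17, 8, 4, 15], [-5544, 47083, 59076, 2029, -85]⟩) (.leaf ⟨8, 13, true, [0, 18, 3, 7, 10, 13, 8], [9, 19, 4, 19, 14, 11, 7, 19], [5597, -47521, -59632, -2048, 85]⟩))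 (.node 1 (.leaf ⟨13, 13, true, [7, 7, 9, 18, 4, 18, 15], [15, 4, 7, 19, 7, 11, 19, 3], [-1581, 15396, 17829, 516, 50]⟩) (.node 1 (.leaf ⟨13, 13, true, [9, 0, 3, 6, 16, 11, 8], [14, 19, 5, 19, 8, 6, 6], [1579, -15335, -17753, -513, -51]⟩) (.leaf ⟨13, 8, true, [19, 4, 8, 14, 13, 7, 8, 3], [9, 15, 0, 3, 17, 13, 7, 13], [-1960, 19609, 21285, 569, 91]⟩)))) (.node 3 (.node 1 (.leaf ⟨8, 13, true, [3, 6, 16, 6, 17, 0, 17, 0], [15, 18, 3, 13, 19, 7, 3, 6], [2013, -20047, -21841, -588, -91]⟩) (.node 1 (.leaf ⟨9, 13, true, [8, 10, 0, 13, 9, 14, 7, 2], [4, 9, 17, 0, 17, 3, 8], [-347, 3637, 3996, 109, 3]⟩) (.leaf ⟨12, 13, true, [5, 18, 3, 7, 8, 4, 15, 16], [9, 7, 18, 14, 12, 11, 19], [261, -5167, -4299, -15, -52]⟩))) (.node 1 (.leaf ⟨13, 12, true, [13, 7, 4, 8, 7, 19, 11], [17, 14, 0, 8, 14, 9, 17, 4], [-1265,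 15681, 15758, 306, 117]⟩) (.node 1 (.leaf ⟨11, 13, true, [5, 11, 5, 8, 15, 8, 5, 2], [15, 0, 5, 7, 10, 17, 6], [-1739, 16879, 18666, 640, -42]⟩) (.leaf ⟨13, 11, true, [4, 11, 7, 15, 6, 0, 14], [3, 4, 9, 14, 9, 4, 10, 4], [1737, -16818, -18590, -637, 41]⟩)))))) (.node 11 (.node 5 (.node 2 (.node 1 (.leaf ⟨9, 13, true, [11, 16, 0, 13, 16, 5, 8, 13], [17, 8, 11, 19, 7, 13, 9], [1610, -14825, -18115, -601, 37]⟩) (.leaf ⟨13, 9, true, [17, 8, 0, 15, 11, 5, 9, 4], [18, 2, 14, 12, 6, 16, 8, 2], [-2614, 25339, 29574, 892, 28]⟩)) (.node 1 (.leaf ⟨8, 13, true, [15, 8, 6, 4, 6, 9, 2], [9, 5, 16, 4, 18, 4, 10, 3], [441, -4293, -4571, -140, 2]⟩) (.node 1 (.leaf ⟨13, 13, true, [17, 0, 12, 8, 5, 7, 19, 3], [16, 8, 0, 7, 15, 19, 0, 13], [-1936, 19463, 21290, 577, 85]⟩) (.leaf ⟨9, 13, true, [7, 14, 13, 17, 15, 6],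 [8, 3, 14, 11, 18, 4, 9, 4], [-1585, 13187, 17160, 629, -56]⟩)))) (.node 3 (.node 1 (.leaf ⟨13, 9, true, [14, 2, 10, 15, 7, 15, 6], [7, 14, 16, 12, 15, 6], [1583, -13126, -17084, -626, 55]⟩) (.node 1 (.leaf ⟨13, 13, true, [18, 6, 9, 18, 0, 7, 10], [6, 0, 9, 7, 19, 6, 18], [-1552, 17594, 19548, 475, 133]⟩) (.leaf ⟨13, 13, true, [11, 5, 12, 15, 17, 0, 17], [11, 6, 0, 19, 8, 7, 19], [547, -7019, -8013, -181, -69]⟩))) (.node 1 (.leaf ⟨13, 13, true, [4, 19, 4, 6, 8, 16, 4], [6, 4, 17, 2, 17, 4, 10, 3], [-1578, 17399, 17536, 399, 143]⟩) (.node 1 (.leaf ⟨13, 13, true, [15, 13, 9, 15, 18, 13, 6, 16], [4, 10, 7, 14, 10, 18, 5], [575, -6946, -6153, -111, -77]⟩) (.leaf ⟨13, 13, true, [12, 6, 4, 19, 6, 11, 13, 0], [0, 18, 9, 7, 12, 15, 7, 3], [-2554, 25845, 29179, 800, 118]⟩))))) (.node 6 (.node 3 (.node 1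 (.leaf ⟨13, 13, true, [19, 5, 14, 17, 13, 14, 19], [15, 8, 10, 13, 0, 16, 5, 2], [2552, -25784, -29103, -797, -119]⟩) (.node 1 (.leaf ⟨8, 13, true, [19, 16, 14, 13, 19, 6, 12], [6, 18, 8, 7, 11, 8, 16], [2527, -30378, -30224, -540, -330]⟩) (.leaf ⟨13, 8, true, [17, 9, 4, 9, 16, 19, 4, 14], [13, 7, 9, 14, 16, 18, 8], [-3532, 40953, 41759, 834, 394]⟩))) (.node 1 (.leaf ⟨9, 13, true, [10, 0, 18, 4, 10, 16, 18, 0], [18, 13, 16, 18, 15, 8, 4], [-2543, 21944, 26846, 942, -54]⟩) (.node 1 (.leaf ⟨13, 9, true, [4, 18, 11, 6, 18, 14, 13, 0], [16, 9, 19, 4, 16, 2, 19, 3], [2541, -21883, -26770, -939, 53]⟩) (.leaf ⟨8, 13, true, [9, 17, 13, 9, 6, 18, 11, 3], [18, 6, 18, 12, 9, 4, 8], [-163, 900, 1515, 96, -29]⟩)))) (.node 3 (.node 1 (.leaf ⟨13, 8, true, [9, 18, 6, 15, 7, 19, 6], [8, 11, 17, 14, 11, 5, 16, 3],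 [-841, 9614, 9944, 195, 94]⟩) (.node 1 (.leaf ⟨7, 13, true, [9, 17, 3, 17, 9, 2], [16, 10, 19, 3, 16, 6, 13], [-904, 8905, 10671, 327, -11]⟩) (.leaf ⟨8, 13, true, [6, 9, 19, 3, 16, 9, 17], [15, 7, 4, 17, 6, 19, 4, 0], [1183, -14494, -13904, -214, -201]⟩))) (.node 1 (.leaf ⟨13, 8, true, [0, 13, 19, 15, 11, 18, 12], [16, 8, 17, 2, 18, 8, 7], [-2187, 25008, 25363, 505, 266]⟩) (.node 1 (.leaf ⟨13, 13, true, [15, 6, 18, 9, 6, 6, 19, 2], [4, 19, 8, 14, 8, 14], [-4833, 43315, 54072, 1721, 11]⟩) (.leaf ⟨12, 13, true, [9, 6, 10, 9, 13, 15, 11], [18, 4, 10, 16, 11, 8, 6, 2], [129, -4344, -3078, 88, -148]⟩)))))))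
noncomputable def dF2028 : BT Fct := (.node 22 (.node 11 (.node 5 (.node 2 (.node 1 (.leaf ⟨13, 12, true, [11, 6, 3, 19, 17, 4, 8, 13], [14, 10, 14, 13, 7, 16, 11], [-1132, 14797, 14461, 200, 214]⟩) (.leaf ⟨7, 13, true, [19, 17, 13, 10, 12, 14, 0], [18, 6, 12, 14, 13, 11, 19], [970, -6640, -12748, -503, 39]⟩)) (.node 1 (.leaf ⟨13, 7, true, [16, 15, 4, 18, 5, 12, 8, 10], [19, 17, 13, 10, 12, 14, 0], [-1974, 17154, 24207, 794, 26]⟩) (.node 1 (.leaf ⟨8, 13, true, [9, 6, 0, 17, 11, 2, 13, 14], [12, 9, 12, 14, 5, 17, 12], [415, -2143, -3607, -202, 45]⟩) (.leaf ⟨13, 8, true, [4, 9, 7, 4, 14], [15, 12, 3, 10, 16, 0, 7, 8], [-417, 2204, 3683, 205, -46]⟩)))) (.node 3 (.node 1 (.leaf ⟨8, 13, true, [10, 16, 7, 2, 14, 5, 8], [3, 6, 8, 10, 16, 6, 9, 18], [5561, -51737, -62739, -1949, -47]⟩) (.node 1 (.leaf ⟨13,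 8, true, [6, 14, 8, 14, 9, 4, 2], [9, 4, 15, 3, 6, 17, 11], [-6565, 62251, 74198, 2240, 112]⟩) (.leaf ⟨8, 13, true, [3, 6, 11, 16, 4, 17, 15], [6, 2, 6, 17, 12, 3, 19, 16], [-858, 10352, 10885, 239, 29]⟩))) (.node 1 (.leaf ⟨13, 8, true, [18, 6, 10, 3, 6, 5, 17, 5], [14, 16, 5, 17, 10, 7, 2], [-146, 162, 574, 52, 36]⟩) (.node 1 (.leaf ⟨8, 13, true, [14, 4, 10, 15, 9, 13, 4], [2, 13, 7, 9, 12, 6, 18], [-795, 6073, 8181, 281, 8]⟩) (.leaf ⟨13, 8, true, [6, 10, 14, 18, 3, 17, 10], [15, 5, 17, 6, 11, 8, 5], [-209, 4441, 3278, 10, 57]⟩))))) (.node 5 (.node 2 (.node 1 (.leaf ⟨8, 13, true, [2, 0, 19, 14, 4, 10], [9, 0, 19, 6, 18, 6, 9], [-336, 2943, 3874, 122, 5]⟩) (.leaf ⟨13, 8, true, [13, 10, 13, 19, 14, 4, 0], [11, 13, 5, 18, 0, 3], [334, -2882, -3798, -119, -6]⟩)) (.node 1 (.leaf ⟨12, 13, true, [3, 16,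 10, 13, 9, 11, 19], [6, 19, 17, 2, 19, 3], [682, -4916, -6880, -280, 12]⟩) (.node 1 (.leaf ⟨13, 12, true, [11, 3, 0, 9, 5, 9, 12, 16], [18, 10, 8, 12, 11, 17, 2], [-1686, 15430, 18339, 571, 53]⟩) (.leaf ⟨13, 13, true, [5, 9, 15, 18, 8, 15, 12, 0], [12, 0, 9, 4, 10, 14, 3, 19], [-4148, 35650, 44827, 1577, -66]⟩)))) (.node 3 (.node 1 (.leaf ⟨8, 13, true, [18, 0, 11, 6, 16, 9, 17, 0], [19, 12, 6, 12, 11, 7, 7, 2], [1173, -11279, -12618, -361, -55]⟩) (.node 1 (.leaf ⟨13, 8, true, [8, 17, 11, 8, 6, 3, 15, 0], [17, 8, 5, 16, 4, 7, 12, 0], [-1175, 11340, 12694, 364, 54]⟩) (.leaf ⟨8, 13, true, [12, 6, 19, 4, 18, 6, 6], [14, 7, 10, 9, 4, 10, 0], [212, -2114, -1778, -50, -5]⟩))) (.node 1 (.leaf ⟨13, 8, true, [9, 6, 14, 10, 16, 5, 8, 0], [7, 7, 19, 5, 18, 7, 13], [-1216, 12628, 13237, 341, 70]⟩) (.node 1 (.leaf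 ⟨8, 13, true, [0, 17, 0, 18, 14, 11, 2], [18, 6, 2, 10, 5, 6, 18, 2], [-53, 172, 535, 22, 3]⟩) (.leaf ⟨8, 13, true, [12, 7, 10, 19, 7, 7, 15], [12, 18, 14, 7, 5, 10, 5, 0], [-3628, 32562, 39493, 1393, -134]⟩)))))) (.node 11 (.node 5 (.node 2 (.node 1 (.leaf ⟨13, 8, true, [3, 8, 12, 17, 7, 19, 7, 3], [14, 6, 6, 18, 11, 6, 13], [2624, -22048, -28034, -1102, 199]⟩) (.leaf ⟨13, 13, true, [7, 0, 14, 13, 8, 15, 4, 3], [15, 8, 17, 7, 9, 4, 7, 4], [-1273, 14826, 15033, 312, 139]⟩)) (.node 1 (.leaf ⟨13, 13, true, [10, 15, 17, 11, 7, 18, 11, 0], [11, 2, 14, 9, 12, 15, 8, 2], [268, -4251, -3498, -18, -75]⟩) (.node 1 (.leaf ⟨8, 13, true, [14, 2, 14, 12, 10, 8, 17], [10, 2, 9, 17, 9, 12, 8, 0], [-859, 5944, 8174, 354, -44]⟩) (.leaf ⟨13, 8, true, [13, 6, 3, 15, 5, 12, 2], [16, 9, 11, 3, 7, 13, 0], [-145, 4570,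 3285, -63, 109]⟩)))) (.node 3 (.node 1 (.leaf ⟨9, 13, true, [10, 17, 6, 8, 19, 6, 18], [18, 0, 13, 9, 13, 4, 18, 3], [835, -7037, -9620, -333, 12]⟩) (.node 1 (.leaf ⟨13, 9, true, [17, 8, 10, 16, 3, 7, 14], [19, 7, 18, 9, 7, 16, 11], [-837, 7098, 9696, 336, -13]⟩) (.leaf ⟨8, 13, true, [7, 4, 16, 13, 11, 13, 11, 2], [6, 17, 12, 15, 6, 2, 17], [7456, -62806, -77418, -2632, 48]⟩))) (.node 1 (.leaf ⟨13, 8, true, [3, 18, 3, 8, 14, 8, 17], [14, 17, 2, 15, 13, 9, 17, 8], [-8460, 73320, 88877, 2923, 17]⟩) (.node 1 (.leaf ⟨11, 13, true, [8, 2, 8, 12, 16, 7, 11, 0], [10, 15, 3, 16, 6, 10, 13, 3], [-4164, 33054, 43594, 1512, -43]⟩) (.leaf ⟨13, 11, true, [19, 3, 10, 6, 10, 14, 19], [0, 10, 6, 17, 13, 9, 7, 0], [3159, -22479, -32059, -1218, 107]⟩))))) (.node 6 (.node 3 (.node 1 (.leaf ⟨12, 13, true, [9, 11, 9,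 10, 12, 19, 4, 0], [8, 11, 5, 18, 7, 16, 4], [481, -6285, -5643, -65, -105]⟩) (.node 1 (.leaf ⟨13, 12, true, [17, 19, 7, 16, 11, 17, 0], [8, 4, 6, 18, 5, 19, 17, 0], [-483, 6346, 5719, 68, 104]⟩) (.leaf ⟨12, 13, true, [17, 0, 8, 7, 19, 6, 10, 3], [8, 16, 4, 6, 17, 4, 0, 16], [-3021, 28629, 32114, 1028, -25]⟩))) (.node 1 (.leaf ⟨12, 13, true, [14, 5, 16, 19, 8, 15, 8], [8, 17, 19, 12, 16, 6, 15], [3278, -28423, -35394, -1134, -44]⟩) (.node 1 (.leaf ⟨13, 12, true, [19, 0, 14, 5, 13, 8, 17, 3], [18, 10, 14, 17, 9, 6, 8], [-3280, 28484, 35470, 1137, 43]⟩) (.leaf ⟨8, 13, true, [9, 7, 18, 4, 17, 10, 18], [11, 0, 18, 0, 13, 19], [5207, -48835, -57595, -1782, -65]⟩)))) (.node 3 (.node 1 (.leaf ⟨13, 13, true, [4, 18, 0, 10, 18, 11, 15], [12, 4, 7, 14, 16, 3, 19], [-4757, 49783, 54692, 1357, 327]⟩) (.node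 1 (.leaf ⟨13, 13, true, [16, 8, 19, 17, 11, 4, 9], [15, 11, 14, 17, 18, 0, 11, 3], [-1773, 16179, 19402, 598, 41]⟩) (.leaf ⟨13, 13, true, [13, 16, 0, 15, 9, 7, 19], [8, 5, 10, 16, 18, 9, 17], [768, -5604, -7867, -304, 23]⟩))) (.node 1 (.leaf ⟨8, 13, true, [7, 0, 15, 11, 17, 8, 4, 0], [5, 6, 2, 9, 5, 17, 5, 19], [403, -3491, -4563, -168, 21]⟩) (.node 1 (.leaf ⟨9, 13, true, [10, 3, 5, 9, 15, 7], [14, 11, 12, 16, 11, 3, 5], [-1968, 16024, 21777, 798, -70]⟩) (.leaf ⟨13, 9, true, [17, 7, 17, 4, 19, 13, 9, 4], [6, 14, 8, 4, 2, 11], [965, -5571, -10394, -510, 136]⟩)))))))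
noncomputable def dF2073 : BT Fct := (.node 22 (.node 11 (.node 5 (.node 2 (.node 1 (.leaf ⟨11, 13, true, [9, 18, 6, 8, 15, 5, 6], [17, 4, 15, 17, 10, 6, 19], [-1436, 14459, 15471, 402, 90]⟩) (.leaf ⟨13, 11, true, [18, 7, 4, 10, 15, 16, 11], [7, 4, 14, 9, 7, 19, 8], [433, -4006, -4088, -114, -24]⟩)) (.node 1 (.leaf ⟨8, 13, true, [8, 11, 0, 14, 5, 16, 3], [9, 4, 15, 19, 10, 5, 10, 0], [-507, 4257, 5368, 169, 11]⟩) (.node 1 (.leaf ⟨13, 8, true, [10, 13, 19, 5, 19, 3, 7], [5, 6, 5, 11, 4, 10, 9], [505, -4196, -5292, -166, -12]⟩) (.leaf ⟨8, 13, true, [17, 14, 18, 0, 16, 9, 0], [9, 5, 11, 12, 8, 15, 12, 0], [-847, 6368, 8638, 331, -17]⟩)))) (.node 3 (.node 1 (.leaf ⟨13, 8, true, [17, 6, 12, 18, 10, 6, 18, 4], [6, 3, 17, 0, 19, 15, 16], [845, -6307, -8562, -328, 16]⟩) (.node 1 (.leaf ⟨11, 13, true, [4,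 17, 10, 6, 8, 0, 7], [5, 6, 6, 18, 12, 4, 7, 16], [-76, -129, 215, 29, 13]⟩) (.leaf ⟨13, 11, true, [13, 0, 7, 15, 18, 8, 6, 0], [6, 0, 9, 7, 11, 16, 5], [-928, 10643, 11244, 262, 52]⟩))) (.node 1 (.leaf ⟨8, 13, true, [18, 6, 11, 13, 15, 11, 15, 3], [16, 9, 0, 16, 18, 0, 9, 6], [617, -7224, -7583, -148, -32]⟩) (.node 1 (.leaf ⟨13, 13, true, [4, 10, 6, 16, 2, 15, 4], [6, 2, 15, 4, 6, 18, 9, 2], [-2970, 25488, 31823, 1125, -70]⟩) (.leaf ⟨13, 8, true, [9, 2, 14, 16, 18, 17, 8], [16, 4, 15, 0, 7, 19, 10], [1439, -20178, -18253, -175, -287]⟩))))) (.node 5 (.node 2 (.node 1 (.leaf ⟨8, 13, true, [14, 6, 3, 14, 11], [15, 0, 12, 17, 6, 4, 11], [-1386, 19740, 17697, 156, 287]⟩) (.leaf ⟨8, 13, true, [4, 8, 5, 19, 7, 17, 5, 3], [19, 16, 2, 12, 7, 19, 15, 19], [2791, -22297, -29180, -1014, 18]⟩)) (.node 1 (.leaf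 ⟨13, 8, true, [11, 6, 4, 18, 15, 4, 11, 17], [7, 15, 19, 14, 13, 16, 14, 0], [-3794, 32750, 40563, 1302, 48]⟩) (.node 1 (.leaf ⟨4, 13, true, [7, 17, 6, 2, 17, 13, 2], [6, 19, 0, 15, 12, 7, 10], [187, -2612, -2119, -23, -32]⟩) (.leaf ⟨13, 4, true, [18, 0, 19, 7, 12, 15, 16, 2], [8, 0, 7, 4, 7, 16, 6], [-1191, 13126, 13578, 314, 97]⟩)))) (.node 3 (.node 1 (.leaf ⟨11, 13, true, [12, 19, 6, 0, 7, 19], [18, 13, 10, 4, 8, 14, 10], [-4664, 40162, 48554, 1645, -33]⟩) (.node 1 (.leaf ⟨13, 13, true, [4, 10, 18, 11, 9, 19, 7, 2], [18, 3, 10, 12, 7, 12, 9], [287, -2147, -3194, -122, 10]⟩) (.leaf ⟨8, 13, true, [8, 10, 3, 7, 17, 14, 18, 0], [3, 5, 16, 11, 5, 19, 0, 2], [-604, 4635, 6179, 240, -32]⟩))) (.node 1 (.leaf ⟨13, 8, true, [8, 6, 16, 2, 15, 9, 0], [16, 14, 4, 16, 2, 15, 7, 12], [-399, 5818, 5204, 48,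 98]⟩) (.node 1 (.leaf ⟨8, 13, true, [6, 5, 12, 8, 6, 19, 5], [9, 18, 4, 7, 5, 16, 11, 3], [90, -2270, -1784, 3, -16]⟩) (.leaf ⟨13, 8, true, [10, 13, 14, 19, 6, 19, 9, 4], [4, 18, 11, 14, 6, 4, 7], [-1094, 12784, 13243, 288, 81]⟩)))))) (.node 11 (.node 5 (.node 2 (.node 1 (.leaf ⟨8, 13, true, [13, 6, 5, 18, 7, 12, 11, 6], [19, 6, 15, 5, 7, 5, 11], [-1002, 8992, 11094, 370, -31]⟩) (.leaf ⟨13, 8, true, [16, 15, 6, 8, 14, 18, 3], [8, 17, 11, 15, 5, 19, 17, 8], [1000, -8931, -11018, -367, 30]⟩)) (.node 1 (.leaf ⟨13, 13, true, [17, 5, 19, 15, 13, 8, 17, 2], [14, 6, 5, 18, 12, 4, 8], [-4369, 38012, 48039, 1628, -95]⟩) (.node 1 (.leaf ⟨8, 13, true, [8, 5, 13, 14, 11, 7, 4, 3], [19, 3, 12, 16, 6, 16, 14, 0], [-1104, 9828, 11942, 397, 2]⟩) (.leaf ⟨13, 8, true, [15, 18, 4, 16, 6, 8, 3, 16], [8, 15, 2, 7, 16,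 9, 13, 8], [100, 686, -483, -106, 63]⟩)))) (.node 3 (.node 1 (.leaf ⟨8, 13, true, [9, 2, 17, 7, 17, 3, 15], [17, 12, 10, 14, 8, 15], [675, -6136, -7838, -220, -19]⟩) (.node 1 (.leaf ⟨13, 8, true, [13, 10, 14, 2, 11, 7, 19], [9, 19, 5, 16, 6, 4, 2], [-1679, 16650, 19297, 511, 84]⟩) (.leaf ⟨3, 13, true, [6, 4, 2, 10, 8, 13, 11], [4, 19, 15, 9, 7, 13, 17], [1008, -8633, -10867, -352, -3]⟩))) (.node 1 (.leaf ⟨13, 3, true, [15, 3, 16, 10, 19, 0, 4], [10, 12, 9, 11, 3, 5, 7], [-1010, 8694, 10943, 355, 2]⟩) (.node 1 (.leaf ⟨8, 13, true, [7, 12, 2, 5, 8, 15, 8, 17], [3, 7, 10, 9, 5, 19, 4, 0], [-753, 6428, 8196, 287, -28]⟩) (.leaf ⟨13, 8, true, [10, 0, 4, 17, 6, 15, 12], [15, 16, 3, 9, 14, 10, 17, 13], [-252, 4147, 3339, 7, 92]⟩))))) (.node 6 (.node 3 (.node 1 (.leaf ⟨12, 13, true, [4, 6, 17, 14, 6, 15,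 6], [11, 0, 18, 17, 6, 10, 5, 0], [1848, -18633, -21199, -556, -118]⟩) (.node 1 (.leaf ⟨13, 12, true, [17, 6, 5, 6, 4, 7, 9, 3], [7, 14, 7, 15, 16, 7, 5], [-2852, 29147, 32658, 847, 183]⟩) (.leaf ⟨13, 13, true, [12, 14, 19, 7, 13, 15, 18, 2], [4, 3, 6, 8, 13, 6, 14, 3], [-1719, 18837, 19954, 487, 128]⟩))) (.node 1 (.leaf ⟨8, 13, true, [5, 7, 8, 17, 14, 4, 2, 6], [3, 5, 16, 10, 12, 16, 8, 4], [-18, 388, 818, 31, -4]⟩) (.node 1 (.leaf ⟨13, 8, true, [4, 8, 7, 18, 6, 15, 19], [7, 3, 13, 5, 16, 9, 6, 4], [-986, 10126, 10641, 260, 69]⟩) (.leaf ⟨8, 13, true, [7, 3, 14, 7, 19, 16, 7, 3], [18, 6, 8, 19, 17, 8, 6, 3], [1382, -13770, -15557, -433, -59]⟩)))) (.node 3 (.node 1 (.leaf ⟨13, 8, true, [14, 10, 16, 11, 12, 7, 2, 0], [13, 16, 11, 13, 4, 9, 3, 8], [-2387, 24345, 27092, 727, 123]⟩) (.node 1 (.leaf ⟨8,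 13, true, [17, 3, 18, 7, 3, 5, 19, 2], [16, 0, 18, 2, 14, 6, 16], [631, -4693, -6571, -252, 18]⟩) (.leaf ⟨13, 8, true, [9, 6, 2, 0, 19, 11, 12], [15, 2, 5, 7, 8, 17, 15, 2], [-633, 4754, 6647, 255, -19]⟩))) (.node 1 (.leaf ⟨8, 13, true, [6, 8, 16, 2, 12, 14, 11], [11, 9, 7, 15, 5, 8, 19, 16], [4692, -38050, -49714, -1793, 116]⟩) (.node 1 (.leaf ⟨13, 8, true, [19, 4, 16, 15, 6, 0, 4], [10, 15, 13, 3, 17, 9, 7], [-4694, 38111, 49790, 1796, -117]⟩) (.leaf ⟨12, 13, true, [15, 17, 6, 17, 11, 16], [4, 7, 0, 10, 19, 17, 5, 13], [1826, -16909, -19744, -592, -53]⟩)))))))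
noncomputable def dF2118 : BT Fct := (.node 23 (.node 11 (.node 5 (.node 2 (.node 1 (.leaf ⟨13, 12, true, [10, 5, 8, 17, 11, 18, 14], [17, 10, 16, 7, 16, 14], [-2830, 27423, 31203, 883, 118]⟩) (.leaf ⟨8, 13, true, [13, 14, 6, 10, 3, 6, 2, 16], [10, 4, 11, 7, 8, 3, 6, 4], [-1625, 13323, 17624, 665, -33]⟩)) (.node 1 (.leaf ⟨13, 8, true, [11, 7, 2, 5, 7, 11, 16, 4], [16, 19, 5, 0, 11, 7, 15, 12], [622, -2870, -6241, -377, 99]⟩) (.node 1 (.leaf ⟨8, 13, true, [2, 12, 6, 8, 6, 16, 7, 4], [7, 13, 6, 4, 8, 7, 8, 2], [712, -6609, -7856, -241]⟩) (.leaf ⟨13, 8, true, [14, 16, 3, 16, 13, 18, 6], [5, 6, 17, 7, 9, 7, 13, 3], [-1717, 17184, 19391, 535, 64]⟩)))) (.node 3 (.node 1 (.leaf ⟨13, 13, true, [17, 4, 0, 9, 16, 5, 7, 19], [11, 12, 18, 13, 10, 0, 16, 2], [-2224, 20827, 23258, 706, 37]⟩) (.node 1 (.leaf ⟨13,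 13, true, [8, 2, 16, 18, 10, 9, 19], [5, 16, 2, 6, 17, 11, 17, 3], [1220, -10313, -11799, -415, 28]⟩) (.leaf ⟨13, 8, true, [14, 6, 8, 17, 15, 7, 2], [13, 19, 5, 18, 14, 9, 14, 9], [822, -1272, -8425, -580, 215]⟩))) (.node 1 (.leaf ⟨8, 13, true, [16, 7, 15, 19, 7, 14, 9, 2], [19, 7, 9, 14, 16, 19, 17, 0], [2173, -19104, -23072, -764, 15]⟩) (.node 1 (.leaf ⟨13, 8, true, [9, 11, 2, 15, 16, 18, 14, 6], [19, 0, 8, 5, 16, 14, 7, 0], [-3176, 29557, 34455, 1052, 51]⟩) (.leaf ⟨8, 13, true, [16, 5, 11, 8, 17, 3, 7], [10, 17, 10, 6, 19, 4, 17], [623, -7205, -7280, -146, -83]⟩))))) (.node 6 (.node 3 (.node 1 (.leaf ⟨11, 13, true, [9, 11, 0, 17, 7, 5, 19, 2], [13, 7, 5, 8, 5, 16, 12, 2], [988, -8383, -9958, -275, -54]⟩) (.node 1 (.leaf ⟨13, 11, true, [6, 3, 6, 10, 19, 4, 17, 7], [9, 0, 9, 15, 19, 4, 17, 0],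 [-1992, 18897, 21417, 566, 119]⟩) (.leaf ⟨8, 13, true, [6, 3, 16, 6, 6, 15, 2, 0], [14, 8, 14, 3, 18, 13, 9, 2], [-729, 5842, 8714, 317, -28]⟩))) (.node 1 (.leaf ⟨13, 8, true, [12, 6, 12, 6, 9, 6, 18], [12, 0, 10, 5, 16, 8, 19, 0], [-275, 4672, 2745, -26, 93]⟩) (.node 1 (.leaf ⟨8, 13, true, [17, 14, 9, 13, 0, 16, 5], [15, 6, 12, 2, 13, 7, 17, 0], [-1778, 18938, 21442, 562, 117]⟩) (.leaf ⟨13, 8, true, [2, 17, 14, 8, 6, 10, 15], [4, 17, 11, 19, 0, 15, 16], [773, -8363, -9907, -268, -53]⟩)))) (.node 3 (.node 1 (.leaf ⟨12, 13, true, [3, 7, 4, 9, 7, 17, 14, 2], [6, 9, 3, 10, 7, 19, 7, 14], [1090, -12710, -12263, -262, -108]⟩) (.node 1 (.leaf ⟨10, 13, true, [9, 2, 13, 9, 10, 16, 6, 4], [18, 8, 17, 0, 10, 4, 17], [281, -2489, -3062, -32, -47]⟩) (.leaf ⟨13, 8, true, [7, 7, 16, 4, 7, 13, 19], [15, 5, 13,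 14, 18, 17, 6, 2], [-1989, 18815, 20698, 602, 47]⟩))) (.node 1 (.leaf ⟨9, 13, true, [0, 10, 16, 0, 12, 2, 6], [0, 5, 13, 10, 15, 18, 15], [3461, -27426, -38134, -1373, 94]⟩) (.node 1 (.leaf ⟨13, 9, true, [10, 19, 7, 3, 4, 11, 9, 2], [7, 9, 3, 0, 17, 11, 0], [-4465, 37940, 49593, 1664, -29]⟩) (.leaf ⟨8, 13, true, [6, 4, 16, 10, 4], [15, 12, 6, 10, 14, 18, 10, 2], [2635, -26824, -30075, -794, -171]⟩)))))) (.node 11 (.node 5 (.node 2 (.node 1 (.leaf ⟨13, 8, true, [15, 3, 9, 11, 18, 14, 9, 4], [14, 12, 16, 5, 7], [-3639, 37338, 41534, 1085, 236]⟩) (.leaf ⟨8, 13, true, [17, 5, 18, 17, 13, 16], [10, 6, 17, 0, 4, 16, 8], [-2754, 20024, 30114, 1227, -244]⟩)) (.node 1 (.leaf ⟨13, 8, true, [5, 16, 6, 11, 18, 10, 17, 2], [16, 8, 13, 19, 4, 16], [1751, -9571, -18731, -939, 310]⟩) (.node 1 (.leaf ⟨9, 13, true,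 [8, 16, 6, 2, 6, 12], [5, 19, 5, 13, 8, 15, 13, 2], [1017, -11846, -12604, -253, -61]⟩) (.leaf ⟨13, 9, true, [18, 5, 10, 16, 18, 10], [13, 7, 3, 7, 17, 9], [-1019, 11907, 12680, 256, 60]⟩)))) (.node 3 (.node 1 (.leaf ⟨8, 13, true, [5, 13, 7, 13, 15, 6, 19, 2], [15, 18, 14, 19, 7, 18, 17, 0], [313, -3741, -3761, -58, -54]⟩) (.node 1 (.leaf ⟨13, 8, true, [8, 5, 16, 5, 18, 7, 13, 2], [6, 16, 18, 17, 0, 19, 6, 0], [-1316, 14194, 15144, 346, 120]⟩) (.leaf ⟨13, 13, true, [19, 10, 14, 5, 18, 0, 3, 17], [9, 11, 13, 0, 9, 5, 17, 2], [-4093, 44019, 47374, 1112, 337]⟩))) (.node 1 (.leaf ⟨13, 13, true, [13, 11, 7, 18, 4, 8, 16, 2], [16, 2, 0, 19, 4, 15, 11, 18], [4091, -43958, -47298, -1109, -338]⟩) (.node 1 (.leaf ⟨13, 13, true, [18, 14, 5, 13, 11, 19, 6], [19, 13, 11, 8, 14, 17, 5], [-124, 2919, 2663, 22,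 10]⟩) (.leaf ⟨13, 8, true, [9, 7, 15, 18, 4, 18, 12, 2], [6, 14, 19, 16, 7, 8], [-521, 6120, 4849, 52, 90]⟩))))) (.node 6 (.node 3 (.node 1 (.leaf ⟨13, 13, true, [5, 17, 15, 2, 17, 13, 7], [5, 6, 5, 8, 4, 11, 6], [-1472, 14077, 16234, 471, 51]⟩) (.node 1 (.leaf ⟨8, 13, true, [12, 10, 3, 7, 12, 18, 0, 17], [9, 14, 3, 7, 10, 12, 0], [-1019, 8995, 11008, 359, -3]⟩) (.leaf ⟨13, 13, true, [15, 18, 13, 11, 19, 10, 8, 0], [11, 6, 13, 11, 8, 6, 18, 3], [-3719, 32666, 41357, 1423, -54]⟩))) (.node 1 (.leaf ⟨8, 13, true, [16, 10, 18, 11, 16, 19, 16, 2], [13, 15, 11, 15, 8, 16, 0, 3], [5749, -53174, -64617, -1976, -81]⟩) (.node 1 (.leaf ⟨13, 8, true, [17, 6, 8, 6, 16, 19, 4, 0], [10, 16, 2, 16, 14, 16, 7, 2], [-5751, 53235, 64693, 1979, 80]⟩) (.leaf ⟨12, 13, true, [7, 12, 19, 6, 15, 18, 13], [16, 4, 7, 19,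 2, 12, 0], [1546, -18639, -18009, -304, -231]⟩)))) (.node 3 (.node 1 (.leaf ⟨13, 12, true, [10, 17, 4, 6, 13, 3, 16, 7], [12, 19, 14, 7, 18, 13, 6], [-1548, 18700, 18085, 307, 230]⟩) (.node 1 (.leaf ⟨13, 8, true, [19, 13, 18, 12, 8, 15, 10], [9, 2, 12, 16, 5, 19, 4, 2], [-2587, 27683, 30745, 757, 178]⟩) (.leaf ⟨8, 13, true, [18, 18, 3, 6, 8, 14, 0, 9], [11, 14, 9, 13, 19, 12, 18], [2532, -27245, -30189, -738, -178]⟩))) (.node 1 (.leaf ⟨8, 13, true, [4, 11, 6, 18, 3, 17, 8], [0, 19, 5, 16, 13, 6, 15, 0], [339, -2524, -3343, -129, 14]⟩) (.node 1 (.leaf ⟨13, 8, true, [17, 7, 18, 7, 16, 13, 18], [9, 16, 2, 19, 7, 10, 5], [-1343, 13038, 14802, 420, 51]⟩) (.leaf ⟨11, 13, true, [18, 15, 18, 10, 12, 19, 17], [3, 7, 10, 15, 17, 13, 19, 16], [-2591, 25470, 27774, 863, 36]⟩)))))))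
noncomputable def dF2164 : BT Fct := (.node 22 (.node 11 (.node 5 (.node 2 (.node 1 (.leaf ⟨13, 11, true, [13, 9, 3, 4, 10, 0, 19, 10], [16, 18, 13, 11, 19, 14, 19], [2589, -25409, -27698, -860, -37]⟩) (.leaf ⟨8, 13, true, [2, 10, 5, 7, 18, 9, 14, 7], [7, 12, 3, 16, 12, 15, 8], [3561, -29975, -38072, -1328, 65]⟩)) (.node 1 (.leaf ⟨13, 8, true, [2, 0, 19, 14, 5, 13, 16, 2], [5, 10, 12, 6, 11, 18, 15, 0], [-4565, 40489, 49531, 1619]⟩) (.node 1 (.leaf ⟨9, 13, true, [6, 3, 15, 12, 14, 8, 10, 2], [12, 15, 11, 2, 19, 5, 11, 3], [-5624, 46702, 62167, 2267, -204]⟩) (.leaf ⟨13, 9, true, [8, 4, 19, 4, 6, 17, 18, 3], [5, 3, 9, 15, 13, 14, 9, 0], [4621, -36249, -50784, -1979, 270]⟩)))) (.node 3 (.node 1 (.leaf ⟨8, 13, true, [14, 0, 11, 18, 15, 19, 15, 2], [9, 10, 13, 15, 3, 17, 12], [-139, 316, 987, 17, 22]⟩)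 (.node 1 (.leaf ⟨13, 8, true, [12, 0, 19, 14, 4, 19, 14], [3, 14, 18, 14, 16, 7, 11, 3], [-865, 10198, 10472, 274, 43]⟩) (.leaf ⟨9, 13, true, [5, 11, 2, 16, 13, 8, 12, 15], [19, 7, 17, 6, 16, 0, 12, 0], [-3742, 33217, 40858, 1428, -131]⟩))) (.node 1 (.leaf ⟨13, 9, true, [15, 3, 19, 16, 10, 19, 7, 4], [11, 6, 17, 4, 18, 18, 3, 4], [2738, -22703, -29399, -1137, 196]⟩) (.node 1 (.leaf ⟨8, 13, true, [8, 7, 12, 7, 16, 5, 17], [16, 9, 15, 18, 5, 16, 0], [-887, 13832, 11317, 40, 255]⟩) (.leaf ⟨13, 9, true, [11, 15, 0, 17, 14, 6, 0, 15], [10, 9, 7, 14, 18, 11, 12, 6], [1463, -20485, -18602, -167, -302]⟩))))) (.node 5 (.node 2 (.node 1 (.leaf ⟨13, 8, true, [13, 5, 9, 7, 18, 5, 8, 2], [11, 5, 16, 10, 6, 4, 10, 3], [445, -4089, -4816, -154, 12]⟩) (.leaf ⟨8, 13, true, [3, 7, 14, 5, 9, 12, 8], [6, 4, 9, 19,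 7, 9, 11, 0], [-392, 3651, 4260, 135, -12]⟩)) (.node 1 (.leaf ⟨8, 13, true, [12, 3, 15, 18, 17, 5, 0, 4], [6, 9, 15, 3, 8, 0, 17], [-1700, 13007, 17700, 678, -72]⟩) (.node 1 (.leaf ⟨13, 8, true, [7, 7, 17, 5, 6, 6, 14, 0], [13, 8, 4, 11, 6, 9, 3, 4], [1698, -12946, -17624, -675, 71]⟩) (.leaf ⟨8, 13, true, [18, 6, 16, 9, 15, 19, 12, 3], [5, 12, 6, 6, 0, 16, 6], [261, -3655, -3012, -5, -94]⟩)))) (.node 3 (.node 1 (.leaf ⟨13, 8, true, [0, 13, 4, 19, 5, 9, 7, 15], [14, 10, 0, 17, 6, 19, 7, 19], [-1266, 14230, 14547, 299, 158]⟩) (.node 1 (.leaf ⟨8, 13, true, [10, 12, 8, 16, 18, 15, 18, 0], [6, 16, 18, 5, 18, 4, 11, 15], [-3200, 25581, 37267, 1451, -201]⟩) (.leaf ⟨13, 8, true, [10, 7, 8, 7, 18, 7, 19, 0], [7, 16, 4, 18, 4, 17, 12, 2], [3198, -25520, -37191, -1448, 200]⟩))) (.node 1 (.leaf ⟨8, 13, true,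 [14, 6, 10, 9, 13, 19, 10, 2], [19, 2, 17, 7, 8, 15, 17], [5531, -58794, -63939, -1533, -419]⟩) (.node 1 (.leaf ⟨8, 13, true, [13, 19, 5, 17, 4, 16, 13, 3], [15, 3, 18, 7, 19, 16, 2, 0], [-517, 4379, 5583, 198, -14]⟩) (.leaf ⟨13, 13, true, [3, 18, 6, 9, 7, 15, 0], [7, 10, 6, 9, 7, 13, 14, 0], [-906, 8394, 10663, 340, -7]⟩)))))) (.node 11 (.node 5 (.node 2 (.node 1 (.leaf ⟨8, 13, true, [16, 12, 7, 16, 2, 15, 7, 2], [7, 7, 5, 8, 14, 18, 15], [-207, -1219, 407, 102, -13]⟩) (.leaf ⟨13, 8, true, [10, 8, 0, 15, 12, 15, 7, 2], [16, 9, 4, 16, 18, 7, 9, 0], [205, 1280, -331, -99, 12]⟩)) (.node 1 (.leaf ⟨9, 13, true, [8, 10, 3, 4, 17, 11, 5, 3], [18, 11, 9, 15, 8, 12, 3, 4], [-6457, 54853, 69387, 2412, -116]⟩) (.node 1 (.leaf ⟨13, 9, true, [4, 2, 9, 7, 14, 7, 18, 0], [16, 14, 7, 16, 4, 9, 19, 2], [5453, -44339,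 -57928, -2121, 181]⟩) (.leaf ⟨8, 13, true, [0, 4, 12, 19, 6, 17, 12, 3], [10, 5, 16, 11, 16, 3, 4, 2], [581, -7218, -7084, -123, -89]⟩)))) (.node 3 (.node 1 (.leaf ⟨13, 8, true, [11, 5, 15, 7, 16, 10, 15, 2], [6, 2, 8, 19, 11, 16, 10, 0], [-1586, 17793, 18619, 417, 153]⟩) (.node 1 (.leaf ⟨13, 13, true, [17, 9, 15, 7, 16, 10, 18, 3], [17, 4, 18, 15, 8, 17, 14, 2], [-812, 8409, 9353, 242, 42]⟩) (.leaf ⟨8, 13, true, [12, 4, 9, 14, 19, 10, 8, 0], [12, 17, 7, 9, 18, 7, 8, 16], [401, -2617, -3305, -171, 49]⟩))) (.node 1 (.leaf ⟨13, 8, true, [16, 5, 8, 19, 17, 11, 17], [2, 12, 0, 17, 15, 8, 5, 13], [-403, 2678, 3381, 174, -50]⟩) (.node 1 (.leaf ⟨8, 13, true, [3, 17, 6, 10, 4, 19, 5, 0], [6, 6, 19, 6, 3, 14, 0], [384, -4436, -4684, -85, -40]⟩) (.leaf ⟨13, 8, true, [16, 8, 4, 18, 0, 17, 13], [0, 4, 18, 5,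 11, 7, 16, 2], [-1387, 14889, 16067, 373, 106]⟩))))) (.node 6 (.node 3 (.node 1 (.leaf ⟨8, 13, true, [19, 6, 15, 8, 2, 12, 4], [5, 9, 12, 0, 11, 7, 3], [-184, 789, 2288, 111, -20]⟩) (.node 1 (.leaf ⟨13, 8, true, [14, 4, 11, 12, 7, 2, 11, 0], [5, 13, 7, 0, 14, 7, 18], [182, -728, -2212, -108, 19]⟩) (.leaf ⟨13, 13, true, [8, 15, 0, 11, 3, 6, 14, 13], [7, 0, 4, 7, 8, 6, 11, 0], [-4575, 40212, 49432, 1641, -7]⟩))) (.node 1 (.leaf ⟨13, 13, true, [10, 16, 14, 19, 17, 15, 7], [18, 8, 14, 18, 9, 11, 9, 2], [3572, -29759, -38049, -1353, 73]⟩) (.node 1 (.leaf ⟨8, 13, true, [11, 13, 2, 17, 18, 17, 5, 13], [9, 7, 14, 7, 15, 9, 11], [-2022, 18724, 22611, 713, 11]⟩) (.leaf ⟨13, 8, true, [16, 14, 18, 15, 16, 7, 10, 3], [12, 4, 17, 12, 8, 11, 17, 2], [1018, -8210, -11152, -422, 54]⟩)))) (.node 3 (.node 1 (.leaf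 ⟨8, 13, true, [16, 7, 9, 4, 15, 16, 4], [4, 10, 14, 16, 7, 10], [2971, -30439, -33023, -844, -210]⟩) (.node 1 (.leaf ⟨8, 13, true, [16, 4, 3, 12, 16, 6, 6, 10], [11, 16, 4, 13, 19, 7, 12, 19], [2046, -22076, -24574, -602, -124]⟩) (.leaf ⟨13, 8, true, [11, 3, 17, 7, 15, 12, 4, 2], [6, 15, 0, 17, 12, 5, 13, 10], [-3049, 32529, 35957, 890, 190]⟩))) (.node 1 (.leaf ⟨13, 13, true, [17, 5, 0, 5, 17, 5, 16, 6], [6, 14, 16, 9, 11, 16, 12, 2], [-1112, 11720, 12586, 317, 69]⟩) (.node 1 (.leaf ⟨8, 13, true, [14, 5, 15, 19, 4, 8, 5], [17, 9, 4, 11, 18, 15, 18], [-705, 7002, 8142, 248, 2]⟩) (.leaf ⟨13, 8, true, [12, 2, 19, 7, 13, 8, 12, 3], [4, 9, 5, 18, 14, 4, 15], [-300, 3573, 3393, 46, 62]⟩)))))))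
noncomputable def dF2209 : BT Fct := (.node 22 (.node 11 (.node 5 (.node 2 (.node 1 (.leaf ⟨13, 8, true, [9, 13, 18, 0, 4, 8], [5, 7, 9, 17, 14, 18, 3], [-9017, 87943, 101590, 2897, 312]⟩) (.leaf ⟨13, 13, true, [17, 11, 0, 19, 14, 12, 2, 17], [6, 11, 5, 19, 15, 19, 15, 18], [-2650, 24730, 29277, 876, 55]⟩)) (.node 1 (.leaf ⟨8, 13, true, [12, 8, 0, 14, 8, 16, 9, 4], [12, 10, 14, 7, 0, 7, 7], [-3574, 35386, 39874, 1122, 133]⟩) (.node 1 (.leaf ⟨13, 8, true, [12, 2, 4, 19, 8, 5, 19], [5, 8, 17, 9, 15, 18, 10, 0], [3572, -35325, -39798, -1119, -134]⟩) (.leaf ⟨13, 13, true, [15, 8, 17, 6, 11, 7, 10], [6, 12, 15, 17, 10, 9, 4], [1444, -6665, -15689, -840, 252]⟩)))) (.node 3 (.node 1 (.leaf ⟨8, 13, true, [8, 7, 11, 12, 10, 15, 5, 0], [4, 6, 3, 17, 10, 17, 8, 5], [209, -1516, -2246, -83, 1]⟩) (.node 1 (.leaf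 ⟨13, 8, true, [12, 3, 8, 7, 19, 5, 11, 3], [13, 8, 0, 10, 7, 8, 14, 3], [-1212, 11969, 13629, 371, 65]⟩) (.leaf ⟨8, 13, true, [0, 11, 16, 6, 19, 12], [5, 16, 7, 14, 16, 2, 13], [1643, -12684, -16742, -615, 40]⟩))) (.node 1 (.leaf ⟨13, 8, true, [17, 4, 18, 15, 16, 11, 0], [13, 18, 7, 17, 10, 0], [-2647, 23198, 28201, 906, 25]⟩) (.node 1 (.leaf ⟨8, 13, true, [12, 10, 6, 14, 0, 14, 8, 4], [10, 0, 9, 5, 16, 9, 7], [6346, -65421, -72749, -1853, -393]⟩) (.leaf ⟨13, 8, true, [19, 6, 14, 4, 18, 4, 10, 2], [6, 2, 10, 15, 11, 17, 10, 2], [-7351, 75996, 84284, 2147, 457]⟩))))) (.node 5 (.node 2 (.node 1 (.leaf ⟨13, 13, true, [14, 8, 17, 10, 16, 3, 14, 2], [13, 9, 2, 15, 5, 13, 6, 18], [-843, 9152, 9665, 235, 65]⟩) (.leaf ⟨13, 13, true, [10, 4, 11, 19, 14, 19, 6, 0], [18, 15, 18, 13, 2, 6, 10], [848, -10803,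 -11382, -227, -32]⟩)) (.node 1 (.leaf ⟨13, 13, true, [19, 11, 16, 10, 8, 12, 15], [4, 3, 0, 9, 7, 17, 12, 15], [-850, 10864, 11458, 230, 31]⟩) (.node 1 (.leaf ⟨8, 13, true, [6, 8, 10, 5, 3, 17, 4], [16, 7, 8, 15, 12, 18, 6, 0], [613, -5473, -6613, -217, 3]⟩) (.leaf ⟨13, 13, true, [18, 14, 10, 13, 18, 15, 6, 3], [19, 12, 19, 8, 10, 16, 9, 3], [-5317, 54008, 60044, 1534, 334]⟩)))) (.node 3 (.node 1 (.leaf ⟨13, 13, true, [11, 16, 2, 17, 15, 8, 7, 5], [9, 6, 9, 12, 11, 13, 4, 0], [4313, -43494, -48585, -1243, -269]⟩) (.node 1 (.leaf ⟨13, 8, true, [15, 11, 6, 10, 12, 0], [17, 18, 10, 12, 5, 12, 0], [-5245, 46255, 57531, 1868, -20]⟩) (.leaf ⟨8, 13, true, [18, 8, 17, 6, 16, 10, 18], [0, 13, 11, 7, 10, 14], [5298, -46693, -58087, -1887, 20]⟩))) (.node 1 (.leaf ⟨13, 8, true, [18, 6, 15, 7, 13, 15, 0], [12,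 5, 16, 8, 5, 17, 0, 3], [-1180, 14096, 13977, 269, 145]⟩) (.node 1 (.leaf ⟨13, 8, true, [19, 5, 0, 4, 19, 16, 18, 0], [9, 17, 18, 14, 10, 19, 10, 0], [-1103, 11956, 12588, 300, 93]⟩) (.leaf ⟨13, 13, true, [17, 6, 14, 0, 16, 19, 17], [13, 0, 17, 4, 14, 2, 17], [5389, -47308, -58991, -1924, 24]⟩)))))) (.node 11 (.node 5 (.node 2 (.node 1 (.leaf ⟨13, 8, true, [15, 12, 7, 9, 19, 13, 4], [12, 19, 8, 7, 12, 15, 11], [-746, 7586, 8537, 232, 45]⟩) (.leaf ⟨8, 13, true, [6, 0, 5, 9, 5, 6, 18, 9], [5, 12, 18, 8, 6, 13, 14], [691, -7148, -7981, -213, -45]⟩)) (.node 1 (.leaf ⟨13, 13, true, [11, 7, 18, 17, 7, 9, 10], [13, 3, 5, 13, 11, 9, 14, 13], [-1770, 20254, 21442, 493, 98]⟩) (.node 1 (.leaf ⟨13, 12, true, [17, 9, 5, 18, 14, 11, 8, 12], [19, 2, 15, 18, 11, 2, 18], [-613, 7207, 6996, 124, 88]⟩) (.leaf ⟨12,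 13, true, [8, 2, 13, 17, 6, 15, 18], [10, 18, 0, 16, 18, 17, 10, 18], [111, -1975, -1300, 20, -55]⟩)))) (.node 3 (.node 1 (.leaf ⟨13, 13, true, [11, 16, 10, 5, 9, 3, 4], [12, 16, 0, 6, 17, 13, 11, 8], [-216, 739, 1534, 101, -19]⟩) (.node 1 (.leaf ⟨13, 13, true, [12, 7, 12, 10, 18, 14, 7, 2], [9, 6, 18, 13, 11, 12, 0], [214, -678, -1458, -98, 18]⟩) (.leaf ⟨13, 9, true, [4, 11, 17, 18, 7, 13, 9, 2], [7, 12, 0, 14, 18, 10, 12, 16], [3110, -23865, -32321, -1228, 145]⟩))) (.node 1 (.leaf ⟨9, 13, true, [2, 15, 17, 4, 8, 7, 13], [19, 4, 0, 7, 19, 13, 3, 8], [-5159, 40819, 55160, 2064, -222]⟩) (.node 1 (.leaf ⟨13, 8, true, [11, 6, 4, 18, 6, 15, 3, 0], [8, 0, 19, 15, 5, 10, 15], [-2227, 23035, 25617, 669, 130]⟩) (.leaf ⟨8, 13, true, [8, 16, 6, 3, 17, 7, 0], [0, 13, 16, 6, 13, 10, 15, 3], [2280, -23473, -26173,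 -688, -130]⟩))))) (.node 6 (.node 3 (.node 1 (.leaf ⟨8, 13, true, [18, 9, 6, 19, 7, 8, 6, 0], [19, 14, 6, 17, 4, 0], [-107, 5251, 2473, -153, 147]⟩) (.node 1 (.leaf ⟨13, 8, true, [18, 11, 15, 3, 19, 15, 8, 2], [4, 18, 9, 6, 14, 4, 14, 3], [-897, 5263, 8986, 444, -82]⟩) (.leaf ⟨13, 12, true, [14, 18, 14, 17, 11, 6, 4], [7, 7, 3, 4, 15, 2, 6, 18], [4193, -32672, -44979, -1733, 202]⟩))) (.node 1 (.leaf ⟨13, 8, true, [9, 4, 19, 10, 3, 7, 10], [11, 18, 10, 14, 9, 5, 0], [407, -1873, -3911, -227, 91]⟩) (.node 1 (.leaf ⟨13, 8, true, [14, 7, 2, 18, 6, 18, 16, 4], [7, 18, 11, 15, 18, 2, 14], [1007, -10202, -13705, -485, 73]⟩) (.leaf ⟨8, 13, true, [10, 14, 5, 19, 4, 8, 4, 3], [5, 13, 3, 5, 7, 12, 6, 15], [-1062, 10640, 14261, 504, -73]⟩)))) (.node 3 (.node 1 (.leaf ⟨8, 13, true, [2, 13, 7, 16, 7, 16, 13,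 0], [15, 0, 17, 15, 13, 6, 9, 4], [8742, -83157, -97815, -2910, -208]⟩) (.node 1 (.leaf ⟨13, 8, true, [3, 18, 6, 9, 18, 11, 2], [0, 12, 17, 6, 17, 6, 12, 3], [-8744, 83218, 97891, 2913, 207]⟩) (.leaf ⟨13, 13, true, [16, 9, 17, 18, 17, 5, 16, 3], [18, 9, 17, 6, 15, 12, 8], [-1248, 11768, 13760, 414, 44]⟩))) (.node 1 (.leaf ⟨13, 8, true, [5, 6, 18, 7, 11, 12, 16, 0], [10, 18, 14, 6, 5, 8, 13], [-1376, 13640, 13102, 281, 183]⟩) (.node 1 (.leaf ⟨13, 4, true, [18, 5, 12, 17, 0, 9, 6], [5, 0, 18, 10, 12, 11, 16], [-973, 11153, 11438, 254, 72]⟩) (.leaf ⟨4, 13, true, [9, 10, 13, 19, 16, 6], [7, 8, 0, 16, 13, 4, 19], [970, -11091, -11393, -255, -71]⟩)))))))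
noncomputable def dF2254 : BT Fct := (.node 22 (.node 11 (.node 5 (.node 2 (.node 1 (.leaf ⟨13, 8, true, [10, 3, 6, 10, 16, 4, 10, 3], [14, 11, 3, 9, 14, 13, 7, 17], [516, -6009, -5756, -127, -55]⟩) (.leaf ⟨8, 13, true, [10, 16, 0, 18, 14, 3, 7, 19], [7, 16, 2, 14, 17, 6, 4, 6], [-463, 5571, 5200, 108, 55]⟩)) (.node 1 (.leaf ⟨8, 13, true, [3, 7, 10, 6, 4], [19, 0, 13, 4, 6, 9, 15], [2394, -21205, -25757, -856, -19]⟩) (.node 1 (.leaf ⟨13, 8, true, [15, 18, 4, 15, 9, 14, 19, 3], [5, 7, 11, 6, 2], [-3397, 31658, 37140, 1144, 85]⟩) (.leaf ⟨13, 12, true, [10, 6, 10, 2, 10, 8, 14], [17, 18, 6, 5, 19, 15, 18, 0], [1163, -8791, -11940, -440, 25]⟩)))) (.node 3 (.node 1 (.leaf ⟨12, 13, true, [4, 0, 5, 16, 9, 14, 5], [15, 9, 11, 5, 3, 7, 11], [-661, 3441, 6115, 295, -59]⟩) (.node 1 (.leaf ⟨13, 8, true, [14,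 4, 11, 9, 12, 19, 11], [18, 17, 18, 4, 17, 3, 4], [-1142, 11062, 12899, 387, 39]⟩) (.leaf ⟨8, 13, true, [4, 7, 15, 4, 11, 14, 8, 0], [10, 18, 13, 8, 10, 13, 5], [1195, -11500, -13455, -406, -39]⟩))) (.node 1 (.leaf ⟨13, 8, true, [10, 17, 12, 17, 0, 18, 9], [0, 15, 8, 4, 18, 18, 11, 0], [-489, 5371, 6201, 159, 8]⟩) (.node 1 (.leaf ⟨8, 13, true, [7, 14, 2, 12, 9, 7, 15], [8, 19, 0, 16, 13, 16, 11], [542, -5809, -6757, -178, -8]⟩) (.leaf ⟨13, 8, true, [11, 18, 7, 19, 6, 14, 13], [13, 5, 9, 5, 18, 4, 18, 11], [508, -5320, -6229, -168, -6]⟩))))) (.node 5 (.node 2 (.node 1 (.leaf ⟨8, 13, true, [16, 3, 10, 18, 5, 17, 8, 2], [12, 15, 7, 18, 6, 19, 10], [-563, 5758, 6785, 187, 6]⟩) (.leaf ⟨9, 13, true, [13, 14, 0, 15, 3, 7, 10, 13], [15, 9, 14, 4, 17, 3, 16, 0], [-3914, 35938, 43182, 1367, 12]⟩)) (.node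 1 (.leaf ⟨13, 9, true, [17, 14, 7, 18, 15, 13, 4], [16, 3, 15, 18, 9, 4, 18, 2], [2911, -25485, -31799, -1079, 54]⟩) (.node 1 (.leaf ⟨13, 13, true, [8, 10, 2, 19, 15, 4, 15, 9], [8, 7, 3, 17, 8, 17, 15, 13], [3429, -28273, -38172, -1417, 134]⟩) (.leaf ⟨13, 13, true, [3, 17, 8, 10, 15, 11, 5], [8, 14, 12, 5, 18, 5, 7, 0], [-4432, 38726, 49555, 1705, -68]⟩)))) (.node 3 (.node 1 (.leaf ⟨13, 13, true, [10, 0, 14, 8, 15, 4, 9, 4], [8, 14, 0, 9, 19, 15, 9, 13], [-6549, 59419, 72780, 2328, -25]⟩) (.node 1 (.leaf ⟨13, 8, true, [18, 11, 19, 10, 6, 4, 18, 3], [0, 13, 11, 12, 11, 17, 9, 0], [-355, 2672, 4405, 175, -29]⟩) (.leaf ⟨8, 13, true, [13, 8, 15, 0, 9, 6, 10, 2], [10, 14, 3, 5, 9, 19, 14, 6], [300, -2234, -3849, -156, 29]⟩))) (.node 1 (.leaf ⟨13, 8, true, [8, 7, 14, 4, 11, 12, 19], [6, 13, 9, 10, 0,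 15, 18, 17], [-578, 3248, 7156, 416, -132]⟩) (.node 1 (.leaf ⟨13, 6, true, [16, 4, 15, 11, 2, 16, 13], [10, 9, 6, 16, 5, 17, 11, 3], [-1104, 11506, 12559, 317, 68]⟩) (.leaf ⟨6, 13, true, [11, 19, 4, 12, 10, 7, 12, 6], [12, 17, 4, 3, 14, 5, 17], [1106, -11621, -12665, -320, -68]⟩)))))) (.node 11 (.node 5 (.node 2 (.node 1 (.leaf ⟨12, 13, true, [18, 2, 6, 15, 13, 19, 0, 11], [10, 5, 9, 14, 19, 17, 7, 4], [2947, -33392, -34288, -729, -297]⟩) (.leaf ⟨13, 12, true, [11, 2, 8, 0, 19, 0, 19], [12, 5, 8, 6, 5, 19, 7, 11], [-3952, 43967, 45823, 1023, 361]⟩)) (.node 1 (.leaf ⟨13, 13, true, [2, 5, 9, 6, 19, 14, 2], [10, 2, 18, 5, 13, 14, 19], [-827, 13725, 11488, 47, 219]⟩) (.node 1 (.leaf ⟨13, 13, true, [6, 11, 19, 8, 4, 7], [17, 4, 8, 14, 10, 0, 19, 0], [-388, 5435, 4401, 28, 106]⟩) (.leaf ⟨13, 13, true,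 [5, 0, 14, 6, 18, 5, 9], [16, 6, 12, 16, 10, 0, 5, 18], [1574, -15974, -17420, -458, -77]⟩)))) (.node 3 (.node 1 (.leaf ⟨13, 13, true, [6, 19, 0, 16, 9, 17], [8, 4, 19, 7, 15, 0, 4], [-2577, 26427, 28803, 746, 143]⟩) (.node 1 (.leaf ⟨9, 13, true, [4, 11, 5, 13, 6, 19], [4, 18, 4, 11, 12, 3, 8], [1341, -13912, -16303, -427, -22]⟩) (.leaf ⟨13, 9, true, [0, 5, 8, 16, 11, 5, 16, 2], [18, 7, 12, 4, 10, 5], [-2345, 24426, 27762, 718, 87]⟩))) (.node 1 (.leaf ⟨13, 8, true, [0, 5, 19, 6, 15, 16], [2, 13, 4, 19, 4, 15, 3], [-695, 8178, 8175, 147, 78]⟩) (.node 1 (.leaf ⟨8, 13, true, [15, 0, 10, 6, 15, 0, 15, 3], [17, 14, 7, 18, 4, 0], [640, -7740, -7619, -128, -78]⟩) (.leaf ⟨13, 11, true, [16, 0, 7, 9, 14, 11, 3, 4], [15, 19, 6, 12, 15, 11], [-1275, 12679, 14262, 398, 59]⟩))))) (.node 6 (.node 3 (.node 1 (.leaf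 ⟨13, 8, true, [15, 8, 17, 6, 17], [12, 6, 17, 18, 2, 12, 4], [-603, 7332, 7895, 146, 41]⟩) (.node 1 (.leaf ⟨8, 13, true, [12, 10, 12, 8, 10, 17, 11, 0], [16, 7, 16, 9, 14], [548, -6894, -7339, -127, -41]⟩) (.leaf ⟨13, 9, true, [10, 12, 18, 4, 7, 10, 14], [10, 13, 10, 16, 2, 6, 10, 3], [4285, -32896, -44998, -1707, 165]⟩))) (.node 1 (.leaf ⟨9, 13, true, [15, 7, 4, 9, 6, 14, 18], [15, 11, 6, 5, 19, 13, 11], [-3883, 29890, 40208, 1516, -137]⟩) (.node 1 (.leaf ⟨13, 13, true, [19, 0, 16, 6, 15, 19, 16], [9, 11, 0, 11, 16, 7, 9, 2], [-1606, 18832, 19541, 431, 100]⟩) (.leaf ⟨13, 9, true, [5, 19, 7, 5, 3, 7, 13, 18], [5, 16, 11, 5, 12, 2, 14, 2], [879, -5017, -8897, -450, 137]⟩)))) (.node 3 (.node 1 (.leaf ⟨9, 13, true, [0, 16, 11, 16, 4, 19, 9], [15, 2, 6, 15, 9, 15, 5, 6], [-878, 4963, 8855, 451, -138]⟩)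 (.node 1 (.leaf ⟨13, 8, true, [18, 3, 4, 11, 7, 14, 7, 3], [17, 0, 14, 6, 16, 8, 19, 3], [3060, -25023, -30534, -1126, 92]⟩) (.leaf ⟨8, 13, true, [12, 5, 13, 10, 14, 5, 19, 0], [17, 2, 13, 15, 11, 6, 16, 2], [-3007, 24585, 29978, 1107, -92]⟩))) (.node 1 (.leaf ⟨13, 8, true, [19, 12, 15, 16, 6, 19, 17], [12, 8, 5, 19, 8, 5, 8, 4], [-207, 4391, 2538, -63, 152]⟩) (.node 1 (.leaf ⟨13, 12, true, [11, 5, 19, 13, 4, 19, 10, 4], [15, 17, 2, 9, 15, 16, 8, 6], [-4570, 36511, 48923, 1839, -161]⟩) (.leaf ⟨12, 13, true, [5, 7, 9, 2, 12, 14, 0], [15, 6, 3, 19, 2, 15, 16, 9], [5573, -47093, -60444, -2128, 94]⟩)))))))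
noncomputable def dF2299 : BT Fct := (.node 22 (.node 11 (.node 5 (.node 2 (.node 1 (.leaf ⟨13, 13, true, [0, 18, 7, 17, 14, 4, 16, 3], [2, 12, 7, 19, 5, 6, 9], [-3996, 34325, 44008, 1529, -64]⟩) (.leaf ⟨13, 13, true, [4, 15, 9, 11, 2, 16, 6, 3], [9, 5, 8, 6, 16, 2, 17, 0], [2993, -23872, -32625, -1241, 130]⟩)) (.node 1 (.leaf ⟨8, 13, true, [15, 4, 14, 16, 4, 17, 6, 4], [14, 19, 7, 8, 6, 15, 8, 4], [-5937, 45957, 61147, 2297, -193]⟩) (.node 1 (.leaf ⟨13, 8, true, [6, 0, 16, 5, 17, 10, 3], [2, 10, 17, 4, 8, 15, 17, 3], [4933, -35443, -49688, -2006, 258]⟩) (.leaf ⟨13, 13, true, [8, 4, 19, 14, 9, 15, 3], [13, 6, 17, 0, 17, 9, 15, 3], [-2280, 21893, 28017, 846, 44]⟩)))) (.node 3 (.node 1 (.leaf ⟨8, 13, true, [17, 11, 0, 19, 13, 6, 10, 2], [3, 6, 16, 8, 12, 8, 7, 0], [-4618, 39049, 51563, 1888, -203]⟩)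 (.node 1 (.leaf ⟨8, 13, true, [5, 13, 8, 7, 0, 12, 17], [17, 7, 14, 3, 18, 5, 7], [-5012, 43191, 52410, 1825, -87]⟩) (.leaf ⟨13, 8, true, [8, 16, 13, 19, 8, 7, 8], [19, 2, 19, 13, 2, 12, 4], [4008, -32677, -40951, -1534, 152]⟩))) (.node 1 (.leaf ⟨11, 13, true, [3, 0, 10, 18, 10, 9, 16, 0], [10, 12, 0, 17, 18, 0, 14], [-3363, 28987, 37205, 1378, -139]⟩) (.node 1 (.leaf ⟨13, 11, true, [12, 18, 6, 9, 4, 19, 10, 4], [15, 3, 17, 13, 19, 15, 10, 3], [2360, -18534, -25822, -1090, 205]⟩) (.leaf ⟨13, 13, true, [12, 3, 5, 9, 6, 8, 16, 3], [14, 9, 7, 13, 3, 16, 3], [-3185, 27519, 36326, 1297, -84]⟩))))) (.node 5 (.node 2 (.node 1 (.leaf ⟨9, 13, true, [17, 18, 5, 9, 16, 7, 8], [6, 8, 10, 9, 12, 7, 2], [-3671, 33646, 42739, 1446, -12]⟩) (.leaf ⟨13, 9, true, [19, 17, 13, 3, 19, 10, 12], [9, 6, 17, 8, 4, 19, 16],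 [2666, -23071, -31204, -1152, 76]⟩)) (.node 1 (.leaf ⟨13, 13, true, [13, 10, 12, 3, 17, 10, 0, 4], [10, 18, 0, 9, 5, 17, 2], [-1914, 21387, 21938, 504, 182]⟩) (.node 1 (.leaf ⟨13, 13, true, [6, 18, 7, 3, 14, 11, 13, 16], [15, 19, 4, 17, 11, 18, 9, 14], [910, -10873, -10479, -213, -117]⟩) (.leaf ⟨12, 13, true, [8, 13, 15, 4, 19, 2], [10, 7, 7, 16, 19, 4, 14], [-635, 5103, 6910, 269, -21]⟩)))) (.node 3 (.node 1 (.leaf ⟨13, 12, true, [10, 12, 6, 10, 13, 0, 11, 7], [3, 18, 12, 5, 12, 9], [-368, 5350, 4473, 19, 87]⟩) (.node 1 (.leaf ⟨8, 13, true, [13, 8, 17, 4, 6, 2, 11], [15, 3, 5, 11, 7, 16, 12, 3], [571, -4965, -5980, -173, -21]⟩) (.leaf ⟨13, 8, true, [4, 15, 9, 0, 17, 8, 4, 3], [10, 3, 7, 5, 16, 9, 12], [-1575, 15479, 17439, 464, 86]⟩))) (.node 1 (.leaf ⟨9, 13, true, [4, 7, 4, 17, 14, 18, 7, 13],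 [10, 8, 6, 8, 19, 15, 2], [-5451, 45218, 59339, 2064, -112]⟩) (.node 1 (.leaf ⟨9, 13, true, [12, 11, 4, 10, 15, 19, 7, 0], [2, 18, 18, 7, 9, 12, 15, 2], [-4633, 36334, 51529, 1946, -209]⟩) (.leaf ⟨13, 9, true, [12, 6, 8, 4, 18, 11, 2], [5, 18, 13, 11, 13, 6, 9, 2], [4631, -36273, -51453, -1943, 208]⟩)))))) (.node 11 (.node 5 (.node 2 (.node 1 (.leaf ⟨12, 13, true, [7, 10, 6, 16, 7, 9, 17, 3], [12, 15, 5, 12, 15, 18, 7], [-2234, 25504, 27454, 623, 180]⟩) (.leaf ⟨13, 12, true, [14, 17, 18, 10, 12, 14, 11, 0], [2, 16, 8, 6, 17, 7, 11, 6], [1230, -14990, -15995, -332, -115]⟩)) (.node 1 (.leaf ⟨13, 13, true, [19, 14, 11, 17, 11, 13, 8], [18, 3, 16, 7, 17, 0], [-365, 5868, 5940, 69, 69]⟩) (.node 1 (.leaf ⟨8, 13, true, [19, 7, 11, 7, 14, 8, 0, 2], [0, 17, 5, 10, 14, 2, 17], [-1080, 8458, 13248, 519, -85]⟩)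 (.leaf ⟨8, 13, true, [19, 5, 16, 0, 9, 15, 6, 2], [0, 12, 11, 5, 13, 11, 13, 3], [880, -9399, -10211, -288, -12]⟩)))) (.node 3 (.node 1 (.leaf ⟨11, 13, true, [18, 9, 4, 8, 10, 16, 4, 3], [7, 15, 0, 8, 12, 7, 16, 15], [-6995, 57545, 74808, 2628, -123]⟩) (.node 1 (.leaf ⟨12, 13, true, [16, 11, 0, 13, 11, 17, 7, 4], [16, 14, 9, 19, 6, 12, 17], [-1056, 6185, 11666, 546, -118]⟩) (.leaf ⟨13, 12, true, [17, 9, 5, 9, 14, 18, 14, 0], [16, 3, 11, 7, 14, 17, 11, 3], [1054, -6124, -11590, -543, 117]⟩))) (.node 1 (.leaf ⟨8, 13, true, [10, 8, 4, 18, 4, 19], [10, 16, 2, 19, 12, 4, 19], [-1149, 8332, 13540, 563, -85]⟩) (.node 1 (.leaf ⟨13, 8, true, [9, 0, 9, 6, 5, 13, 14, 2], [18, 5, 19, 5, 9, 11], [1147, -8271, -13464, -560, 84]⟩) (.leaf ⟨13, 13, true, [16, 13, 4, 14, 18, 14, 19, 5], [17, 18, 11, 0, 15, 7, 14,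 12], [-1624, 16261, 19263, 534, 97]⟩))))) (.node 6 (.node 3 (.node 1 (.leaf ⟨13, 13, true, [7, 12, 4, 7, 17, 10, 3, 7], [11, 17, 5, 7, 18, 15, 7, 10], [1622, -16200, -19187, -531, -98]⟩) (.node 1 (.leaf ⟨13, 13, true, [19, 8, 4, 17, 5, 9, 0], [14, 19, 15, 18, 10, 12, 18], [2197, -17482, -22591, -842, 99]⟩) (.leaf ⟨13, 13, true, [9, 6, 9, 16, 18, 3, 7], [6, 3, 4, 16, 5, 9, 18], [-2199, 17543, 22667, 845, -100]⟩))) (.node 1 (.leaf ⟨9, 13, true, [12, 5, 10, 17, 14, 13, 19], [10, 2, 15, 8, 12, 16, 5], [-3294, 25049, 35755, 1388, -181]⟩) (.node 1 (.leaf ⟨13, 9, true, [7, 11, 18, 18, 11, 15, 7, 3], [18, 12, 15, 16, 11, 15, 4], [3292, -24988, -35679, -1385, 180]⟩) (.leaf ⟨13, 8, true, [6, 5, 6, 18, 5, 18, 4], [5, 16, 18, 4, 0, 13, 7, 0], [4749, -42965, -53527, -1786, -4]⟩)))) (.node 3 (.node 1 (.leaf ⟨8,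 13, true, [17, 0, 6, 15, 16, 18, 6], [5, 19, 4, 19, 7, 4, 7], [-4804, 43403, 54083, 1805, 4]⟩) (.node 1 (.leaf ⟨9, 13, true, [3, 15, 12, 14, 18, 4, 7, 4], [6, 11, 19, 7, 13, 16, 6, 0], [4294, -35480, -45444, -1634, 108]⟩) (.leaf ⟨8, 13, true, [4, 11, 17, 0, 16, 8, 15], [18, 6, 9, 14, 16, 6], [-985, 6053, 11245, 559, -158]⟩))) (.node 1 (.leaf ⟨13, 8, true, [5, 6, 16, 8, 12, 7, 11, 0], [14, 9, 17, 0, 16, 10, 5], [-20, 4522, 290, -265, 222]⟩) (.node 1 (.leaf ⟨9, 13, true, [10, 15, 0, 10, 4, 8, 0, 2], [19, 14, 9, 11, 17, 6, 15, 3], [-1883, 15137, 20850, 836, -135]⟩) (.leaf ⟨13, 9, true, [15, 19, 5, 11, 7, 13, 10], [12, 6, 9, 12, 7, 18, 5, 3], [878, -4562, -9315, -542, 199]⟩)))))))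
noncomputable def dF2344 : BT Fct := (.node 22 (.node 11 (.node 5 (.node 2 (.node 1 (.leaf ⟨13, 9, true, [4, 17, 4, 18, 14, 10, 5, 8], [5, 6, 18, 3, 7, 15, 18], [-217, 4567, 2088, -116, 145]⟩) (.leaf ⟨9, 13, true, [13, 4, 3, 13, 9, 6, 18, 8], [19, 4, 10, 13, 16, 7, 8, 3], [1933, -19068, -20860, -553, -96]⟩)) (.node 1 (.leaf ⟨13, 8, true, [11, 14, 13, 14, 19, 14, 8], [3, 17, 11, 13, 11, 15], [-2237, 22821, 23008, 566, 174]⟩) (.node 1 (.leaf ⟨13, 12, true, [11, 0, 10, 16, 10, 6, 15], [19, 16, 0, 3, 18, 7, 16, 13], [-894, 9431, 9239, 205, 92]⟩) (.leaf ⟨12, 13, true, [15, 0, 8, 7, 3, 5, 19, 0], [19, 0, 12, 7, 9, 16, 19], [2398, -25245, -26456, -638, -192]⟩)))) (.node 3 (.node 1 (.leaf ⟨13, 13, true, [8, 12, 4, 17, 14, 19, 6, 18, 0], [16, 6, 18, 0, 16, 13, 11, 3], [-1761, 18197, 19524, 492, 113]⟩) (.node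 1 (.leaf ⟨8, 13, true, [15, 9, 5, 19, 5, 10, 12], [7, 7, 16, 10, 0, 5, 19, 0], [1094, -10826, -14193, -444, -29]⟩) (.leaf ⟨13, 8, true, [12, 18, 5, 17, 7, 18, 2], [13, 11, 4, 18, 4, 8, 14], [-2099, 21401, 25728, 738, 93]⟩))) (.node 1 (.leaf ⟨13, 13, true, [9, 0, 12, 15, 8, 4], [10, 13, 8, 11, 7, 7, 14], [2819, -21870, -30956, -1230, 193]⟩) (.node 1 (.leaf ⟨13, 13, true, [14, 6, 18, 6, 15, 4, 16, 0], [5, 9, 14, 13, 6, 3], [-3823, 32384, 42415, 1521, -128]⟩) (.leaf ⟨13, 10, true, [6, 4, 12, 16, 5, 17, 12], [9, 5, 8, 14, 11, 0, 9, 5], [-1368, 14481, 13914, 284, 134]⟩))))) (.node 5 (.node 2 (.node 1 (.leaf ⟨10, 13, true, [18, 8, 10, 18, 4, 16, 9, 4], [16, 11, 5, 17, 14, 13, 16], [1275, -14065, -13171, -255, -142]⟩) (.leaf ⟨13, 13, true, [8, 15, 8, 6, 19, 16, 10], [8, 6, 6, 16, 7, 3, 14, 13], [1512,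 -13373, -18678, -665, 68]⟩)) (.node 1 (.leaf ⟨13, 8, true, [10, 17, 10, 3, 6, 17, 7, 2], [12, 6, 18, 6, 6, 18, 9, 3], [117, 2320, -1871, -259, 155]⟩) (.node 1 (.leaf ⟨8, 13, true, [15, 19, 14, 12, 15, 7, 16, 0], [13, 3, 16, 8, 12, 14, 7, 4], [-172, -1882, 2427, 278, -155]⟩) (.leaf ⟨13, 13, true, [6, 16, 4, 7, 3, 7, 7, 15], [6, 18, 13, 8, 5, 13, 19], [-2386, 19050, 25800, 942, -104]⟩)))) (.node 3 (.node 1 (.leaf ⟨13, 13, true, [2, 14, 16, 4, 8, 15, 9, 4], [14, 2, 8, 16, 7, 17, 7, 3], [1383, -8597, -14417, -654, 170]⟩) (.node 1 (.leaf ⟨13, 9, true, [11, 19, 2, 6, 12, 15, 13, 19], [14, 9, 19, 12, 5, 17, 0], [-3346, 30746, 35190, 1049, 100]⟩) (.leaf ⟨9, 13, true, [6, 18, 11, 19, 14, 6, 13, 2], [7, 13, 4, 9, 18, 10, 6, 16], [1297, -13792, -12351, -213, -177]⟩))) (.node 1 (.leaf ⟨13, 9, true, [8, 0, 15,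 9, 17, 14, 16], [7, 18, 15, 7, 11, 6, 8], [-4191, 51120, 49681, 854, 569]⟩) (.node 1 (.leaf ⟨9, 13, true, [9, 5, 0, 9, 7, 19, 5, 17, 0], [17, 15, 16, 8, 14, 0, 9], [4521, -53573, -53748, -1021, -541]⟩) (.leaf ⟨13, 12, true, [8, 15, 8, 0, 19, 16, 5, 0], [19, 16, 0, 18, 3, 16, 6, 8], [-594, 6010, 5897, 131, 53]⟩)))))) (.node 11 (.node 5 (.node 2 (.node 1 (.leaf ⟨12, 13, true, [4, 15, 11, 5, 11, 12, 3], [18, 7, 9, 17, 7, 5, 13, 0], [1096, -11360, -11722, -276, -87]⟩) (.leaf ⟨13, 11, true, [18, 7, 11, 19, 7, 14, 13], [15, 4, 6, 17, 14, 5, 13, 0], [-5149, 52053, 56886, 1514, 268]⟩)) (.node 1 (.leaf ⟨11, 13, true, [9, 6, 12, 15, 4, 11, 12, 0], [12, 15, 6, 18, 10, 6, 19], [7141, -68029, -77635, -2228, -255]⟩) (.node 1 (.leaf ⟨13, 13, true, [10, 15, 11, 5, 6, 12], [9, 6, 17, 0, 18, 11, 13, 0], [-789, 7784,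 9449, 241, 53]⟩) (.leaf ⟨5, 13, true, [19, 4, 3, 5, 16, 9], [14, 10, 2, 16, 5, 2, 6, 15], [-799, 6875, 6762, 215, 61]⟩)))) (.node 3 (.node 1 (.leaf ⟨13, 5, true, [0, 7, 16, 13, 8, 14, 3], [8, 17, 4, 11, 2, 18], [-205, 3639, 4697, 76, 4]⟩) (.node 1 (.leaf ⟨13, 12, true, [8, 17, 6, 19, 2, 12], [13, 17, 14, 8, 6, 2, 0], [-999, 10370, 11049, 259, 80]⟩) (.leaf ⟨12, 13, true, [6, 17, 0, 7, 15, 11, 6, 4], [13, 3, 18, 7, 16, 9], [2002, -20952, -22570, -548, -147]⟩))) (.node 1 (.leaf ⟨13, 9, true, [14, 11, 9, 4, 7, 5, 19, 2], [3, 6, 10, 5, 19, 15, 0], [-4337, 40249, 45610, 1501, -57]⟩) (.node 1 (.leaf ⟨13, 13, true, [11, 6, 19, 11, 0, 16, 13], [6, 17, 12, 0, 9, 4], [3357, -28571, -36936, -1288, 77]⟩) (.leaf ⟨13, 9, true, [5, 7, 9, 14, 2, 12, 6, 13], [4, 3, 14, 17, 11, 6, 17], [-3520, 28943, 37110, 1300,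 -95]⟩))))) (.node 6 (.node 3 (.node 1 (.leaf ⟨13, 12, true, [4, 15, 0, 7, 19, 10, 16, 2], [13, 10, 8, 0, 14, 16, 12], [-1595, 16496, 19286, 469, 96]⟩) (.node 1 (.leaf ⟨12, 13, true, [11, 14, 18, 10, 6, 4, 6], [10, 19, 16, 10, 14, 8, 16, 2], [2099, -21964, -25240, -615, -131]⟩) (.leaf ⟨13, 9, true, [9, 10, 17, 9, 0, 19, 8], [13, 14, 4, 19, 15, 6, 6, 19], [-3162, 30021, 33278, 937, 161]⟩))) (.node 1 (.leaf ⟨9, 13, true, [6, 17, 14, 5, 16, 7], [8, 0, 4, 8, 16, 11, 8], [3564, -33027, -38068, -1128, -133]⟩) (.node 1 (.leaf ⟨13, 13, true, [11, 13, 16, 14, 9, 15, 2], [10, 6, 0, 19, 14, 8, 11], [-1221, 11729, 12799, 362, 83]⟩) (.leaf ⟨13, 13, true, [4, 15, 19, 10, 0, 18, 11], [8, 10, 7, 12, 16, 0, 3], [216, -1154, -1264, -68, -19]⟩)))) (.node 3 (.node 1 (.leaf ⟨13, 8, true, [7, 12, 4, 14, 6, 5, 3], [8,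 7, 8, 5, 9, 4, 3, 4], [3057, -25056, -35024, -1316, 161]⟩) (.node 1 (.leaf ⟨8, 13, true, [6, 14, 16, 3, 17, 14, 9], [10, 9, 12, 4, 14, 8, 2], [-3004, 24618, 34468, 1297, -161]⟩) (.leaf ⟨13, 13, true, [7, 3, 14, 16, 6, 18, 18, 2], [15, 9, 0, 17, 15, 11, 7, 7], [-7497, 68111, 82058, 2525, 119]⟩))) (.node 1 (.leaf ⟨13, 13, true, [6, 3, 16, 13, 11, 15, 7, 4], [0, 7, 15, 6, 13, 16, 13, 2], [6493, -57597, -70599, -2234, -54]⟩) (.node 1 (.leaf ⟨13, 8, true, [15, 13, 19, 11, 6, 2, 0], [5, 11, 3, 9, 10, 7, 15, 8], [-1334, 7710, 11814, 515, -108]⟩) (.leaf ⟨8, 13, true, [17, 7, 0, 15, 17, 15, 9, 11], [0, 3, 7, 10, 18, 12, 14], [1279, -7272, -11258, -496, 108]⟩)))))))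
noncomputable def dF2389 : BT Fct := (.node 22 (.node 11 (.node 5 (.node 2 (.node 1 (.leaf ⟨13, 9, true, [7, 18, 12, 7, 18, 7, 19, 5], [3, 8, 12, 4, 15, 12, 6, 2], [2379, -18608, -26638, -1006, 158]⟩) (.leaf ⟨9, 13, true, [0, 16, 9, 2, 17, 9, 0], [19, 17, 4, 15, 16, 19, 10, 15], [-2306, 18001, 25873, 983, -159]⟩)) (.node 1 (.leaf ⟨13, 9, true, [7, 14, 12, 10, 19, 6, 10, 3], [10, 8, 0, 17, 18, 13, 6, 11], [-3778, 32823, 40001, 1225, 73]⟩) (.node 1 (.leaf ⟨9, 13, true, [6, 3, 10, 19, 17, 7, 4, 3], [10, 17, 9, 5, 18, 12, 11, 0], [5566, -47877, -59496, -1918, -24]⟩) (.leaf ⟨13, 13, true, [8, 6, 3, 7, 13, 18, 13, 6], [12, 5, 16, 4, 15, 16, 12, 0], [-2103, 32286, 27509, 115, 599]⟩)))) (.node 3 (.node 1 (.leaf ⟨13, 8, true, [8, 6, 2, 12, 4, 19, 16, 18], [18, 2, 19, 5, 12, 9, 14, 3], [2423, -17557, -27505,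 -1155, 214]⟩) (.node 1 (.leaf ⟨13, 9, true, [18, 3, 19, 12, 16, 4, 19], [8, 6, 12, 6, 15, 12, 18, 0], [575, -4369, -7064, -295, 55]⟩) (.leaf ⟨9, 13, true, [9, 6, 0, 5, 11, 12, 6, 4], [18, 5, 17, 13, 9, 12, 8], [-173, 1363, 2274, 104, -27]⟩))) (.node 1 (.leaf ⟨13, 12, true, [5, 16, 7, 17, 7, 12], [6, 4, 7, 16, 14, 18, 12, 0], [327, -893, -5332, -336, 170]⟩) (.node 1 (.leaf ⟨12, 13, true, [5, 3, 19, 4, 11, 6, 17, 0], [13, 6, 16, 6, 17, 4], [-827, 6007, 10899, 479, -138]⟩) (.leaf ⟨12, 13, true, [4, 3, 8, 6, 15, 6, 5], [8, 5, 6, 13, 10, 18, 5, 2], [-378, 10897, 6468, -244, 302]⟩))))) (.node 5 (.node 2 (.node 1 (.leaf ⟨13, 12, true, [13, 18, 16, 7, 16, 10, 13, 2], [4, 7, 14, 7, 9, 11, 2], [-627, -322, 5067, 538, -238]⟩) (.leaf ⟨13, 8, true, [10, 9, 7, 14, 5, 9, 11, 2], [4, 0, 5, 19, 10, 7, 18, 6], [929,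 -7540, -11389, -433, 55]⟩)) (.node 1 (.leaf ⟨13, 8, true, [10, 5, 11, 14, 18, 13, 19], [19, 0, 17, 6, 17, 15, 5], [6242, -53853, -71213, -2602, 310]⟩) (.node 1 (.leaf ⟨8, 13, true, [4, 2, 6, 14, 13, 17, 0, 3], [18, 12, 19, 15, 10, 4, 11], [-6189, 53415, 70657, 2583, -310]⟩) (.leaf ⟨13, 13, true, [12, 0, 8, 14, 0, 18, 12, 2], [0, 11, 12, 6, 17, 15, 16, 10], [-913, 10067, 12035, 276, 85]⟩)))) (.node 3 (.node 1 (.leaf ⟨8, 13, true, [6, 8, 14, 4, 9, 7, 19], [5, 12, 15, 19, 17, 14, 4], [-2673, 20263, 28032, 1092, -121]⟩) (.node 1 (.leaf ⟨13, 13, true, [5, 9, 12, 18, 11, 12, 10, 9], [15, 7, 14, 17, 5, 16, 7, 3], [2871, -18158, -29027, -1340, 269]⟩) (.leaf ⟨13, 13, true, [15, 6, 6, 11, 8, 15, 18, 0], [8, 11, 13, 10, 19, 13, 8, 4], [-3874, 28611, 40410, 1628, -203]⟩))) (.node 1 (.leaf ⟨8, 13, true, [15,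 16, 2, 17, 6, 9, 6, 11], [9, 7, 16, 7, 16, 13, 3], [-217, 2805, 1984, 75, -32]⟩) (.node 1 (.leaf ⟨13, 8, true, [18, 14, 7, 14, 10, 18, 9, 0], [10, 8, 16, 10, 4, 11, 9, 3], [-788, 7770, 9551, 219, 96]⟩) (.leaf ⟨9, 13, true, [4, 2, 18, 10, 6, 9, 14], [16, 7, 19, 17, 9, 17, 5, 2], [-1329, 13483, 16723, 511, 23]⟩)))))) (.node 11 (.node 5 (.node 2 (.node 1 (.leaf ⟨12, 13, true, [14, 9, 0, 15, 7, 11, 2, 6], [10, 19, 12, 19, 7, 10, 18], [351, -4532, -4404, -69, -49]⟩) (.leaf ⟨13, 12, true, [11, 19, 15, 0, 18, 17, 6, 2], [8, 17, 15, 11, 17, 7, 8, 3], [-1355, 15046, 15863, 360, 114]⟩)) (.node 1 (.leaf ⟨12, 13, true, [0, 6, 11, 17, 13, 11, 0], [19, 5, 0, 10, 6, 9, 6, 10], [3057, -31867, -32594, -762, -262]⟩) (.node 1 (.leaf ⟨13, 12, true, [12, 11, 12, 16, 11, 18, 10], [0, 10, 12, 16, 10, 7, 0], [-4061, 42381,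 44053, 1053, 327]⟩) (.leaf ⟨8, 13, true, [10, 2, 14, 9, 4, 6, 8, 4], [13, 16, 4, 15, 6, 16, 18, 0], [-413, 4665, 5285, 154]⟩)))) (.node 3 (.node 1 (.leaf ⟨13, 8, true, [19, 5, 17, 7, 19, 10, 15, 11], [5, 9, 7, 5, 8, 15, 5, 3], [-591, 5849, 6174, 137, 65]⟩) (.node 1 (.leaf ⟨13, 13, true, [2, 10, 0, 14, 6, 14, 18, 17], [6, 2, 15, 7, 19, 16, 0], [-2380, 14873, 22323, 1051, -200]⟩) (.leaf ⟨8, 13, true, [8, 12, 17, 7, 9, 6, 17], [4, 7, 4, 19, 14, 17, 11, 17], [149, -2593, -1696, 9, -59]⟩))) (.node 1 (.leaf ⟨4, 13, true, [18, 5, 7, 9, 7, 13, 10, 3], [2, 13, 7, 19, 5, 19, 15, 0], [1144, -9590, -12277, -380, -14]⟩) (.node 1 (.leaf ⟨13, 4, true, [17, 8, 5, 9, 16, 15, 8], [7, 12, 2, 19, 14, 4, 9, 14], [-2147, 20043, 23660, 668, 80]⟩) (.leaf ⟨8, 13, true, [6, 19, 14, 7, 17, 7, 10], [7, 11, 0, 14, 3, 18, 6,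 4], [5262, -45942, -56581, -1869, 8]⟩))))) (.node 6 (.node 3 (.node 1 (.leaf ⟨13, 8, true, [2, 19, 10, 13, 4, 18, 5, 2], [11, 6, 16, 6, 15, 18, 7], [-6266, 56456, 68040, 2160, 57]⟩) (.node 1 (.leaf ⟨8, 13, true, [14, 3, 19, 15, 13, 5, 12, 0], [7, 10, 14, 4, 8, 13], [-1311, 10313, 13920, 518, -37]⟩) (.leaf ⟨8, 13, true, [14, 7, 13, 8, 0, 13, 18, 0], [9, 10, 13, 9, 0, 13, 2], [2037, -21679, -23291, -600, -115]⟩))) (.node 1 (.leaf ⟨13, 13, true, [13, 4, 0, 11, 6, 18, 12], [9, 4, 8, 14, 9, 15, 8], [862, -6607, -10605, -428, 60]⟩) (.node 1 (.leaf ⟨13, 13, true, [13, 9, 15, 18, 15, 0, 18, 0], [13, 19, 7, 10, 0, 5, 12], [-1866, 17121, 22064, 719, 5]⟩) (.leaf ⟨12, 13, true, [19, 14, 6, 4, 9, 7, 8], [0, 7, 19, 16, 6, 14, 9, 0], [-1652, 11135, 18729, 879, -261]⟩)))) (.node 3 (.node 1 (.leaf ⟨13, 13, true,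 [18, 5, 8, 5, 7, 12, 15], [17, 15, 6, 14, 9, 19, 11, 0], [-577, 4453, 6309, 247, -26]⟩) (.node 1 (.leaf ⟨8, 13, true, [4, 0, 5, 7, 9, 15, 6, 11], [19, 3, 17, 7, 18, 5, 18, 2], [371, -7934, -6684, 4, -137]⟩) (.leaf ⟨13, 13, true, [5, 9, 14, 18, 11, 5, 6, 4], [2, 9, 4, 19, 0, 16, 0], [1184, -4256, -13095, -772, 271]⟩))) (.node 1 (.leaf ⟨13, 13, true, [13, 8, 13, 8, 4, 14, 11, 0], [5, 7, 4, 10, 19, 15, 8, 4], [-1186, 4317, 13171, 775, -272]⟩) (.node 1 (.leaf ⟨12, 13, true, [12, 10, 0, 4, 16, 14, 19, 7], [12, 5, 17, 8, 7, 17, 6, 4], [-6835, 55880, 70457, 2467, -80]⟩) (.leaf ⟨10, 13, true, [4, 11, 5, 13, 4, 19, 0], [5, 18, 11, 8, 3, 16, 9], [-3445, 33618, 38853, 1078, 133]⟩)))))))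
noncomputable def dF2434 : BT Fct := (.node 22 (.node 11 (.node 5 (.node 2 (.node 1 (.leaf ⟨13, 10, true, [12, 8, 15, 11, 16, 3, 19, 0], [0, 18, 11, 16, 7, 7, 5], [2441, -23104, -27394, -787, -68]⟩) (.leaf ⟨12, 13, true, [6, 8, 7, 13, 8, 4, 19, 14], [13, 9, 10, 19, 16, 11, 14, 19], [852, -9775, -10105, -213, -82]⟩)) (.node 1 (.leaf ⟨13, 12, true, [0, 15, 11, 18, 4, 6, 10], [18, 15, 5, 16, 0, 19, 6, 2], [-1857, 20350, 21640, 507, 146]⟩) (.node 1 (.leaf ⟨12, 13, true, [11, 9, 2, 16, 8, 14, 5, 19], [14, 3, 15, 19, 14, 18, 6, 4], [-3254, 31333, 37408, 1125, 39]⟩) (.leaf ⟨13, 12, true, [6, 6, 16, 11, 13, 0, 17, 3], [19, 5, 18, 6, 11, 16, 14, 3], [3252, -31272, -37332, -1122, -40]⟩)))) (.node 3 (.node 1 (.leaf ⟨13, 8, true, [9, 6, 14, 13, 8, 5, 19, 0], [11, 2, 18, 15, 6, 10, 16], [4783, -37867, -51735,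 -1963, 231]⟩) (.node 1 (.leaf ⟨8, 13, true, [19, 2, 4, 8, 14, 16, 10], [0, 18, 4, 9, 12, 15, 7, 8], [-4838, 38305, 52291, 1982, -231]⟩) (.leaf ⟨13, 8, true, [0, 6, 12, 17, 18, 6, 0], [5, 17, 4, 8, 11, 17], [-1701, 13562, 18468, 695, -94]⟩))) (.node 1 (.leaf ⟨8, 13, true, [0, 16, 6, 15, 10, 19, 11], [0, 7, 18, 9, 12, 7, 0], [1754, -14000, -19024, -714, 94]⟩) (.node 1 (.leaf ⟨11, 13, true, [19, 16, 5, 18, 15, 12, 11], [18, 6, 4, 12, 18, 4, 8, 7], [-47, -887, -1254, -37, 27]⟩) (.leaf ⟨13, 13, true, [15, 0, 19, 7, 12, 15, 4, 2], [18, 9, 14, 17, 7, 9, 11], [1551, -15071, -17081, -471, -115]⟩))))) (.node 5 (.node 2 (.node 1 (.leaf ⟨13, 13, true, [2, 6, 19, 0, 11, 13, 7], [8, 3, 5, 13, 6, 18, 0, 14], [-2555, 25585, 28540, 762, 180]⟩) (.leaf ⟨13, 8, true, [4, 2, 7, 5, 9, 4, 19, 0], [17, 6, 2, 4, 16, 5,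 13, 17], [2087, -16831, -22057, -842, 97]⟩)) (.node 1 (.leaf ⟨8, 13, true, [16, 2, 17, 7, 9, 10, 2], [15, 17, 18, 7, 12, 15, 7, 2], [-2142, 17269, 22613, 861, -97]⟩) (.node 1 (.leaf ⟨13, 8, true, [12, 0, 10, 16, 18, 7, 16], [17, 11, 6, 13, 7, 9, 19, 3], [-2490, 25633, 28134, 680, 191]⟩) (.leaf ⟨13, 12, true, [18, 5, 3, 12, 15, 10, 15, 9], [0, 12, 8, 3, 14, 6, 0], [985, -1549, -9202, -647, 282]⟩)))) (.node 3 (.node 1 (.leaf ⟨12, 13, true, [7, 8, 0, 17, 5, 12, 10, 5], [13, 19, 7, 12, 19, 5, 6, 8], [18, -9033, -2319, 358, -349]⟩) (.node 1 (.leaf ⟨8, 13, true, [12, 4, 18, 6, 6, 15, 6], [9, 2, 16, 4, 10, 13, 18, 0], [-5108, 38406, 51910, 2023, -234]⟩) (.leaf ⟨13, 8, true, [19, 15, 16, 2, 17, 6, 14, 19], [6, 2, 15, 11, 9, 15, 12], [4105, -27953, -40527, -1735, 300]⟩))) (.node 1 (.leaf ⟨13, 8, true, [17,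 10, 2, 10, 19, 16, 6, 16], [11, 4, 2, 11, 17, 6, 10, 18], [6901, -59282, -73816, -2572, 126]⟩) (.node 1 (.leaf ⟨8, 13, true, [2, 16, 10, 12, 18, 7, 17], [17, 2, 17, 3, 8, 7, 19, 0], [-6848, 58844, 73260, 2553, -126]⟩) (.leaf ⟨13, 8, true, [4, 6, 11, 17, 10, 9, 12], [17, 0, 19, 15, 6, 18, 7, 4], [1093, -10553, -11972, -323, -66]⟩)))))) (.node 11 (.node 5 (.node 2 (.node 1 (.leaf ⟨13, 13, true, [7, 12, 15, 6, 16, 6, 18, 0], [2, 6, 16, 9, 4, 6, 2], [-89, -1630, 39, 107, -78]⟩) (.leaf ⟨8, 13, true, [6, 9, 16, 18, 4, 8, 5, 2], [6, 5, 11, 6, 11, 8, 14, 3], [1634, -17695, -18047, -425, -140]⟩)) (.node 1 (.leaf ⟨13, 8, true, [12, 10, 7, 8, 13, 19, 12, 0], [4, 9, 19, 15, 12, 7, 18, 3], [-2638, 28209, 29506, 716, 205]⟩) (.node 1 (.leaf ⟨12, 13, true, [13, 3, 14, 5, 11, 6, 17, 0], [10, 19, 10, 0, 14, 18],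 [-3262, 31123, 35015, 1115, -14]⟩) (.leaf ⟨13, 12, true, [4, 19, 11, 16, 4, 7, 11], [0, 16, 7, 19, 6, 2, 6, 2], [2257, -20548, -23480, -821, 78]⟩)))) (.node 3 (.node 1 (.leaf ⟨13, 13, true, [6, 19, 14, 16, 10, 2, 16, 2], [14, 4, 9, 3, 18, 2], [322, -2842, -3242, -100, 9]⟩) (.node 1 (.leaf ⟨13, 13, true, [18, 5, 17, 6, 18, 0, 15, 2], [10, 15, 3, 12, 16, 15, 18, 7], [-324, 2903, 3318, 103, -10]⟩) (.leaf ⟨8, 13, true, [14, 7, 7, 15, 3, 6, 5], [3, 18, 11, 17, 18, 4, 9], [387, -3245, -4786, -134, -16]⟩))) (.node 1 (.leaf ⟨13, 8, true, [0, 18, 12, 14, 8, 6, 17, 3], [4, 7, 2, 14, 6, 6, 15], [-1390, 13698, 16169, 422, 82]⟩) (.node 1 (.leaf ⟨8, 13, true, [15, 13, 4, 18, 7, 2, 11], [15, 7, 14, 12, 6, 13, 14], [-568, 4375, 5682, 201, -26]⟩) (.leaf ⟨13, 8, true, [15, 0, 7, 16, 3, 16, 14], [10, 3, 6, 19, 5,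 12, 14], [-436, 6139, 5777, 90, 91]⟩))))) (.node 6 (.node 3 (.node 1 (.leaf ⟨8, 13, true, [15, 19, 4, 13, 14, 13, 4, 18], [6, 10, 16, 13, 19, 14, 2], [-1445, 14266, 17372, 528]⟩) (.node 1 (.leaf ⟨13, 8, true, [15, 13, 4, 14, 19, 6], [17, 18, 7, 2, 11, 7, 11, 19], [440, -3691, -5837, -234, 64]⟩) (.leaf ⟨9, 13, true, [9, 6, 16, 3, 17, 10, 16, 0], [4, 15, 0, 10, 13, 18, 9, 0], [937, -7261, -9617, -348, 18]⟩))) (.node 1 (.leaf ⟨13, 9, true, [7, 5, 19, 7, 8, 5, 11], [19, 5, 17, 7, 5, 12, 9, 2], [-939, 7322, 9693, 351, -19]⟩) (.node 1 (.leaf ⟨8, 13, true, [4, 8, 19, 11, 13, 16, 14, 0], [19, 17, 6, 5, 7, 12, 8], [-3894, 36328, 43832, 1214, 119]⟩) (.leaf ⟨13, 8, true, [4, 11, 12, 9, 5, 8, 14, 3], [18, 0, 19, 14, 13, 6, 8, 4], [2890, -25814, -32373, -923, -54]⟩)))) (.node 3 (.node 1 (.leaf ⟨11, 13, true,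 [14, 11, 2, 12, 19, 2, 17, 11], [14, 7, 0, 10, 19, 10, 0, 10], [-3275, 28422, 34101, 1149, -18]⟩) (.node 1 (.leaf ⟨13, 11, true, [11, 13, 4, 10, 16, 10, 6, 4], [10, 3, 0, 14, 19, 7, 10, 15], [2271, -17908, -22642, -858, 83]⟩) (.leaf ⟨13, 8, true, [9, 2, 13, 16, 5, 12, 11], [3, 16, 13, 18, 4, 6, 5, 7], [-412, 4668, 4329, 102, 52]⟩))) (.node 1 (.leaf ⟨8, 13, true, [7, 9, 11, 18, 6, 0, 16], [10, 13, 4, 17, 12, 3, 8], [357, -4230, -3773, -83, -52]⟩) (.node 1 (.leaf ⟨13, 4, true, [17, 15, 9, 14, 19, 2, 16, 0], [18, 7, 4, 11, 7, 9, 11, 0], [-2401, 23283, 26374, 765, 75]⟩) (.leaf ⟨4, 13, true, [16, 7, 14, 4, 6, 14, 18, 2], [0, 17, 3, 18, 15, 8, 14, 16], [2398, -23245, -26353, -766, -74]⟩)))))))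
noncomputable def dF2479 : BT Fct := (.node 23 (.node 11 (.node 5 (.node 2 (.node 1 (.leaf ⟨13, 8, true, [2, 10, 13, 8, 6, 15], [7, 12, 5, 7, 19, 0], [-2296, 21358, 26219, 793, 46]⟩) (.leaf ⟨13, 8, true, [0, 8, 10, 13, 9, 17, 0], [8, 4, 19, 16, 6, 2, 10], [-408, 6411, 6324, 123, 56]⟩)) (.node 1 (.leaf ⟨8, 13, true, [6, 11, 8, 17, 14, 11, 18], [0, 16, 8, 12, 11, 9, 0], [461, -6849, -6880, -142, -56]⟩) (.node 1 (.leaf ⟨13, 8, true, [14, 2, 6, 18, 15, 16, 5], [19, 7, 0, 11, 16, 7, 4, 6], [-3599, 31875, 39932, 1318, -36]⟩) (.leaf ⟨13, 13, true, [14, 6, 19, 3, 6, 16, 11, 2], [7, 8, 13, 11, 7, 9, 19], [5338, -58014, -62590, -1485, -402]⟩)))) (.node 3 (.node 1 (.leaf ⟨13, 8, true, [7, 10, 12, 9, 6, 18, 12], [7, 8, 0, 16, 11, 7, 0, 4], [-9753, 82105, 104194, 3571, -133]⟩) (.node 1 (.leaf ⟨8, 13, true, [12,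 0, 12, 17, 14, 8, 6, 3], [13, 19, 7, 8, 13, 11, 6], [9698, -81667, -103638, -3552, 133]⟩) (.leaf ⟨13, 13, true, [5, 2, 18, 12, 16, 11, 16, 0], [16, 15, 11, 7, 17, 18, 0, 2], [525, -3895, -5424, -208, 14]⟩))) (.node 1 (.leaf ⟨13, 13, true, [8, 2, 14, 6, 18, 6, 18, 2], [6, 8, 16, 10, 16, 0, 11, 0], [2224, -33085, -28589, -166, -594]⟩) (.node 1 (.leaf ⟨13, 13, true, [12, 18, 6, 8, 2, 10, 16], [11, 7, 17, 4, 16, 14, 11, 2], [-3229, 43660, 40124, 460, 658]⟩) (.leaf ⟨13, 8, true, [9, 16, 6, 5, 7, 5, 8, 19], [18, 7, 12, 11, 13, 9, 10, 2], [-213, 3618, 3363, 5, 74]⟩))))) (.node 6 (.node 3 (.node 1 (.leaf ⟨13, 8, true, [6, 2, 10, 19, 10, 6, 14], [7, 5, 19, 5, 7, 15, 7, 4], [-6404, 56434, 69233, 2274, 9]⟩) (.node 1 (.leaf ⟨8, 13, true, [10, 14, 8, 11, 13, 6, 9, 3], [15, 7, 11, 18, 11, 3, 7], [6457, -56872,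 -69789, -2293, -9]⟩) (.leaf ⟨9, 13, true, [4, 15, 6, 16, 5, 3, 5], [10, 2, 8, 13, 10, 17, 8], [2066, -18015, -22232, -769, 46]⟩))) (.node 1 (.leaf ⟨13, 9, true, [18, 7, 17, 10, 6, 16, 11], [4, 2, 4, 17, 7, 14, 5], [-2068, 18076, 22308, 772, -47]⟩) (.node 1 (.leaf ⟨8, 13, true, [10, 6, 12, 19, 7, 11, 9, 0], [13, 16, 4, 6, 19, 13, 2, 17], [1680, -19051, -19262, -423, -151]⟩) (.leaf ⟨13, 8, true, [6, 14, 2, 6, 4, 17, 15], [9, 10, 6, 18, 9, 11, 13, 2], [-2685, 29626, 30797, 717, 215]⟩)))) (.node 3 (.node 1 (.leaf ⟨11, 13, true, [15, 0, 4, 9, 6, 19, 10, 0], [14, 8, 17, 13, 14, 17, 6], [-2910, 22879, 30715, 1100, -61]⟩) (.node 1 (.leaf ⟨8, 13, true, [11, 13, 18, 11, 18, 8, 10, 2], [12, 19, 17, 14, 13, 8, 6], [624, -5725, -6912, -207, -7]⟩) (.leaf ⟨10, 13, true, [5, 19, 11, 0, 9, 12, 10], [5, 13, 0, 7,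 11, 18, 13, 4], [-1886, 15560, 21585, 804, -150]⟩))) (.node 1 (.leaf ⟨13, 10, true, [8, 10, 19, 12, 14, 9, 11], [11, 13, 8, 0, 10, 18, 4], [882, -5046, -10126, -513, 215]⟩) (.node 1 (.leaf ⟨8, 13, true, [8, 6, 0, 14, 8, 13, 8, 5], [2, 16, 5, 10, 15, 6, 4, 3], [4562, -36980, -48848, -1762, 121]⟩) (.leaf ⟨13, 8, true, [18, 0, 18, 11, 12, 9, 14], [18, 6, 16, 15, 13, 0, 10, 0], [-5566, 47494, 60307, 2053, -56]⟩)))))) (.node 11 (.node 5 (.node 2 (.node 1 (.leaf ⟨8, 13, true, [6, 12, 5, 7, 3, 17], [18, 7, 10, 15, 6, 6, 17, 18], [119, -543, -1095, -76, 25]⟩) (.leaf ⟨13, 8, true, [12, 14, 6, 4, 18, 5, 11, 3], [16, 2, 6, 14, 10, 6], [-1122, 10996, 12478, 364, 41]⟩)) (.node 1 (.leaf ⟨13, 8, true, [9, 7, 8, 3, 8, 7], [14, 4, 15, 0, 15, 17, 8, 0], [-2598, 28157, 29079, 676, 224]⟩) (.node 1 (.leaf ⟨8, 13, true,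 [4, 8, 0, 14, 10, 17, 12, 2], [6, 9, 13, 2, 6, 8], [2651, -28595, -29635, -695, -224]⟩) (.leaf ⟨13, 8, true, [19, 12, 7, 17, 6, 10, 3, 4], [18, 15, 4, 9, 6, 4, 10, 18], [6436, -60846, -72075, -2155, -126]⟩)))) (.node 3 (.node 1 (.leaf ⟨8, 13, true, [12, 7, 5, 13, 11, 18, 6, 0], [15, 6, 10, 8, 4, 16, 8, 2], [-6383, 60408, 71519, 2136, 126]⟩) (.node 1 (.leaf ⟨13, 8, true, [12, 0, 2, 11, 5, 9, 14, 17], [3, 0, 18, 7, 7, 19, 14, 3], [-1621, 16414, 18919, 508, 76]⟩) (.leaf ⟨8, 13, true, [16, 5, 7, 10, 12, 19, 10, 4], [16, 15, 8, 4, 10, 15, 3, 0], [1674, -16852, -19475, -527, -76]⟩))) (.node 1 (.leaf ⟨13, 8, true, [12, 7, 18, 4, 7, 10, 3, 4], [3, 7, 18, 11, 17, 9, 5, 12], [1033, -9670, -10812, -326, -12]⟩) (.node 1 (.leaf ⟨13, 8, true, [0, 11, 4, 6, 14, 13, 6, 3], [12, 18, 7, 17, 3, 8, 6], [-864, 10694,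 10602, 200, 101]⟩) (.leaf ⟨8, 13, true, [14, 4, 14, 7, 15, 5, 17], [9, 0, 12, 15, 7, 5, 10, 0], [809, -10256, -10046, -181, -101]⟩))))) (.node 6 (.node 3 (.node 1 (.leaf ⟨13, 9, true, [6, 15, 0, 19, 6, 13, 19, 4], [8, 7, 16, 18, 15, 16, 12], [1068, -9418, -11558, -416, 41]⟩) (.node 1 (.leaf ⟨9, 13, true, [4, 11, 7, 11, 19, 6, 14, 3], [12, 15, 9, 19, 11, 9, 6, 4], [-738, 6965, 7491, 249, -13]⟩) (.leaf ⟨13, 8, true, [16, 5, 8, 15, 13, 9, 6, 0], [10, 7, 13, 14, 3, 17, 2], [175, -3064, -3112, -40, -12]⟩))) (.node 1 (.leaf ⟨8, 13, true, [16, 9, 12, 6, 8, 11, 9, 0], [19, 15, 6, 0, 19, 15, 10, 14], [-230, 3502, 3668, 59, 12]⟩) (.node 1 (.leaf ⟨8, 13, true, [7, 10, 14, 7, 9, 19, 16, 0], [12, 4, 7, 17, 7, 11, 8, 2], [234, -2053, -2766, -101, 14]⟩) (.leaf ⟨13, 8, true, [10, 19, 17, 11, 17, 6, 16], [16, 15,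 3, 14, 13, 7, 19, 7], [-236, 2114, 2842, 104, -15]⟩)))) (.node 3 (.node 1 (.leaf ⟨4, 13, true, [4, 10, 12, 19, 16, 5, 13, 0], [7, 9, 2, 17, 7, 19, 14, 2], [438, -6225, -5319, -49, -90]⟩) (.node 1 (.leaf ⟨13, 4, true, [8, 7, 2, 0, 17, 15, 6, 11], [14, 4, 19, 13, 4, 8, 5, 0], [-440, 6286, 5395, 52, 89]⟩) (.leaf ⟨8, 13, true, [19, 13, 10, 18, 14, 0, 9], [17, 13, 3, 17, 10, 7, 16, 0], [69, -554, -698, -36, 11]⟩))) (.node 1 (.leaf ⟨13, 8, true, [14, 3, 15, 5, 16, 10, 8, 0], [8, 0, 15, 19, 11, 12, 18], [-1074, 11129, 12233, 330, 53]⟩) (.node 1 (.leaf ⟨13, 13, true, [15, 12, 7, 13, 0, 13, 0], [11, 9, 5, 17, 7, 12, 3, 4], [-913, 10172, 11679, 228, 127]⟩) (.leaf ⟨13, 13, true, [10, 6, 5, 17, 18, 15, 16, 15], [15, 2, 14, 12, 6, 13, 14], [-91, 342, -220, 63, -62]⟩)))))))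
noncomputable def dF2525 : BT Fct := (.node 22 (.node 11 (.node 5 (.node 2 (.node 1 (.leaf ⟨13, 8, true, [13, 8, 4, 15, 16, 18, 4, 0], [4, 7, 19, 13, 6, 12, 2, 0], [226, -1901, -2542, -79, -9]⟩) (.leaf ⟨8, 13, true, [17, 0, 13, 17, 4, 9, 6, 0], [11, 6, 2, 15, 11, 16, 18, 10], [-281, 2339, 3098, 98, 9]⟩)) (.node 1 (.leaf ⟨13, 13, true, [14, 0, 19, 17, 5, 18, 4, 0], [13, 18, 5, 16, 9, 15, 10, 2], [2156, -17776, -22907, -827, 55]⟩) (.node 1 (.leaf ⟨13, 12, true, [8, 15, 13, 3, 15, 13, 7, 0], [5, 9, 15, 12, 7, 11, 18, 3], [-536, 6028, 6801, 171, 30]⟩) (.leaf ⟨12, 13, true, [5, 12, 6, 14, 16, 4, 3, 0], [11, 18, 10, 6, 17, 7, 12, 0], [537, -6146, -6930, -172, -31]⟩)))) (.node 3 (.node 1 (.leaf ⟨13, 13, true, [14, 0, 6, 9, 14, 9, 7, 2], [16, 8, 15, 7, 11, 8, 3], [15, -390, -463, -3, -7]⟩) (.node 1 (.leaf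 ⟨13, 13, true, [18, 4, 13, 18, 14, 9, 12], [6, 18, 14, 16, 9, 11, 13], [-1457, 6939, 15964, 845, -252]⟩) (.leaf ⟨13, 8, true, [9, 15, 8, 17, 11, 14, 0], [3, 14, 11, 12, 17, 12, 0], [-1160, 12156, 13325, 356, 57]⟩))) (.node 1 (.leaf ⟨8, 13, true, [9, 7, 17, 18, 15, 9, 12], [6, 3, 11, 16, 8, 10, 14], [1105, -11718, -12769, -337, -57]⟩) (.node 1 (.leaf ⟨13, 13, true, [12, 6, 19, 16, 10, 0, 18, 0], [13, 18, 17, 7, 13, 7, 3], [-1011, 10534, 11418, 285, 68]⟩) (.leaf ⟨13, 13, true, [13, 6, 19, 6, 17, 9, 10], [14, 8, 4, 7, 2, 10, 5, 6], [-1433, 12504, 15417, 494, 24]⟩))))) (.node 5 (.node 2 (.node 1 (.leaf ⟨13, 13, true, [15, 18, 7, 12, 4, 8, 16, 4], [6, 2, 17, 14, 7, 18, 2], [429, -1990, -3958, -203, 41]⟩) (.leaf ⟨13, 13, true, [13, 11, 4, 16, 6, 19, 14], [11, 6, 17, 0, 7, 19, 13, 0], [-929, 8877, 10784,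 243, 90]⟩)) (.node 1 (.leaf ⟨8, 13, true, [14, 0, 4, 16, 8, 12, 0], [15, 19, 6, 18, 6, 17, 10], [-7991, 75515, 89269, 2665, 165]⟩) (.node 1 (.leaf ⟨13, 8, true, [16, 11, 18, 5, 11, 4, 18, 0], [7, 7, 17, 15, 7, 19, 3], [6986, -64940, -77734, -2371, -101]⟩) (.leaf ⟨13, 8, true, [13, 14, 4, 6, 9, 12], [12, 2, 17, 14, 4, 15, 6, 4], [201, 659, -454, -139, 65]⟩)))) (.node 3 (.node 1 (.leaf ⟨8, 13, true, [4, 10, 0, 6, 16, 8, 7, 15], [13, 8, 7, 13, 5, 12], [-256, -221, 1010, 158, -65]⟩) (.node 1 (.leaf ⟨13, 13, true, [4, 17, 2, 14, 16, 10, 14, 0], [14, 6, 0, 18, 4, 14, 8, 4], [-4100, 44033, 47306, 1106, 339]⟩) (.leaf ⟨11, 13, true, [5, 0, 6, 17, 10, 8, 17], [14, 16, 8, 17, 2, 12, 18, 15], [10939, -89604, -113015, -3887, 78]⟩))) (.node 1 (.leaf ⟨13, 8, true, [17, 9, 14, 9, 5, 0, 16, 0], [5, 19, 17, 11, 0,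 10, 7, 0], [-1940, 20082, 20852, 535, 132]⟩) (.node 1 (.leaf ⟨8, 13, true, [12, 0, 19, 16, 10, 19, 3, 4], [0, 17, 0, 4, 8, 15, 8, 16], [1993, -20520, -21408, -554, -132]⟩) (.leaf ⟨8, 13, true, [4, 7, 19, 15, 12, 4, 16, 0], [13, 18, 15, 16, 9, 10, 14, 3], [-1131, 11683, 12926, 322, 92]⟩)))))) (.node 11 (.node 5 (.node 2 (.node 1 (.leaf ⟨13, 8, true, [7, 8, 12, 11, 12, 0, 14, 3], [12, 11, 17, 11, 7, 8, 2, 0], [128, -1230, -1543, -34, -26]⟩) (.leaf ⟨13, 13, true, [17, 10, 0, 14, 12, 5, 18, 10], [15, 11, 7, 0, 10, 12, 10], [-1843, 18078, 21436, 632, 25]⟩)) (.node 1 (.leaf ⟨8, 13, true, [15, 7, 15, 13, 4, 11], [12, 4, 16, 18, 0, 9, 18], [707, -7824, -8169, -162, -92]⟩) (.node 1 (.leaf ⟨13, 8, true, [16, 6, 19, 6, 6, 16, 4, 2], [10, 5, 12, 14, 6, 14], [-1711, 18338, 19628, 453, 157]⟩) (.leaf ⟨13, 12,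 true, [15, 9, 6, 10, 4, 18, 6, 15], [4, 11, 9, 12, 11, 7, 16], [-1607, 17348, 18635, 445, 111]⟩)))) (.node 3 (.node 1 (.leaf ⟨12, 13, true, [10, 0, 9, 13, 8, 5, 13], [14, 7, 15, 3, 16, 6, 4, 15], [1107, -12234, -13068, -302, -79]⟩) (.node 1 (.leaf ⟨13, 13, true, [6, 8, 5, 18, 5, 19, 10, 14], [12, 6, 16, 11, 9, 5, 8, 3], [-636, 7616, 6213, 93, 89]⟩) (.leaf ⟨13, 13, true, [3, 18, 7, 8, 12, 15, 8, 2], [8, 0, 8, 7, 16, 11, 6, 0], [629, -5809, -6769, -229, -11]⟩))) (.node 1 (.leaf ⟨13, 13, true, [16, 12, 7, 13, 14, 18, 6], [7, 0, 14, 13, 9, 6, 19, 2], [-1633, 16323, 18228, 520, 76]⟩) (.node 1 (.leaf ⟨8, 13, true, [5, 17, 7, 3, 16, 6, 17, 3], [5, 18, 9, 5, 6, 17, 14], [1180, -11657, -13166, -382, -51]⟩) (.leaf ⟨13, 8, true, [3, 0, 7, 19, 7, 12, 0], [0, 15, 7, 17, 18, 6, 15, 3], [-2000, 20678, 22812, 612,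 117]⟩))))) (.node 6 (.node 3 (.node 1 (.leaf ⟨8, 13, true, [17, 18, 5, 9, 18, 7, 12, 7], [0, 13, 6, 18, 6, 0, 2], [2053, -21116, -23368, -631, -117]⟩) (.node 1 (.leaf ⟨13, 13, true, [0, 4, 9, 6, 5, 17, 2], [9, 19, 3, 4, 6, 17, 0], [3705, -31985, -41077, -1361, 44]⟩) (.leaf ⟨13, 13, true, [5, 8, 4, 14, 19, 17, 10], [18, 7, 9, 0, 14, 8, 10], [-554, 4969, 6275, 190]⟩))) (.node 1 (.leaf ⟨13, 13, true, [9, 16, 8, 17, 7, 18, 3, 4], [18, 17, 4, 16, 18, 11, 0, 15], [3112, -23471, -33853, -1325, 189]⟩) (.node 1 (.leaf ⟨12, 13, true, [4, 8, 17, 2, 15, 5, 9], [14, 19, 5, 18, 5, 19, 6, 14], [3, -736, -77, 44, -37]⟩) (.leaf ⟨13, 12, true, [10, 2, 8, 12, 14, 16, 11], [8, 4, 14, 3, 16, 9, 5], [-1007, 11250, 11536, 247, 102]⟩)))) (.node 3 (.node 1 (.leaf ⟨8, 13, true, [11, 13, 10, 7, 7, 4], [19, 7, 7, 13, 14, 11,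 18, 2], [-3968, 32416, 43978, 1627, -150]⟩) (.node 1 (.leaf ⟨13, 8, true, [14, 16, 6, 14, 7, 13, 19], [5, 6, 6, 11, 12, 10], [2964, -21902, -32519, -1336, 215]⟩) (.leaf ⟨10, 13, true, [10, 14, 0, 4, 7, 15, 13, 7], [17, 10, 12, 7, 8, 10], [2593, -23454, -29131, -907, 3]⟩))) (.node 1 (.leaf ⟨13, 13, true, [0, 10, 15, 16, 3, 18, 18], [16, 2, 10, 14, 19, 14, 6], [-1168, 11271, 12631, 317, 91]⟩) (.node 1 (.leaf ⟨11, 13, true, [11, 18, 10, 0, 14, 17], [19, 15, 3, 7, 14, 10, 5, 18], [-5296, 48111, 58867, 1975, -101]⟩) (.leaf ⟨13, 11, true, [16, 4, 15, 17, 12, 9, 5], [16, 15, 12, 8, 0, 10], [4292, -37597, -47408, -1684, 166]⟩)))))))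
noncomputable def dF2570 : BT Fct := (.node 22 (.node 11 (.node 5 (.node 2 (.node 1 (.leaf ⟨10, 13, true, [6, 6, 15, 12, 15, 9, 19], [13, 16, 0, 19, 12, 9, 14, 2], [-5215, 52963, 62634, 1776, 115]⟩) (.leaf ⟨13, 10, true, [16, 2, 4, 17, 7, 13, 10, 2], [18, 8, 14, 13, 14, 7, 7], [4211, -42449, -51175, -1485, -50]⟩)) (.node 1 (.leaf ⟨13, 13, true, [4, 9, 17, 7, 15, 0, 9, 3], [7, 9, 2, 13, 8, 14, 8, 10], [-2428, 23538, 27607, 796, 76]⟩) (.node 1 (.leaf ⟨10, 13, true, [8, 6, 15, 11, 7, 9, 18, 3], [11, 8, 6, 5, 17, 18, 3], [-3235, 29438, 34252, 1088, 34]⟩) (.leaf ⟨13, 10, true, [6, 14, 0, 15, 8, 17, 0, 11], [10, 18, 10, 18, 5, 9, 0, 3], [2232, -18985, -22869, -800, 32]⟩)))) (.node 3 (.node 1 (.leaf ⟨10, 13, true, [14, 9, 7, 10, 14, 19, 17, 0], [7, 18, 11, 6, 17, 3, 7], [-2465, 26051, 29681, 749, 123]⟩)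 (.node 1 (.leaf ⟨13, 10, true, [9, 12, 16, 8, 4, 19, 10, 2], [16, 2, 16, 15, 6, 19, 13, 0], [1461, -15537, -18222, -458, -58]⟩) (.leaf ⟨11, 13, true, [5, 19, 16, 10, 12, 18, 10, 0], [4, 10, 19, 15, 4, 18, 14], [3463, -28808, -36985, -1211]⟩))) (.node 1 (.leaf ⟨13, 11, true, [0, 15, 19, 17, 8, 15, 6], [14, 0, 17, 14, 9, 5, 7, 4], [-4466, 39261, 48368, 1499, 66]⟩) (.node 1 (.leaf ⟨13, 13, true, [19, 8, 3, 14, 7, 18, 11, 5], [2, 11, 12, 19, 6, 19, 2], [1803, -19022, -20416, -514, -121]⟩) (.leaf ⟨13, 13, true, [14, 4, 8, 13, 9, 2], [6, 5, 11, 13, 6, 16, 9, 3], [4456, -42014, -49288, -1584, 39]⟩))))) (.node 5 (.node 2 (.node 1 (.leaf ⟨13, 13, true, [19, 14, 7, 4, 19, 11, 12, 16], [11, 18, 13, 18, 4, 14, 11, 3], [1284, -10079, -13396, -474, 50]⟩) (.leaf ⟨8, 13, true, [17, 5, 7, 17, 4, 15, 7, 4], [11,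 17, 6, 4, 10, 18, 2], [1589, -15796, -18161, -489, -83]⟩)) (.node 1 (.leaf ⟨13, 8, true, [7, 3, 13, 15, 11, 6, 16], [2, 0, 2, 6, 17, 12, 11, 0], [-1591, 15857, 18237, 492, 82]⟩) (.node 1 (.leaf ⟨8, 13, true, [9, 5, 0, 16, 18, 12, 18, 12], [19, 8, 11, 6, 2, 19, 14], [-101, 945, 1246, 38, 9]⟩) (.leaf ⟨13, 8, true, [16, 4, 10, 0, 13, 9, 18], [12, 15, 19, 8, 15, 12, 6, 3], [-902, 9508, 10137, 250, 57]⟩)))) (.node 3 (.node 1 (.leaf ⟨8, 13, true, [13, 9, 6, 18, 11, 12], [5, 16, 4, 10, 17, 3, 17, 5], [1258, -9201, -12950, -516, 54]⟩) (.node 1 (.leaf ⟨13, 8, true, [9, 12, 0, 7, 16, 15, 7, 16], [13, 10, 19, 7, 8, 12], [-1260, 9262, 13026, 519, -55]⟩) (.leaf ⟨11, 13, true, [2, 15, 5, 16, 10, 5], [4, 7, 18, 15, 8, 6, 4], [-4304, 34608, 46835, 1722, -144]⟩))) (.node 1 (.leaf ⟨13, 11, true, [14, 6, 9, 16, 2,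 12, 17], [4, 11, 17, 4, 14, 3], [4302, -34547, -46759, -1719, 143]⟩) (.node 1 (.leaf ⟨13, 8, true, [10, 3, 12, 14, 18, 7, 19], [2, 12, 6, 6, 8, 7, 8, 4], [-2405, 24311, 27390, 749, 114]⟩) (.leaf ⟨8, 13, true, [13, 7, 8, 13, 19, 17, 8], [10, 0, 17, 12, 10, 8, 6, 2], [1407, -14717, -16654, -440, -67]⟩)))))) (.node 11 (.node 5 (.node 2 (.node 1 (.leaf ⟨13, 8, true, [13, 5, 8, 16, 6, 5, 13, 0], [9, 16, 18, 12, 9, 6, 12], [-2411, 25231, 28113, 731, 132]⟩) (.leaf ⟨8, 13, true, [19, 4, 8, 2, 19, 4, 15, 0], [6, 0, 10, 9, 14, 7, 8, 4], [-504, 4707, 5833, 200, -25]⟩)) (.node 1 (.leaf ⟨13, 8, true, [7, 18, 12, 7, 10, 8, 11], [19, 16, 19, 16, 9, 14, 12, 0], [-500, 5807, 5626, 91, 90]⟩) (.node 1 (.leaf ⟨13, 13, true, [18, 4, 16, 12, 2, 16], [0, 13, 9, 14, 9, 10, 14], [-332, 2660, 3617, 127, -6]⟩) (.leaf ⟨13,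 13, true, [7, 3, 14, 18, 5, 8, 19, 0], [13, 0, 16, 8, 5, 6, 19, 3], [-2809, 27147, 31954, 941, 52]⟩)))) (.node 3 (.node 1 (.leaf ⟨8, 13, true, [11, 6, 4, 18, 11, 0, 18], [9, 15, 3, 18, 17, 4], [296, -4367, -3600, -11, -98]⟩) (.node 1 (.leaf ⟨13, 8, true, [6, 2, 0, 11, 7, 15, 16, 11], [19, 0, 10, 19, 5, 7, 10], [-298, 4428, 3676, 14, 97]⟩) (.leaf ⟨8, 13, true, [10, 5, 14, 11, 17, 6, 15, 2], [11, 14, 2, 9, 11, 6, 18, 12], [-672, 8514, 8087, 130, 89]⟩))) (.node 1 (.leaf ⟨13, 8, true, [6, 10, 9, 11, 17, 12, 18], [15, 12, 0, 17, 6, 8, 7, 11], [-331, 1939, 3296, 158, -23]⟩) (.node 1 (.leaf ⟨10, 13, true, [8, 0, 16, 9, 4, 8, 16], [15, 18, 6, 17, 7, 17, 7, 11], [28, -841, -1552, -31, -9]⟩) (.leaf ⟨13, 13, true, [7, 17, 12, 4, 18, 15, 19], [14, 9, 6, 10, 18, 4, 3, 4], [-1772, 19223, 21528, 551, 120]⟩)))))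 (.node 6 (.node 3 (.node 1 (.leaf ⟨13, 8, true, [19, 0, 14, 17, 5, 8, 17, 3], [12, 17, 0, 8, 11, 6, 15, 11], [2429, -17070, -24764, -1025, 130]⟩) (.node 1 (.leaf ⟨8, 13, true, [5, 3, 6, 11, 13, 11, 17, 2], [10, 6, 14, 6, 18, 6, 9, 2], [-2376, 16632, 24208, 1006, -130]⟩) (.leaf ⟨8, 13, true, [16, 3, 12, 9, 13, 11, 16, 3], [16, 2, 14, 13, 10, 15, 8, 2], [720, -9171, -9145, -165, -85]⟩))) (.node 1 (.leaf ⟨13, 8, true, [18, 16, 6, 10, 14, 19, 0], [11, 12, 11, 0, 14, 6, 19, 0], [-1725, 19746, 20680, 459, 149]⟩) (.node 1 (.leaf ⟨8, 13, true, [14, 17, 6, 8, 7, 8, 0, 2], [10, 13, 18, 7, 18, 2, 6, 0], [481, -7450, -6628, -48, -117]⟩) (.leaf ⟨13, 8, true, [4, 3, 15, 11, 9, 7, 16, 0], [15, 16, 7, 10, 16, 15, 3, 7], [-1485, 17964, 18087, 339, 182]⟩)))) (.node 3 (.node 1 (.leaf ⟨8, 13, true, [8, 16, 11, 4, 16,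 18, 12], [17, 15, 2, 16, 6, 3, 17, 7], [6268, -56701, -69491, -2230, -21]⟩) (.node 1 (.leaf ⟨13, 8, true, [10, 8, 4, 11, 18, 6, 16, 2], [13, 19, 17, 5, 10, 17, 9], [-7272, 67215, 80950, 2521, 86]⟩) (.leaf ⟨13, 8, true, [7, 2, 0, 18, 4, 18, 12, 3], [15, 18, 6, 9, 13, 0, 19, 13], [-338, 7004, 4759, 41, 63]⟩))) (.node 1 (.leaf ⟨13, 4, true, [7, 13, 7, 8, 17, 2], [15, 0, 7, 15, 19, 3], [-642, 9719, 8297, 76, 124]⟩) (.node 1 (.leaf ⟨4, 13, true, [11, 4, 18, 7, 4, 16, 10, 2], [3, 16, 9, 6, 12, 6], [636, -9557, -8146, -75, -123]⟩) (.leaf ⟨13, 13, true, [12, 18, 10, 18, 14, 9, 14], [9, 7, 4, 18, 5, 19], [-2420, 26361, 28765, 678, 189]⟩)))))))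
noncomputable def dF2615 : BT Fct := (.node 22 (.node 11 (.node 5 (.node 2 (.node 1 (.leaf ⟨13, 12, true, [7, 2, 0, 19, 4, 18, 5], [17, 6, 19, 16, 9, 11, 13, 0], [-5876, 55998, 66996, 2023, 87]⟩) (.leaf ⟨12, 13, true, [18, 11, 18, 5, 8, 5, 18], [4, 19, 5, 18, 0, 3, 6], [7380, -71812, -84213, -2456, -187]⟩)) (.node 1 (.leaf ⟨13, 12, true, [15, 9, 16, 11, 7, 10, 14], [16, 0, 12, 4, 9, 17, 11], [491, -3864, -4705, -183, 25]⟩) (.node 1 (.leaf ⟨12, 13, true, [11, 6, 18, 4, 16, 15, 2], [15, 11, 6, 10, 17, 8, 14], [514, -6836, -6945, -107, -93]⟩) (.leaf ⟨13, 8, true, [5, 7, 17, 5, 7, 13, 19, 0], [8, 7, 10, 13, 15, 10, 3, 4], [-135, 2556, 1557, 28, 26]⟩)))) (.node 3 (.node 1 (.leaf ⟨8, 13, true, [12, 17, 15, 18, 14, 18, 12], [17, 11, 19, 13, 10, 12, 16, 2], [80, -2118, -1001, -9, -26]⟩) (.node 1 (.leaf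 ⟨11, 13, true, [3, 15, 11, 5, 18, 18, 0], [4, 8, 17, 13, 18, 15, 17], [-2138, 15918, 19293, 771, -69]⟩) (.leaf ⟨13, 11, true, [19, 17, 0, 3, 15, 11, 6, 19], [0, 18, 18, 4, 10, 14, 2], [1133, -5343, -7758, -477, 133]⟩))) (.node 1 (.leaf ⟨12, 13, true, [10, 3, 7, 10, 16, 5, 16], [11, 2, 12, 17, 4, 15, 17], [1580, -16859, -16793, -371, -170]⟩) (.node 1 (.leaf ⟨13, 12, true, [4, 16, 0, 12, 2, 14, 6], [17, 4, 17, 11, 6, 2, 11], [-2584, 27373, 28252, 662, 235]⟩) (.leaf ⟨13, 13, true, [17, 6, 2, 8, 17, 6, 6, 9], [4, 0, 2, 13, 9, 14, 9, 4], [5311, -42847, -58399, -2165, 210]⟩))))) (.node 5 (.node 2 (.node 1 (.leaf ⟨13, 11, true, [11, 0, 16, 7, 8, 4, 8, 0], [17, 6, 2, 6, 5, 19, 13, 5], [3511, -35783, -38707, -1146, -60]⟩) (.leaf ⟨11, 13, true, [11, 0, 9, 18, 6, 15, 4, 2], [4, 3, 7, 14, 13, 7, 9, 3], [-314,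 10291, 5412, -5, 87]⟩)) (.node 1 (.leaf ⟨13, 8, true, [9, 16, 5, 19, 7, 19, 10, 2], [11, 17, 8, 19, 10, 7, 12, 16], [6303, -50798, -65017, -2435, 302]⟩) (.node 1 (.leaf ⟨13, 13, true, [11, 18, 7, 12, 16, 6, 8, 4], [9, 17, 2, 7, 8, 11, 12, 15], [-5265, 46576, 58468, 1867, 23]⟩) (.leaf ⟨13, 13, true, [14, 12, 19, 11, 9, 14, 6], [5, 10, 19, 10, 5, 11, 0], [2453, -25955, -28620, -769, -161]⟩)))) (.node 3 (.node 1 (.leaf ⟨13, 8, true, [15, 0, 13, 15, 9, 14, 0], [17, 6, 4, 18, 7, 7, 19, 4], [-7629, 80101, 85612, 2259, 362]⟩) (.node 1 (.leaf ⟨8, 13, true, [7, 17, 12, 0, 19, 8, 3], [7, 3, 18, 5, 7, 15, 11], [7682, -80539, -86168, -2278, -362]⟩) (.leaf ⟨13, 8, true, [14, 5, 2, 11, 4, 16, 8, 11], [6, 17, 3, 13, 4, 19, 11, 6], [-1825, 16967, 19330, 442, 172]⟩))) (.node 1 (.leaf ⟨8, 13, true, [6, 6, 17, 7,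 8, 19, 10, 0], [11, 7, 8, 14, 7, 18, 11, 2], [1770, -16529, -18774, -423, -172]⟩) (.node 1 (.leaf ⟨10, 13, true, [14, 2, 17, 6, 8, 4, 18], [3, 7, 12, 15, 6, 19, 17, 2], [1985, -20543, -25156, -710, -50]⟩) (.leaf ⟨13, 10, true, [18, 3, 10, 6, 4, 19, 11], [16, 4, 10, 16, 8, 11, 0], [-2989, 31057, 36615, 1001, 115]⟩)))))) (.node 11 (.node 5 (.node 2 (.node 1 (.leaf ⟨13, 13, true, [12, 7, 15, 13, 8, 7, 11, 0], [6, 11, 12, 6, 14, 19, 7, 2], [-1779, 17233, 19516, 544, 71]⟩) (.leaf ⟨13, 13, true, [18, 6, 10, 7, 10, 14, 2], [7, 0, 5, 9, 12, 10, 17], [3, -130, -138, -2, -1]⟩)) (.node 1 (.leaf ⟨13, 13, true, [3, 7, 13, 16, 7, 17, 14], [10, 6, 19, 17, 9, 4, 2], [1441, -15927, -17544, -430, -72]⟩) (.node 1 (.leaf ⟨13, 13, true, [19, 13, 8, 5, 12, 6, 19], [13, 16, 4, 10, 19, 5, 9, 2], [-1314, 13070, 14776, 459,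 -4]⟩) (.leaf ⟨13, 4, true, [9, 17, 6, 19, 7, 10, 15, 6], [11, 13, 6, 19, 4, 17, 3], [-11252, 90160, 117436, 4265, -262]⟩)))) (.node 3 (.node 1 (.leaf ⟨4, 13, true, [11, 0, 4, 8, 6, 18, 15, 0], [10, 18, 6, 9, 4, 9, 4, 6], [11254, -90210, -117466, -4265, 262]⟩) (.node 1 (.leaf ⟨13, 13, true, [11, 12, 0, 7, 8, 6, 4], [2, 10, 8, 4, 17, 8, 6, 2], [2970, -23705, -33465, -1301, 224]⟩) (.leaf ⟨4, 14, true, [18, 4, 7, 16, 12, 3], [], []⟩))) (.node 1 (.leaf ⟨14, 13, true, [5, 13, 18, 10, 14, 0, 16], [13, 3, 9, 7, 14, 12, 14], [-8, 148, 144, 4]⟩) (.node 1 (.leaf ⟨14, 14, false, [7, 7, 16, 10, 6, 14, 2, 0], [], [1004, -10569, -11525, -294, -64]⟩) (.leaf ⟨14, 13, true, [6, 12, 9, 11, 0, 10, 16, 2], [10, 5, 15, 7, 18, 13, 4, 0], [-362, 853, 3223, 217, -60]⟩))))) (.node 6 (.node 3 (.node 1 (.leaf ⟨14, 14, false,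 [4, 18, 10, 9, 13, 4, 19], [], [353, -635, -2994, -210, 59]⟩) (.node 1 (.leaf ⟨14, 8, true, [18, 9, 6, 0, 4, 18, 11, 4], [2, 14, 7, 2, 16, 5, 3], [-2105, 33649, 28584, 260, 399]⟩) (.leaf ⟨8, 14, true, [4, 6, 10, 4, 17, 2, 19], [18, 12, 3, 19, 10, 8, 5, 13], [2158, -34087, -29140, -279, -399]⟩))) (.node 1 (.leaf ⟨14, 11, true, [18, 2, 5, 8, 14, 6, 10, 2], [12, 14, 13, 8, 5, 19, 12], [-714, 5201, 8542, 369, -70]⟩) (.node 1 (.leaf ⟨14, 8, true, [15, 13, 6, 0, 14, 7, 15, 0], [8, 10, 8, 15, 11, 19, 13], [-2723, 32202, 32551, 685, 258]⟩) (.leaf ⟨14, 11, true, [3, 8, 17, 6, 12, 15, 4, 2], [4, 6, 3, 0, 18, 7, 17, 18], [-4297, 26455, 43017, 1915, -260]⟩)))) (.node 3 (.node 1 (.leaf ⟨11, 14, true, [19, 0, 12, 8, 13, 7, 8, 3], [8, 3, 5, 13, 7, 16, 9, 2], [4298, -26519, -43072, -1914, 259]⟩) (.node 1 (.leaf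 ⟨14, 10, true, [9, 5, 8, 7, 10, 9, 2], [8, 12, 6, 15, 0, 10, 14, 3], [8, -232, -212, -1, -2]⟩) (.leaf ⟨10, 14, true, [14, 13, 15, 19, 13, 10, 4], [6, 8, 10, 19, 6, 19, 0], [540, -4566, -5953, -193, 5]⟩))) (.node 1 (.leaf ⟨14, 11, true, [6, 6, 10, 6, 18, 13, 8, 4], [18, 15, 0, 10, 6, 8, 6], [130, 3505, 458, -137, 126]⟩) (.node 1 (.leaf ⟨14, 9, true, [17, 15, 5, 7, 15, 13, 3], [10, 0, 2, 7, 18, 12, 4, 19], [434, -7340, -7896, -129, 31]⟩) (.leaf ⟨14, 14, true, [11, 8, 11, 6, 19, 13, 7], [6, 6, 10, 17, 9, 7, 9, 0], [-1001, 10485, 11396, 291, 63]⟩)))))))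
noncomputable def dF2660 : BT Fct := (.node 22 (.node 11 (.node 5 (.node 2 (.node 1 (.leaf ⟨14, 14, true, [8, 19, 5, 12, 16, 5, 7, 5], [10, 0, 15, 17, 11, 15, 9, 2], [3231, -20632, -31497, -1337, 131]⟩) (.leaf ⟨14, 14, true, [7, 5, 7, 17, 7, 3, 14, 0], [9, 6, 17, 6, 3, 16, 0], [-3937, 21935, 37506, 1754, -248]⟩)) (.node 1 (.leaf ⟨14, 14, true, [9, 7, 14, 9, 3, 8], [16, 6, 16, 5, 12, 16, 0], [-983, 10110, 11207, 305, 54]⟩) (.node 1 (.leaf ⟨14, 14, true, [17, 18, 4, 8, 11, 12, 7], [6, 11, 16, 6, 8, 19, 6, 2], [-939, 21943, 15116, -177, 431]⟩) (.leaf ⟨14, 14, true, [17, 0, 6, 16, 13, 18, 5, 2], [6, 9, 2, 17, 12, 4, 15, 2], [-1939, -1948, 13368, 1303, -503]⟩)))) (.node 3 (.node 1 (.leaf ⟨14, 14, true, [9, 7, 2, 8, 7, 16, 13, 18], [19, 5, 16, 18, 11, 6, 11], [3013, -31718, -34590, -883, -192]⟩) (.node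 1 (.leaf ⟨4, 15, true, [17, 19, 6, 17, 2, 17, 13, 11], [], []⟩) (.leaf ⟨15, 12, true, [17, 8, 0, 18, 14, 16, 6, 0], [8, 11, 15, 6, 10, 19, 2], [42, -141, -308, -30, 11]⟩))) (.node 1 (.leaf ⟨12, 15, true, [16, 4, 10, 3, 6, 17, 14, 8], [11, 9, 0, 16, 11, 3, 18, 13], [-41, 23, 179, 29, -12]⟩) (.node 1 (.leaf ⟨15, 15, false, [19, 0, 12, 0, 13, 18, 14], [], [1002, -10456, -11384, -288, -66]⟩) (.leaf ⟨15, 8, true, [10, 14, 12, 11, 19, 7, 15, 2], [10, 9, 0, 13, 11, 0, 17, 4], [-1015, 11175, 11784, 272, 79]⟩))))) (.node 5 (.node 2 (.node 1 (.leaf ⟨15, 14, true, [15, 10, 12, 9, 2, 17, 15], [18, 11, 14, 16, 3, 16, 6, 2], [3, -50, -38, 0, -1]⟩) (.leaf ⟨14, 15, true, [18, 0, 16, 19, 14, 18, 6, 0], [14, 16, 3, 8, 13, 11, 14], [-1957, 29852, 25631, 252, 370]⟩)) (.node 1 (.leaf ⟨15, 15, false, [8, 17, 2, 15, 9,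 3, 4], [], [-2008, 21140, 23060, 588, 128]⟩) (.node 1 (.leaf ⟨15, 8, true, [7, 14, 17, 2, 19, 16, 0], [19, 13, 2, 6, 18, 13], [3247, -33782, -37328, -969, -198]⟩) (.leaf ⟨8, 15, true, [11, 7, 12, 14, 8, 5, 13], [0, 17, 18, 11, 5, 2, 6], [-3194, 33344, 36772, 950, 198]⟩)))) (.node 3 (.node 1 (.leaf ⟨15, 8, true, [6, 18, 5, 8, 5, 19, 16, 7], [19, 0, 19, 17, 18, 4, 11, 3], [3219, -33775, -37047, -953, -196]⟩) (.node 1 (.leaf ⟨15, 8, true, [5, 0, 3, 14, 11, 17, 8], [5, 8, 13, 18, 17, 9, 4, 3], [4259, -44351, -49014, -1292, -239]⟩) (.leaf ⟨15, 15, true, [13, 4, 15, 11, 19, 12, 6, 4], [13, 0, 7, 9, 10, 12, 10, 4], [1012, -10828, -11818, -302, -63]⟩))) (.node 1 (.leaf ⟨15, 8, true, [0, 10, 19, 10, 19, 11, 7, 0], [7, 16, 14, 4, 8, 7, 4], [2290, -23619, -26130, -687, -126]⟩) (.node 1 (.leaf ⟨8, 15, true,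 [19, 6, 5, 7, 5, 16, 9, 11], [8, 0, 5, 19, 0, 17, 11, 0], [-2237, 23181, 25574, 668, 126]⟩) (.leaf ⟨15, 8, true, [14, 9, 14, 11, 6, 10, 3, 0], [14, 9, 19, 5, 12, 10, 6, 0], [166, -1128, -2018, -91, 18]⟩)))))) (.node 11 (.node 5 (.node 2 (.node 1 (.leaf ⟨15, 13, true, [11, 0, 9, 6, 0, 17, 18], [13, 3, 15, 9, 6, 18, 18, 2], [15277, -132793, -163940, -5453, 9]⟩) (.leaf ⟨15, 8, true, [10, 8, 6, 5, 13, 7, 0], [6, 18, 5, 13, 11, 9, 2, 0], [2811, -28137, -32134, -894, -112]⟩)) (.node 1 (.leaf ⟨15, 15, false, [16, 15, 0, 13, 7, 19, 4], [], [-2699, 27453, 30681, 822, 130]⟩) (.node 1 (.leaf ⟨15, 9, true, [15, 17, 2, 7, 17, 4, 17, 15], [14, 2, 18, 11, 12, 17, 7, 4], [-2677, 27234, 30433, 815, 130]⟩) (.leaf ⟨9, 15, true, [7, 15, 8, 15, 5, 16, 19, 6], [19, 12, 4, 11, 6, 13, 8, 3], [1031, -13286, -12384, -170,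 -179]⟩)))) (.node 3 (.node 1 (.leaf ⟨15, 8, true, [11, 17, 14, 16, 0, 17], [13, 14, 16, 9, 12, 5, 18], [6123, -62563, -70181, -1888, -298]⟩) (.node 1 (.leaf ⟨8, 15, true, [7, 14, 13, 11, 4, 15, 11], [16, 0, 17, 15, 16, 10], [-6178, 63001, 70737, 1907, 298]⟩) (.leaf ⟨15, 8, true, [13, 18, 10, 12, 5, 2], [19, 17, 7, 16, 11, 16, 18, 5], [2349, -23591, -26512, -737, -103]⟩))) (.node 1 (.leaf ⟨15, 11, true, [10, 5, 18, 8, 0, 19, 6, 3], [9, 11, 6, 17, 12, 11, 18], [6688, -70785, -75815, -1860, -459]⟩) (.node 1 (.leaf ⟨11, 15, true, [2, 15, 18, 17, 9, 17], [5, 16, 2, 13, 14, 10, 14, 2], [-3491, 45293, 42520, 709, 486]⟩) (.leaf ⟨15, 8, true, [10, 8, 16, 10, 8, 6, 4], [8, 13, 14, 18, 15, 10, 8, 0], [2078, -22036, -24030, -619, -125]⟩))))) (.node 6 (.node 3 (.node 1 (.leaf ⟨8, 15, true, [18, 2, 8, 14, 10,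 12, 14], [11, 4, 11, 4, 6, 14, 4], [-2025, 21598, 23474, 600, 125]⟩) (.node 1 (.leaf ⟨15, 8, true, [6, 16, 8, 14, 19, 11, 8, 2], [16, 19, 5, 13, 4, 6], [7922, -82311, -90723, -2360, -455]⟩) (.leaf ⟨15, 13, true, [5, 8, 15, 16, 8, 11, 2], [9, 7, 15, 9, 10, 19, 6, 0], [4206, -35596, -45136, -1562, 47]⟩))) (.node 1 (.leaf ⟨15, 7, true, [6, 15, 0, 17, 15, 9, 6, 11], [19, 14, 9, 18, 14, 11, 6, 14], [1582, -15706, -17703, -484, -66]⟩) (.node 1 (.leaf ⟨7, 15, true, [14, 2, 6, 16, 11, 19, 0, 4], [18, 6, 16, 3, 17, 7, 5, 0], [-1806, 17352, 20149, 576, 59]⟩) (.leaf ⟨15, 11, true, [2, 18, 6, 15, 4, 11, 8, 3], [3, 10, 16, 5, 12, 16], [10821, -110110, -122282, -3256, -547]⟩)))) (.node 3 (.node 1 (.leaf ⟨15, 15, false, [7, 4, 6, 15, 19, 5, 18, 2], [], [-6567, 54941, 68319, 2340, -60]⟩) (.node 1 (.leaf ⟨15, 8,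 true, [19, 2, 13, 7, 8, 12, 4, 0], [6, 13, 16, 7, 12, 8, 3], [14141, -120812, -148501, -4981, 58]⟩) (.leaf ⟨15, 8, true, [10, 13, 19, 8, 14, 0], [18, 11, 13, 19, 15, 13], [2056, -21680, -23090, -590, -126]⟩))) (.node 1 (.leaf ⟨8, 15, true, [4, 3, 17, 11, 7, 8, 11], [0, 15, 9, 18, 12, 11], [-2003, 21242, 22534, 571, 126]⟩) (.node 1 (.leaf ⟨15, 8, true, [5, 8, 5, 12, 10, 19, 13, 5], [19, 12, 6, 0, 17, 12, 4], [-8483, 61701, 83538, 3297, -384]⟩) (.leaf ⟨15, 13, true, [12, 18, 7, 14, 13, 19, 12, 0], [14, 19, 2, 17, 15, 18, 11, 6], [5141, -52715, -58048, -1544, -260]⟩)))))))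
noncomputable def dF2705 : BT Fct := (.node 22 (.node 11 (.node 5 (.node 2 (.node 1 (.leaf ⟨13, 15, true, [18, 7, 2, 6, 13, 18, 13], [12, 4, 16, 6, 16, 10, 8, 0], [-6145, 63229, 69507, 1835, 325]⟩) (.leaf ⟨15, 11, true, [19, 3, 4, 19, 16, 0, 9, 17], [2, 6, 14, 8, 11, 19, 7, 3], [9380, -84045, -99983, -3132, -110]⟩)) (.node 1 (.leaf ⟨11, 15, true, [12, 17, 6, 9, 14, 2, 12, 0], [16, 8, 0, 17, 18, 5, 2, 18], [-11313, 99273, 119889, 3818, 101]⟩) (.node 1 (.leaf ⟨15, 15, true, [15, 3, 17, 6, 19, 8, 15, 2], [5, 17, 12, 7, 17, 18, 4], [-6913, 63177, 75932, 2389, 82]⟩) (.leaf ⟨15, 8, true, [19, 15, 7, 4, 11, 5, 11, 0], [6, 12, 19, 5, 6, 16, 13, 3], [-4338, 31306, 43139, 1737, -235]⟩)))) (.node 3 (.node 1 (.leaf ⟨8, 15, true, [10, 14, 8, 6, 12, 10, 19], [5, 13, 0, 9, 4, 16, 9, 2], [4283, -30868, -42583,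 -1718, 235]⟩) (.node 1 (.leaf ⟨15, 8, true, [9, 0, 13, 6, 11, 8, 16], [17, 7, 4, 10, 8, 6, 4], [3631, -38431, -42718, -1077, -231]⟩) (.leaf ⟨8, 15, true, [19, 4, 8, 10, 19, 7, 7], [17, 9, 10, 7, 12, 6, 3], [-3686, 38869, 43274, 1096, 231]⟩))) (.node 1 (.leaf ⟨15, 8, true, [14, 10, 12, 10, 15, 7], [9, 7, 17, 15, 18, 13, 6], [6033, -54174, -63141, -1973, -79]⟩) (.node 1 (.leaf ⟨8, 15, true, [11, 12, 17, 4, 15, 18, 15, 0], [6, 14, 11, 13, 11, 15], [-6088, 54612, 63697, 1992, 79]⟩) (.leaf ⟨15, 11, true, [18, 5, 8, 7, 14, 5, 8, 3], [13, 8, 2, 4, 7, 5, 16, 11], [4801, -34726, -47302, -1856, 201]⟩))))) (.node 5 (.node 2 (.node 1 (.leaf ⟨11, 15, true, [4, 14, 9, 13, 2, 14, 7, 12], [2, 14, 8, 17, 6, 5, 18, 3], [-6068, 44990, 60691, 2321, -219]⟩) (.leaf ⟨15, 8, true, [13, 0, 18, 0, 14, 19, 16, 3], [18, 3,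 10, 12, 4, 6, 9], [11495, -91604, -118664, -4278, 244]⟩)) (.node 1 (.leaf ⟨15, 12, true, [10, 9, 12, 19, 6, 4, 14], [8, 7, 14, 17, 10, 12, 4, 3], [9240, -84094, -97093, -2937, -232]⟩) (.node 1 (.leaf ⟨12, 15, true, [3, 4, 6, 14, 9, 16, 14, 2], [15, 5, 7, 18, 13, 8, 11], [-8738, 78744, 91268, 2792, 198]⟩) (.leaf ⟨15, 8, true, [8, 14, 9, 18, 10, 17, 2], [9, 17, 3, 9, 14, 10, 16, 13], [7659, -66346, -81141, -2667, -7]⟩)))) (.node 3 (.node 1 (.leaf ⟨8, 15, true, [19, 7, 9, 4, 9, 16, 14, 3], [11, 13, 8, 7, 0, 15, 9], [-7714, 66784, 81697, 2686, 7]⟩) (.node 1 (.leaf ⟨15, 9, true, [7, 16, 10, 14, 6, 9, 0], [9, 2, 4, 15, 19, 13, 15], [8515, -69491, -86205, -2978, 75]⟩) (.leaf ⟨9, 15, true, [18, 10, 16, 15, 7, 19, 6], [6, 3, 7, 15, 11, 17, 6], [-8113, 66485, 81415, 2787, -47]⟩))) (.node 1 (.leaf ⟨15, 6,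 true, [2, 0, 18, 5, 17, 4, 10, 4], [18, 12, 0, 12, 5, 11, 14, 18], [11293, -99418, -120499, -3873, -90]⟩) (.node 1 (.leaf ⟨6, 15, true, [6, 16, 12, 6, 2, 0], [5, 11, 5, 16, 4, 19, 0, 3], [-11315, 99481, 120656, 3879, 90]⟩) (.leaf ⟨15, 9, true, [10, 8, 0, 14, 18, 6, 12, 9], [2, 11, 6, 17, 10, 7, 17], [11187, -96718, -119883, -4015, 68]⟩)))))) (.node 11 (.node 5 (.node 2 (.node 1 (.leaf ⟨9, 15, true, [3, 18, 7, 14, 8, 2, 15], [19, 5, 6, 17, 12, 7, 14, 0], [-11186, 96664, 119841, 4016, -69]⟩) (.leaf ⟨15, 12, true, [18, 11, 9, 6, 4, 16], [18, 3, 6, 5, 9, 4, 18, 12], [8230, -73870, -91961, -3039, 66]⟩)) (.node 1 (.leaf ⟨12, 15, true, [11, 9, 10, 4, 18, 7, 7], [17, 5, 7, 8, 10, 19], [-8229, 73752, 91832, 3038, -67]⟩) (.node 1 (.leaf ⟨15, 13, true, [18, 7, 10, 16, 11, 2, 18], [12, 0, 12, 17, 14, 16, 7,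 3], [-677, 11253, 8841, 4, 234]⟩) (.leaf ⟨15, 11, true, [14, 5, 0, 14, 8, 15, 6, 12], [13, 3, 14, 7, 9, 14, 6, 3], [-1510, 14515, 16805, 496, 46]⟩)))) (.node 3 (.node 1 (.leaf ⟨11, 15, true, [16, 6, 4, 12, 18, 17, 7, 14], [8, 11, 0, 18, 18, 5, 6, 5], [1572, -15327, -17703, -523, -43]⟩) (.node 1 (.leaf ⟨15, 13, true, [14, 17, 6, 0, 12, 11, 14], [7, 5, 18, 14, 12, 14, 4], [6118, -51145, -65728, -2247, -24]⟩) (.leaf ⟨15, 9, true, [2, 0, 13, 17, 7, 18, 18, 2], [12, 17, 11, 4, 16, 10, 0], [2876, -31054, -33147, -804, -212]⟩))) (.node 1 (.leaf ⟨9, 15, true, [14, 19, 2, 11, 18, 5, 6, 13], [0, 4, 14, 17, 7, 16, 6, 0], [-2546, 28601, 29080, 637, 240]⟩) (.node 1 (.leaf ⟨15, 13, true, [10, 5, 8, 17, 14, 4, 16, 2], [19, 11, 19, 11, 6, 14, 7, 0], [6658, -68772, -75784, -1966, -393]⟩) (.leaf ⟨13, 15, true, [6,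 0, 7, 13, 17, 15, 7, 4], [4, 6, 6, 15, 8, 17, 13, 2], [-7662, 79286, 87243, 2257, 458]⟩))))) (.node 6 (.node 3 (.node 1 (.leaf ⟨15, 15, true, [8, 2, 10, 15, 7, 17, 10, 3], [18, 3, 16, 6, 19, 14, 10, 3], [11316, -104055, -122592, -3759, -202]⟩) (.node 1 (.leaf ⟨15, 13, true, [10, 13, 15, 18, 6, 0, 2], [12, 16, 10, 8, 11, 0, 14], [13090, -110730, -138381, -4750, 168]⟩) (.leaf ⟨15, 11, true, [18, 9, 7, 7, 15, 17, 6, 3], [15, 18, 7, 16, 2, 16, 4], [1222, -12766, -14463, -405, -36]⟩))) (.node 1 (.leaf ⟨11, 15, true, [4, 2, 7, 9, 6, 13, 9, 0], [16, 11, 6, 16, 2, 0, 11, 6], [-1160, 11954, 13565, 378, 39]⟩) (.node 1 (.leaf ⟨15, 9, true, [19, 6, 18, 15, 8, 2, 16, 0], [17, 4, 10, 2, 17, 18], [2497, -25770, -28477, -727, -144]⟩) (.leaf ⟨9, 15, true, [8, 5, 9, 4, 7, 2, 6, 0], [6, 18, 0, 16, 11, 13, 11, 3],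 [-781, 11269, 9705, 58, 193]⟩)))) (.node 3 (.node 1 (.leaf ⟨15, 15, true, [16, 9, 19, 6, 5, 9, 5], [15, 4, 6, 10, 4, 19, 13, 3], [-943, 9998, 10729, 268, 64]⟩) (.node 1 (.leaf ⟨15, 13, true, [13, 11, 6, 17, 15, 19, 2], [9, 19, 17, 13, 11, 16, 4], [10263, -99649, -115292, -3349, -262]⟩) (.leaf ⟨13, 15, true, [18, 0, 3, 14, 6, 18, 11, 0], [11, 17, 7, 17, 11, 19, 8], [-11267, 110163, 126751, 3640, 327]⟩))) (.node 1 (.leaf ⟨15, 10, true, [6, 6, 11, 19, 7, 10, 13, 3], [18, 4, 10, 2, 16, 9, 17, 0], [9108, -84558, -96872, -2877, -235]⟩) (.node 1 (.leaf ⟨10, 15, true, [5, 10, 3, 7, 16, 19, 17], [19, 14, 11, 13, 6, 16, 7, 3], [-9638, 88902, 102737, 3083, 222]⟩) (.leaf ⟨15, 15, true, [18, 11, 12, 19, 16, 3, 19, 2], [16, 10, 14, 7, 9, 16, 3, 0], [-3, 5, -40, -9, 5]⟩)))))))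
noncomputable def dF2750 : BT Fct := (.node 22 (.node 11 (.node 5 (.node 2 (.node 1 (.leaf ⟨15, 12, true, [7, 17, 5, 7, 15, 19, 15], [15, 13, 6, 12, 16, 19, 8], [7260, -64564, -77282, -2460, -67]⟩) (.leaf ⟨12, 15, true, [6, 17, 5, 6, 18, 5, 16, 3], [14, 18, 14, 6, 4, 16, 6], [-7259, 64446, 77153, 2459, 66]⟩)) (.node 1 (.leaf ⟨15, 13, true, [15, 8, 4, 15, 0, 11], [16, 14, 18, 15, 13, 4, 14, 3], [1833, -22496, -22913, -407, -241]⟩) (.node 1 (.leaf ⟨13, 15, true, [10, 9, 17, 11, 9, 3, 16], [10, 0, 14, 5, 9, 14], [-2837, 33010, 34372, 698, 306]⟩) (.leaf ⟨15, 15, true, [7, 11, 9, 5, 8, 17], [18, 12, 0, 18, 15, 18, 7, 4], [-14107, 120565, 148163, 4971, -59]⟩)))) (.node 3 (.node 1 (.leaf ⟨15, 15, true, [18, 13, 6, 15, 18, 9, 2], [11, 19, 15, 19, 10, 7, 7, 4], [-2843, 30705, 32860, 803, 204]⟩) (.node 1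 (.leaf ⟨15, 15, true, [7, 2, 9, 5, 18, 0, 15, 0], [2, 6, 18, 11, 17, 6, 5], [-7, 255, 243, 2, 1]⟩) (.leaf ⟨11, 15, true, [6, 15, 8, 10, 13, 0, 9], [6, 13, 9, 15, 19, 13, 0, 2], [2701, -25370, -31832, -1002, -15]⟩))) (.node 1 (.leaf ⟨15, 11, true, [5, 19, 3, 16, 10, 7, 8], [8, 0, 12, 11, 9, 14, 7], [-1696, 14686, 20156, 702, -47]⟩) (.node 1 (.leaf ⟨15, 15, true, [5, 14, 8, 5, 10, 17], [0, 7, 13, 10, 12, 8, 15], [-6756, 56010, 70227, 2429, -91]⟩) (.leaf ⟨11, 15, true, [17, 9, 17, 14, 8, 19, 13], [15, 2, 4, 10, 17, 4, 14, 0], [11453, -90440, -118688, -4254, 214]⟩))))) (.node 5 (.node 2 (.node 1 (.leaf ⟨15, 11, true, [18, 5, 19, 7, 2, 10, 19], [5, 19, 16, 11, 4, 18, 0], [-3881, 24815, 38693, 1614, -216]⟩) (.leaf ⟨15, 15, true, [0, 9, 7, 13, 18, 6, 12], [3, 16, 0, 19, 12, 6, 9, 5], [3996, -33389, -43031,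 -1519, 74]⟩)) (.node 1 (.leaf ⟨6, 15, true, [8, 6, 15, 16, 13, 10], [10, 14, 7, 15, 17, 9, 7, 0], [7408, -69350, -81807, -2537, -105]⟩) (.node 1 (.leaf ⟨15, 6, true, [7, 2, 7, 13, 11, 0, 14, 3], [11, 12, 17, 14, 7, 9], [-4710, 41897, 51126, 1715, -25]⟩) (.leaf ⟨10, 15, true, [13, 4, 16, 0, 15, 6, 5, 0], [17, 3, 14, 6, 18, 5, 11], [372, -4502, -5787, -131, 41]⟩)))) (.node 3 (.node 1 (.leaf ⟨15, 10, true, [12, 2, 5, 18, 12, 14, 7, 4], [6, 8, 7, 17, 18, 5, 2, 0], [8202, -71579, -85592, -2797, -109]⟩) (.node 1 (.leaf ⟨9, 15, true, [4, 8, 17, 13, 11, 2, 12], [18, 12, 0, 14, 5, 17, 12, 5], [-1628, 12017, 15075, 533, -12]⟩) (.leaf ⟨15, 9, true, [18, 10, 4, 18, 7, 7, 14, 4], [5, 13, 8, 15, 10, 15, 3], [-66, 4752, 3930, -11, 80]⟩))) (.node 1 (.leaf ⟨7, 15, true, [9, 7, 12, 2, 15, 12], [15, 9, 14, 11, 5,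 18, 5], [864, -10315, -10570, -219, -85]⟩) (.node 1 (.leaf ⟨15, 7, true, [14, 13, 18, 8, 14, 12], [13, 14, 9, 3, 6, 8], [-7432, 65256, 78889, 2559, 25]⟩) (.leaf ⟨15, 15, true, [19, 4, 15, 9, 17, 13, 5, 0], [10, 6, 19, 6, 8, 15, 9], [1812, -20316, -21577, -489, -142]⟩)))))) (.node 11 (.node 5 (.node 2 (.node 1 (.leaf ⟨15, 15, true, [14, 18, 5, 8, 7, 10, 3], [13, 8, 13, 7, 2, 6, 18, 12], [-17686, 159117, 187136, 5827, 295]⟩) (.leaf ⟨15, 6, true, [10, 7, 15, 9, 2, 17, 10], [14, 19, 6, 6, 16, 19, 5, 19], [-4803, 36632, 48518, 1830, -184]⟩)) (.node 1 (.leaf ⟨6, 15, true, [7, 18, 4, 0, 7, 12, 14, 4], [11, 16, 3, 8, 14, 6, 11], [4643, -35235, -46723, -1769, 181]⟩) (.node 1 (.leaf ⟨15, 15, true, [11, 0, 16, 10, 18, 10, 14], [12, 8, 14, 4, 3, 16, 11, 0], [-1421, 11277, 9566, 211, 150]⟩) (.leaf ⟨11, 15, true,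 [12, 2, 11, 6, 16, 4, 15, 0], [7, 4, 14, 7, 8, 4, 6], [532, -11693, -8425, 35, -111]⟩)))) (.node 3 (.node 1 (.leaf ⟨15, 11, true, [14, 16, 7, 9, 16, 18, 14, 3], [9, 4, 14, 10, 17, 14, 8, 0], [-8102, 77090, 88128, 2593, 117]⟩) (.node 1 (.leaf ⟨9, 15, true, [10, 12, 7, 12, 16, 14, 2], [15, 19, 11, 8, 16, 5, 18], [1967, -17302, -20258, -728, 103]⟩) (.leaf ⟨15, 9, true, [8, 10, 0, 14, 19, 17, 15, 18], [10, 9, 18, 13, 6, 13, 11], [4599, -37639, -48061, -1612, -43]⟩))) (.node 1 (.leaf ⟨15, 15, true, [19, 0, 19, 14, 18, 10, 17, 0], [11, 18, 5, 9, 16, 19, 7, 3], [-9696, 88090, 104458, 3257, 140]⟩) (.node 1 (.leaf ⟨15, 15, true, [11, 0, 8, 6, 16, 18, 11, 2], [16, 4, 8, 7, 16, 15, 0, 4], [7835, -81742, -89880, -2327, -458]⟩) (.leaf ⟨15, 15, true, [8, 5, 18, 5, 9, 16, 11, 2], [7, 9, 6, 4, 6, 19, 11, 5], [-426,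 -5984, -2030, 342, -313]⟩))))) (.node 6 (.node 3 (.node 1 (.leaf ⟨15, 7, true, [19, 11, 16, 6, 10, 5, 2], [17, 4, 17, 6, 14, 0, 14], [4391, -43293, -51463, -1524, -59]⟩) (.node 1 (.leaf ⟨7, 15, true, [14, 6, 14, 0, 15, 18, 13, 2], [3, 4, 11, 7, 17, 10, 18], [-4413, 43621, 51774, 1526, 62]⟩) (.leaf ⟨15, 15, true, [17, 13, 4, 18, 15, 9, 4], [9, 0, 16, 4, 16, 8, 0, 3], [155, 3138, 7121, 225, -8]⟩))) (.node 1 (.leaf ⟨15, 15, true, [11, 2, 7, 5, 16, 7, 12], [17, 5, 11, 0, 17, 4, 9, 3], [-2399, 23390, 24098, 559, 195]⟩) (.node 1 (.leaf ⟨15, 15, true, [6, 9, 14, 11, 17, 3], [14, 5, 18, 17, 7, 8, 4], [1093, -10586, -12865, -371, -12]⟩) (.leaf ⟨15, 15, true, [18, 5, 16, 19, 12, 6, 15, 2], [13, 3, 4, 10, 0, 17, 7], [8670, -80643, -95900, -2944, -148]⟩)))) (.node 3 (.node 1 (.leaf ⟨15, 15, true, [12, 18, 2,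 17, 14, 4, 19, 0], [12, 8, 2, 10, 4, 8, 0], [3471, -21377, -32419, -1522, 332]⟩) (.node 1 (.leaf ⟨15, 15, true, [2, 7, 7, 19, 7, 14, 2], [7, 15, 12, 5, 8, 14, 8, 3], [-6566, 54939, 68304, 2339, -60]⟩) (.leaf ⟨14, 16, true, [0, 7, 16, 15, 6, 4, 14, 2], [], []⟩))) (.node 1 (.leaf ⟨16, 16, false, [17, 10, 6, 3, 16, 6, 10, 2], [], [-4722, 43547, 52095, 1596, 138]⟩) (.node 1 (.leaf ⟨16, 16, false, [4, 11, 16, 14, 9, 14, 2], [], [-1953, 29811, 25604, 252, 369]⟩) (.leaf ⟨16, 16, false, [8, 0, 11, 19, 12, 19, 7, 3], [], [-651, 9936, 8541, 84, 123]⟩)))))))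
noncomputable def dF2795 : BT Fct := (.node 22 (.node 11 (.node 5 (.node 2 (.node 1 (.leaf ⟨16, 9, true, [4, 7, 16, 10, 16, 0, 7, 2], [5, 18, 13, 11, 5, 6, 10, 2], [9824, -103104, -114648, -2986, -486]⟩) (.leaf ⟨9, 16, true, [10, 16, 4, 2, 0], [16, 6, 19, 4, 17, 9, 6, 3], [-11542, 117605, 133420, 3655, 437]⟩)) (.node 1 (.leaf ⟨16, 16, false, [7, 2, 9, 17, 4, 8, 0, 2], [], [-1528, 13100, 16118, 551, -22]⟩) (.node 1 (.leaf ⟨16, 16, true, [13, 6, 9, 5, 19, 4, 6, 3], [18, 0, 16, 4, 14, 2, 17, 3], [-832, 8666, 9918, 246, 91]⟩) (.leaf ⟨16, 15, true, [17, 6, 17, 5, 12, 0, 11, 3], [6, 6, 8, 15, 17, 0, 12, 2], [10567, -105259, -121008, -3372, -418]⟩)))) (.node 3 (.node 1 (.leaf ⟨15, 16, true, [11, 13, 19, 15, 4, 6, 16, 2], [2, 10, 0, 13, 4, 16, 7, 16], [-7869, 77806, 90327, 2550, 288]⟩) (.node 1 (.leaf ⟨16,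 16, false, [0, 18, 12, 0, 13, 19, 0], [], [-17526, 154104, 186333, 6024, 78]⟩) (.leaf ⟨16, 8, true, [4, 18, 5, 17, 6, 10, 16], [7, 2, 9, 17, 14, 4, 6, 2], [27506, -222204, -288022, -10211, 246]⟩))) (.node 1 (.leaf ⟨16, 11, true, [5, 18, 9, 10, 5, 6, 14, 3], [4, 7, 12, 14, 8, 19, 7, 11], [25636, -209941, -269077, -9327, 161]⟩) (.node 1 (.leaf ⟨11, 16, true, [9, 4, 19, 0, 4, 18, 15], [11, 7, 3, 12, 8, 11, 17, 18], [-27569, 225169, 288983, 10013, -170]⟩) (.leaf ⟨16, 16, true, [18, 8, 11, 16, 4, 17, 15, 13], [16, 5, 8, 5, 9, 17, 18, 5], [2054, -15194, -21573, -789, -14]⟩))))) (.node 5 (.node 2 (.node 1 (.leaf ⟨16, 16, true, [15, 9, 19, 4, 16, 3, 18, 2], [8, 11, 2, 12, 6, 4, 8, 5], [1664, -17336, -19856, -493, -182]⟩) (.leaf ⟨16, 16, true, [19, 10, 14, 19, 12, 6, 10], [4, 9, 17, 3, 18, 8, 4, 0], [-4095,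 35015, 44262, 1475, 14]⟩)) (.node 1 (.leaf ⟨10, 17, true, [11, 9, 15, 18, 0, 18, 9], [], []⟩) (.node 1 (.leaf ⟨17, 17, false, [8, 17, 0, 13, 10, 8, 3], [], [-549, 4798, 6175, 194, -3]⟩) (.leaf ⟨17, 17, false, [7, 17, 19, 6, 14, 6, 18, 0], [], [-894, 8321, 10553, 342]⟩)))) (.node 3 (.node 1 (.leaf ⟨17, 17, false, [4, 14, 2, 13, 11, 12, 5], [], [-469, 4755, 5684, 159, 11]⟩) (.node 1 (.leaf ⟨17, 17, false, [18, 5, 0, 9, 14, 18, 15, 9], [], [-46, 1095, 734, -27, 23]⟩) (.leaf ⟨17, 10, true, [7, 19, 5, 17, 4, 17, 3], [9, 7, 13, 16, 7, 15, 13, 3], [3501, -30698, -41652, -1413, 79]⟩))) (.node 1 (.leaf ⟨10, 17, true, [18, 10, 6, 11, 13, 8, 7, 3], [2, 16, 5, 16, 4, 18, 6], [-4051, 35496, 47817, 1607, -82]⟩) (.node 1 (.leaf ⟨17, 17, false, [16, 7, 14, 19, 6, 5, 16, 2], [], [635, -5026, -6776, -226, 14]⟩) (.leaf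 ⟨17, 13, true, [6, 17, 10, 16, 10, 19, 13], [12, 2, 7, 15, 7, 9, 11], [1452, -13420, -16924, -531, -2]⟩)))))) (.node 11 (.node 5 (.node 2 (.node 1 (.leaf ⟨17, 15, true, [18, 8, 12, 6, 17, 15, 12], [16, 7, 19, 16, 6, 3, 6, 2], [-10364, 93180, 115980, 3779, -52]⟩) (.leaf ⟨15, 17, true, [9, 5, 0, 9, 15, 10, 12, 19], [13, 14, 16, 7, 13, 9, 19], [9361, -82724, -104596, -3491, 118]⟩)) (.node 1 (.leaf ⟨17, 11, true, [10, 3, 6, 8, 14, 19, 7, 4], [7, 7, 16, 8, 5, 7, 0], [1271, -15265, -14982, -180, -234]⟩) (.node 1 (.leaf ⟨11, 17, true, [3, 16, 3, 17, 7, 16, 8, 12], [4, 16, 2, 5, 8, 7, 7, 19], [-1211, 14517, 14139, 152, 238]⟩) (.leaf ⟨17, 7, true, [19, 12, 6, 15, 11, 2, 19], [4, 2, 7, 10, 15, 16, 4, 2], [-2836, 20102, 28459, 1075, -72]⟩)))) (.node 3 (.node 1 (.leaf ⟨7, 17, true, [12, 0, 19, 13, 6, 16, 14,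 2], [18, 3, 10, 14, 7, 13, 18], [2839, -20154, -28457, -1071, 70]⟩) (.node 1 (.leaf ⟨17, 17, true, [4, 19, 6, 18, 4, 9, 19], [18, 12, 17, 6, 6, 9, 14, 2], [-4493, 33417, 45329, 1844, -309]⟩) (.leaf ⟨17, 17, true, [2, 17, 6, 17, 12, 10, 13], [7, 15, 0, 17, 12, 6, 0], [454, -5670, -5223, -95, -69]⟩))) (.node 1 (.leaf ⟨17, 17, true, [7, 18, 9, 6, 19, 12, 7, 2], [0, 15, 9, 7, 19, 15, 9, 0], [110, 1781, -1430, -164, 130]⟩) (.node 1 (.leaf ⟨7, 18, true, [16, 5, 17, 10, 7, 19, 3, 4], [], []⟩) (.leaf ⟨18, 18, false, [16, 19, 16, 9, 16, 10, 3], [], [4, -46, 6, 4, -2]⟩))))) (.node 6 (.node 3 (.node 1 (.leaf ⟨18, 18, false, [8, 4, 15, 6, 6, 16, 5], [], [-39, 776, 692, 3, 6]⟩) (.node 1 (.leaf ⟨18, 18, false, [7, 7, 12, 6, 19, 6, 13], [], [-31, 650, 569, 5, 2]⟩) (.leaf ⟨18, 18, false, [6, 10, 14, 17, 0, 15,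 19, 0], [], [-454, 3402, 4897, 176, -10]⟩))) (.node 1 (.leaf ⟨18, 7, true, [8, 14, 7, 2, 18, 9, 4], [18, 13, 3, 18, 6, 8, 5], [250, -2558, -3004, -81, -1]⟩) (.node 1 (.leaf ⟨18, 18, false, [10, 0, 10, 4, 17, 10, 16], [], [-255, 2623, 3073, 80, 3]⟩) (.leaf ⟨18, 9, true, [2, 16, 7, 14, 11, 16, 4, 2], [16, 0, 8, 14, 16, 14, 6, 3], [178, 1265, 101, -86, 11]⟩)))) (.node 3 (.node 1 (.leaf ⟨18, 18, false, [5, 12, 11, 18, 0, 17, 15, 2], [], [-1645, 13953, 18056, 645, -49]⟩) (.node 1 (.leaf ⟨18, 10, true, [9, 5, 19, 11, 16, 9, 12, 0], [13, 8, 4, 11, 3, 5, 17, 6], [2275, -20786, -25487, -867, 68]⟩) (.leaf ⟨10, 18, true, [4, 7, 19, 11, 15, 5, 13], [5, 2, 10, 18, 7, 9, 17, 2], [-1727, 15988, 19322, 673, -65]⟩))) (.node 1 (.leaf ⟨18, 18, true, [18, 14, 4, 19, 0, 4, 18, 15], [0, 7, 7, 16, 11, 0, 10, 4], [-99,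 734, 1111, 48, -10]⟩) (.node 1 (.leaf ⟨18, 18, true, [16, 6, 16, 11, 19, 5, 17], [13, 0, 10, 13, 6, 10, 0, 4], [1835, -17706, -20467, -707, 70]⟩) (.leaf ⟨18, 18, true, [13, 4, 11, 2, 16, 18, 7, 0], [0, 7, 19, 2, 13, 10, 13], [-7, 120, 107, -3, 4]⟩)))))))
noncomputable def dF2840 : BT Fct := (.node 23 (.node 11 (.node 5 (.node 2 (.node 1 (.leaf ⟨18, 17, true, [19, 15, 8, 19, 7, 3, 7, 2], [10, 4, 3, 5, 16, 7, 2], [-350, 8148, 6340, 197, -57]⟩) (.leaf ⟨17, 18, true, [15, 5, 16, 6, 14, 9, 19], [18, 0, 16, 5, 13, 6, 6, 2], [-286, -3122, 436, 29, 43]⟩)) (.node 1 (.leaf ⟨15, 19, true, [7, 0, 4, 9, 15, 13, 14], [], []⟩) (.node 1 (.leaf ⟨19, 19, false, [10, 17, 3, 17, 3, 19, 3], [], [691, -6315, -7615, -234, -2]⟩) (.leaf ⟨19, 19, false, [10, 18, 7, 17, 13, 6, 13], [], [-691, 6322, 7628, 234, 2]⟩)))) (.node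 3 (.node 1 (.leaf ⟨19, 19, false, [18, 6, 6, 19, 16, 7, 8], [], [6567, -54941, -68310, -2340, 60]⟩) (.node 1 (.leaf ⟨19, 15, true, [6, 18, 16, 0, 17, 0], [12, 16, 0, 8, 7, 3, 16, 10], [-23250, 203601, 244053, 7878, 169]⟩) (.leaf ⟨19, 19, false, [3, 6, 17, 12, 0, 13, 4], [], [23249, -203593, -244044, -7878, -169]⟩))) (.node 1 (.leaf ⟨19, 15, true, [14, 4, 15, 10, 16, 4, 18], [9, 10, 12, 15, 7, 13, 19], [9410, -87096, -102334, -3162, -162]⟩) (.node 1 (.leaf ⟨19, 19, false, [17, 0, 16, 5, 6, 17, 14, 3], [], [-10413, 97555, 113725, 3450, 228]⟩) (.leaf ⟨19, 15, true, [10, 12, 18, 7, 5, 17, 7, 2], [15, 5, 16, 4, 3, 14, 2], [-31926, 283836, 338212, 10796, 325]⟩))))) (.node 6 (.node 3 (.node 1 (.leaf ⟨19, 19, false, [7, 4, 14, 5, 9, 11, 9], [], [30923, -273371, -326820, -10508, -259]⟩) (.node 1 (.leaf ⟨19,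 16, true, [15, 6, 9, 6, 16, 12, 2, 0], [16, 5, 16, 13, 7, 13, 6, 0], [-56289, 477079, 592265, 19904, -25]⟩) (.leaf ⟨16, 19, true, [14, 6, 16, 11, 3, 7, 9, 0], [0, 9, 3, 17, 7, 8, 7, 14], [52443, -436696, -547747, -18775, 308]⟩))) (.node 1 (.leaf ⟨19, 19, true, [4, 2, 6, 12, 17, 8, 6, 3], [18, 9, 10, 16, 6, 14, 13, 0], [-38415, 335771, 404490, 13179, 194]⟩) (.node 1 (.leaf ⟨19, 19, true, [6, 6, 19, 0, 10, 9, 19], [10, 2, 8, 4, 6, 13, 18, 3], [79294, -701530, -839167, -27001, -672]⟩) (.leaf ⟨5, 20, true, [3, 14, 9, 7, 12, 10, 2], [], []⟩)))) (.node 3 (.node 1 (.leaf ⟨20, 8, true, [7, 15, 7, 13, 19, 7, 9], [12, 11, 7, 19, 15, 12, 6, 3], [-186, 2129, 3114, 91, -2]⟩) (.node 1 (.leaf ⟨8, 20, true, [16, 9, 14, 9, 12, 4, 16], [8, 6, 18, 12, 6, 14, 6], [239, -2567, -3670, -110, 2]⟩) (.leaf ⟨20, 13, true,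 [9, 2, 6, 17, 15, 18, 7, 8], [13, 19, 0, 12, 4, 10, 19, 10], [-696, 6142, 5621, 171, 64]⟩))) (.node 1 (.leaf ⟨13, 20, true, [13, 5, 7, 15, 17, 0, 9, 0], [12, 15, 0, 8, 15, 11, 5, 19], [-308, 4372, 5838, 120, 1]⟩) (.node 1 (.leaf ⟨20, 8, true, [9, 10, 19, 4, 16, 5, 6], [18, 9, 14, 5, 18, 12, 14, 0], [467, -3503, -4869, -187, 15]⟩) (.leaf ⟨8, 20, true, [18, 4, 11, 9, 15, 19, 16], [7, 4, 17, 5, 18, 11, 8], [-522, 3941, 5425, 206, -15]⟩)))))) (.node 11 (.node 5 (.node 2 (.node 1 (.leaf ⟨20, 13, true, [7, 3, 14, 7, 13, 3, 18], [12, 6, 12, 9, 10, 15, 18, 3], [923, -9303, -10193, -272, -57]⟩) (.leaf ⟨13, 20, true, [4, 17, 4, 6, 9], [19, 2, 12, 6, 15, 2, 6], [-1927, 19817, 21652, 563, 122]⟩)) (.node 1 (.leaf ⟨20, 8, true, [14, 17, 10, 9, 16, 7, 18, 0], [9, 5, 0, 10, 18, 13, 8, 6], [268, -1946, -2740, -114,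 14]⟩) (.node 1 (.leaf ⟨20, 20, false, [8, 2, 5, 16, 6, 17, 13, 2], [], [-454, 4080, 5861, 205, -16]⟩) (.leaf ⟨20, 13, true, [9, 4, 10, 17, 6, 5, 9], [2, 14, 5, 16, 7, 17, 5, 2], [3044, -27480, -42477, -1507, 192]⟩)))) (.node 3 (.node 1 (.leaf ⟨13, 20, true, [3, 17, 8, 17, 11, 15, 3], [8, 4, 7, 16, 11, 5, 8], [-4048, 37994, 53936, 1798, -127]⟩) (.node 1 (.leaf ⟨20, 8, true, [13, 4, 0, 11, 12, 5, 17, 0], [11, 19, 5, 17, 11, 18], [4553, -40430, -57646, -2046, 183]⟩) (.leaf ⟨8, 20, true, [8, 2, 10, 7, 10, 6, 14, 3], [15, 19, 6, 13, 19, 16, 10, 0], [-4608, 40868, 58202, 2065, -183]⟩))) (.node 1 (.leaf ⟨20, 13, true, [7, 0, 2, 17, 8, 4, 9, 4], [0, 18, 13, 4, 7, 18, 2], [5434, -51381, -70272, -2325, 98]⟩) (.node 1 (.leaf ⟨20, 13, true, [15, 7, 4, 11, 5, 3, 15, 13], [5, 13, 10, 16, 4, 11, 6, 0], [4406,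 -42427, -57377, -1866, 60]⟩) (.leaf ⟨20, 20, false, [17, 0, 8, 10, 15, 5, 13, 3], [], [-4099, 38063, 51548, 1746, -61]⟩))))) (.node 6 (.node 3 (.node 1 (.leaf ⟨20, 8, true, [14, 5, 16, 8, 10, 9, 16], [4, 0, 4, 15, 19, 15, 19], [3706, -33998, -45366, -1559, 68]⟩) (.node 1 (.leaf ⟨20, 8, true, [12, 10, 18, 5, 8, 6, 12], [17, 4, 6, 14, 19, 4, 18, 3], [-735, 6763, 8795, 277, -5]⟩) (.leaf ⟨8, 20, true, [15, 3, 0, 19, 12, 10, 14, 11], [13, 7, 9, 4, 19, 11, 13], [680, -6325, -8239, -258, 5]⟩))) (.node 1 (.leaf ⟨20, 8, true, [15, 19, 0, 17, 5, 10, 8, 10], [6, 5, 12, 16, 0, 16, 7], [-19979, 186422, 251394, 8453, -247]⟩) (.node 1 (.leaf ⟨8, 20, true, [17, 13, 2, 4, 8, 0, 15, 7], [16, 18, 7, 18, 14, 11, 4, 2], [20032, -186860, -251950, -8472, 247]⟩) (.leaf ⟨20, 12, true, [4, 18, 0, 14, 18, 7, 2, 11], [17,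 9, 0, 17, 18, 9, 4, 14], [7123, -65980, -88995, -3021, 89]⟩)))) (.node 3 (.node 1 (.leaf ⟨12, 20, true, [16, 7, 15, 17, 0, 17, 0], [12, 6, 8, 15, 5, 19, 16, 2], [-6619, 60512, 83041, 2875, -124]⟩) (.node 1 (.leaf ⟨20, 8, true, [10, 6, 19, 13, 14, 18, 7, 0], [16, 4, 3, 15, 11, 16, 0], [-19895, 185065, 249212, 8400, -262]⟩) (.leaf ⟨20, 9, true, [16, 4, 7, 18, 13, 10, 9], [10, 6, 10, 3, 4, 15, 16, 13], [-11559, 107795, 144960, 4875, -143]⟩))) (.node 1 (.leaf ⟨9, 20, true, [18, 4, 8, 11, 5, 19, 14, 3], [8, 11, 12, 19, 6, 5, 17], [11630, -108348, -145683, -4899, 143]⟩) (.node 1 (.leaf ⟨20, 12, true, [13, 10, 5, 18, 9, 5, 19, 10], [4, 3, 19, 4, 17, 5, 13, 0], [12704, -117232, -159502, -5432, 201]⟩) (.leaf ⟨12, 20, true, [15, 19, 4, 14, 11, 14, 13, 15], [4, 10, 5, 7, 11, 18, 0, 3], [-12202, 111882, 153677,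 5287, -235]⟩)))))))
noncomputable def dd : Dce := ⟨12, m_ts, [3, 2, 1, 0], [], [], [-1], [[19], [1]], [[19], [1]], [[0, 1], [0, 0, 1]], [[[10, 8, 11], [10, 8, 11], [11, 0, 7, 8, 2, 6, 0]], [[18, 16, 11, 8, 0], [3, 8, 12, 14, 17, 8], [18, 16, 11, 8, 0], [11, 14, 0, 2, 10, 8, 13, 3, 4, 0]], [[], []]], [[0, 0, 0, 1], [0, 0, 0, 0, 1], [1]], (.node 1443 (.node 721 (.node 360 (.node 180 (.node 90 (.node 45 dF0 dF45) (.node 45 dF90 dF135)) (.node 90 (.node 45 dF180 dF225) (.node 45 dF270 dF315))) (.node 180 (.node 90 (.node 45 dF360 dF405) (.node 45 dF450 dF495)) (.node 90 (.node 45 dF540 dF585) (.node 45 dF630 dF675)))) (.node 361 (.node 180 (.node 90 (.node 45 dF721 dF766) (.node 45 dF811 dF856)) (.node 90 (.node 45 dF901 dF946) (.node 45 dF991 dF1036))) (.node 180 (.node 90 (.node 45 dF1082 dF1127)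 (.node 45 dF1172 dF1217)) (.node 90 (.node 45 dF1262 dF1307) (.node 45 dF1352 dF1397))))) (.node 721 (.node 360 (.node 180 (.node 90 (.node 45 dF1443 dF1488) (.node 45 dF1533 dF1578)) (.node 90 (.node 45 dF1623 dF1668) (.node 45 dF1713 dF1758))) (.node 180 (.node 90 (.node 45 dF1803 dF1848) (.node 45 dF1893 dF1938)) (.node 90 (.node 45 dF1983 dF2028) (.node 45 dF2073 dF2118)))) (.node 361 (.node 180 (.node 90 (.node 45 dF2164 dF2209) (.node 45 dF2254 dF2299)) (.node 90 (.node 45 dF2344 dF2389) (.node 45 dF2434 dF2479))) (.node 180 (.node 90 (.node 45 dF2525 dF2570) (.node 45 dF2615 dF2660)) (.node 90 (.node 45 dF2705 dF2750) (.node 45 dF2795 dF2840)))))), [0, 10, 14, 19, 34, 75, 93, 115, 140, 791, 1089, 1156, 1351, 1618, 2644, 2666, 2791, 2808, 2826, 2842, 2856], [15]⟩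

end Cfsg.Agent.J4C.C
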