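import Cfsg.Agent.J4C.C.DceD0

set_option autoImplicit false
set_option Elab.async false
set_option maxRecDepth 100000
set_option linter.all false

namespace Cfsg.Agent.J4C.C
open Cfsg.Agent.CGT

theorem dd_c0 : dd.checks [⟨1, [], 0, 0, []⟩, ⟨1, [], 0, 0, []⟩, ⟨1, [], 0, 0, []⟩, ⟨1, [], 0, 0, []⟩, ⟨1, [], 0, 0, []⟩, ⟨1, [], 0, 0, []⟩, ⟨1, [], 0, 0, []⟩, ⟨1, [], 0, 0, []⟩, ⟨1, [], 0, 0, []⟩, ⟨1, [], 0, 0, []⟩, ⟨0, [], 0, 0, []⟩, ⟨3, [20, 17, 12, 12, 9, 21], 2, 0, [[], [0, 0]]⟩, ⟨3, [20, 10, 7, 3, 7, 10, 5, 21], 2, 0, [[], [2, 0, 2, 1, 2, 0, 2, 1, 2, 0, 0, 2]]⟩, ⟨3, [20, 7, 19, 17, 15, 12, 4, 12, 17, 21], 2, 0, [[], [0, 2, 0, 0, 2, 0, 2, 0, 2, 0, 0,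 2, 0, 2, 1, 2, 0, 2, 0, 2, 0]]⟩, ⟨0, [], 0, 0, []⟩, ⟨4, [], 0, 0, []⟩, ⟨3, [31, 21], 2, 0, [[], []]⟩, ⟨3, [33, 28], 2, 0, [[], []]⟩, ⟨2, [22, 27, 22, 26, 22, 20, 16, 21], 0, 1, [[], [2, 0, 0, 2, 1, 2, 1, 2, 0, 2, 0, 0, 2, 1, 2], [0, 0, 2, 0, 2, 1, 2, 0, 2, 1, 2, 0, 0, 2, 1, 2, 0, 2, 0]]⟩, ⟨0, [], 0, 0, []⟩, ⟨2, [38, 25, 23, 24, 39], 0, 1, [[], [2, 1, 2, 0, 0, 2, 0, 2, 0, 2, 1, 2, 1, 2, 1, 2, 1, 2, 0, 0, 2, 1], [0, 2, 1, 2, 0, 0, 2, 1, 2, 0, 2, 0, 0, 2, 1, 2]]⟩, ⟨2, [38, 26, 35], 0, 1, [[], [2, 0, 0, 2, 1, 2, 0, 0, 2, 0, 0, 2, 1, 2, 0, 2, 0, 2, 0, 0], [1, 2, 0, 0, 2, 0, 2, 0, 0, 2, 0, 2, 0, 2, 1, 2, 1, 2]]⟩, ⟨3, [43, 25, 27, 23, 26, 23, 39], 2, 0,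 [[], [0, 2, 0, 0, 2, 1, 2, 0, 2, 1, 2, 1, 2, 0, 2, 0, 2]]⟩, ⟨2, [38, 27, 24, 27, 23, 24, 39], 0, 1, [[], [1, 2, 0, 0, 2, 0, 2, 1, 2, 1, 2, 1, 2, 1, 2, 0, 0, 2, 1, 2, 0], [2, 1, 2, 0, 2, 1, 2, 0, 2, 1, 2, 0, 2, 1, 2, 0, 2, 0, 0]]⟩, ⟨3, [46, 45, 44, 45, 45, 47], 2, 0, [[], [0, 2, 1, 2, 1, 2, 0, 2, 0, 2, 0, 0, 2, 0, 2, 1, 2, 0, 2, 0, 2, 0]]⟩, ⟨3, [47, 45, 41], 2, 0, [[], [0, 2, 0, 2, 0, 2, 1, 2, 0, 0, 2, 0, 0, 2, 1, 2, 0, 0, 2, 0, 0]]⟩, ⟨3, [46, 49, 49, 49, 47], 2, 0, [[], [2, 1, 2, 1, 2, 0, 0, 2, 0, 0, 2, 0, 0, 2, 1, 2, 1, 2, 0, 0, 2, 0, 2, 0, 0]]⟩, ⟨2, [48, 52, 38, 22, 26, 26, 24, 26, 39], 0, 2, [[], [0, 2, 0, 2, 1, 2, 1, 2, 0, 0, 2, 0, 0, 2, 0, 0,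 2, 1, 2, 0], [0, 0, 2, 0, 0, 2, 0, 2, 1, 2, 1, 2, 0, 2, 0, 2]]⟩, ⟨3, [55, 53, 49, 55], 2, 0, [[], [0, 2, 0, 0, 2, 0, 2, 0, 2, 0, 2, 1, 2, 1, 2, 0, 2, 0]]⟩, ⟨2, [44, 38, 24, 27, 24, 26, 24, 26, 39], 0, 2, [[], [1, 2, 0, 2, 0, 2, 1, 2, 0, 2, 1, 2, 0, 2, 0, 2, 0, 2, 0], [2, 1, 2, 0, 2, 1, 2, 1, 2, 1, 2, 0, 0, 2, 0, 2, 0, 0, 2, 0]]⟩, ⟨3, [40, 50, 56, 58, 44, 40], 0, 0, [[2, 0, 2, 1, 2, 1, 2, 1, 2, 0, 2, 0, 2, 0, 2], [1, 2, 0, 0, 2, 1, 2, 1, 2, 0, 0, 2, 1, 2, 0, 0, 2, 0, 0, 2], [1, 2, 0, 2, 0, 0, 2, 0, 0, 2, 0, 2, 0, 2, 0, 2, 0, 2, 0, 0]]⟩, ⟨2, [40, 45, 41], 0, 1, [[], [1, 2, 0, 0, 2, 1, 2, 0, 2, 1, 2, 0, 0, 2, 0, 2, 0, 0, 2, 0, 2, 1], [0, 2, 1, 2, 0,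 2, 0, 2, 1, 2, 1, 2, 0, 2, 0, 2, 0, 0, 2, 1, 2, 0]]⟩, ⟨2, [44, 51, 38, 22, 24, 27, 24, 27, 39, 53, 44, 55], 1, 3, [[], [2, 1, 2, 1, 2, 1, 2, 1, 2, 0, 2, 1, 2, 0, 0, 2, 0, 2], [2, 1, 2, 0, 2, 0, 0, 2, 0, 2, 1, 2, 0, 0], [2, 1, 2, 1, 2, 1, 2, 1, 2, 1, 2, 0, 0, 2, 0, 2, 0, 0, 2, 1, 2, 0]]⟩, ⟨3, [54, 44, 60, 64, 48, 54, 58], 1, 1, [[1, 2, 1, 2, 0, 2, 1, 2, 0, 0, 2, 0, 0, 2, 1, 2, 0, 0], [0, 2, 1, 2, 0, 0, 2, 0, 2, 0, 2, 0, 0, 2, 0, 0, 2, 1, 2, 1], [1, 2, 1, 2, 0, 2], [2, 1, 2, 0, 2, 0, 0, 2, 0, 2, 0, 2, 1, 2, 0, 2, 1, 2, 0, 2, 1]]⟩, ⟨0, [], 0, 0, []⟩, ⟨3, [68, 26, 25, 27, 23, 26, 69], 2, 0, [[], [0, 2, 0, 2, 1, 2, 0, 0, 2, 0, 2, 1, 2, 0, 2, 0, 2, 1,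 2, 0, 0]]⟩, ⟨2, [68, 26, 25, 69], 0, 1, [[], [0, 0, 2, 0, 0, 2, 0, 0, 2, 0], [0, 0, 2, 0, 0, 2, 1, 2, 0, 0, 2, 0, 2, 0, 0, 2, 0, 2, 0, 2, 0]]⟩, ⟨2, [68, 24, 26, 24, 39], 0, 1, [[], [1, 2, 0, 0, 2, 0, 2, 1, 2, 0, 2, 0, 0, 2, 0, 2, 1, 2, 1, 2, 0], [2, 0, 2, 1, 2, 0, 0, 2, 0, 2, 1, 2, 1, 2, 1, 2, 0, 0, 2, 0, 2, 0]]⟩, ⟨3, [75, 60, 67, 45], 2, 0, [[], []]⟩, ⟨3, [76, 51, 49, 45, 52, 53, 77], 2, 0, [[], [2, 0, 2, 1, 2, 0, 2, 1, 2, 0, 2, 1, 2, 0, 2, 1, 2, 0, 2, 1, 2]]⟩, ⟨3, [76, 60, 67, 45, 52, 57, 45, 66, 61, 77], 2, 0, [[], [2, 0, 2, 1, 2, 1, 2, 0, 0, 2, 0, 2, 0, 2, 1, 2]]⟩, ⟨2, [78, 68, 24, 26, 24, 23, 25, 27, 25, 69], 0, 1, [[], [1, 2, 0, 2, 0, 0, 2,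 1, 2, 1, 2, 0, 2, 0, 0, 2, 0, 2, 0, 2, 0, 0], [0, 0, 2, 1, 2, 1, 2, 0, 0, 2, 0, 2, 1, 2, 0, 2, 1, 2, 0, 2, 0]]⟩, ⟨2, [78, 70, 68, 23, 26, 23, 37, 27, 24, 26, 24, 27, 24, 69], 1, 1, [[], [0, 0, 2, 1, 2, 0, 2, 0, 2, 1, 2, 0, 0, 2, 0, 0, 2], [0, 0, 2, 1, 2, 1, 2, 0, 2, 0, 2, 0, 2, 1, 2], [0, 0, 2, 1, 2, 1, 2, 0, 2, 0, 2, 1, 2, 1, 2, 0, 0]]⟩, ⟨2, [70, 78, 70, 68, 35, 27, 24, 27, 23, 27, 23, 69], 1, 1, [[], [2, 0, 2, 0, 0, 2, 1, 2, 0, 2, 0, 2, 1, 2, 0, 0, 2, 0, 0, 2, 0], [1, 2, 1, 2, 1, 2, 0, 0, 2, 1, 2, 0, 2, 1, 2, 0, 2, 0], [2, 0, 0, 2, 0, 2, 0, 2, 1, 2, 0, 2, 1, 2, 1, 2, 1, 2, 0, 0, 2, 0, 0]]⟩, ⟨2, [56, 38, 26, 22, 26, 25, 69], 0, 2, [[], [1, 2, 0,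 2, 0, 2, 1, 2, 0, 2, 1, 2, 1, 2, 1, 2, 0, 0, 2, 1], [0, 2, 0, 2, 0, 0, 2, 1, 2, 0, 2, 0, 2, 0, 0, 2, 0, 0, 2]]⟩, ⟨3, [89, 71], 2, 0, [[], []]⟩, ⟨2, [78, 70, 68, 24, 22, 26, 26, 26, 25, 69], 0, 2, [[], [2, 0, 0, 2, 0, 0, 2, 1, 2, 0, 0, 2, 0, 2], [0, 0, 2, 0, 2, 0, 2, 0, 2, 0, 0, 2, 1, 2, 0, 0, 2, 0, 2, 1, 2]]⟩, ⟨2, [70, 80, 70, 80, 76, 44, 67, 38, 24, 26, 24, 26, 25, 27, 24, 23, 69], 1, 1, [[], [1, 2, 0, 0, 2, 0, 0, 2, 1, 2, 0, 2, 1, 2, 0, 0, 2, 1], [1, 2, 0, 0, 2, 1, 2, 0, 0, 2, 0, 2, 1, 2, 1, 2, 0, 2, 0, 2, 1], [1, 2, 0, 0, 2, 0, 0, 2, 0, 2, 0, 0, 2, 0, 2, 0, 0, 2, 0, 2, 1]]⟩, ⟨2, [78, 88, 57, 50, 89], 0, 1, [[], [1, 2, 0, 0, 2, 0, 0, 2, 1, 2, 0,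 0, 2, 0, 0, 2, 0, 2, 0], [2, 1, 2, 0, 0, 2, 0, 0, 2, 0, 0, 2, 0, 2, 0, 2, 1, 2, 0, 0, 2, 0]]⟩, ⟨3, [88, 66, 44, 64, 44, 48, 67, 90], 0, 0, [[2, 0, 2, 0, 2, 1, 2, 0, 0, 2, 0, 2, 0, 0, 2, 1, 2, 0, 2, 1], [0, 2, 1, 2, 1, 2, 0, 2, 1, 2, 0, 0, 2, 0, 0], [2, 1, 2, 1, 2, 1, 2, 0, 0, 2, 0, 0, 2, 0, 2, 1, 2, 1, 2, 0]]⟩, ⟨2, [78, 94, 79, 87], 0, 1, [[], [2, 0, 2, 1, 2, 1, 2, 0, 2, 1], [2, 0, 2, 0, 2, 0, 2, 1, 2, 1, 2, 0, 2, 0, 2, 1, 2]]⟩, ⟨2, [78, 94, 70, 78, 70, 80, 94], 0, 2, [[], [0, 0, 2, 0, 0, 2, 0, 0, 2, 0, 2, 0, 0, 2, 0, 0, 2, 1, 2, 0, 0], [0, 0, 2, 1, 2, 1, 2, 0, 2, 0, 0, 2, 0, 0, 2, 0, 0, 2, 1]]⟩, ⟨2, [96, 79, 93], 0, 1, [[], [2, 1, 2, 0, 0, 2, 0,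 2, 0, 2, 1, 2, 0, 0, 2, 0, 0, 2, 0, 0], [2, 1, 2, 0, 2, 1, 2, 1, 2, 1, 2, 0, 0, 2, 1, 2, 1, 2, 0, 2]]⟩, ⟨2, [70, 72, 80, 98, 68, 24, 26, 24, 22, 27, 22, 69], 1, 3, [[], [0, 2, 0, 0, 2, 0, 0, 2, 0, 2, 1, 2, 0, 2, 0, 0, 2, 1, 2, 1, 2, 0], [2, 0, 2, 1, 2, 0, 0, 2, 0, 2, 0, 2, 0, 2, 0, 2], [1, 2, 0, 2, 0, 2, 1, 2, 0, 2, 1, 2, 0, 2, 0, 2, 0, 2, 0, 2, 0, 0]]⟩, ⟨2, [78, 88, 45, 60, 38, 24, 27, 22, 24, 22, 69], 1, 3, [[], [2, 0, 0, 2, 1, 2, 0, 2, 0, 0, 2, 0, 2, 1, 2, 0, 2, 0], [2, 0, 2, 1, 2, 1, 2, 0, 2, 1, 2, 0, 2, 0, 0, 2, 0, 0, 2], [1, 2, 0, 2, 1, 2, 0, 0, 2, 0, 2, 0, 2, 1, 2, 0, 2, 1]]⟩, ⟨2, [68, 24, 26, 26, 34, 24, 27, 69], 1, 0, [[], [2, 0, 0, 2, 0,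 2, 1, 2, 0, 2, 0, 0, 2, 1, 2, 1, 2, 0, 2, 1, 2, 1], [2, 1, 2, 0, 0, 2, 1, 2, 0, 0, 2, 0, 0, 2, 0, 2, 0, 0, 2, 0], [2, 0, 2, 0, 2, 0, 2, 1, 2, 0, 0, 2, 1, 2, 1, 2, 1, 2, 1, 2, 0]]⟩, ⟨2, [78, 100, 80, 98, 82], 0, 2, [[], [2, 0, 0, 2, 0, 2, 1, 2, 1, 2, 1, 2, 0, 0, 2, 0, 2, 0, 2, 0, 2], [2, 0, 2, 0, 2, 1, 2, 1, 2, 1, 2, 0, 2, 0, 0, 2, 0]]⟩, ⟨2, [78, 104, 84], 0, 2, [[], [0, 2, 1, 2, 1, 2, 1, 2, 1, 2, 1, 2, 0, 0, 2, 0, 2, 0], [2, 1, 2, 0, 0, 2, 0, 2, 0, 2, 1, 2, 1, 2, 1, 2, 1, 2, 1, 2, 0]]⟩, ⟨2, [70, 84, 71, 81, 113, 79, 115], 1, 1, [[], [2, 0, 0, 2, 0, 2, 0, 2, 0, 0, 2, 0, 0, 2, 1, 2, 0, 0], [0, 0, 2, 0, 0, 2, 0, 0, 2, 0, 2, 0, 2, 1, 2, 0, 0, 2, 0, 2,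 0, 2, 1], [1, 2, 1, 2, 1, 2, 0, 0, 2, 0, 2, 1, 2, 1, 2, 0, 2, 1, 2, 1]]⟩, ⟨3, [117, 79, 71], 2, 0, [[], []]⟩, ⟨2, [70, 102, 70, 84, 71, 103], 1, 3, [[], [0, 2, 1, 2, 1, 2, 0, 2, 1, 2, 1, 2, 0, 2, 0, 2, 0, 2], [1, 2, 0, 0, 2, 1, 2, 0, 2, 0, 2, 0, 0, 2, 1, 2, 0, 0, 2, 1, 2, 0, 0], [2, 0, 2, 0, 0, 2, 0, 0, 2, 1, 2, 1, 2, 0, 0, 2, 1]]⟩, ⟨2, [98, 70, 110, 100, 80, 108], 1, 0, [[], [0, 0, 2, 1, 2, 0, 0, 2, 0, 2, 1, 2, 1, 2, 0, 2, 0, 2], [0, 2, 0, 0, 2, 1, 2, 0, 0, 2, 0, 2, 1, 2, 1, 2, 0], [2, 0, 2, 1, 2, 0, 0, 2, 1, 2, 1, 2, 0, 0, 2, 1]]⟩, ⟨2, [70, 122, 70, 110, 99, 71, 123], 1, 2, [[], [1, 2, 1, 2, 1, 2, 0, 2, 0, 2, 1, 2, 1, 2, 0, 2, 1, 2, 1, 2], [0,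 0, 2, 0, 2, 0, 0, 2, 0, 2, 1, 2, 1, 2], [2, 1, 2, 1, 2, 0, 2, 0, 2, 1, 2, 0, 2, 1, 2, 0, 2, 0, 0, 2]]⟩, ⟨2, [112, 81, 117], 0, 1, [[], [0, 2, 1, 2, 0, 2, 0, 0, 2, 1, 2, 0, 0, 2, 0, 2, 1], [2, 1, 2, 0, 2, 0, 2, 1, 2, 0, 2, 0, 2, 1, 2, 0, 2, 0, 0]]⟩, ⟨2, [100, 70, 122], 0, 2, [[], [0, 0, 2, 0, 2, 1, 2, 1, 2, 0, 0, 2, 0, 0, 2, 1], [0, 2, 0, 2, 1, 2, 0, 0, 2, 0, 0, 2, 0, 0, 2, 1, 2, 0, 0, 2, 0]]⟩, ⟨2, [99, 79, 71, 87, 99, 81, 83, 99, 79, 71, 87], 1, 0, [[], [2, 0, 0, 2, 1, 2, 0, 0, 2, 0, 2, 1, 2, 0, 2, 0, 0, 2, 1, 2, 0, 0], [1, 2, 1, 2, 0, 2, 0, 0, 2, 0, 2, 0, 0, 2, 0, 0, 2, 1, 2, 0], [2, 1, 2, 1, 2, 1, 2, 0, 0, 2, 1, 2, 0, 0, 2, 1, 2, 0, 2, 1, 2, 0,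 0]]⟩, ⟨2, [81, 131, 99, 68, 23, 24, 27, 23, 27, 39], 1, 1, [[], [0, 2, 1, 2, 1, 2, 1, 2, 0, 0, 2, 1, 2, 1, 2, 0, 2, 0, 2, 0, 2], [1, 2, 0, 0, 2, 1, 2, 0, 2, 1, 2, 1, 2, 0, 2, 1, 2, 1], [0, 2, 1, 2, 1, 2, 0, 2, 0, 0, 2, 0, 2, 0, 2, 0, 0, 2, 0, 0]]⟩, ⟨3, [133, 56, 67, 44], 2, 0, [[], []]⟩, ⟨2, [70, 78, 80, 130, 105], 0, 1, [[], [2, 1, 2, 1, 2, 0, 2, 1, 2, 0, 2, 1, 2, 0, 2, 0, 2, 0], [2, 0, 2, 1, 2, 0, 2, 0, 0, 2, 0, 2, 0, 2, 0, 0, 2, 1, 2]]⟩, ⟨2, [80, 70, 134, 66, 45, 51, 64, 51, 67, 132], 1, 3, [[], [2, 1, 2, 0, 2, 0, 0, 2, 0, 2, 1, 2, 1, 2, 1, 2, 1, 2, 0, 0, 2], [2, 0, 0, 2, 0, 0, 2, 0, 2, 1, 2, 1, 2, 1, 2, 1, 2, 0, 0, 2, 0, 2, 0], [1, 2, 0, 0, 2,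 1, 2, 1, 2, 1, 2, 0, 0, 2, 0, 2, 1, 2, 0, 0]]⟩, ⟨2, [80, 70, 138, 78, 80, 70, 78, 134, 61, 66, 57, 77], 1, 2, [[], [2, 0, 0, 2, 1, 2, 0, 2, 0, 0, 2, 1, 2, 0, 0, 2, 0, 0], [0, 0, 2, 0, 0, 2, 0, 0, 2, 1, 2, 0, 0, 2, 1, 2], [2, 0, 0, 2, 0, 0, 2, 0, 2, 0, 2, 0, 2, 0, 0, 2, 1, 2, 0]]⟩, ⟨2, [81, 71, 107, 79, 99, 79, 71, 141], 0, 0, [[], [1, 2, 0, 0, 2, 0, 2, 1, 2, 0, 0, 2, 0, 0, 2, 1, 2, 0, 0, 2], [1, 2, 1, 2, 1, 2, 0, 2, 0, 2, 0, 0, 2, 0, 2, 0, 0, 2, 1]]⟩, ⟨2, [81, 71, 131, 143, 81, 79, 71, 131], 1, 1, [[], [2, 0, 2, 0, 2, 0, 0, 2, 0, 2, 0, 2, 1, 2, 1], [0, 2, 0, 0, 2, 0, 2, 0, 0, 2, 0, 0, 2, 0, 2, 1, 2, 1, 2, 0, 0], [0, 2, 0, 0, 2, 1, 2, 1, 2, 0, 2,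 1, 2, 0, 0, 2, 0, 2, 0]]⟩, ⟨2, [70, 142, 99, 127], 0, 1, [[], [1, 2, 0, 2, 0, 2, 1, 2, 1, 2, 0, 0, 2, 1, 2, 1, 2, 1], [0, 2, 0, 2, 1, 2, 0, 2, 0, 0, 2, 0, 2, 0, 2, 0, 2, 1, 2, 1, 2, 1]]⟩, ⟨3, [147, 99, 81], 2, 0, [[], []]⟩, ⟨0, [], 0, 0, []⟩, ⟨3, [150, 60, 67, 52, 53, 50, 44, 151], 2, 0, [[], [2, 1, 2, 0, 2, 0, 0, 2, 0, 0, 2, 0, 0, 2]]⟩, ⟨3, [150, 57, 56, 56, 44, 57, 51, 151], 2, 0, [[], [0, 2, 0, 2, 0, 2, 1, 2, 0, 2, 1, 2, 0, 2, 0, 2, 0, 0, 2, 0, 2, 0]]⟩, ⟨3, [150, 67, 51, 49, 60, 57, 151], 2, 0, [[], [1, 2, 0, 2, 1, 2, 0, 0, 2, 1, 2, 0, 2, 0, 0, 2, 0, 2, 0]]⟩, ⟨2, [152, 154, 150, 67, 57, 135], 0, 1, [[], [2, 0, 2, 1, 2, 0, 2, 0, 0, 2, 0, 2, 1,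 2, 0, 0, 2, 1], [2, 1, 2, 1, 2, 0, 0, 2, 0, 2, 0, 2, 0]]⟩, ⟨3, [159, 71, 79], 2, 0, [[], []]⟩, ⟨2, [153, 150, 51, 66, 51, 135, 99, 85], 1, 1, [[], [0, 2, 1, 2, 1, 2, 0, 0, 2, 0, 2, 0, 0, 2, 1], [2, 0, 2, 0, 2, 0, 0, 2, 0, 2, 0, 2, 1, 2, 1, 2, 0, 0, 2, 0, 2, 1], [0, 2, 0, 2, 0, 0, 2, 0, 0, 2, 0, 2, 1, 2, 1]]⟩, ⟨3, [163, 79, 71, 161], 2, 0, [[], [0, 0, 2, 0, 2, 0, 0, 2, 1, 2, 1, 2, 0, 2, 1, 2, 0, 2, 0, 0, 2]]⟩, ⟨2, [165, 150, 67, 59, 151], 1, 2, [[], [0, 2, 1, 2, 0, 2, 0, 0, 2, 0, 2, 1, 2, 0, 2, 0], [0, 0, 2, 0, 0, 2, 0, 0, 2, 0, 2, 0, 2, 0, 2, 1, 2, 0], [2, 1, 2, 0, 0, 2, 0, 2, 0, 2, 0, 0, 2, 0, 2, 0, 0, 2, 0, 2, 0, 0]]⟩, ⟨2, [157, 150, 51, 66, 57,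 45, 135, 71, 91], 1, 2, [[], [0, 2, 0, 2, 0, 2, 0, 2, 0, 2, 0, 2, 0, 2, 0, 2, 1, 2, 0, 0], [0, 0, 2, 0, 2, 0, 0, 2, 1, 2, 1, 2, 0, 2, 0, 0, 2, 0], [1, 2, 0, 2, 0, 2, 0, 2, 0, 2, 1, 2, 0, 0, 2, 0, 0, 2, 0]]⟩] 0 85 = true := by decide +kernel
theorem dd_c1 : dd.checks [⟨3, [169, 53, 66, 50], 2, 0, [[], []]⟩, ⟨2, [45, 40, 56, 66, 151], 0, 2, [[], [1, 2, 0, 2, 0, 2, 1, 2, 1, 2, 0, 2, 1, 2, 0, 2, 1], [0, 0, 2, 1, 2, 1, 2, 1, 2, 1, 2, 0, 2]]⟩, ⟨3, [173, 153], 2, 0, [[], []]⟩, ⟨2, [160, 99, 115, 71, 161], 1, 1, [[], [0, 0, 2, 0, 2, 1, 2, 0, 2, 0, 2, 0, 0, 2, 1, 2, 0, 2, 1, 2, 1], [0, 0, 2, 1, 2, 0, 2, 0, 2, 1, 2, 0, 0, 2, 0, 0, 2], [1, 2, 0, 0, 2, 0, 2,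 0, 0, 2, 0, 2, 0, 2, 0, 2, 1, 2, 1, 2, 0]]⟩, ⟨2, [166, 153, 165, 166], 0, 2, [[], [2, 0, 2, 0, 2, 0, 0, 2, 1, 2, 0, 2, 1, 2, 0, 0, 2, 0, 2, 0, 0], [1, 2, 0, 0, 2, 0, 2, 0, 0, 2, 0, 2, 1, 2, 0, 0, 2, 1, 2, 0, 2, 0]]⟩, ⟨2, [70, 88, 52, 168], 0, 2, [[], [0, 2, 1, 2, 0, 2, 0, 2, 1, 2, 1, 2, 0, 0, 2, 0, 0, 2, 0], [1, 2, 0, 2, 1, 2, 1, 2, 0, 2, 1, 2, 0, 0, 2, 0, 0]]⟩, ⟨2, [152, 156, 164, 170, 66, 171, 165, 152, 175], 1, 1, [[], [0, 2, 0, 0, 2, 0, 2, 0, 2, 1, 2, 1, 2, 1, 2, 0, 0], [1, 2, 0, 0, 2, 1, 2, 0, 2, 1, 2, 0, 0, 2, 0, 0, 2, 1, 2, 0], [1, 2, 0, 2, 0, 2, 0, 2, 0, 0, 2, 0, 2, 0, 2, 0, 2, 0, 0, 2, 0]]⟩, ⟨3, [183, 67, 61], 2, 0, [[], []]⟩, ⟨0, [], 0,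 0, []⟩, ⟨3, [186, 66, 45, 67, 44, 66, 51, 187], 2, 0, [[], [2, 0, 2, 0, 0, 2, 0, 2, 0, 2, 1, 2, 0, 2, 1, 2, 1, 2, 0, 2, 0, 0]]⟩, ⟨3, [186, 53, 67, 56, 61, 49, 51, 67, 44, 187], 2, 0, [[], [0, 0, 2, 0, 2, 0, 2, 0, 2, 0, 0, 2, 1, 2, 1, 2, 1, 2, 0, 2, 0]]⟩, ⟨2, [186, 61, 50, 45, 77], 0, 1, [[], [0, 0, 2, 0, 2, 0, 2, 0, 0, 2, 0, 0, 2, 0, 0, 2, 0, 0], [0, 0, 2, 1, 2, 1, 2, 0, 2]]⟩, ⟨3, [193, 71, 81, 80, 79, 99, 192], 2, 0, [[], [0, 0, 2, 0, 2, 0, 2, 1, 2, 0, 0, 2, 0, 2, 0, 2, 1, 2, 1]]⟩, ⟨2, [190, 186, 66, 49, 44, 171], 0, 1, [[], [2, 1, 2, 0, 0, 2, 0, 2, 0, 2, 1, 2, 0, 0, 2, 1, 2, 0, 0, 2, 0], [2, 0, 2, 1, 2, 0, 2, 0, 2, 1, 2, 1, 2, 1, 2, 0, 0, 2, 1,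 2, 1]]⟩, ⟨3, [197, 165], 2, 0, [[], []]⟩, ⟨3, [198, 152, 155, 165, 155, 153, 199], 2, 0, [[], [0, 0, 2, 1, 2, 0, 0, 2, 0, 2, 0, 0, 2, 0, 0, 2, 0, 0, 2]]⟩, ⟨2, [190, 194, 186, 51, 44, 89], 0, 1, [[], [2, 0, 2, 0, 2, 1, 2, 0, 0, 2, 0, 0, 2, 0, 0, 2, 0, 2, 0, 2, 0, 0], [2, 0, 0, 2, 0, 2, 1, 2, 0, 0, 2, 1, 2, 1, 2, 0, 2, 0, 0]]⟩, ⟨3, [203, 99, 71, 79], 2, 0, [[], []]⟩, ⟨2, [186, 57, 57, 187], 0, 1, [[], [2, 1, 2, 0, 0, 2, 0, 0, 2, 0, 2, 1, 2, 1, 2, 0, 0], [0, 2, 0, 2, 0, 0, 2, 0, 0, 2, 1, 2, 0, 2, 0, 2, 1, 2, 0, 0]]⟩, ⟨3, [198, 153, 156, 170, 45, 67, 60, 187], 0, 0, [[2, 0, 2, 1, 2, 1, 2, 0, 2, 0, 0, 2, 0, 2, 1, 2, 1], [2, 0, 2, 0, 2, 1, 2, 0, 2, 1],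 [2, 0, 0, 2, 1, 2, 1, 2, 1, 2, 1, 2, 0, 0, 2, 1, 2, 1, 2, 0]]⟩, ⟨2, [208, 193, 71, 81, 71, 192], 0, 1, [[], [2, 1, 2, 0, 0, 2, 1, 2, 0, 0, 2, 0, 0, 2, 0, 2, 1, 2, 0, 0], [1, 2, 0, 2, 1, 2, 0, 2, 0, 2]]⟩, ⟨2, [193, 79, 101, 81, 71, 81, 79, 139], 1, 2, [[], [0, 2, 1, 2, 0, 2], [2, 1, 2, 1, 2, 1, 2, 1, 2, 1, 2, 1, 2, 1, 2, 0, 0, 2, 0, 2], [0, 2, 0, 0, 2, 0, 2, 0, 0, 2, 1, 2, 1, 2, 0, 2, 1, 2, 0]]⟩, ⟨3, [213, 79, 71, 81, 71], 2, 0, [[], []]⟩, ⟨2, [190, 204, 146, 78, 202], 1, 0, [[], [1, 2, 0, 0, 2, 0, 2, 0, 2, 0, 2, 0, 0, 2, 0], [2, 0, 0, 2, 1, 2, 0, 0, 2, 1, 2, 0, 2, 0, 0, 2, 0], [0, 0, 2, 0, 0, 2, 1, 2, 0, 0, 2, 1, 2, 0, 2, 0, 2, 1]]⟩, ⟨2, [206, 209,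 209, 207], 0, 1, [[], [2, 1, 2, 0, 0, 2, 0, 2, 1, 2, 0, 2, 0, 0, 2, 0, 2, 1, 2, 1, 2, 0], [2, 0, 0, 2, 0, 0, 2, 1, 2, 1, 2, 0, 2, 0, 0, 2, 0, 2]]⟩, ⟨3, [214, 70, 80, 106, 212], 0, 0, [[0, 2, 0, 0, 2, 0, 2, 0, 2, 1, 2, 0, 2, 0], [1, 2, 0, 0, 2, 0, 0, 2, 1, 2, 0, 0, 2, 1, 2, 0, 0, 2, 1, 2, 0, 2, 0], [0, 2, 1, 2, 0, 2, 0, 0, 2, 0, 2, 0, 2, 1, 2]]⟩, ⟨2, [194, 221, 214, 98, 212], 0, 2, [[], [0, 2, 0, 2, 0, 2, 0, 2, 1, 2, 0, 0, 2, 0, 2, 0, 2, 1, 2, 0], [0, 2, 0, 2, 0, 2, 1, 2, 0, 2, 0, 0, 2]]⟩, ⟨2, [70, 192, 208, 221, 193], 0, 1, [[], [0, 2, 0, 0, 2, 1, 2, 0, 2, 0, 2, 0, 0, 2, 1, 2, 0, 0, 2, 1, 2, 0, 2], [2, 0, 2, 1, 2, 0, 2, 1, 2, 1, 2, 0, 0, 2, 1, 2,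 1, 2, 1, 2, 1, 2]]⟩, ⟨2, [190, 206, 191, 221, 207], 0, 1, [[], [0, 0, 2, 0, 2, 0, 2, 1, 2, 1, 2, 0, 0, 2, 0, 0, 2, 0, 2], [2, 0, 0, 2, 0, 0, 2, 1, 2, 1, 2, 0, 2, 0, 0, 2, 0, 2, 0, 0, 2]]⟩, ⟨2, [206, 221, 208, 207], 0, 1, [[], [0, 2, 1, 2, 1, 2, 0, 2, 0, 2, 1, 2, 0, 2, 0, 2, 1, 2, 1, 2], [1, 2, 0, 2, 0, 2, 0, 0, 2, 0, 0, 2, 0]]⟩, ⟨0, [], 0, 0, []⟩, ⟨3, [230, 80, 99, 70, 71, 78, 99, 71, 231], 2, 0, [[], [0, 2, 1, 2, 0, 2, 0, 2, 0, 0, 2, 1, 2, 1, 2, 0, 2, 1]]⟩, ⟨3, [230, 81, 78, 81, 99, 71, 81, 231], 2, 0, [[], [2, 1, 2, 0, 0, 2, 0, 2, 1, 2, 0, 0, 2, 0]]⟩, ⟨2, [230, 79, 71, 125], 0, 1, [[], [0, 0, 2, 0, 2, 1, 2, 0, 2, 1, 2, 1, 2, 0, 2, 0, 2, 0, 2, 0],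 [1, 2, 1, 2, 1, 2, 0, 0, 2, 0, 0, 2, 0, 2]]⟩, ⟨3, [237, 99, 71, 231], 2, 0, [[], [2, 0, 0, 2, 1, 2, 1, 2, 0, 2, 0, 2, 1, 2, 0, 2, 0, 2, 1, 2, 0, 0]]⟩, ⟨2, [230, 81, 71, 192], 0, 1, [[], [0, 2, 1, 2, 0, 0, 2, 1, 2, 1, 2, 1, 2, 1, 2, 0, 2, 0], [2, 0, 2, 0, 0, 2, 0, 0, 2, 1, 2, 1, 2, 1, 2, 1]]⟩, ⟨3, [241, 208], 2, 0, [[], []]⟩, ⟨3, [242, 189, 200, 191, 188, 221, 208, 243], 2, 0, [[], [2, 1, 2, 0, 2, 0, 2, 0, 2, 0, 0, 2, 0, 0, 2]]⟩, ⟨2, [245, 230, 81, 205], 0, 1, [[], [2, 0, 2, 1, 2, 0, 2, 0, 0, 2, 0, 0, 2, 1, 2, 0, 0, 2, 0, 0], [2, 0, 2, 0, 0, 2, 0, 2, 1, 2, 1]]⟩, ⟨3, [247, 195, 191], 2, 0, [[], []]⟩, ⟨3, [248, 220, 220, 221, 189, 195, 221, 191, 249],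 2, 0, [[], [2, 1, 2, 0, 0, 2, 1, 2, 0, 2, 0, 2, 1, 2, 0, 0, 2, 0, 2, 0, 0, 2, 1]]⟩, ⟨2, [238, 230, 70, 78, 70, 146, 70, 80, 98, 231], 1, 0, [[], [0, 0, 2, 0, 2, 1, 2, 1, 2, 0, 2, 1, 2, 0, 0, 2, 0, 0, 2, 0, 0], [1, 2, 0, 2, 1, 2, 0, 2, 0, 0, 2, 0, 2, 1, 2, 1, 2, 1, 2, 1, 2, 0], [1, 2, 1, 2, 1, 2, 1, 2, 0, 2, 0, 2, 0, 2, 1, 2, 0, 0, 2, 1]]⟩, ⟨2, [245, 230, 130, 78, 231], 1, 0, [[], [2, 0, 0, 2, 0, 0, 2, 1, 2, 0, 0, 2, 1, 2, 0, 2, 0, 0, 2, 1], [1, 2, 0, 0, 2, 0, 0, 2, 0, 2, 0, 0, 2, 0, 0, 2], [2, 0, 2, 0, 2, 0, 0, 2, 0, 2, 1, 2, 0, 2, 0, 0, 2, 1, 2]]⟩, ⟨2, [80, 98, 80, 212, 190, 209, 221, 240], 0, 2, [[], [2, 0, 0, 2, 0, 0, 2, 1, 2, 1, 2, 0, 2], [2,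 0, 2, 0, 2, 1, 2, 0, 0, 2, 0, 0, 2, 0, 0, 2, 0, 2, 0, 2, 0]]⟩, ⟨3, [257, 235, 251, 244, 235], 2, 0, [[], []]⟩, ⟨2, [242, 190, 194, 240], 0, 2, [[], [2, 0, 0, 2, 0, 2, 1, 2, 0, 0, 2, 0, 0, 2, 1, 2, 0, 2, 0, 0, 2], [2, 0, 2, 1, 2, 0, 0, 2, 0, 0, 2, 1, 2, 0, 2, 0, 2, 0, 2, 0]]⟩, ⟨2, [244, 260, 234, 250, 244, 242, 209, 191, 249], 1, 2, [[], [1, 2, 0, 0, 2, 0, 0, 2, 0, 0, 2, 1, 2, 1, 2, 1, 2, 0, 2], [2, 0, 2, 0, 0, 2, 0, 2, 0, 2, 1, 2, 0, 2, 0, 0], [1, 2, 0, 0, 2, 0, 0, 2, 1, 2, 0, 0, 2, 1, 2, 0, 2, 0, 0, 2, 0, 2, 0]]⟩, ⟨2, [250, 245, 250, 242, 191, 229, 243], 1, 2, [[], [0, 0, 2, 0, 2, 0, 0, 2, 0, 2, 0, 0, 2, 0, 2, 0, 2, 0, 2, 1], [1, 2, 1, 2, 1, 2,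 0, 2, 0, 2, 1, 2, 0, 0, 2, 0, 0], [2, 0, 0, 2, 0, 2, 0, 0, 2, 1, 2, 0, 0, 2, 0, 2, 0, 2, 0, 0]]⟩, ⟨2, [240, 250, 234, 244, 250, 260, 244, 250, 244, 250, 242], 1, 0, [[], [0, 0, 2, 0, 0, 2, 0, 2, 0, 2, 0, 2, 0, 2, 0, 2, 0, 2, 0, 2, 0], [1, 2, 1, 2, 0, 2, 0, 2, 1, 2, 0, 0, 2, 1, 2, 1, 2, 1, 2, 1, 2, 0, 0], [1, 2, 1, 2, 1, 2, 0, 2, 0, 2, 0, 2, 0, 2, 0, 0, 2, 1]]⟩, ⟨2, [232, 245, 252, 238, 235, 263], 0, 1, [[], [1, 2, 0, 0, 2, 0, 2, 0, 2, 0, 2, 1, 2, 0, 0, 2, 0, 0, 2, 0, 2, 1], [2, 0, 2, 0, 0, 2, 0, 2, 0, 2, 1, 2, 0, 2, 1, 2, 1, 2, 0, 0]]⟩, ⟨2, [254, 244, 255], 0, 1, [[], [0, 2, 0, 0, 2, 0, 2, 0, 0, 2, 0, 0, 2, 1, 2, 1, 2, 0, 2, 0, 0], [2, 1, 2, 1, 2,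 1, 2, 1, 2, 1, 2, 0, 2, 0]]⟩, ⟨2, [232, 262, 238, 252, 234, 245, 262], 1, 0, [[], [1, 2, 1, 2, 0, 0, 2, 0, 0, 2, 1, 2, 0, 0, 2, 0, 2, 1], [2, 1, 2, 1, 2, 0, 0, 2, 0, 0, 2, 1, 2, 1, 2, 0, 0, 2, 0, 2, 0, 0], [2, 0, 0, 2, 0, 2, 1, 2, 0, 0, 2, 1, 2, 0, 2, 0, 0, 2, 0, 2]]⟩, ⟨2, [238, 252, 232, 239, 268], 0, 2, [[], [2, 0, 0, 2, 0, 0, 2, 1, 2, 1, 2, 0, 2, 0, 2, 1, 2, 0, 2, 0, 2, 1, 2], [0, 2, 0, 0, 2, 1, 2, 0, 2, 0, 2, 1, 2, 0, 2, 0, 0, 2, 1, 2]]⟩, ⟨2, [246, 238, 250, 234, 244, 268, 251, 245, 233, 247], 1, 3, [[], [1, 2, 1, 2, 1, 2, 1, 2, 1, 2, 0, 2, 0, 2, 1, 2, 0, 2, 1, 2, 0], [2, 0, 2, 0, 2, 0, 0, 2, 1, 2, 0, 2, 0, 2, 1, 2, 0], [1, 2, 1, 2, 0, 2, 0,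 2, 0, 0, 2, 0, 0, 2, 0, 2, 1, 2, 1, 2, 1]]⟩, ⟨2, [270, 245, 271], 0, 1, [[], [0, 2, 0, 2, 0, 2, 0, 0, 2, 1, 2, 0, 2, 1, 2, 0, 0, 2, 0, 0], [1, 2, 1, 2, 0, 0, 2, 1, 2, 1, 2, 0, 2]]⟩, ⟨0, [], 0, 0, []⟩, ⟨3, [280, 66, 61, 51, 50, 53, 281], 2, 0, [[], [0, 2, 0, 0, 2, 0, 2, 0, 2, 0, 2, 0, 2, 1]]⟩, ⟨2, [282, 280, 56, 66, 49, 77], 0, 1, [[], [0, 2, 0, 2, 1, 2, 1, 2, 1, 2, 0, 2, 0, 2, 1, 2, 0], [2, 1, 2, 1, 2, 0, 2, 0, 2, 0, 0, 2, 0, 0, 2, 1, 2, 0, 2, 1]]⟩, ⟨3, [285, 81, 79, 71, 81], 2, 0, [[], []]⟩, ⟨2, [283, 280, 60, 67, 45, 187], 0, 1, [[], [2, 0, 0, 2, 1, 2, 1, 2, 0, 0, 2, 0, 2, 0, 2, 0, 0, 2, 0], [0, 2, 1, 2, 0, 0, 2, 0, 0, 2, 0, 0, 2, 0, 2, 0, 2, 0,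 0, 2, 1]]⟩, ⟨3, [289, 220, 195, 191], 2, 0, [[], []]⟩, ⟨2, [282, 280, 57, 53, 49, 281], 0, 1, [[], [2, 0, 2, 1, 2, 0, 2, 0, 2, 0, 2, 0, 2, 1, 2, 1], [1, 2, 0, 0, 2, 0, 0, 2, 0, 2, 0, 2, 0, 2, 0, 2, 1, 2, 1, 2, 0, 0]]⟩, ⟨2, [283, 280, 66, 56, 45, 171], 0, 1, [[], [2, 1, 2, 1, 2, 1, 2, 1, 2, 1, 2, 0, 2, 1, 2, 0, 0, 2, 0, 2, 0, 0, 2], [2, 0, 2, 0, 2, 0, 2, 0, 2, 0, 2, 1, 2, 0, 0, 2, 0, 2, 1]]⟩, ⟨3, [295, 153, 153], 2, 0, [[], []]⟩, ⟨2, [283, 280, 56, 67, 51, 41, 57, 60, 44, 281], 1, 2, [[], [0, 2, 0, 0, 2, 1, 2, 1, 2, 0, 0, 2, 0, 2, 1, 2, 1, 2, 1], [0, 0, 2, 1, 2, 0, 2, 0, 2, 0, 0, 2, 0, 2, 1, 2, 0, 2, 0], [2, 0, 0, 2, 1, 2, 1, 2, 0, 0, 2, 0, 2, 0,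 2, 0, 0, 2, 1]]⟩, ⟨2, [283, 296, 164, 153, 170, 56, 281], 1, 0, [[], [2, 1, 2, 1, 2, 0, 0, 2, 0, 0, 2, 0, 0, 2, 0, 2, 0, 2, 0, 0], [2, 0, 0, 2, 0, 0, 2, 1, 2, 1, 2, 1, 2, 0, 2, 0, 2, 1], [0, 0, 2, 0, 0, 2, 0, 2, 0, 2, 1, 2, 0, 0, 2, 1, 2, 0, 0, 2]]⟩, ⟨2, [208, 186, 44, 60, 56, 54, 44, 51, 281], 1, 0, [[], [1, 2, 0, 2, 0, 2, 1, 2, 0, 0, 2, 1, 2, 0, 2, 1, 2, 0, 0, 2, 0, 2, 0], [0, 0, 2, 1, 2, 0, 2, 0, 2, 0, 0, 2, 0, 2, 1, 2, 0, 0, 2, 0], [0, 2, 1, 2, 1, 2, 0, 2, 1, 2, 1, 2, 0, 2, 0, 2, 0, 0, 2, 0, 0, 2]]⟩, ⟨3, [303, 283], 2, 0, [[], []]⟩, ⟨2, [286, 99, 79, 225], 0, 1, [[], [0, 2, 0, 0, 2, 0, 2, 1, 2, 0, 2, 0, 0, 2, 0, 0, 2, 1, 2, 0], [2, 1, 2, 1, 2,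 1, 2, 0, 0, 2, 0, 2, 1, 2, 1, 2, 1, 2, 0, 0, 2]]⟩, ⟨3, [307, 81, 71, 81], 2, 0, [[], []]⟩, ⟨2, [286, 81, 71, 81, 309], 0, 1, [[], [0, 0, 2, 1, 2, 0, 2, 0, 0, 2, 0, 2, 0, 2, 1, 2, 1, 2, 1, 2], [0, 0, 2, 0, 0, 2, 0, 2, 0, 2, 0, 0, 2, 1, 2, 0, 2, 1, 2, 1, 2, 0, 0]]⟩, ⟨2, [286, 81, 71, 99, 71, 287], 0, 1, [[], [1, 2, 0, 0, 2, 1, 2, 0, 0, 2, 1, 2, 1, 2, 0, 0, 2, 0, 2, 0, 0], [0, 2, 1, 2, 0, 2, 1, 2, 0, 2, 0, 2, 1, 2, 0, 0, 2]]⟩, ⟨2, [286, 79, 71, 81, 79, 141, 71, 81, 79, 71, 309], 1, 1, [[], [1, 2, 0, 2, 0, 2, 0, 0, 2, 0, 0, 2, 0, 2, 0, 2, 1, 2, 0, 0, 2], [2, 0, 0, 2, 1, 2, 1, 2, 0, 0, 2, 1, 2, 0, 2, 1, 2, 0, 2, 0, 2, 0], [0, 2, 0, 0, 2, 0, 2, 0, 2, 0,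 0, 2, 1, 2, 0, 2, 1, 2, 0, 0]]⟩, ⟨2, [70, 98, 70, 212, 191, 208, 220, 288], 0, 2, [[], [2, 0, 2, 0, 2, 1, 2, 0, 2, 0, 0, 2, 1, 2, 1, 2, 0, 2, 1, 2, 1], [2, 0, 0, 2, 0, 0, 2, 1, 2, 0, 0, 2, 0, 2, 0, 0, 2, 0, 2, 0]]⟩] 85 159 = true := by decide +kernel
theorem dd_c2 : dd.checks [⟨2, [282, 302, 188, 208, 208, 288], 0, 2, [[], [0, 2, 0, 0, 2, 0, 0, 2, 0, 2, 0, 2, 0, 2, 1, 2, 1, 2, 0], [0, 2, 1, 2, 1, 2, 0, 0, 2, 1, 2, 1, 2, 0, 2, 0, 2, 0, 2, 0, 0]]⟩, ⟨2, [282, 302, 191, 288], 0, 2, [[], [0, 0, 2, 0, 0, 2, 1, 2, 0, 2, 0, 2, 0, 0, 2, 0, 2, 0, 2, 1], [0, 2, 0, 2, 1, 2, 0, 2, 1, 2, 0, 2, 0, 0, 2, 0, 2, 0, 2, 1, 2, 1]]⟩, ⟨3, [321, 282], 2, 0, [[], []]⟩, ⟨2,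 [190, 194, 221, 222, 190, 208, 190, 288], 0, 2, [[], [2, 0, 0, 2, 1, 2, 0, 0, 2, 0, 2, 0, 2, 0, 0, 2, 0, 0, 2, 1, 2], [2, 0, 0, 2, 1, 2, 1, 2, 0, 2, 0, 0, 2, 0, 0, 2, 0, 0, 2, 0, 0, 2]]⟩, ⟨2, [290, 208, 220, 191, 325], 0, 1, [[], [0, 2, 1, 2, 0, 2, 0, 0, 2, 0, 0, 2, 0, 2, 1, 2, 1, 2, 0, 2, 1], [2, 0, 2, 0, 0, 2, 0, 0, 2, 0, 0, 2, 0, 2, 0, 0, 2, 0, 2, 0]]⟩, ⟨2, [282, 290, 209, 209, 195, 191, 291], 0, 1, [[], [2, 0, 2, 1, 2, 0, 2, 0, 2, 1, 2, 0, 0, 2, 0, 0, 2, 1, 2, 1], [1, 2, 0, 0, 2, 0, 0, 2, 0, 2, 0, 0, 2, 1, 2, 1, 2, 0]]⟩, ⟨2, [283, 292, 323], 0, 1, [[], [0, 0, 2, 0, 2, 0, 0, 2, 0, 0, 2, 0, 2, 0, 0, 2, 0], [1, 2, 0, 2, 1, 2, 0, 0, 2, 0, 2, 0, 0,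 2, 0, 0, 2]]⟩, ⟨2, [165, 153, 154, 294, 282, 331], 0, 1, [[], [2, 0, 0, 2, 0, 2, 1, 2, 0, 0, 2, 0, 2, 0, 0, 2, 1], [0, 2, 1, 2, 1, 2, 1, 2, 1, 2, 1, 2, 0, 2, 1, 2, 0, 0, 2]]⟩, ⟨3, [333, 282], 2, 0, [[], []]⟩, ⟨2, [332, 154, 153, 153, 294], 0, 2, [[], [1, 2, 0, 2, 0, 2, 0, 0, 2, 0, 0, 2, 0, 2, 0, 2, 0, 2, 1], [2, 1, 2, 0, 2, 1, 2, 0, 0, 2, 1, 2, 0, 2, 1, 2, 1, 2, 0, 2, 0, 0]]⟩, ⟨3, [337, 282], 2, 0, [[], []]⟩, ⟨2, [332, 154, 156, 156, 294], 0, 2, [[], [1, 2, 1, 2, 1, 2, 0, 2, 0, 2, 1, 2, 0, 0, 2, 0, 2, 0, 0, 2, 0, 0], [1, 2, 0, 0, 2, 0, 2, 0, 2, 0, 2, 0, 2, 0, 2, 0, 2, 0, 2, 0, 0, 2, 0]]⟩, ⟨3, [341, 283], 2, 0, [[], []]⟩, ⟨2, [282, 302, 193], 0, 1,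 [[], [1, 2, 0, 2, 0, 2, 0, 0, 2, 0, 2, 1, 2, 1, 2, 0, 2], [2, 0, 0, 2, 0, 2, 0, 0, 2, 0, 2, 0, 2, 1, 2, 0, 2]]⟩, ⟨3, [345, 79, 71, 81, 79], 2, 0, [[], []]⟩, ⟨2, [282, 302, 221, 208, 191, 213], 0, 1, [[], [0, 2, 0, 2, 0, 0, 2, 0, 2, 1, 2, 1, 2, 1, 2, 0, 0, 2], [2, 1, 2, 1, 2, 1, 2, 0, 2, 1, 2, 0, 0, 2]]⟩, ⟨3, [349, 81], 2, 0, [[], []]⟩, ⟨2, [283, 302, 209, 191, 325], 0, 1, [[], [0, 2, 1, 2, 1, 2, 1, 2, 0, 0, 2, 1, 2, 1, 2, 0, 0, 2, 0, 0, 2], [0, 0, 2, 1, 2, 1, 2, 0, 2, 1, 2, 0, 2, 1, 2, 1, 2, 1, 2, 0, 0, 2]]⟩, ⟨2, [282, 302, 200, 221, 191, 303], 0, 1, [[], [0, 0, 2, 0, 2, 0, 2, 0, 2, 1, 2, 0, 0, 2, 0, 0, 2, 0, 0, 2, 0, 2], [0, 2, 0, 2, 1, 2, 1, 2,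 0, 0, 2, 0, 0, 2, 1, 2, 0, 2, 1, 2, 1]]⟩, ⟨2, [283, 302, 201, 208, 191, 223], 0, 1, [[], [2, 0, 2, 1, 2, 1, 2, 0, 2, 0, 2, 0, 2, 0, 2], [1, 2, 0, 2, 0, 2, 0, 2, 0, 2, 1, 2, 0, 0, 2, 0, 2, 0, 2, 0, 0]]⟩, ⟨3, [357, 209, 194], 2, 0, [[], []]⟩, ⟨2, [283, 302, 209, 209, 189, 291, 282, 353], 1, 2, [[], [2, 1, 2, 0, 2, 0, 0, 2, 1, 2, 1, 2, 1, 2, 1, 2, 0, 2, 1, 2, 0, 0], [0, 0, 2, 1, 2, 0, 0, 2, 1, 2, 1, 2, 1, 2, 0, 2, 0, 0], [2, 0, 2, 1, 2, 0, 2, 1, 2, 1, 2, 0, 2, 0, 2, 0, 0, 2, 1]]⟩, ⟨2, [283, 302, 201, 191, 193, 99, 79, 287], 1, 2, [[], [1, 2, 1, 2, 0, 2, 0, 2, 0, 0, 2, 0, 2, 0, 2, 1, 2, 1, 2, 0], [1, 2, 0, 2, 1, 2, 0, 0, 2, 1, 2, 0, 0, 2, 1, 2, 0, 2,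 1, 2, 1, 2], [2, 1, 2, 0, 0, 2, 0, 2, 1, 2, 0, 0, 2, 1, 2, 0, 2, 0, 0]]⟩, ⟨2, [342, 282, 324, 190, 194, 304], 1, 0, [[], [2, 0, 2, 0, 0, 2, 0, 2, 0, 2, 1, 2, 0, 2, 0, 0, 2, 0], [0, 0, 2, 1, 2, 0, 2, 0, 0, 2, 0, 0, 2, 0, 2, 1, 2, 1, 2, 0], [0, 2, 0, 2, 0, 2, 0, 2, 0, 2, 0, 2, 1, 2, 1, 2, 0, 2, 1, 2, 0, 2, 0]]⟩, ⟨2, [346, 70, 80, 70, 306], 0, 2, [[], [2, 0, 2, 1, 2, 0, 0, 2, 1, 2, 1, 2, 0, 2, 0, 2, 0], [0, 2, 1, 2, 0, 0, 2, 0, 0, 2, 0, 2, 0]]⟩, ⟨3, [367, 282], 2, 0, [[], []]⟩, ⟨2, [283, 316, 70, 98, 70, 78, 306], 0, 2, [[], [1, 2, 1, 2, 0, 2, 1, 2, 1, 2, 0, 2, 1, 2, 0, 2, 0], [1, 2, 0, 0, 2, 0, 2, 1, 2, 1, 2, 1, 2, 0, 0, 2, 0, 2, 1, 2, 0]]⟩, ⟨2, [308,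 70, 78, 98, 78, 306], 0, 2, [[], [0, 0, 2, 0, 2, 0, 0, 2, 0, 2, 0, 0, 2, 0, 2, 0, 2, 0, 2, 0, 0, 2, 0], [2, 0, 2, 1, 2, 0, 0, 2, 1, 2, 1, 2, 1, 2]]⟩, ⟨2, [286, 70, 98, 70, 80, 306], 0, 2, [[], [2, 1, 2, 1, 2, 0, 2, 0, 2, 1, 2, 0, 0, 2, 1, 2, 1, 2, 1, 2, 1], [0, 0, 2, 1, 2, 1, 2, 1, 2, 1, 2, 1, 2, 0, 2, 1, 2, 0]]⟩, ⟨2, [282, 308, 70, 78, 80, 70, 98, 306], 0, 2, [[], [2, 1, 2, 1, 2, 0, 2, 1, 2, 1, 2, 0, 2, 0, 0, 2, 0, 2], [2, 0, 2, 0, 2, 0, 2, 1, 2, 0, 2, 1, 2, 0, 2, 0, 2, 0, 0]]⟩, ⟨2, [78, 80, 70, 80, 306, 315], 0, 1, [[], [1, 2, 1, 2, 0, 2, 1, 2, 0, 0, 2, 0, 2, 0, 2, 0, 2, 0, 2, 1, 2, 1], [1, 2, 1, 2, 0, 2, 0, 2, 0, 0, 2, 0, 2, 0, 2, 0, 0, 2, 0,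 2, 0]]⟩, ⟨3, [379, 282], 2, 0, [[], []]⟩, ⟨2, [250, 232, 238, 250, 244, 230, 70, 78, 98, 306], 0, 2, [[], [2, 0, 0, 2, 1, 2, 1, 2, 1, 2, 1, 2, 1, 2, 1, 2, 1, 2, 0, 0, 2], [0, 2, 0, 0, 2, 1, 2, 0, 0, 2, 1, 2, 1, 2, 0, 0, 2, 0, 0]]⟩, ⟨3, [383, 283], 2, 0, [[], []]⟩, ⟨2, [378, 78, 70, 306], 0, 2, [[], [2, 0, 2, 0, 2, 0, 2, 1, 2, 0, 0, 2, 0, 2, 1], [0, 0, 2, 0, 0, 2, 0, 2, 0, 0, 2, 0, 0, 2, 0, 0, 2, 0]]⟩, ⟨3, [387, 283], 2, 0, [[], []]⟩, ⟨2, [80, 70, 80, 140, 70, 98, 306], 0, 2, [[], [2, 1, 2, 0, 0, 2, 0, 2, 0, 0, 2, 0, 0, 2, 1, 2, 0, 2, 0], [2, 1, 2, 0, 0, 2, 0, 2, 1, 2, 0, 0, 2, 1, 2, 0, 2, 1, 2, 1]]⟩, ⟨2, [283, 390, 70, 78, 80, 70, 98, 306], 0, 2,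 [[], [0, 0, 2, 1, 2, 1, 2, 1, 2, 1, 2, 1, 2, 0, 2, 0, 2, 1, 2, 0, 2], [2, 0, 2, 0, 2, 0, 0, 2, 0, 0, 2, 0, 0, 2, 1, 2, 1, 2, 0, 2, 1]]⟩, ⟨2, [208, 221, 204, 78, 70, 306], 0, 2, [[], [2, 1, 2, 1, 2, 0, 0, 2, 0, 2, 1, 2, 1, 2, 0, 2, 0, 2, 1], [0, 0, 2, 0, 2, 0, 2, 0, 0, 2, 0, 2, 0, 0]]⟩, ⟨3, [395, 282], 2, 0, [[], []]⟩, ⟨2, [282, 308, 99, 71, 81, 379], 0, 1, [[], [0, 2, 0, 0, 2, 1, 2, 0, 0, 2, 0, 0, 2, 0, 0, 2, 1, 2, 0, 0, 2, 0], [0, 0, 2, 0, 2, 0, 0, 2, 1, 2, 0, 0, 2, 1, 2, 1]]⟩, ⟨2, [308, 79, 99, 379], 0, 1, [[], [1, 2, 0, 2, 0, 2, 0, 2, 1, 2, 0, 0, 2, 0, 0, 2, 0, 0, 2, 0, 0], [0, 0, 2, 1, 2, 0, 2, 1, 2, 0, 2, 0, 2, 0, 2, 0, 2, 0, 2]]⟩, ⟨3, [401,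 282], 2, 0, [[], []]⟩, ⟨2, [308, 71, 81, 71, 225, 71, 81, 309], 1, 2, [[], [2, 1, 2, 1, 2, 0, 2, 0, 0, 2, 1, 2, 1, 2, 1, 2, 1], [2, 0, 0, 2, 0, 0, 2, 0, 2, 0, 0, 2, 1, 2, 0, 2, 0, 0], [1, 2, 0, 0, 2, 0, 0, 2, 0, 0, 2, 0, 2, 0]]⟩, ⟨2, [308, 99, 79, 71, 107, 71, 99, 309], 1, 2, [[], [0, 0, 2, 0, 0, 2, 1, 2, 0, 2, 0, 2, 0, 0, 2, 0, 2, 1], [2, 1, 2, 0, 2, 0, 2, 0, 0, 2, 0, 0, 2, 0, 0, 2, 0, 2, 1, 2, 0, 2, 0], [2, 1, 2, 0, 0, 2, 0, 2, 0, 2, 0, 2, 1, 2, 0, 0, 2, 0, 2, 1]]⟩, ⟨2, [353, 314], 0, 2, [[], [1, 2, 1, 2, 1, 2, 0, 0, 2, 0, 2, 1, 2, 0, 2, 1], [0, 0, 2, 0, 2, 0, 0, 2, 0, 2, 1, 2, 1, 2, 1, 2, 0, 0, 2]]⟩, ⟨3, [409, 283], 2, 0, [[], []]⟩, ⟨2, [398,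 282, 315], 0, 2, [[], [2, 1, 2, 1, 2, 0, 2, 0, 2, 1, 2, 1, 2, 0, 2, 1, 2, 0, 0, 2], [0, 0, 2, 0, 0, 2, 0, 0, 2, 0, 2, 1, 2, 0, 2, 0, 2, 0, 0]]⟩, ⟨2, [400, 315], 0, 2, [[], [0, 2, 0, 2, 0, 0, 2, 0, 2, 1, 2, 0, 0, 2, 0, 2], [1, 2, 1, 2, 0, 2, 0, 0, 2, 0, 0, 2, 0, 0, 2, 0, 2, 0, 0, 2, 1, 2]]⟩, ⟨2, [238, 238, 250, 384, 282, 315], 0, 2, [[], [0, 0, 2, 1, 2, 0, 0, 2, 0, 0, 2, 0, 0, 2, 1, 2, 0], [1, 2, 1, 2, 1, 2, 1, 2, 1, 2, 1, 2, 0, 0, 2, 0, 2, 1, 2, 0, 0, 2, 0]]⟩, ⟨2, [282, 310, 283, 315, 283, 367], 1, 2, [[], [2, 1, 2, 1, 2, 1, 2, 1, 2, 0, 0, 2, 0, 2, 0, 0, 2, 0, 2], [0, 0, 2, 1, 2, 0, 2, 1, 2, 0, 0, 2, 0, 0, 2, 1, 2, 0, 0], [0, 2, 0, 2, 0, 0, 2, 0,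 0, 2, 0, 0, 2, 0, 2, 1, 2, 1, 2, 1, 2, 1]]⟩, ⟨3, [419, 282], 2, 0, [[], []]⟩, ⟨2, [282, 315, 355, 283, 398], 1, 2, [[], [0, 0, 2, 1, 2, 1, 2, 1, 2, 0, 0, 2, 1, 2, 1, 2, 1, 2, 0], [0, 0, 2, 0, 0, 2, 0, 0, 2, 1, 2, 0, 0, 2, 0, 2, 0, 2, 1, 2, 0], [1, 2, 1, 2, 1, 2, 1, 2, 0, 2, 0, 0, 2, 0, 2, 0, 0, 2, 0, 0, 2, 1]]⟩, ⟨2, [315, 282, 357, 209, 220, 303], 1, 2, [[], [0, 2, 0, 2, 0, 0, 2, 1, 2, 1, 2, 0, 0, 2, 0, 2, 0, 2, 0, 2, 0, 0], [0, 0, 2, 1, 2, 0, 0, 2, 1, 2, 0, 2, 0, 2, 1, 2, 0, 0, 2, 0, 2], [0, 2, 0, 2, 1, 2, 0, 0, 2, 0, 2, 0, 0, 2, 0, 0, 2, 0, 0]]⟩, ⟨3, [425, 282], 2, 0, [[], []]⟩, ⟨2, [315, 282, 416, 239, 251, 244, 233, 247], 1, 2, [[], [2, 0, 0,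 2, 1, 2, 1, 2, 0, 0, 2, 0, 2, 1, 2, 1, 2], [1, 2, 0, 2, 0, 2, 0, 2, 0, 0, 2, 0, 2, 1, 2, 1, 2], [1, 2, 0, 2, 1, 2, 0, 2, 0, 0, 2, 0, 2, 1, 2, 0, 2, 0]]⟩, ⟨3, [429, 208, 195], 2, 0, [[], []]⟩, ⟨2, [282, 316, 81, 141, 99, 71, 81, 79, 391], 1, 1, [[], [1, 2, 0, 2, 0, 0, 2, 1, 2, 1, 2, 0, 0, 2, 0, 2, 1, 2, 0, 0, 2], [2, 0, 2, 1, 2, 0, 2, 1, 2, 1, 2, 1, 2, 1, 2, 0, 0], [2, 1, 2, 0, 2, 0, 0, 2, 0, 0, 2, 0, 2, 1, 2, 0, 0, 2, 0, 0, 2]]⟩, ⟨2, [283, 316, 71, 79, 71, 95, 79, 71, 81, 79, 379], 1, 1, [[], [0, 2, 0, 2, 0, 2, 0, 0, 2, 0, 2, 1, 2, 0, 0, 2, 1, 2, 0], [0, 0, 2, 0, 2, 0, 2, 0, 2, 0, 0, 2, 1, 2, 1, 2, 1, 2, 0], [0, 2, 1, 2, 0, 2, 0, 2, 0, 2, 0, 2, 0,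 0, 2, 1]]⟩, ⟨3, [435, 283], 2, 0, [[], []]⟩, ⟨2, [316, 81, 99, 81, 351, 316], 1, 2, [[], [1, 2, 0, 2, 1, 2, 0, 2, 0, 2, 0, 2, 0, 2, 0, 2, 0, 2], [0, 2, 0, 2, 1, 2, 0, 0, 2, 0, 2, 0, 2, 0, 2, 0, 2, 0, 2, 0, 2, 0], [2, 0, 2, 0, 2, 0, 0, 2, 0, 0, 2, 0, 0, 2, 1, 2, 1, 2, 0, 2, 0, 2]]⟩, ⟨3, [439, 99, 81, 99], 2, 0, [[], []]⟩, ⟨2, [70, 80, 70, 78, 317, 369], 0, 1, [[], [1, 2, 0, 0, 2, 0, 2, 1, 2, 0, 2, 0, 0, 2, 0, 0, 2, 0, 2, 0, 2, 1, 2, 0], [1, 2, 0, 2, 1, 2, 1, 2, 1, 2, 1, 2, 0, 2, 0, 0, 2, 0, 2, 0]]⟩, ⟨2, [283, 390, 80, 317], 0, 2, [[], [2, 0, 2, 1, 2, 0, 2, 1, 2, 1, 2, 1, 2], [1, 2, 1, 2, 0, 0, 2, 0, 0, 2, 0, 0, 2, 0, 2, 0, 0, 2, 1]]⟩, ⟨2, [283, 318,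 411], 0, 1, [[], [2, 1, 2, 0, 2, 0, 2, 0, 0, 2, 0, 0, 2, 0, 2, 1, 2, 0, 2, 0, 0], [2, 1, 2, 0, 2, 0, 2, 0, 0, 2, 1, 2, 0, 2, 1, 2, 0, 2, 0, 2, 0, 2, 1]]⟩, ⟨2, [283, 408, 318], 0, 2, [[], [2, 1, 2, 1, 2, 0, 2, 0, 0, 2, 0, 2, 0, 2, 1, 2, 0, 2, 1, 2, 0, 2, 0], [1, 2, 0, 0, 2, 0, 2, 0, 0, 2, 0, 2, 1, 2, 0, 0]]⟩, ⟨2, [319, 352], 0, 1, [[], [2, 0, 0, 2, 1, 2, 0, 0, 2, 0, 2, 0, 2, 0, 2, 0, 2, 0, 2], [1, 2, 0, 2, 1, 2, 0, 2, 1, 2, 0, 0, 2, 1, 2, 1, 2, 0, 2]]⟩, ⟨2, [406, 319], 0, 2, [[], [1, 2, 0, 2, 0, 0, 2, 0, 2, 1, 2, 0, 0, 2, 1], [1, 2, 1, 2, 0, 2, 1, 2, 0, 2, 1, 2, 1, 2, 0, 0, 2, 0, 0]]⟩, ⟨2, [388, 319], 0, 2, [[], [2, 1, 2, 0, 0, 2, 0, 0, 2, 0, 2, 0,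 0, 2, 1, 2, 0, 0], [2, 0, 2, 0, 2, 1, 2, 1, 2, 1, 2, 1, 2, 0, 2, 0, 2]]⟩, ⟨2, [70, 78, 98, 78, 443, 319], 0, 2, [[], [0, 2, 1, 2, 1, 2, 0, 0, 2, 0, 2, 1, 2, 1, 2, 0, 0, 2, 0, 0, 2], [2, 0, 2, 0, 2, 1, 2, 0, 0, 2, 0, 2, 0, 2, 0, 2, 0]]⟩, ⟨3, [457, 282], 2, 0, [[], []]⟩, ⟨2, [319, 283, 375], 0, 1, [[], [0, 0, 2, 0, 2, 0, 0, 2, 0, 0, 2, 1, 2, 0, 0, 2, 0, 2, 0], [0, 2, 0, 2, 0, 2, 0, 2, 0, 2, 0, 0, 2, 1, 2, 0, 0, 2]]⟩, ⟨3, [461, 282], 2, 0, [[], []]⟩, ⟨2, [282, 319, 463], 0, 1, [[], [0, 2, 0, 2, 0, 2, 1, 2, 0, 2, 1, 2, 1, 2, 0, 2, 0, 2, 0, 2, 1], [2, 1, 2, 0, 0, 2, 1, 2, 1, 2, 0, 2, 0, 2, 1, 2, 0, 2, 0, 2, 1]]⟩] 159 233 = true := by decide +kernel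
theorem dd_c3 : dd.checks [⟨2, [66, 281, 320], 0, 2, [[], [1, 2, 0, 2, 0, 2, 1, 2, 0, 0, 2, 0, 0, 2, 1, 2, 1, 2], [0, 2, 0, 2, 1, 2, 1, 2, 0, 2, 0, 2, 1, 2, 0, 0, 2, 0, 2, 0]]⟩, ⟨3, [467, 282], 2, 0, [[], []]⟩, ⟨2, [283, 322, 283, 331], 0, 1, [[], [2, 0, 2, 1, 2, 0, 2, 0, 0, 2, 0, 0, 2, 1, 2, 0, 0, 2, 0, 0, 2], [1, 2, 1, 2, 1, 2, 1, 2, 1, 2, 1, 2]]⟩, ⟨2, [282, 322, 283, 369, 415], 1, 1, [[], [0, 2, 0, 0, 2, 0, 2, 0, 2, 1, 2, 1, 2], [1, 2, 1, 2, 0, 0, 2, 0, 2, 1, 2, 1, 2, 1, 2, 1, 2, 1, 2, 0, 0], [1, 2, 1, 2, 0, 0, 2, 1, 2, 0, 2, 1, 2, 1, 2, 0, 0, 2]]⟩, ⟨3, [473, 283], 2, 0, [[], []]⟩, ⟨2, [221, 428, 324], 0, 2, [[], [2, 0, 2, 1, 2, 1, 2, 0, 0, 2,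 0, 0, 2, 0, 0, 2, 0, 0, 2, 0], [0, 2, 0, 0, 2, 1, 2, 1, 2, 0, 2, 0, 2, 0, 0, 2, 0, 2, 0]]⟩, ⟨2, [283, 400, 283, 324], 0, 2, [[], [0, 2, 0, 2, 0, 0, 2, 0, 0, 2, 1, 2, 1, 2, 0, 2, 0, 2, 0, 2], [0, 0, 2, 0, 2, 0, 2, 0, 2, 1, 2, 1, 2, 0, 2, 0, 2, 0, 0, 2]]⟩, ⟨3, [479, 209, 221, 191], 2, 0, [[], []]⟩, ⟨2, [282, 324, 194, 220, 431], 0, 1, [[], [1, 2, 1, 2, 1, 2, 0, 2, 0, 2, 1, 2, 0, 0, 2, 1, 2, 0, 0], [1, 2, 0, 2, 1, 2, 1, 2, 0, 0, 2, 0, 2, 1, 2, 1, 2, 1, 2, 0]]⟩, ⟨2, [282, 324, 209, 209, 190, 431], 0, 1, [[], [2, 0, 0, 2, 0, 2, 0, 2, 0, 2, 0, 2, 1, 2, 0, 2, 1, 2, 1], [1, 2, 0, 0, 2, 0, 2, 0, 2, 0, 0, 2, 0]]⟩, ⟨2, [324, 209, 190, 209, 191, 481], 0, 1,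 [[], [0, 0, 2, 0, 0, 2, 1, 2, 0, 0, 2, 1, 2, 0, 2, 0, 0, 2, 0, 2, 0, 2, 0], [0, 2, 1, 2, 0, 2, 0, 2, 1, 2, 1, 2, 0]]⟩, ⟨3, [487, 283], 2, 0, [[], []]⟩, ⟨2, [282, 324, 209, 209, 194, 359], 0, 1, [[], [0, 2, 0, 0, 2, 1, 2, 1, 2, 0, 2, 1, 2, 0, 0, 2, 0, 0, 2, 0], [1, 2, 0, 2, 1, 2, 0, 0, 2, 0, 2, 0, 2, 0, 0, 2, 0, 0, 2, 0, 0, 2, 1]]⟩, ⟨3, [491, 283], 2, 0, [[], []]⟩, ⟨2, [282, 324, 191, 395], 0, 1, [[], [0, 0, 2, 1, 2, 0, 2, 1, 2, 1, 2, 0, 2, 0, 2, 0, 2, 0, 2, 0, 2, 1], [0, 0, 2, 1, 2, 0, 0, 2, 1, 2, 0, 0, 2, 0, 0, 2, 0]]⟩, ⟨3, [495, 283], 2, 0, [[], []]⟩, ⟨2, [283, 324, 194, 221, 191, 431], 0, 1, [[], [2, 0, 2, 0, 0, 2, 0, 0, 2, 0, 0, 2, 0, 0, 2, 0],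 [0, 2, 1, 2, 0, 2, 0, 0, 2, 1, 2, 1, 2, 0, 2, 1, 2, 0, 0]]⟩, ⟨2, [282, 324, 194, 191, 325], 0, 1, [[], [2, 0, 2, 0, 2, 0, 2, 0, 0, 2, 0, 0, 2, 1, 2, 0, 0, 2, 0], [0, 2, 0, 2, 0, 2, 0, 2, 1, 2, 0, 0, 2, 0, 2, 0, 0, 2, 0, 2, 1]]⟩, ⟨2, [324, 191, 221, 191, 223, 200, 359], 1, 1, [[], [2, 0, 0, 2, 1, 2, 0, 2, 0, 2, 0, 2, 0, 2, 1, 2], [0, 2, 0, 2, 0, 0, 2, 1, 2, 1, 2, 1, 2, 0, 0, 2, 0, 0, 2, 1, 2, 1], [1, 2, 0, 2, 1, 2, 0, 2, 0, 0, 2, 0, 2, 1, 2]]⟩, ⟨3, [503, 282], 2, 0, [[], []]⟩, ⟨2, [283, 324, 195, 221, 303, 413], 1, 2, [[], [0, 2, 1, 2, 0, 2, 1, 2, 0, 2, 1, 2, 0, 2, 0, 2, 1], [2, 0, 2, 0, 2, 0, 2, 0, 0, 2, 1, 2, 1, 2, 1, 2, 0, 2, 0, 2, 0], [1, 2, 0,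 0, 2, 1, 2, 0, 2, 1, 2, 1, 2, 0, 2, 0, 2, 0, 2]]⟩, ⟨2, [250, 232, 244, 417, 283, 324, 220, 208, 395], 1, 3, [[], [1, 2, 1, 2, 0, 2, 1, 2, 1, 2, 0, 0, 2, 0, 0, 2, 1, 2, 0, 2, 0, 0], [1, 2, 0, 0, 2, 0, 2, 1, 2, 0, 2, 1, 2, 0, 0], [0, 2, 1, 2, 1, 2, 1, 2, 1, 2, 1, 2, 1, 2, 0, 2, 1, 2, 0, 0, 2]]⟩, ⟨2, [282, 394, 188, 209, 220, 325], 0, 2, [[], [2, 1, 2, 0, 2, 0, 2, 0, 2, 1, 2, 0, 0, 2, 0, 2, 0, 0, 2, 1], [2, 1, 2, 0, 0, 2, 0, 2, 0, 2, 0, 0, 2, 1, 2, 0, 2, 0, 2, 1, 2, 0]]⟩, ⟨3, [511, 282], 2, 0, [[], []]⟩, ⟨2, [283, 320, 282, 358, 191, 325], 1, 3, [[], [0, 0, 2, 0, 2, 1, 2, 0, 0, 2, 0, 2, 0, 0, 2, 0, 2, 1, 2], [1, 2, 0, 2, 0, 2, 1, 2, 0, 0, 2, 1, 2, 1,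 2, 1, 2, 1, 2, 1, 2, 1], [2, 1, 2, 1, 2, 1, 2, 1, 2, 0, 2, 0, 2, 1, 2, 1, 2, 0, 0, 2, 0, 0]]⟩, ⟨2, [282, 504, 282, 394, 195, 208, 208, 325], 1, 0, [[], [1, 2, 0, 2, 0, 0, 2, 1, 2, 0, 2, 0, 2, 1, 2, 0, 0, 2, 1, 2, 1, 2], [2, 0, 2, 1, 2, 0, 0, 2, 0, 2, 1, 2, 1, 2, 1, 2, 0, 0], [2, 0, 2, 1, 2, 0, 2, 1, 2, 0, 0, 2, 1, 2, 1, 2, 0, 2, 1, 2, 1]]⟩, ⟨2, [480, 220, 191, 325, 283, 397], 1, 3, [[], [2, 1, 2, 0, 2, 0, 0, 2, 1, 2, 1, 2, 0, 0, 2, 0, 2, 0, 0, 2, 0], [0, 2, 1, 2, 1, 2, 0, 0, 2, 0, 0, 2, 1, 2, 0, 2, 1, 2, 0, 0, 2], [0, 2, 1, 2, 0, 0, 2, 0, 0, 2, 0, 2, 0, 2, 0, 2, 0, 0, 2, 1]]⟩, ⟨3, [519, 221, 194], 2, 0, [[], []]⟩, ⟨2, [282, 386, 328, 318], 1, 2,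 [[], [0, 2, 0, 0, 2, 1, 2, 0, 0, 2, 1, 2, 1, 2, 0, 0, 2, 0, 0], [2, 1, 2, 0, 2, 1, 2, 1, 2, 0, 0, 2, 1, 2, 0, 2, 0, 0, 2, 0, 0], [0, 2, 0, 2, 0, 2, 1, 2, 1, 2, 1, 2, 1, 2, 0, 2, 1, 2, 0, 0, 2]]⟩, ⟨2, [283, 480, 190, 221, 194, 478, 282, 328], 1, 0, [[], [0, 2, 0, 2, 0, 2, 0, 2, 1, 2, 1, 2, 0, 2, 0, 2, 1, 2, 0, 2, 1], [1, 2, 0, 2, 0, 2, 1, 2, 1, 2, 0, 2, 0, 2, 1, 2, 0, 0, 2, 0, 2, 1], [0, 2, 0, 2, 0, 2, 1, 2, 1, 2, 0, 2, 1]]⟩, ⟨3, [525, 283], 2, 0, [[], []]⟩, ⟨2, [300, 282, 330], 0, 2, [[], [2, 0, 2, 1, 2, 1, 2, 1, 2, 1, 2, 0, 0, 2, 0, 0, 2, 1, 2], [0, 2, 0, 0, 2, 0, 2, 1, 2, 0, 0, 2, 0, 0, 2, 0, 0, 2, 0]]⟩, ⟨2, [283, 330, 282, 295, 333], 1, 2, [[],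 [2, 1, 2, 0, 0, 2, 0, 0, 2, 0, 2, 0, 0, 2, 0, 0, 2, 1, 2], [2, 0, 0, 2, 0, 2, 0, 2, 1, 2, 1, 2, 1, 2, 0, 0, 2, 0, 2, 0, 2], [2, 1, 2, 0, 2, 1, 2, 1, 2, 1, 2, 0, 0, 2, 0, 0, 2]]⟩, ⟨3, [531, 282], 2, 0, [[], []]⟩, ⟨2, [532, 283, 312, 283, 330], 1, 0, [[], [1, 2, 1, 2, 0, 0, 2, 0, 2, 0, 2, 1, 2, 0, 0, 2, 1, 2, 0, 0, 2, 0, 0], [2, 0, 2, 1, 2, 0, 0, 2, 0, 0, 2, 0, 2, 1, 2, 0, 2, 0, 2], [1, 2, 0, 2, 0, 2, 1, 2, 1, 2, 1, 2, 0, 0, 2, 0, 2, 1, 2, 0, 2, 0, 0]]⟩, ⟨2, [346, 70, 98, 70, 78, 158, 156, 153, 164, 334], 1, 3, [[], [2, 0, 2, 0, 2, 0, 2, 0, 2, 0, 0, 2, 0, 2, 0, 0, 2], [0, 2, 0, 2, 0, 2, 0, 0, 2, 0, 2, 0, 0, 2, 0, 0, 2, 1, 2, 0, 2, 0], [0, 2, 0, 2,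 0, 0, 2, 0, 0, 2, 0, 2, 1, 2, 0, 0, 2, 0, 0, 2]]⟩, ⟨2, [282, 336, 525], 0, 1, [[], [2, 1, 2, 1, 2, 0, 0, 2, 1, 2, 0, 0, 2, 1, 2, 1, 2, 0, 2, 1], [0, 0, 2, 0, 2, 0, 0, 2, 0, 0, 2, 0, 0, 2, 0, 2, 0, 0, 2, 0, 2, 1]]⟩, ⟨3, [539, 282], 2, 0, [[], []]⟩, ⟨2, [283, 372, 283, 336], 0, 2, [[], [1, 2, 0, 0, 2, 0, 2, 1, 2, 0, 0, 2, 0, 0, 2, 1, 2, 0, 2, 0, 0], [2, 0, 2, 0, 2, 0, 0, 2, 1, 2, 1, 2, 0, 2, 0, 0, 2, 1, 2]]⟩, ⟨2, [336, 282, 529, 283, 293], 1, 1, [[], [2, 0, 2, 1, 2, 0, 2, 0, 0, 2, 1, 2, 1, 2, 1, 2, 0, 0, 2, 0], [0, 0, 2, 0, 0, 2, 1, 2, 1, 2, 1, 2, 0, 0, 2, 1, 2, 0, 0, 2, 0, 0], [1, 2, 0, 0, 2, 1, 2, 0, 0, 2, 1, 2, 1, 2, 0, 2, 0, 2, 0, 0, 2, 0]]⟩, ⟨2,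 [283, 406, 283, 340], 0, 2, [[], [1, 2, 0, 2, 0, 2, 0, 2, 0, 0, 2, 0, 2, 0, 2, 0, 2, 0, 2, 0], [0, 0, 2, 0, 2, 0, 0, 2, 1, 2, 0, 2, 1, 2, 1]]⟩, ⟨3, [547, 283], 2, 0, [[], []]⟩, ⟨2, [282, 340, 283, 357], 0, 1, [[], [1, 2, 0, 2, 0, 0, 2, 0, 2, 0, 0, 2, 0, 2, 0, 2, 0, 0, 2, 0, 0, 2, 1], [2, 0, 0, 2, 0, 0, 2, 0, 2, 0, 2, 0, 0, 2, 0, 0, 2, 0, 2, 1]]⟩, ⟨3, [551, 209, 209, 195, 191], 2, 0, [[], []]⟩, ⟨2, [342, 547], 0, 1, [[], [0, 0, 2, 0, 2, 0, 2, 0, 2, 0, 2, 1, 2, 1, 2, 1, 2, 0, 2, 0], [0, 2, 1, 2, 0, 0, 2, 1, 2, 0, 0, 2, 0, 2]]⟩, ⟨2, [70, 80, 94, 78, 98, 80, 344], 0, 2, [[], [0, 2, 1, 2, 0, 2, 1, 2, 0, 0, 2, 1, 2, 1, 2, 1, 2, 1, 2, 0, 2, 0], [2, 0, 2,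 1, 2, 1, 2, 0, 0, 2, 0, 2, 1, 2, 1, 2, 0, 0, 2, 0, 0]]⟩, ⟨3, [557, 282], 2, 0, [[], []]⟩, ⟨2, [282, 442, 78, 98, 80, 344], 0, 2, [[], [0, 0, 2, 1, 2, 0, 2, 0, 0, 2, 1, 2, 1, 2, 0, 2, 0, 2, 1, 2, 1], [0, 2, 1, 2, 0, 0, 2, 0, 0, 2, 0, 2, 1, 2, 1, 2, 1, 2]]⟩, ⟨2, [560, 308, 70, 80, 70, 78, 344], 1, 3, [[], [1, 2, 0, 2, 0, 2, 0, 2, 0, 2, 0, 2, 0, 2, 1, 2, 0, 0, 2, 0, 0], [0, 0, 2, 0, 0, 2, 0, 0, 2, 0, 0, 2, 0, 2, 1, 2, 1, 2, 1, 2, 1], [1, 2, 0, 2, 0, 2, 1, 2, 1, 2, 1, 2, 1, 2, 0, 0, 2, 0, 0, 2]]⟩, ⟨2, [78, 80, 70, 118, 70, 344, 282, 399], 1, 2, [[], [2, 1, 2, 0, 2, 1, 2, 0, 0, 2, 0, 2, 1, 2, 0, 2, 1, 2, 1], [2, 0, 2, 0, 2, 0, 2, 1, 2, 0, 0, 2, 0, 0,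 2, 1, 2, 1, 2, 1], [1, 2, 0, 2, 0, 0, 2, 1, 2, 1, 2, 1, 2, 1]]⟩, ⟨3, [565, 283], 2, 0, [[], []]⟩, ⟨2, [283, 346, 71, 81, 225], 0, 1, [[], [2, 0, 2, 1, 2, 0, 0, 2, 0, 2, 0, 0, 2, 0, 2, 1, 2, 1, 2, 1], [1, 2, 0, 2, 1, 2, 1, 2, 0, 0, 2, 1, 2, 0, 0, 2, 0, 2, 1, 2]]⟩, ⟨3, [569, 81, 99], 2, 0, [[], []]⟩, ⟨2, [283, 346, 99, 71, 81, 141], 0, 1, [[], [2, 0, 2, 0, 0, 2, 1, 2, 0, 0, 2, 0, 2, 1, 2, 1, 2, 0, 2, 0, 2, 1], [0, 2, 0, 2, 0, 2, 0, 2, 0, 2, 1, 2, 1, 2, 0, 2, 0, 2, 0]]⟩, ⟨3, [573, 71, 81, 79], 2, 0, [[], []]⟩, ⟨2, [282, 346, 79, 99, 79, 71, 317], 0, 1, [[], [1, 2, 0, 0, 2, 0, 0, 2, 1, 2, 0, 0, 2, 1, 2, 0, 0, 2, 1, 2, 0], [2, 0, 2, 0, 0, 2, 0, 2, 0,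 2, 1, 2, 1, 2, 0, 0, 2, 0, 2, 0]]⟩, ⟨3, [577, 282], 2, 0, [[], []]⟩, ⟨2, [283, 346, 71, 192, 194, 220, 359], 1, 1, [[], [2, 0, 2, 0, 2, 0, 2, 0, 2, 0, 2, 1, 2, 0, 2, 0, 0, 2, 0], [0, 0, 2, 0, 2, 0, 0, 2, 0, 2, 1, 2, 0, 0, 2, 0, 2], [1, 2, 1, 2, 1, 2, 1, 2, 0, 0, 2]]⟩, ⟨2, [283, 544, 346, 99, 71, 441], 1, 2, [[], [1, 2, 0, 2, 0, 0, 2, 0, 0, 2, 0, 2, 1, 2, 1, 2, 1, 2, 0], [0, 0, 2, 0, 0, 2, 0, 2, 1, 2, 1, 2, 0, 2, 0, 0, 2, 1, 2, 0, 2, 0], [2, 0, 2, 0, 2, 0, 2, 0, 2, 0, 2, 0, 2, 0, 2, 1, 2, 0, 2]]⟩, ⟨2, [346, 81, 71, 81, 557, 479], 1, 1, [[], [2, 1, 2, 0, 2, 1, 2, 1, 2, 0, 2, 0, 2, 0, 2, 0, 2, 0, 2, 0], [2, 0, 2, 0, 0, 2, 0, 0, 2, 0, 2, 0, 2, 0, 2,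 1, 2, 1], [1, 2, 0, 2, 1, 2, 0, 2, 0, 2, 1, 2]]⟩, ⟨3, [585, 200, 195, 191], 2, 0, [[], []]⟩, ⟨2, [346, 99, 81, 71, 575, 283, 533], 1, 1, [[], [2, 1, 2, 1, 2, 0, 0, 2, 1, 2, 0, 0, 2, 0, 2, 0], [1, 2, 0, 2, 1, 2, 0, 0, 2, 0, 0, 2, 1, 2, 1, 2, 1], [0, 2, 0, 2, 1, 2, 0, 0, 2, 0, 2, 1, 2, 0, 2, 0, 0, 2]]⟩, ⟨2, [282, 583, 346, 81, 71, 79, 441], 1, 3, [[], [2, 1, 2, 0, 2, 0, 2, 0, 0, 2, 0, 0, 2, 0, 0, 2, 1, 2, 1, 2, 1], [2, 0, 2, 1, 2, 0, 2, 0, 2, 0, 2, 0, 2, 0, 0, 2, 0, 2, 0, 0, 2, 0], [0, 0, 2, 0, 0, 2, 0, 0, 2, 0, 0, 2, 0, 2, 0, 2, 1]]⟩, ⟨2, [283, 570, 70, 98, 70, 348], 0, 2, [[], [0, 0, 2, 0, 0, 2, 0, 2, 0, 2, 1, 2, 0, 0, 2, 0, 2, 0, 2, 1, 2, 1], [1,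 2, 1, 2, 1, 2, 1, 2, 1, 2, 1, 2, 0, 2]]⟩, ⟨2, [286, 98, 70, 78, 348], 0, 2, [[], [1, 2, 1, 2, 1, 2, 0, 0, 2, 1, 2, 0, 0, 2, 1], [0, 2, 1, 2, 0, 2, 1, 2, 1, 2, 0, 2, 0, 2, 0, 0, 2, 0, 2]]⟩, ⟨3, [595, 282], 2, 0, [[], []]⟩, ⟨2, [456, 348], 0, 2, [[], [2, 0, 0, 2, 0, 2, 0, 0, 2, 1, 2, 0, 2, 1, 2, 0, 0, 2, 1, 2, 0, 0], [2, 1, 2, 0, 2, 0, 0, 2, 1, 2, 1, 2, 0, 0, 2, 1]]⟩, ⟨3, [599, 282], 2, 0, [[], []]⟩, ⟨2, [282, 390, 98, 348, 283, 491], 1, 2, [[], [1, 2, 0, 2, 0, 0, 2, 0, 2, 0, 0, 2, 0, 2, 0, 0, 2, 0], [0, 2, 0, 0, 2, 0, 2, 0, 2, 1, 2, 0, 2, 1, 2, 0, 2, 1, 2, 1], [1, 2, 0, 2, 0, 2, 0, 0, 2, 0, 0, 2, 0, 0, 2, 0, 2, 0, 0, 2, 0]]⟩, ⟨2, [282, 453, 283, 350],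 0, 2, [[], [2, 1, 2, 0, 2, 0, 0, 2, 0, 2, 0, 0, 2, 1, 2, 1, 2, 1], [2, 0, 2, 0, 2, 0, 2, 0, 0, 2, 0, 0, 2, 0, 0, 2, 0, 2, 0, 0, 2, 0, 2]]⟩, ⟨3, [605, 99, 71], 2, 0, [[], []]⟩, ⟨2, [283, 350, 71, 99, 71, 391, 283, 580], 1, 1, [[], [2, 0, 2, 0, 2, 0, 0, 2, 1, 2, 0, 0, 2, 0], [2, 1, 2, 1, 2, 1, 2, 0, 0, 2, 1, 2, 0, 2, 1, 2, 0, 0, 2, 1], [2, 0, 0, 2, 1, 2, 0, 2, 0, 0, 2, 1, 2, 1, 2, 0, 0, 2, 0, 2, 0, 0]]⟩] 233 305 = true := by decide +kernel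
theorem dd_c4 : dd.checks [⟨3, [609, 282], 2, 0, [[], []]⟩, ⟨2, [350, 71, 81, 107, 79, 71, 99, 71, 607], 1, 1, [[], [0, 0, 2, 0, 0, 2, 0, 0, 2, 0, 0, 2, 0, 2, 0, 2, 1], [2, 0, 2, 0, 2, 0, 2, 0, 0, 2, 0, 0, 2, 0, 0, 2, 1, 2, 1, 2, 0], [0, 0, 2, 1, 2, 0, 0, 2, 0, 0, 2, 0, 2, 1, 2]]⟩, ⟨2, [350, 81, 99, 81, 287, 282, 498], 1, 2, [[], [0, 0, 2, 0, 0, 2, 0, 2, 0, 2, 1, 2, 1, 2, 0, 0, 2, 1, 2, 0], [0, 0, 2, 0, 0, 2, 0, 2, 0, 2, 0, 2, 0, 0, 2, 0, 0], [0, 0, 2, 0, 0, 2, 0, 2, 0, 0, 2, 0, 2, 1, 2, 1, 2, 0, 2, 0, 0, 2, 1]]⟩, ⟨2, [352, 615], 0, 1, [[], [0, 0, 2, 0, 0, 2, 0, 2, 0, 2, 1, 2, 1, 2, 0, 2, 0, 2, 1, 2, 0, 0], [2, 1, 2, 1, 2, 0, 0, 2, 1, 2, 1, 2, 0,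 0, 2, 0, 2, 0, 2, 0, 2]]⟩, ⟨2, [566, 283, 352], 0, 2, [[], [2, 1, 2, 0, 2, 1, 2, 1, 2, 0, 0, 2, 1, 2, 0, 0, 2, 0, 2, 1, 2], [2, 0, 2, 1, 2, 1, 2, 1, 2, 1, 2, 0, 0, 2, 0, 2, 1, 2, 1, 2, 1, 2]]⟩, ⟨2, [353, 501], 0, 1, [[], [0, 0, 2, 1, 2, 1, 2, 1, 2, 1, 2, 0, 2, 1, 2, 0, 2, 0], [1, 2, 0, 2, 1, 2, 0, 0, 2, 1, 2, 1, 2, 1, 2, 1, 2, 0, 2, 1, 2, 1]]⟩, ⟨3, [621, 282], 2, 0, [[], []]⟩, ⟨2, [576, 283, 353, 437], 1, 3, [[], [1, 2, 0, 0, 2, 0, 2, 0, 0, 2, 0, 2, 0, 2, 1, 2, 1, 2, 1, 2, 0], [0, 0, 2, 0, 0, 2, 1, 2, 0, 0, 2, 1, 2, 0, 2, 0, 0, 2, 0, 2, 0, 2], [1, 2, 0, 2, 1, 2, 1, 2, 0, 2, 0, 2, 1, 2, 1, 2, 1, 2, 0, 0]]⟩, ⟨3, [625, 282], 2, 0, [[], []]⟩, ⟨2, [282,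 496, 282, 354], 0, 2, [[], [2, 0, 2, 1, 2, 0, 2, 0, 2, 1, 2, 0, 2, 0, 2, 1], [0, 2, 0, 2, 0, 0, 2, 0, 2, 1, 2, 1, 2, 1, 2, 0, 0, 2, 1, 2]]⟩, ⟨2, [282, 354, 283, 617], 0, 1, [[], [2, 0, 0, 2, 0, 0, 2, 0, 2, 0, 0, 2], [0, 2, 0, 2, 1, 2, 0, 2, 1, 2, 0, 2, 1, 2, 1, 2, 0, 0, 2, 1]]⟩, ⟨3, [631, 282], 2, 0, [[], []]⟩, ⟨2, [354, 282, 390], 0, 1, [[], [2, 1, 2, 0, 2, 1, 2, 0, 2, 0, 0, 2, 0, 2, 1, 2, 0, 0, 2, 0, 2, 0, 0], [0, 2, 1, 2, 1, 2, 1, 2, 0, 2, 0, 2, 1, 2, 0, 0, 2]]⟩, ⟨3, [635, 79, 71, 81, 79], 2, 0, [[], []]⟩, ⟨2, [302, 195, 208, 208, 356], 0, 2, [[], [2, 0, 2, 1, 2, 1, 2, 0, 2, 0, 2, 1, 2, 0, 2, 0, 0, 2, 0], [0, 0, 2, 1, 2, 0, 0, 2, 1, 2, 1, 2, 0,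 2, 0, 0, 2, 1, 2]]⟩, ⟨3, [639, 283], 2, 0, [[], []]⟩, ⟨2, [283, 358, 194, 220, 356], 0, 2, [[], [1, 2, 1, 2, 0, 0, 2, 0, 0, 2, 0, 0, 2, 0, 0, 2, 0], [2, 1, 2, 0, 0, 2, 1, 2, 1, 2, 0, 2, 0, 0, 2, 0, 2, 1, 2, 0, 2, 0, 0]]⟩, ⟨2, [70, 78, 80, 212, 188, 209, 220, 356], 0, 2, [[], [1, 2, 0, 0, 2, 1, 2, 0, 2, 0, 2, 0, 0, 2, 1, 2, 1, 2, 0, 0, 2, 0], [0, 0, 2, 1, 2, 0, 2, 1, 2, 1, 2, 0, 0, 2, 0, 2, 0]]⟩, ⟨3, [645, 283], 2, 0, [[], []]⟩, ⟨2, [282, 290, 190, 221, 209, 222, 194, 220, 356], 1, 0, [[], [1, 2, 0, 0, 2, 1, 2, 1, 2, 1, 2, 0, 2, 0, 2], [0, 2, 1, 2, 0, 2, 0, 0, 2, 1, 2, 1, 2, 0, 0, 2, 1, 2, 0], [1, 2, 1, 2, 0, 0, 2, 1, 2, 1, 2, 1, 2, 1, 2, 0, 2, 0,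 2, 1]]⟩, ⟨2, [283, 346, 70, 80, 70, 192, 220, 191, 356], 1, 0, [[], [2, 1, 2, 0, 2, 1, 2, 1, 2, 0, 2, 0, 0, 2, 0, 2, 0], [1, 2, 0, 0, 2, 1, 2, 1, 2, 0, 0, 2, 0, 2, 1, 2, 0, 2, 0, 2, 0], [1, 2, 0, 2, 1, 2, 0, 2, 0, 0, 2, 0, 0, 2, 1, 2, 0, 0, 2, 0, 0]]⟩, ⟨3, [651, 283], 2, 0, [[], []]⟩, ⟨2, [520, 194, 221, 356, 449], 1, 3, [[], [0, 2, 0, 0, 2, 0, 2, 0, 2, 1, 2, 0, 2, 0, 0, 2, 1, 2, 1, 2, 0], [1, 2, 0, 0, 2, 0, 0, 2, 1, 2, 1, 2, 1, 2, 0, 2, 0, 0], [0, 0, 2, 1, 2, 0, 0, 2, 0, 2, 0, 2, 0, 0, 2, 0, 2, 0, 0, 2]]⟩, ⟨2, [283, 324, 190, 220, 200, 356, 299], 1, 3, [[], [0, 2, 0, 0, 2, 0, 2, 0, 0, 2, 0, 0, 2, 0, 2, 1, 2, 0, 0, 2], [2, 0, 2, 0, 2, 1, 2, 0, 0,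 2, 0, 2, 0, 2, 0, 0, 2, 0, 0, 2, 0, 2, 0], [2, 0, 2, 1, 2, 1, 2, 0, 2, 0, 2, 1, 2, 0, 0, 2, 0, 0, 2, 1, 2, 0]]⟩, ⟨2, [282, 526, 283, 394, 190, 195, 221, 356], 1, 0, [[], [0, 0, 2, 1, 2, 0, 0, 2, 0, 0, 2, 0, 0, 2, 0, 2], [2, 0, 0, 2, 0, 0, 2, 1, 2, 1, 2, 0, 0, 2, 0, 2, 0, 0, 2, 1, 2, 1], [0, 0, 2, 0, 0, 2, 1, 2, 0, 2, 0, 2, 1, 2, 0, 2, 0, 2]]⟩, ⟨3, [659, 282], 2, 0, [[], []]⟩, ⟨2, [302, 194, 200, 356, 283, 589], 1, 3, [[], [2, 0, 2, 1, 2, 0, 0, 2, 0, 0, 2, 0, 0, 2, 1, 2, 1, 2, 0, 2, 0], [1, 2, 0, 2, 0, 0, 2, 1, 2, 0, 0, 2, 0, 2, 1, 2, 1, 2], [2, 1, 2, 0, 0, 2, 1, 2, 0, 2, 0, 2, 0, 2, 0, 2, 0, 0, 2]]⟩, ⟨3, [663, 283], 2, 0, [[], []]⟩, ⟨2, [282, 544,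 282, 520, 190, 208, 208, 356], 1, 0, [[], [2, 0, 2, 0, 0, 2, 0, 2, 0, 0, 2, 0, 0, 2, 0, 2, 0, 2, 0, 0], [1, 2, 1, 2, 0, 2, 1, 2, 0, 0, 2, 0, 2, 0, 2, 0, 0, 2, 0, 0, 2, 0, 0], [2, 0, 2, 0, 0, 2, 0, 2, 1, 2, 0, 2, 0, 0, 2, 0, 0, 2, 0]]⟩, ⟨3, [667, 282], 2, 0, [[], []]⟩, ⟨2, [282, 590, 283, 358, 221, 209, 190, 395], 1, 2, [[], [1, 2, 0, 2, 0, 2, 0, 0, 2, 0, 0, 2, 0, 2, 0, 2, 1, 2, 0, 2], [0, 2, 0, 2, 0, 2, 1, 2, 0, 2, 1, 2, 0, 2, 0], [1, 2, 1, 2, 0, 2, 0, 2, 1, 2, 0, 2, 1, 2, 1, 2, 0, 0, 2, 0, 0]]⟩, ⟨3, [671, 283], 2, 0, [[], []]⟩, ⟨2, [358, 208, 195, 553, 282, 319], 1, 1, [[], [0, 0, 2, 0, 2, 0, 2, 0, 0, 2, 0, 0, 2, 0, 2, 1, 2, 1, 2, 1], [0, 2, 0,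 0, 2, 0, 2, 0, 2, 0, 0, 2, 1, 2, 1, 2, 0, 2], [0, 2, 0, 2, 0, 0, 2, 1, 2, 1, 2, 0, 0, 2, 0, 2, 1]]⟩, ⟨2, [282, 368, 282, 358, 220, 190, 213], 1, 3, [[], [0, 0, 2, 1, 2, 0, 2, 1, 2, 0, 2, 0, 2, 0, 0, 2, 0, 2, 1, 2, 0], [0, 2, 0, 2, 0, 0, 2, 0, 2, 0, 0, 2, 0, 0, 2, 1, 2, 0, 2, 0], [1, 2, 0, 2, 0, 2, 1, 2, 1, 2, 0, 0, 2, 1, 2, 0, 2, 1, 2, 0, 2, 0]]⟩, ⟨3, [677, 71, 79], 2, 0, [[], []]⟩, ⟨2, [360, 283, 533], 0, 1, [[], [2, 1, 2, 1, 2, 0, 2, 0, 2, 0, 0, 2, 0, 0, 2], [2, 0, 0, 2, 1, 2, 0, 0, 2, 1, 2, 1, 2, 0, 2]]⟩, ⟨2, [283, 530, 282, 360], 0, 2, [[], [2, 0, 2, 1, 2, 1, 2, 0, 2, 0, 2, 0, 0, 2, 0, 2, 1, 2, 1], [0, 0, 2, 0, 0, 2, 1, 2, 0, 2, 0, 2, 0, 0, 2,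 0, 2, 0, 0]]⟩, ⟨2, [616, 360, 282, 451], 1, 3, [[], [2, 1, 2, 1, 2, 1, 2, 0, 2, 0, 2, 1, 2, 1, 2, 0], [1, 2, 1, 2, 0, 0, 2, 0, 0, 2, 1, 2, 0, 0, 2, 0, 2], [0, 2, 0, 2, 1, 2, 0, 0, 2, 0, 2, 1, 2, 0, 2, 0, 2, 1]]⟩, ⟨3, [685, 282], 2, 0, [[], []]⟩, ⟨2, [282, 366, 283, 361], 0, 2, [[], [2, 0, 0, 2, 0, 2, 0, 0, 2, 0, 0, 2, 0, 2, 0, 2, 0, 2, 0, 2, 1], [0, 0, 2, 0, 0, 2, 0, 0, 2, 0, 2, 0, 2, 0, 2, 1, 2, 1]]⟩, ⟨2, [282, 658, 282, 361], 0, 2, [[], [0, 2, 1, 2, 0, 2, 0, 0, 2, 0, 0, 2, 0, 2, 0, 2, 0, 2, 1, 2], [2, 1, 2, 0, 2, 1, 2, 1, 2, 1, 2, 0, 0, 2, 1, 2, 1, 2, 1, 2, 0]]⟩, ⟨2, [543, 361, 282, 683], 1, 3, [[], [0, 2, 0, 2, 0, 0, 2, 0, 0, 2, 0, 0, 2, 1, 2,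 0, 0, 2, 0, 0], [2, 1, 2, 1, 2, 1, 2, 1, 2, 0, 0, 2, 1, 2, 1, 2, 0, 0, 2, 0, 2], [2, 1, 2, 0, 0, 2, 0, 0, 2, 1, 2, 0, 0, 2, 0, 2, 1, 2, 0, 2]]⟩, ⟨3, [693, 283], 2, 0, [[], []]⟩, ⟨2, [438, 282, 362], 0, 2, [[], [2, 1, 2, 0, 2, 0, 0, 2, 1, 2, 1, 2, 0, 2, 0, 2, 1, 2, 1, 2, 1], [1, 2, 1, 2, 1, 2, 0, 2, 0, 2, 0, 2, 0, 2, 1, 2, 0, 2, 1]]⟩, ⟨3, [697, 282], 2, 0, [[], []]⟩, ⟨2, [283, 362, 283, 529], 0, 1, [[], [1, 2, 0, 2, 0, 2, 1, 2, 1, 2, 1, 2, 1, 2, 1, 2, 1, 2, 0, 0, 2, 0, 2, 1], [1, 2, 0, 2, 0, 0, 2, 0, 2, 1, 2, 0, 2, 0, 0, 2, 1, 2, 1]]⟩, ⟨2, [362, 282, 461], 0, 1, [[], [0, 2, 0, 2, 0, 2, 1, 2, 1, 2, 0, 2, 1, 2, 0, 0, 2, 0, 2, 0], [0, 2, 0, 2, 1, 2,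 1, 2, 0, 2, 1, 2, 0, 2, 0, 2, 0, 2, 0, 0, 2, 0, 0]]⟩, ⟨3, [703, 282], 2, 0, [[], []]⟩, ⟨2, [362, 282, 293], 0, 1, [[], [0, 2, 0, 2, 1, 2, 0, 0, 2, 0, 2, 0, 2, 1, 2, 1, 2, 0, 0, 2, 1], [1, 2, 0, 0, 2, 1, 2, 0, 0, 2, 1, 2, 0, 0, 2, 0, 2, 1, 2, 0, 2, 1]]⟩, ⟨3, [707, 283], 2, 0, [[], []]⟩, ⟨2, [362, 283, 507, 282, 661], 1, 1, [[], [0, 2, 0, 2, 0, 0, 2, 1, 2, 0, 0, 2, 0, 2, 0, 2, 0, 0, 2], [2, 0, 2, 1, 2, 0, 0, 2, 0, 2, 1, 2, 1], [1, 2, 1, 2, 0, 2, 0, 2, 0, 2, 0, 2, 0, 2, 0, 2, 0, 2, 0]]⟩, ⟨2, [282, 464, 283, 362, 318], 1, 2, [[], [0, 2, 0, 2, 0, 0, 2, 0, 2, 0, 0, 2, 0, 2, 1, 2, 1, 2, 0, 0, 2, 1], [2, 0, 2, 1, 2, 0, 2, 0, 2, 1, 2, 1, 2, 1, 2, 1, 2, 0,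 0, 2], [1, 2, 0, 2, 0, 0, 2, 0, 2, 0, 0, 2, 0, 0, 2]]⟩, ⟨3, [713, 282], 2, 0, [[], []]⟩, ⟨2, [700, 546, 282, 362], 1, 3, [[], [2, 0, 0, 2, 1, 2, 0, 0, 2, 0, 0, 2, 1], [2, 1, 2, 0, 0, 2, 0, 0, 2, 0, 0, 2, 0, 2, 1, 2, 0, 0], [0, 0, 2, 1, 2, 1, 2, 0, 0, 2, 0, 0, 2, 0, 0, 2]]⟩, ⟨2, [654, 364], 0, 2, [[], [2, 1, 2, 0, 0, 2, 0, 0, 2, 0, 2, 0, 2, 0, 2, 0, 0, 2, 0], [1, 2, 0, 2, 0, 2, 1, 2, 0, 0, 2, 1, 2, 1, 2, 0, 2, 1, 2, 0]]⟩, ⟨3, [719, 282], 2, 0, [[], []]⟩, ⟨2, [282, 364, 591], 0, 1, [[], [0, 2, 0, 2, 0, 2, 0, 0, 2, 0, 0, 2, 0, 2, 0, 0], [2, 1, 2, 0, 2, 0, 0, 2, 0, 0, 2, 0, 2, 0, 0, 2, 0, 0, 2, 0]]⟩, ⟨2, [364, 613], 0, 1, [[], [1, 2, 0, 0, 2, 0, 0, 2,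 0, 2, 0, 2, 1, 2, 0, 0, 2, 1], [0, 2, 0, 2, 1, 2, 0, 0, 2, 1, 2, 1, 2, 1, 2, 0, 2]]⟩, ⟨2, [283, 319, 282, 364, 282, 387], 1, 2, [[], [0, 2, 1, 2, 1, 2, 1, 2, 0, 0, 2, 0, 2, 1, 2, 0, 2, 1], [2, 0, 2, 1, 2, 0, 2, 0, 0, 2, 1, 2, 1, 2, 0, 2, 1, 2, 0, 0, 2, 1], [2, 0, 0, 2, 0, 2, 0, 2, 1, 2, 0, 2, 1, 2, 1, 2, 0, 2, 0]]⟩, ⟨2, [283, 643, 282, 366], 0, 2, [[], [1, 2, 0, 2, 0, 2, 0, 2, 0, 0, 2, 0, 2, 0, 0], [2, 1, 2, 0, 2, 0, 2, 0, 2, 1, 2, 1, 2, 1, 2, 1, 2, 0, 0]]⟩, ⟨3, [729, 283], 2, 0, [[], []]⟩, ⟨2, [392, 283, 366], 0, 2, [[], [2, 0, 2, 1, 2, 1, 2, 0, 0, 2, 0, 2, 1, 2, 0, 0, 2], [1, 2, 0, 0, 2, 0, 0, 2, 0, 2, 0, 2, 1, 2, 0, 2, 1, 2, 0, 2, 1]]⟩, ⟨2, [283,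 702, 366], 0, 2, [[], [2, 0, 0, 2, 1, 2, 1, 2, 0, 2, 1, 2, 0, 0, 2, 0, 2, 0, 0], [0, 2, 1, 2, 0, 2, 0, 0, 2, 0, 0, 2, 0, 0, 2, 0, 2, 0, 0, 2, 1, 2, 0, 0]]⟩, ⟨3, [735, 283], 2, 0, [[], []]⟩, ⟨2, [78, 70, 80, 70, 698, 282, 366], 0, 2, [[], [1, 2, 0, 2, 0, 2, 0, 0, 2, 0, 0, 2, 0, 0, 2, 0, 2, 1, 2, 0, 2], [2, 0, 2, 0, 0, 2, 1, 2, 0, 0, 2, 0, 2, 0, 0, 2, 0, 0, 2, 1, 2, 1]]⟩, ⟨3, [739, 282], 2, 0, [[], []]⟩, ⟨2, [282, 366, 283, 709], 0, 1, [[], [2, 1, 2, 1, 2, 1, 2, 0, 0, 2, 0, 2, 1, 2, 1, 2, 0, 0, 2, 1, 2, 0], [1, 2, 1, 2, 1, 2, 1, 2, 0, 2, 0, 0, 2, 1, 2, 0, 2, 0, 2, 0]]⟩, ⟨3, [743, 283], 2, 0, [[], []]⟩, ⟨2, [366, 282, 559], 0, 1, [[], [1, 2, 0, 0, 2,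 0, 0, 2, 1, 2, 1, 2, 0, 0, 2, 1, 2, 0, 0], [2, 0, 2, 0, 2, 1, 2, 1, 2, 0, 0, 2, 0, 0, 2, 0, 2, 1]]⟩, ⟨3, [747, 99, 71, 81], 2, 0, [[], []]⟩, ⟨2, [444, 283, 366], 0, 2, [[], [0, 2, 0, 2, 0, 0, 2, 0, 0, 2, 0, 2, 0, 2, 1, 2, 0, 0, 2, 1, 2, 0], [2, 1, 2, 1, 2, 1, 2, 0, 2, 0, 2, 0, 0, 2, 0]]⟩, ⟨3, [751, 283], 2, 0, [[], []]⟩, ⟨2, [502, 282, 366, 282, 452], 1, 2, [[], [2, 1, 2, 0, 0, 2, 1, 2, 1, 2, 0, 2, 0, 2, 0, 0, 2, 0, 2, 0, 0], [0, 2, 0, 2, 0, 2, 1, 2, 1, 2, 0, 0, 2, 0, 2, 1, 2, 0], [0, 2, 0, 0, 2, 0, 0, 2, 1, 2, 0, 2, 0, 2, 1, 2]]⟩, ⟨3, [755, 282], 2, 0, [[], []]⟩, ⟨2, [282, 366, 283, 357, 220, 209, 190, 521], 1, 2, [[], [1, 2, 0, 0, 2, 0, 2, 0, 2,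 1, 2, 0, 0, 2, 1, 2, 0, 2, 0, 0, 2, 0, 0], [1, 2, 1, 2, 0, 0, 2, 0, 2, 0, 0, 2, 0, 0, 2, 0, 0, 2, 0, 2, 0, 0, 2, 0], [1, 2, 0, 0, 2, 1, 2, 0, 0, 2, 1, 2, 1, 2, 1, 2, 0, 0]]⟩, ⟨2, [283, 520, 188, 221, 325, 283, 366], 1, 0, [[], [2, 1, 2, 0, 2, 0, 0, 2, 0, 2, 1, 2, 1, 2, 0, 2], [0, 2, 1, 2, 0, 0, 2, 0, 0, 2, 0, 0, 2, 0, 2, 0, 2], [2, 0, 2, 1, 2, 1, 2, 1, 2, 0, 0, 2, 1, 2, 0, 0, 2, 1, 2, 0]]⟩] 305 381 = true := by decide +kernel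

end Cfsg.Agent.J4C.C
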